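/-
helper18: a small verified engine of multivariate integer polynomials (variables X0, X1, X2, ...; the product
X0 * X1 may be assumed to be 1, so X1 plays the role of the inverse of X0), kernel-evaluable.
-/
import Mathlib

set_option autoImplicit false

namespace Cfsg.Agent.Lib.Helper18

/-- A monomial: integer coefficient and the list of exponents of the variables X0, X1, ... -/
abbrev Mono := ℤ × List ℕ
/-- A polynomial: a list of monomials (their sum). -/
abbrev Poly := List Mono

section Eval

variable {F : Type*} [CommRing F]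

/-- The value of X_k^{e_0} X_{k+1}^{e_1} ⋯. -/
def evExp (ρ : ℕ → F) : List ℕ → ℕ → F
  | [], _ => 1
  | e :: es, k => ρ k ^ e * evExp ρ es (k + 1)

/-- The value of a monomial. -/
def evMono (ρ : ℕ → F) (m : Mono) : F := (m.1 : F) * evExp ρ m.2 0

/-- The value of a polynomial. -/
def evPoly (ρ : ℕ → F) (p : Poly) : F := (p.map (evMono ρ)).sum

@[simp] theorem evPoly_nil (ρ : ℕ → F) : evPoly ρ [] = 0 := rfl

theorem evPoly_cons (ρ : ℕ → F) (m : Mono) (p : Poly) : evPoly ρ (m :: p) = evMono ρ m + evPoly ρ p := by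
  simp [evPoly]

theorem evPoly_append (ρ : ℕ → F) (p q : Poly) : evPoly ρ (p ++ q) = evPoly ρ p + evPoly ρ q := by
  simp [evPoly]

end Eval

/-- Sum of exponent vectors. -/
def expAdd : List ℕ → List ℕ → List ℕ
  | [], l => l
  | a :: as, [] => a :: as
  | a :: as, b :: bs => (a + b) :: expAdd as bs

/-- Product of monomials. -/
def mulMono (m n : Mono) : Mono := (m.1 * n.1, expAdd m.2 n.2)

/-- Product of polynomials. -/
def mulPoly (p q : Poly) : Poly := p.flatMap fun m => q.map fun n => mulMono m n

/-- Negative of a polynomial. -/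
def negPoly (p : Poly) : Poly := p.map fun m => (-m.1, m.2)

/-- Integer multiple of a polynomial. -/
def scalePoly (a : ℤ) (p : Poly) : Poly := p.map fun m => (a * m.1, m.2)

/-- The constant polynomial 1. -/
def onePoly : Poly := [(1, [])]

/-- The constant polynomial `a`. -/
def constPoly (a : ℤ) : Poly := [(a, [])]

/-- Powers of a polynomial. -/
def powPoly (p : Poly) : ℕ → Poly
  | 0 => onePoly
  | n + 1 => mulPoly p (powPoly p n)

/-- The variable X_k. -/
def varPoly (k : ℕ) : Poly := [(1, List.replicate k 0 ++ [1])]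

/-- Cancel X0 against X1. -/
def cancelExp : List ℕ → List ℕ
  | a :: b :: rest => (a - min a b) :: (b - min a b) :: rest
  | l => l

/-- Strip trailing zeros of an exponent vector. -/
def stripZ : List ℕ → List ℕ
  | [] => []
  | e :: es => if e = 0 ∧ stripZ es = [] then [] else e :: stripZ es

/-- Insert a monomial into a polynomial, merging with an equal-exponent monomial if present. -/
def insMono (m : Mono) : Poly → Poly
  | [] => [m]
  | n :: q => if n.2 = m.2 then (n.1 + m.1, n.2) :: q else n :: insMono m q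

/-- Normal form: cancel X0 X1, merge equal monomials, drop zero coefficients. -/
def normPoly (p : Poly) : Poly :=
  (p.foldr (fun m acc => insMono (m.1, stripZ (cancelExp m.2)) acc) []).filter fun m => decide (m.1 ≠ 0)

section Sound

variable {F : Type*} [CommRing F]

theorem evExp_expAdd (ρ : ℕ → F) : ∀ (a b : List ℕ) (k : ℕ),
    evExp ρ (expAdd a b) k = evExp ρ a k * evExp ρ b k
  | [], l, k => by simp [expAdd, evExp]
  | a :: as, [], k => by simp [expAdd, evExp]
  | a :: as, b :: bs, k => by
    simp only [expAdd, evExp, evExp_expAdd ρ as bs (k + 1), pow_add]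
    ring

theorem evMono_mulMono (ρ : ℕ → F) (m n : Mono) : evMono ρ (mulMono m n) = evMono ρ m * evMono ρ n := by
  simp only [evMono, mulMono, evExp_expAdd, Int.cast_mul]
  ring

theorem evPoly_map_mulMono (ρ : ℕ → F) (m : Mono) (q : Poly) :
    evPoly ρ (q.map fun n => mulMono m n) = evMono ρ m * evPoly ρ q := by
  induction q with
  | nil => simp
  | cons n q ihq =>
    rw [List.map_cons, evPoly_cons, evPoly_cons, ihq, evMono_mulMono]
    ring

theorem evPoly_mulPoly (ρ : ℕ → F) (p q : Poly) : evPoly ρ (mulPoly p q) = evPoly ρ p * evPoly ρ q := by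
  induction p with
  | nil => simp [mulPoly]
  | cons m p ih =>
    have h1 : mulPoly (m :: p) q = (q.map fun n => mulMono m n) ++ mulPoly p q := by
      simp [mulPoly]
    rw [h1, evPoly_append, ih, evPoly_cons, add_mul, evPoly_map_mulMono]

theorem evPoly_negPoly (ρ : ℕ → F) (p : Poly) : evPoly ρ (negPoly p) = - evPoly ρ p := by
  induction p with
  | nil => simp [negPoly]
  | cons m p ih =>
    have : negPoly (m :: p) = (-m.1, m.2) :: negPoly p := rfl
    rw [this, evPoly_cons, evPoly_cons, ih]
    simp only [evMono, Int.cast_neg]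
    ring

theorem evPoly_scalePoly (ρ : ℕ → F) (a : ℤ) (p : Poly) : evPoly ρ (scalePoly a p) = (a : F) * evPoly ρ p := by
  induction p with
  | nil => simp [scalePoly]
  | cons m p ih =>
    have : scalePoly a (m :: p) = (a * m.1, m.2) :: scalePoly a p := rfl
    rw [this, evPoly_cons, evPoly_cons, ih]
    simp only [evMono, Int.cast_mul]
    ring

@[simp] theorem evPoly_onePoly (ρ : ℕ → F) : evPoly ρ onePoly = 1 := by
  simp [onePoly, evPoly, evMono, evExp]

@[simp] theorem evPoly_constPoly (ρ : ℕ → F) (a : ℤ) : evPoly ρ (constPoly a) = (a : F) := by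
  simp [constPoly, evPoly, evMono, evExp]

theorem evPoly_powPoly (ρ : ℕ → F) (p : Poly) (n : ℕ) : evPoly ρ (powPoly p n) = evPoly ρ p ^ n := by
  induction n with
  | zero => simp [powPoly]
  | succ n ih => rw [powPoly, evPoly_mulPoly, ih, pow_succ, mul_comm]

theorem evExp_replicate (ρ : ℕ → F) (k j : ℕ) : evExp ρ (List.replicate k 0 ++ [1]) j = ρ (j + k) := by
  induction k generalizing j with
  | zero => simp [evExp]
  | succ k ih =>
    rw [List.replicate_succ, List.cons_append, evExp, ih]
    simp only [pow_zero, one_mul]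
    congr 1
    omega

@[simp] theorem evPoly_varPoly (ρ : ℕ → F) (k : ℕ) : evPoly ρ (varPoly k) = ρ k := by
  simp [varPoly, evPoly, evMono, evExp_replicate]

theorem evExp_cancelExp (ρ : ℕ → F) (h : ρ 0 * ρ 1 = 1) (es : List ℕ) :
    evExp ρ (cancelExp es) 0 = evExp ρ es 0 := by
  match es with
  | [] => rfl
  | [a] => rfl
  | a :: b :: rest =>
    simp only [cancelExp, evExp]
    have h1 : ρ 0 ^ a = ρ 0 ^ (a - min a b) * ρ 0 ^ (min a b) := by
      rw [← pow_add]; congr 1; omega
    have h2 : ρ (0 + 1) ^ b = ρ 1 ^ (b - min a b) * ρ 1 ^ (min a b) := by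
      rw [← pow_add]; congr 1; omega
    rw [h1, h2]
    have h3 : ρ 0 ^ (min a b) * ρ 1 ^ (min a b) = 1 := by rw [← mul_pow, h, one_pow]
    calc ρ 0 ^ (a - min a b) * (ρ (0 + 1) ^ (b - min a b) * evExp ρ rest (0 + 1 + 1))
        = ρ 0 ^ (a - min a b) * (ρ 1 ^ (b - min a b) * evExp ρ rest (0 + 1 + 1)) * 1 := by
          rw [mul_one]
      _ = ρ 0 ^ (a - min a b) * (ρ 1 ^ (b - min a b) * evExp ρ rest (0 + 1 + 1))
            * (ρ 0 ^ (min a b) * ρ 1 ^ (min a b)) := by rw [h3]
      _ = _ := by ring

theorem evExp_stripZ (ρ : ℕ → F) : ∀ (es : List ℕ) (k : ℕ), evExp ρ (stripZ es) k = evExp ρ es k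
  | [], k => rfl
  | e :: es, k => by
    unfold stripZ
    split_ifs with h
    · obtain ⟨h0, h1⟩ := h
      have := evExp_stripZ ρ es (k + 1)
      rw [h1] at this
      simp only [evExp] at this ⊢
      rw [← this, h0]
      simp
    · simp only [evExp, evExp_stripZ ρ es (k + 1)]

theorem evPoly_insMono (ρ : ℕ → F) (m : Mono) (q : Poly) :
    evPoly ρ (insMono m q) = evMono ρ m + evPoly ρ q := by
  induction q with
  | nil => simp [insMono, evPoly_cons]
  | cons n q ih =>
    unfold insMono
    split_ifs with h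
    · rw [evPoly_cons, evPoly_cons]
      simp only [evMono, Int.cast_add, h]
      ring
    · rw [evPoly_cons, evPoly_cons, ih]
      ring

theorem evPoly_filter_ne_zero (ρ : ℕ → F) (p : Poly) :
    evPoly ρ (p.filter fun m => decide (m.1 ≠ 0)) = evPoly ρ p := by
  induction p with
  | nil => rfl
  | cons m p ih =>
    by_cases h : m.1 = 0
    · rw [List.filter_cons_of_neg (by simpa using h), ih, evPoly_cons]
      simp [evMono, h]
    · rw [List.filter_cons_of_pos (by simpa using h), evPoly_cons, evPoly_cons, ih]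

theorem evPoly_normPoly (ρ : ℕ → F) (h : ρ 0 * ρ 1 = 1) (p : Poly) :
    evPoly ρ (normPoly p) = evPoly ρ p := by
  unfold normPoly
  rw [evPoly_filter_ne_zero]
  induction p with
  | nil => rfl
  | cons m p ih =>
    rw [List.foldr_cons, evPoly_insMono, ih, evPoly_cons]
    congr 1
    simp only [evMono, evExp_stripZ, evExp_cancelExp ρ h]

end Sound

end Cfsg.Agent.Lib.Helper18
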