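/-
helper18: symbolic column vectors over the coordinate set of a Chevalley datum and the symbolic action of the
root elements x_r(τ) on them, with soundness with respect to `ChevalleyDatum.xMat`.
-/
import Cfsg.Agent.Lib.Helper18.Poly
import Cfsg.Prelude.Def_ChevStructure

set_option autoImplicit false

namespace Cfsg.Agent.Lib.Helper18

open Cfsg.Lie

/-- Codes of coordinates: `inl i` for the coroot `h_{p_i}`, `inr r` for the root vector `e_r`. -/
abbrev Code := ℕ ⊕ ℕ

/-- A symbolic vector: a list of (coordinate, coefficient polynomial). -/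
abbrev SVec := List (Code × Poly)

/-- The code of a coordinate. -/
def code (D : ChevalleyDatum) : D.Idx → Code := Sum.map Fin.val Fin.val

theorem code_injective (D : ChevalleyDatum) : Function.Injective (code D) := by
  intro a b h
  rcases a with a | a <;> rcases b with b | b <;> simp [code] at h
  · exact congrArg _ (Fin.ext h)
  · exact congrArg _ (Fin.ext h)

section Eval

variable {F : Type*} [Field F]

/-- The value of a symbolic vector. -/
def evVec (D : ChevalleyDatum) (ρ : ℕ → F) (v : SVec) : D.Idx → F :=
  fun i => (v.map fun e => if e.1 = code D i then evPoly ρ e.2 else 0).sum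

@[simp] theorem evVec_nil (D : ChevalleyDatum) (ρ : ℕ → F) : evVec D ρ [] = 0 := rfl

theorem evVec_cons (D : ChevalleyDatum) (ρ : ℕ → F) (e : Code × Poly) (v : SVec) :
    evVec D ρ (e :: v) = evVec D ρ [e] + evVec D ρ v := by
  funext i
  simp [evVec]

theorem evVec_append (D : ChevalleyDatum) (ρ : ℕ → F) (v w : SVec) :
    evVec D ρ (v ++ w) = evVec D ρ v + evVec D ρ w := by
  funext i
  simp [evVec]

theorem evVec_single_apply (D : ChevalleyDatum) (ρ : ℕ → F) (e : Code × Poly) (i : D.Idx) :
    evVec D ρ [e] i = if e.1 = code D i then evPoly ρ e.2 else 0 := by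
  simp [evVec]

theorem evVec_single_code (D : ChevalleyDatum) (ρ : ℕ → F) (j : D.Idx) (p : Poly) :
    evVec D ρ [(code D j, p)] = evPoly ρ p • Pi.single j 1 := by
  funext i
  rw [evVec_single_apply]
  by_cases h : j = i
  · subst h; simp
  · have : code D j ≠ code D i := fun h' => h (code_injective D h')
    simp [this, Ne.symm h]

end Eval

/-- Multiply all coefficients of a symbolic vector by a polynomial. -/
def scaleVec (p : Poly) (v : SVec) : SVec := v.map fun e => (e.1, mulPoly e.2 p)

/-- Negative of a symbolic vector. -/
def negVec (v : SVec) : SVec := v.map fun e => (e.1, negPoly e.2)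

/-- The column of `x_r(τ)` at the coordinate with code `j`, read off the tables exactly as `xMat` does. -/
def colX (D : ChevalleyDatum) (r : ℕ) (τ : Poly) : Code → SVec
  | Sum.inl i =>
    if i < D.rank then
      [(Sum.inl i, onePoly), (Sum.inr r, scalePoly (-((D.cartanSR.getD i #[]).getD r 0)) τ)]
    else []
  | Sum.inr s =>
    if s < D.nroots then
      (if s = r then [(Sum.inr r, onePoly)]
       else if s = D.negIdx.getD r 0 then
         (Sum.inr s, onePoly) :: (Sum.inr r, negPoly (powPoly τ 2)) ::
           (List.range D.rank).map fun i => (Sum.inl i, scalePoly ((D.coroot.getD r #[]).getD i 0) τ)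
       else
         (Sum.inr s, onePoly) ::
           ((D.chain.getD r #[]).toList.filter fun e => e.1 = s).flatMap fun e =>
             e.2.toList.zipIdx.map fun q => (Sum.inr q.1.1, scalePoly q.1.2 (powPoly τ (q.2 + 1))))
    else []

/-- The symbolic action of `x_r(τ)` (the identity when `r` is out of range). -/
def applyX (D : ChevalleyDatum) (r : ℕ) (τ : Poly) (v : SVec) : SVec :=
  if r < D.nroots then v.flatMap fun e => scaleVec e.2 (colX D r τ e.1) else v

/-- Insert an entry into a symbolic vector, merging with an entry at the same coordinate. -/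
def insVec (e : Code × Poly) : SVec → SVec
  | [] => [e]
  | f :: v => if f.1 = e.1 then (f.1, f.2 ++ e.2) :: v else f :: insVec e v

/-- Normal form of a symbolic vector. -/
def normVec (v : SVec) : SVec :=
  ((v.foldr insVec []).map fun e => (e.1, normPoly e.2)).filter fun e => !e.2.isEmpty

/-- The symbolic action of a word in root elements. -/
def applyWord (D : ChevalleyDatum) (w : List (ℕ × Poly)) (v : SVec) : SVec :=
  w.foldr (fun a acc => normVec (applyX D a.1 a.2 acc)) v

/-- All coordinate codes. -/
def allCodes (D : ChevalleyDatum) : List Code :=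
  (List.range D.rank).map Sum.inl ++ (List.range D.nroots).map Sum.inr

/-- Test whether a symbolic vector vanishes identically. -/
def isZeroVec (v : SVec) : Bool := (normVec v).isEmpty

/-- Test: the matrix of the word `w` has the columns `cols`. -/
def checkCols (D : ChevalleyDatum) (w : List (ℕ × Poly)) (cols : Code → SVec) : Bool :=
  (allCodes D).all fun j => isZeroVec (applyWord D w [(j, onePoly)] ++ negVec (cols j))

section Sound

variable {F : Type*} [Field F]

theorem evVec_scaleVec (D : ChevalleyDatum) (ρ : ℕ → F) (p : Poly) (v : SVec) :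
    evVec D ρ (scaleVec p v) = evPoly ρ p • evVec D ρ v := by
  induction v with
  | nil => simp [scaleVec]
  | cons e v ih =>
    have h : scaleVec p (e :: v) = (e.1, mulPoly e.2 p) :: scaleVec p v := rfl
    rw [h, evVec_cons, ih, evVec_cons D ρ e v, smul_add]
    congr 1
    funext i
    simp only [evVec_single_apply, Pi.smul_apply, smul_eq_mul, evPoly_mulPoly]
    split_ifs <;> ring

theorem evVec_negVec (D : ChevalleyDatum) (ρ : ℕ → F) (v : SVec) :
    evVec D ρ (negVec v) = - evVec D ρ v := by
  induction v with
  | nil => simp [negVec]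
  | cons e v ih =>
    have h : negVec (e :: v) = (e.1, negPoly e.2) :: negVec v := rfl
    rw [h, evVec_cons, ih, evVec_cons D ρ e v, neg_add]
    congr 1
    funext i
    simp only [evVec_single_apply, Pi.neg_apply, evPoly_negPoly]
    split_ifs <;> simp

theorem sum_map_filter_eq_ite {α : Type*} (l : List α) (p : α → Prop) [DecidablePred p] (f : α → F) :
    ((l.filter fun a => decide (p a)).map f).sum = (l.map fun a => if p a then f a else 0).sum := by
  induction l with
  | nil => rfl
  | cons a l ih =>
    by_cases h : p a
    · rw [List.filter_cons_of_pos (by simpa using h)]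
      simp [h, ih]
    · rw [List.filter_cons_of_neg (by simpa using h)]
      simp [h, ih]

theorem sum_map_range_ite (n : ℕ) (i : ℕ) (hi : i < n) (f : ℕ → F) :
    ((List.range n).map fun k => if k = i then f k else 0).sum = f i := by
  induction n with
  | zero => omega
  | succ n ih =>
    rw [List.range_succ, List.map_append, List.sum_append]
    by_cases h : i = n
    · subst h
      have : ((List.range i).map fun k => if k = i then f k else 0).sum = 0 := by
        apply List.sum_eq_zero
        intro x hx
        simp only [List.mem_map, List.mem_range] at hx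
        obtain ⟨k, hk, rfl⟩ := hx
        rw [if_neg (by omega)]
      simp [this]
    · rw [ih (by omega)]
      simp [Ne.symm h]

theorem evVec_eq_zero_of_forall (D : ChevalleyDatum) (ρ : ℕ → F) (v : SVec) (i : D.Idx)
    (h : ∀ e ∈ v, e.1 ≠ code D i) : evVec D ρ v i = 0 := by
  unfold evVec
  apply List.sum_eq_zero
  intro x hx
  simp only [List.mem_map] at hx
  obtain ⟨e, he, rfl⟩ := hx
  rw [if_neg (h e he)]

@[simp] theorem code_inl (D : ChevalleyDatum) (i : Fin D.rank) : code D (Sum.inl i) = Sum.inl i.1 := rfl
@[simp] theorem code_inr (D : ChevalleyDatum) (u : Fin D.nroots) : code D (Sum.inr u) = Sum.inr u.1 := rfl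

theorem evVec_chain (D : ChevalleyDatum) (ρ : ℕ → F) (τ : Poly) (u : Fin D.nroots)
    (L : List (ℕ × Array (ℕ × ℤ))) :
    evVec D ρ (L.flatMap fun e => e.2.toList.zipIdx.map fun q =>
        ((Sum.inr q.1.1 : Code), scalePoly q.1.2 (powPoly τ (q.2 + 1)))) (Sum.inr u)
      = ((L.flatMap fun e => ((e.2.toList.zipIdx).filter (fun q => q.1.1 = u.1)).map
          fun q => (q.2 + 1, q.1.2)).map fun km => ((km.2 : ℤ) : F) * evPoly ρ τ ^ km.1).sum := by
  induction L with
  | nil => simp
  | cons e L ih =>
    rw [List.flatMap_cons, List.flatMap_cons, evVec_append, Pi.add_apply, ih, List.map_append,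
      List.sum_append]
    congr 1
    rw [List.map_map]
    have := sum_map_filter_eq_ite (F := F) e.2.toList.zipIdx (fun q => q.1.1 = (u : ℕ))
      (fun q => ((q.1.2 : ℤ) : F) * evPoly ρ τ ^ (q.2 + 1))
    have h2 : (fun km : ℕ × ℤ => ((km.2 : ℤ) : F) * evPoly ρ τ ^ km.1) ∘ (fun q : (ℕ × ℤ) × ℕ => (q.2 + 1, q.1.2))
        = fun q => ((q.1.2 : ℤ) : F) * evPoly ρ τ ^ (q.2 + 1) := rfl
    rw [h2, this]
    unfold evVec
    rw [List.map_map]
    congr 1
    apply List.map_congr_left
    intro q _
    simp only [Function.comp, code_inr, Sum.inr.injEq, evPoly_scalePoly, evPoly_powPoly]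

/-- The key matching lemma: the symbolic column of `x_r(τ)` evaluates to the column of `xMat`. -/
theorem evVec_colX (D : ChevalleyDatum) (ρ : ℕ → F) (r : Fin D.nroots) (τ : Poly) (j i : D.Idx) :
    evVec D ρ (colX D r.1 τ (code D j)) i = D.xMat F r (evPoly ρ τ) i j := by
  rcases j with j | s
  · -- column of a coroot
    simp only [code, Sum.map_inl, colX, if_pos j.2, ChevalleyDatum.xMat, Matrix.of_apply]
    rcases i with i | u
    · simp only [evVec, code, Sum.map_inl, List.map_cons, List.map_nil, List.sum_cons, List.sum_nil,
        evPoly_onePoly, reduceCtorEq, if_false, add_zero, Sum.inl.injEq]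
      by_cases h : i = j
      · subst h; simp
      · have : ¬ (j : ℕ) = i := fun h' => h (Fin.ext h'.symm)
        simp [h, this]
    · simp only [evVec, code, Sum.map_inr, List.map_cons, List.map_nil, List.sum_cons, List.sum_nil,
        reduceCtorEq, if_false, add_zero, zero_add, Sum.inr.injEq, evPoly_scalePoly]
      by_cases h : u = r
      · subst h; simp
      · have : ¬ (r : ℕ) = u := fun h' => h (Fin.ext h'.symm)
        simp [h, this]
  · -- column of a root vector
    simp only [code, Sum.map_inr, colX, if_pos s.2, ChevalleyDatum.xMat, Matrix.of_apply]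
    by_cases h1 : s = r
    · subst h1
      simp only [if_true]
      rcases i with i | u
      · simp [evVec, code]
      · simp only [evVec, code, Sum.map_inr, List.map_cons, List.map_nil, List.sum_cons, List.sum_nil,
          add_zero, Sum.inr.injEq, evPoly_onePoly]
        by_cases h : u = s
        · subst h; simp
        · have : ¬ (s : ℕ) = u := fun h' => h (Fin.ext h'.symm)
          simp [h, this]
    · have h1' : ¬ (s : ℕ) = r := fun h' => h1 (Fin.ext h')
      rw [if_neg h1', if_neg h1]
      by_cases h2 : (s : ℕ) = D.negIdx.getD r 0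
      · rw [if_pos h2, if_pos h2]
        rcases i with i | u
        · rw [evVec_cons, evVec_cons D ρ _ (List.map _ _)]
          simp only [Pi.add_apply, evVec_single_apply, code, Sum.map_inl, reduceCtorEq, if_false, zero_add]
          simp only [evVec, code, Sum.map_inl, List.map_map]
          have := sum_map_range_ite (F := F) D.rank i.1 i.2
            (fun k => (((D.coroot.getD r.1 #[]).getD k 0 : ℤ) : F) * evPoly ρ τ)
          rw [← this]
          congr 1
          apply List.map_congr_left
          intro k _
          simp only [Function.comp, Sum.inl.injEq, evPoly_scalePoly]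
        · rw [evVec_cons, evVec_cons D ρ _ (List.map _ _)]
          have h0 : evVec D ρ ((List.range D.rank).map fun i =>
              ((Sum.inl i : Code), scalePoly ((D.coroot.getD r.1 #[]).getD i 0) τ)) (Sum.inr u) = 0 := by
            simp only [evVec, code, Sum.map_inr, List.map_map]
            apply List.sum_eq_zero
            intro x hx
            simp only [List.mem_map, Function.comp] at hx
            obtain ⟨k, _, rfl⟩ := hx
            simp
          simp only [Pi.add_apply, evVec_single_apply, code, Sum.map_inr, Sum.inr.injEq, h0, add_zero,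
            evPoly_onePoly, evPoly_negPoly, evPoly_powPoly]
          by_cases hus : u = s
          · subst hus
            simp [Ne.symm h1']
          · have hus' : ¬ (s : ℕ) = u := fun h' => hus (Fin.ext h'.symm)
            by_cases hur : u = r
            · subst hur; simp [hus, hus']
            · have hur' : ¬ (r : ℕ) = u := fun h' => hur (Fin.ext h'.symm)
              simp [hus, hus', hur, hur']
      · rw [if_neg h2, if_neg h2]
        rcases i with i | u
        · apply evVec_eq_zero_of_forall
          intro e he
          simp only [List.mem_cons, List.mem_flatMap, List.mem_map] at he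
          rcases he with rfl | ⟨a, _, q, _, rfl⟩
          · simp
          · simp
        · rw [evVec_cons, Pi.add_apply, evVec_chain]
          simp only [evVec_single_apply, code_inr, Sum.inr.injEq, evPoly_onePoly,
            ChevalleyDatum.chainCoeff]
          congr 1
          by_cases hus : u = s
          · subst hus; simp
          · have hus' : ¬ (s : ℕ) = u := fun h' => hus (Fin.ext h'.symm)
            simp [hus, hus']


theorem colX_of_not_code (D : ChevalleyDatum) (r : ℕ) (τ : Poly) (c : Code)
    (h : ∀ j : D.Idx, c ≠ code D j) : colX D r τ c = [] := by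
  rcases c with i | s
  · have : ¬ i < D.rank := fun hi => h (Sum.inl ⟨i, hi⟩) rfl
    simp [colX, this]
  · have : ¬ s < D.nroots := fun hs => h (Sum.inr ⟨s, hs⟩) rfl
    simp [colX, this]

theorem evVec_single_of_not_code (D : ChevalleyDatum) (ρ : ℕ → F) (e : Code × Poly)
    (h : ∀ j : D.Idx, e.1 ≠ code D j) : evVec D ρ [e] = 0 := by
  funext i
  rw [evVec_single_apply, if_neg (h i)]
  rfl

theorem evVec_applyX_xMat (D : ChevalleyDatum) (ρ : ℕ → F) (r : Fin D.nroots) (τ : Poly) (v : SVec) :
    evVec D ρ (v.flatMap fun e => scaleVec e.2 (colX D r.1 τ e.1))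
      = (D.xMat F r (evPoly ρ τ)).mulVec (evVec D ρ v) := by
  induction v with
  | nil => simp
  | cons e v ih =>
    rw [List.flatMap_cons, evVec_append, ih, evVec_cons D ρ e v, Matrix.mulVec_add, evVec_scaleVec]
    congr 1
    by_cases h : ∃ j : D.Idx, e.1 = code D j
    · obtain ⟨j, hj⟩ := h
      have he : e = (code D j, e.2) := by rw [← hj]
      rw [he, evVec_single_code, Matrix.mulVec_smul]
      congr 1
      funext i
      rw [evVec_colX, Matrix.mulVec_single_one]
      rfl
    · simp only [not_exists] at h
      rw [colX_of_not_code D r.1 τ e.1 h, evVec_single_of_not_code D ρ e h]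
      simp

theorem evVec_applyX (D : ChevalleyDatum) (ρ : ℕ → F) (r : ℕ) (τ : Poly) (v : SVec) :
    evVec D ρ (applyX D r τ v) = (D.x F r (evPoly ρ τ)).mulVec (evVec D ρ v) := by
  unfold applyX ChevalleyDatum.x
  by_cases h : r < D.nroots
  · rw [if_pos h, dif_pos h]
    exact evVec_applyX_xMat D ρ ⟨r, h⟩ τ v
  · rw [if_neg h, dif_neg h, Matrix.one_mulVec]

theorem evVec_insVec (D : ChevalleyDatum) (ρ : ℕ → F) (e : Code × Poly) (v : SVec) :
    evVec D ρ (insVec e v) = evVec D ρ [e] + evVec D ρ v := by
  induction v with
  | nil => simp [insVec]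
  | cons f v ih =>
    unfold insVec
    split_ifs with h
    · rw [evVec_cons, evVec_cons D ρ f v, ← add_assoc]
      congr 1
      funext i
      simp only [evVec_single_apply, Pi.add_apply, evPoly_append, h]
      split_ifs <;> ring
    · rw [evVec_cons, ih, evVec_cons D ρ f v]
      abel

theorem evVec_foldr_insVec (D : ChevalleyDatum) (ρ : ℕ → F) (v : SVec) :
    evVec D ρ (v.foldr insVec []) = evVec D ρ v := by
  induction v with
  | nil => rfl
  | cons e v ih => rw [List.foldr_cons, evVec_insVec, ih, ← evVec_cons]

theorem evVec_map_normPoly (D : ChevalleyDatum) (ρ : ℕ → F) (h : ρ 0 * ρ 1 = 1) (v : SVec) :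
    evVec D ρ (v.map fun e => (e.1, normPoly e.2)) = evVec D ρ v := by
  funext i
  unfold evVec
  rw [List.map_map]
  congr 1
  apply List.map_congr_left
  intro e _
  simp only [Function.comp, evPoly_normPoly ρ h]

theorem evVec_filter_nonempty (D : ChevalleyDatum) (ρ : ℕ → F) (v : SVec) :
    evVec D ρ (v.filter fun e => !e.2.isEmpty) = evVec D ρ v := by
  induction v with
  | nil => rfl
  | cons e v ih =>
    by_cases h : e.2 = []
    · rw [List.filter_cons_of_neg (by simp [h]), ih, evVec_cons D ρ e v]
      have : evVec D ρ [e] = 0 := by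
        funext i
        rw [evVec_single_apply, h]
        simp
      rw [this, zero_add]
    · rw [List.filter_cons_of_pos (by simpa using h), evVec_cons, ih, ← evVec_cons]

theorem evVec_normVec (D : ChevalleyDatum) (ρ : ℕ → F) (h : ρ 0 * ρ 1 = 1) (v : SVec) :
    evVec D ρ (normVec v) = evVec D ρ v := by
  unfold normVec
  rw [evVec_filter_nonempty, evVec_map_normPoly D ρ h, evVec_foldr_insVec]

/-- Evaluate the parameters of a symbolic word. -/
def evWord (ρ : ℕ → F) (w : List (ℕ × Poly)) : List (ℕ × F) := w.map fun a => (a.1, evPoly ρ a.2)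

theorem evVec_applyWord (D : ChevalleyDatum) (ρ : ℕ → F) (h : ρ 0 * ρ 1 = 1) (w : List (ℕ × Poly)) (v : SVec) :
    evVec D ρ (applyWord D w v) = (D.wordMat F (evWord ρ w)).mulVec (evVec D ρ v) := by
  induction w with
  | nil => simp [applyWord, evWord, ChevalleyDatum.wordMat]
  | cons a w ih =>
    have h1 : applyWord D (a :: w) v = normVec (applyX D a.1 a.2 (applyWord D w v)) := rfl
    have h2 : D.wordMat F (evWord ρ (a :: w)) = D.x F a.1 (evPoly ρ a.2) * D.wordMat F (evWord ρ w) := by
      simp [ChevalleyDatum.wordMat, evWord]
    rw [h1, evVec_normVec D ρ h, evVec_applyX, ih, h2, Matrix.mulVec_mulVec]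

theorem mem_allCodes (D : ChevalleyDatum) (j : D.Idx) : code D j ∈ allCodes D := by
  rcases j with j | s
  · simp [allCodes, j.2]
  · simp [allCodes, s.2]

theorem evVec_eq_zero_of_isZeroVec (D : ChevalleyDatum) (ρ : ℕ → F) (h : ρ 0 * ρ 1 = 1) (v : SVec)
    (hv : isZeroVec v = true) : evVec D ρ v = 0 := by
  unfold isZeroVec at hv
  rw [List.isEmpty_iff] at hv
  rw [← evVec_normVec D ρ h, hv]
  rfl

/-- Soundness of `checkCols`. -/
theorem wordMat_apply_of_checkCols (D : ChevalleyDatum) (ρ : ℕ → F) (h : ρ 0 * ρ 1 = 1)
    (w : List (ℕ × Poly)) (cols : Code → SVec) (hc : checkCols D w cols = true) (i j : D.Idx) :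
    D.wordMat F (evWord ρ w) i j = evVec D ρ (cols (code D j)) i := by
  unfold checkCols at hc
  rw [List.all_eq_true] at hc
  have h1 := evVec_eq_zero_of_isZeroVec D ρ h _ (hc _ (mem_allCodes D j))
  rw [evVec_append, evVec_negVec, evVec_applyWord D ρ h, evVec_single_code, evPoly_onePoly, one_smul,
    Matrix.mulVec_single_one] at h1
  have h2 := congrFun h1 i
  simp only [Pi.add_apply, Pi.neg_apply, Pi.zero_apply, Matrix.col_apply] at h2
  exact add_neg_eq_zero.mp h2

end Sound

end Cfsg.Agent.Lib.Helper18
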