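/-
helper18: packed (bignum) copies of the tables of a Chevalley datum with O(1) access in the kernel, the check that
they agree with the Prelude tables, and a faster version of the symbolic engine built on them.
-/
import Cfsg.Agent.Lib.Helper18.Engine

set_option autoImplicit false

namespace Cfsg.Agent.Lib.Helper18

open Cfsg.Lie

/-! ### Column skeletons -/

/-- A column skeleton: entries (coordinate, integer coefficient a, power k) standing for `a * τ^k`. -/
abbrev Skel := List (Code × ℤ × ℕ)

/-- Powers of a polynomial, with shortcuts for small exponents. -/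
def powPolyQ (τ : Poly) : ℕ → Poly
  | 0 => onePoly
  | 1 => τ
  | n + 2 => mulPoly τ (powPolyQ τ (n + 1))

/-- The polynomial `a * τ^k`. -/
def coefPoly (τ : Poly) (a : ℤ) (k : ℕ) : Poly := scalePoly a (powPolyQ τ k)

/-- Instantiate a skeleton at the parameter τ. -/
def instSkel (τ : Poly) (sk : Skel) : SVec := sk.map fun x => (x.1, coefPoly τ x.2.1 x.2.2)

/-- The skeleton of the column of `x_r(τ)` at the coordinate `c`, read off the Prelude tables (compare `colX`). -/
def skelD (D : ChevalleyDatum) (r : ℕ) : Code → Skel
  | Sum.inl i =>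
    if i < D.rank then
      [(Sum.inl i, 1, 0), (Sum.inr r, -((D.cartanSR.getD i #[]).getD r 0), 1)]
    else []
  | Sum.inr s =>
    if s < D.nroots then
      (if s = r then [(Sum.inr r, 1, 0)]
       else if s = D.negIdx.getD r 0 then
         (Sum.inr s, 1, 0) :: (Sum.inr r, -1, 2) ::
           (List.range D.rank).map fun i => (Sum.inl i, (D.coroot.getD r #[]).getD i 0, 1)
       else
         (Sum.inr s, 1, 0) ::
           ((D.chain.getD r #[]).toList.filter fun e => e.1 = s).flatMap fun e =>
             e.2.toList.zipIdx.map fun q => (Sum.inr q.1.1, q.1.2, q.2 + 1))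
    else []

section SkelSound

variable {F : Type*} [Field F]

theorem evPoly_powPolyQ (ρ : ℕ → F) (τ : Poly) : ∀ n : ℕ, evPoly ρ (powPolyQ τ n) = evPoly ρ τ ^ n
  | 0 => by simp [powPolyQ]
  | 1 => by simp [powPolyQ]
  | n + 2 => by
    rw [powPolyQ, evPoly_mulPoly, evPoly_powPolyQ ρ τ (n + 1)]
    ring

theorem evPoly_coefPoly (ρ : ℕ → F) (τ : Poly) (a : ℤ) (k : ℕ) :
    evPoly ρ (coefPoly τ a k) = (a : F) * evPoly ρ τ ^ k := by
  rw [coefPoly, evPoly_scalePoly, evPoly_powPolyQ]

/-- Two symbolic vectors with the same coordinates and equal values of the coefficients have the same value. -/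
theorem evVec_congr (D : ChevalleyDatum) (ρ : ℕ → F) :
    ∀ (v w : SVec), List.Forall₂ (fun e f => e.1 = f.1 ∧ evPoly ρ e.2 = evPoly ρ f.2) v w →
      evVec D ρ v = evVec D ρ w
  | _, _, List.Forall₂.nil => rfl
  | _, _, List.Forall₂.cons (a := e) (b := f) (l₁ := v) (l₂ := w) h hs => by
    rw [evVec_cons, evVec_cons D ρ f w, evVec_congr D ρ v w hs]
    congr 1
    funext i
    rw [evVec_single_apply, evVec_single_apply, h.1, h.2]

theorem evVec_instSkel_skelD (D : ChevalleyDatum) (ρ : ℕ → F) (r : ℕ) (τ : Poly) (c : Code) :
    evVec D ρ (instSkel τ (skelD D r c)) = evVec D ρ (colX D r τ c) := by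
  apply evVec_congr
  rcases c with i | s
  · simp only [skelD, colX]
    split_ifs
    · simp only [instSkel, List.map_cons, List.map_nil]
      refine List.Forall₂.cons ⟨rfl, ?_⟩ (List.Forall₂.cons ⟨rfl, ?_⟩ List.Forall₂.nil)
      · simp [evPoly_coefPoly]
      · simp [evPoly_coefPoly, evPoly_scalePoly]
    · exact List.Forall₂.nil
  · simp only [skelD, colX]
    split_ifs
    · simp only [instSkel, List.map_cons, List.map_nil]
      refine List.Forall₂.cons ⟨rfl, ?_⟩ List.Forall₂.nil
      simp [evPoly_coefPoly]
    · simp only [instSkel, List.map_cons, List.map_map]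
      refine List.Forall₂.cons ⟨rfl, ?_⟩ (List.Forall₂.cons ⟨rfl, ?_⟩ ?_)
      · simp [evPoly_coefPoly]
      · simp [evPoly_coefPoly, evPoly_negPoly, evPoly_powPoly]
      · rw [List.forall₂_map_left_iff, List.forall₂_map_right_iff]
        apply List.forall₂_same.mpr
        intro i _
        simp [evPoly_coefPoly, evPoly_scalePoly]
    · simp only [instSkel, List.map_cons]
      refine List.Forall₂.cons ⟨rfl, ?_⟩ ?_
      · simp [evPoly_coefPoly]
      · rw [List.map_flatMap]
        generalize ((D.chain.getD r #[]).toList.filter fun e => decide (e.1 = s)) = L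
        induction L with
        | nil => exact List.Forall₂.nil
        | cons e L ih =>
          rw [List.flatMap_cons, List.flatMap_cons]
          refine List.rel_append ?_ ih
          rw [List.map_map, List.forall₂_map_left_iff, List.forall₂_map_right_iff]
          apply List.forall₂_same.mpr
          intro q _
          simp [evPoly_coefPoly, evPoly_scalePoly, evPoly_powPoly]
    · exact List.Forall₂.nil

end SkelSound


/-! ### Packed tables -/

/-- Packed copies of the tables of a Chevalley datum.
* `chainT`: the entry for `(r, s)` occupies 33 bits at bit offset `(r * nroots + s) * 33`; it is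
  `t₁ + t₂ * 2^11 + t₃ * 2^22` where `t_k = u_k * 8 + (M_k + 4)` encodes the `k`-th term `(u_k, M_k)` of the chain
  entry (0 if absent);
* `cartanT`: `A_{p_i, s} + 4` in 3 bits at offset `(i * nroots + s) * 3`;
* `corootT`: `c_i(r) + 8` in 4 bits at offset `(r * rank + i) * 4`. -/
structure FastDatum where
  rank : ℕ
  nroots : ℕ
  chainT : ℕ
  cartanT : ℕ
  corootT : ℕ

namespace FastDatum

variable (T : FastDatum)

/-- Decode a chain term. -/
def decTerm (t : ℕ) : ℕ × ℤ := (t / 8, Int.ofNat (t % 8) - 4)

/-- Decode a chain entry. -/
def decEntry (x : ℕ) : List (ℕ × ℤ) :=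
  if x = 0 then []
  else if x < 2048 then [decTerm x]
  else if x < 4194304 then [decTerm (x % 2048), decTerm (x / 2048)]
  else [decTerm (x % 2048), decTerm (x / 2048 % 2048), decTerm (x / 4194304)]

/-- The chain entry for `(r, s)`: the list `[(index of r+s, M_{r,s,1}), …]`. -/
def chainL (r s : ℕ) : List (ℕ × ℤ) :=
  decEntry ((T.chainT >>> ((r * T.nroots + s) * 33)) % 8589934592)

/-- The Cartan integer `A_{p_i, s}`. -/
def cartan (i s : ℕ) : ℤ := Int.ofNat ((T.cartanT >>> ((i * T.nroots + s) * 3)) % 8) - 4

/-- The coefficient `c_i(r)` of the coroot `h_r`. -/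
def coroot (r i : ℕ) : ℤ := Int.ofNat ((T.corootT >>> ((r * T.rank + i) * 4)) % 16) - 8

/-- The index of `-r`. -/
def neg (r : ℕ) : ℕ := T.nroots - 1 - r

/-- The skeleton of the column of `x_r(τ)` at the coordinate `c`, read off the packed tables. -/
def skelF (r : ℕ) : Code → Skel
  | Sum.inl i =>
    if i < T.rank then [(Sum.inl i, 1, 0), (Sum.inr r, -(T.cartan i r), 1)] else []
  | Sum.inr s =>
    if s < T.nroots then
      (if s = r then [(Sum.inr r, 1, 0)]
       else if s = T.neg r then
         (Sum.inr s, 1, 0) :: (Sum.inr r, -1, 2) :: (List.range T.rank).map fun i => (Sum.inl i, T.coroot r i, 1)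
       else
         (Sum.inr s, 1, 0) :: (T.chainL r s).zipIdx.map fun q => (Sum.inr q.1.1, q.1.2, q.2 + 1))
    else []

/-- The chain entry `(s, l)` as a list: empty when `l` is empty. -/
def optEntry (s : ℕ) (l : List (ℕ × ℤ)) : List (ℕ × List (ℕ × ℤ)) :=
  match l with
  | [] => []
  | l => [(s, l)]

/-- The row `r` of the chain table regenerated from the packed table. -/
def genRow (r : ℕ) : List (ℕ × List (ℕ × ℤ)) :=
  (List.range T.nroots).filterMap fun s =>
    match T.chainL r s with
    | [] => none
    | l => some (s, l)

/-- The check that the packed tables agree with the Prelude tables. -/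
def agree (D : ChevalleyDatum) : Bool :=
  decide (T.rank = D.rank) && decide (T.nroots = D.nroots) &&
  decide (D.negIdx.toList = (List.range T.nroots).map T.neg) &&
  ((List.range T.rank).all fun i =>
    decide ((D.cartanSR.getD i #[]).toList = (List.range T.nroots).map (T.cartan i))) &&
  ((List.range T.nroots).all fun r =>
    decide ((D.coroot.getD r #[]).toList = (List.range T.rank).map (T.coroot r)) &&
    decide (((D.chain.getD r #[]).toList.map fun e => (e.1, e.2.toList)) = T.genRow r))

end FastDatum


/-! ### Agreement implies equality of skeletons -/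

theorem array_getD_of_toList_eq {α : Type*} (a : Array α) (n : ℕ) (f : ℕ → α) (d : α)
    (h : a.toList = (List.range n).map f) (i : ℕ) (hi : i < n) : a.getD i d = f i := by
  have h1 : a.getD i d = a.toList.getD i d := by
    simp [Array.getD_eq_getD_getElem?, List.getD_eq_getElem?_getD]
  rw [h1, h, List.getD_eq_getElem?_getD, List.getElem?_map, List.getElem?_range hi]
  rfl

theorem filter_filterMap_range {β : Type*} (g : ℕ → Option (ℕ × β))
    (hg : ∀ k e, g k = some e → e.1 = k) (s : ℕ) :
    ∀ n : ℕ, ((List.range n).filterMap g).filter (fun e => decide (e.1 = s))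
      = if s < n then (g s).toList else []
  | 0 => by simp
  | n + 1 => by
    rw [List.range_succ, List.filterMap_append, List.filter_append, filter_filterMap_range g hg s n]
    simp only [List.filterMap_cons, List.filterMap_nil]
    by_cases hsn : s < n
    · rw [if_pos hsn, if_pos (by omega)]
      cases hgn : g n with
      | none => simp
      | some e =>
        have := hg n e hgn
        have hne : ¬ e.1 = s := by omega
        simp [hne]
    · rw [if_neg hsn]
      by_cases hs : s = n
      · subst hs
        rw [if_pos (by omega)]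
        cases hgn : g s with
        | none => simp
        | some e =>
          have := hg s e hgn
          simp [this]
      · rw [if_neg (by omega)]
        cases hgn : g n with
        | none => simp
        | some e =>
          have := hg n e hgn
          have hne : ¬ e.1 = s := by omega
          simp [hne]

namespace FastDatum

variable (T : FastDatum)

theorem genRow_filter (r s : ℕ) (hs : s < T.nroots) :
    (T.genRow r).filter (fun e => decide (e.1 = s)) = optEntry s (T.chainL r s) := by
  unfold genRow optEntry
  rw [filter_filterMap_range _ _ s T.nroots, if_pos hs]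
  · cases h : T.chainL r s <;> simp
  · intro k e hk
    cases h : T.chainL r k with
    | nil => simp [h] at hk
    | cons a l =>
      simp only [h, Option.some.injEq] at hk
      rw [← hk]

theorem skelF_eq_skelD (D : ChevalleyDatum) (h : T.agree D = true) (r : ℕ) (hr : r < D.nroots) (c : Code) :
    T.skelF r c = skelD D r c := by
  unfold agree at h
  simp only [Bool.and_eq_true, decide_eq_true_eq, List.all_eq_true, List.mem_range] at h
  obtain ⟨⟨⟨⟨hrank, hn⟩, hneg⟩, hcart⟩, hrow⟩ := h
  have hr' : r < T.nroots := hn ▸ hr
  rcases c with i | s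
  · simp only [skelF, skelD, hrank]
    split_ifs with hi
    · have := array_getD_of_toList_eq _ _ _ 0 (hcart i (hrank ▸ hi)) r hr'
      rw [this]
    · rfl
  · simp only [skelF, skelD, hn]
    have hnegr : D.negIdx.getD r 0 = T.neg r := array_getD_of_toList_eq _ _ _ 0 hneg r hr'
    rw [hnegr]
    split_ifs with hs h1 h2
    · rfl
    · congr 2
      rw [← hrank]
      apply List.map_congr_left
      intro i hi
      have hi' : i < T.rank := List.mem_range.mp hi
      have := array_getD_of_toList_eq _ _ _ 0 (hrow r hr').1 i hi'
      rw [this]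
    · congr 1
      have hrow2 := (hrow r hr').2
      have hs' : s < T.nroots := hn ▸ hs
      have key : ((D.chain.getD r #[]).toList.filter fun e => decide (e.1 = s)).map
          (fun e => (e.1, e.2.toList)) = (T.genRow r).filter (fun e => decide (e.1 = s)) := by
        rw [← hrow2, List.filter_map]
        rfl
      rw [genRow_filter T r s hs'] at key
      have step : ∀ L : List (ℕ × Array (ℕ × ℤ)),
          (L.flatMap fun e => e.2.toList.zipIdx.map fun q => ((Sum.inr q.1.1 : Code), q.1.2, q.2 + 1))
          = ((L.map fun e => (e.1, e.2.toList)).flatMap fun e' =>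
              e'.2.zipIdx.map fun q => ((Sum.inr q.1.1 : Code), q.1.2, q.2 + 1)) := by
        intro L
        rw [List.flatMap_map]
      rw [step, key]
      unfold optEntry
      cases hl : T.chainL r s with
      | nil => simp
      | cons a l => simp
    · rfl

end FastDatum


/-! ### The fast engine -/

namespace FastDatum

variable (T : FastDatum)

/-- The symbolic action of `x_r(τ)` computed from the packed tables. -/
def applyXF (r : ℕ) (τ : Poly) (v : SVec) : SVec :=
  if r < T.nroots then
    v.flatMap fun e => (T.skelF r e.1).map fun x => (x.1, mulPoly (coefPoly τ x.2.1 x.2.2) e.2)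
  else v

/-- The symbolic action of a word in root elements computed from the packed tables. -/
def applyWordF (w : List (ℕ × Poly)) (v : SVec) : SVec :=
  w.foldr (fun a acc => normVec (T.applyXF a.1 a.2 acc)) v

/-- All coordinate codes. -/
def allCodesF : List Code := (List.range T.rank).map Sum.inl ++ (List.range T.nroots).map Sum.inr

/-- Test: the matrix of the word `w` has the columns `cols` (restricted to the coordinates in `cs`). -/
def checkColsOn (cs : List Code) (w : List (ℕ × Poly)) (cols : Code → SVec) : Bool :=
  cs.all fun j => isZeroVec (T.applyWordF w [(j, onePoly)] ++ negVec (cols j))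

/-- Test: the matrix of the word `w` has the columns `cols`. -/
def checkColsF (w : List (ℕ × Poly)) (cols : Code → SVec) : Bool := T.checkColsOn T.allCodesF w cols

section Sound

variable {F : Type*} [Field F]

theorem evVec_applyXF (D : ChevalleyDatum) (h : T.agree D = true) (ρ : ℕ → F) (r : ℕ) (τ : Poly) (v : SVec) :
    evVec D ρ (T.applyXF r τ v) = (D.x F r (evPoly ρ τ)).mulVec (evVec D ρ v) := by
  have hn : T.nroots = D.nroots := by
    unfold agree at h
    simp only [Bool.and_eq_true, decide_eq_true_eq] at h
    exact h.1.1.1.2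
  rw [← evVec_applyX]
  unfold applyXF applyX
  rw [hn]
  split_ifs with hr
  · induction v with
    | nil => rfl
    | cons e v ih =>
      rw [List.flatMap_cons, List.flatMap_cons, evVec_append, evVec_append, ih]
      congr 1
      rw [T.skelF_eq_skelD D h r hr e.1, evVec_scaleVec, ← evVec_instSkel_skelD, ← evVec_scaleVec]
      congr 1
      simp [scaleVec, instSkel, List.map_map]
  · rfl

theorem evVec_applyWordF (D : ChevalleyDatum) (h : T.agree D = true) (ρ : ℕ → F) (hρ : ρ 0 * ρ 1 = 1)
    (w : List (ℕ × Poly)) (v : SVec) :
    evVec D ρ (T.applyWordF w v) = (D.wordMat F (evWord ρ w)).mulVec (evVec D ρ v) := by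
  induction w with
  | nil => simp [applyWordF, evWord, ChevalleyDatum.wordMat]
  | cons a w ih =>
    have h1 : T.applyWordF (a :: w) v = normVec (T.applyXF a.1 a.2 (T.applyWordF w v)) := rfl
    have h2 : D.wordMat F (evWord ρ (a :: w)) = D.x F a.1 (evPoly ρ a.2) * D.wordMat F (evWord ρ w) := by
      simp [ChevalleyDatum.wordMat, evWord]
    rw [h1, evVec_normVec D ρ hρ, evVec_applyXF T D h, ih, h2, Matrix.mulVec_mulVec]

theorem allCodesF_eq (D : ChevalleyDatum) (h : T.agree D = true) : T.allCodesF = allCodes D := by
  unfold agree at h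
  simp only [Bool.and_eq_true, decide_eq_true_eq] at h
  unfold allCodesF allCodes
  rw [h.1.1.1.1, h.1.1.1.2]

/-- Soundness of `checkColsOn` for one column. -/
theorem wordMat_apply_of_checkColsOn (D : ChevalleyDatum) (h : T.agree D = true) (ρ : ℕ → F)
    (hρ : ρ 0 * ρ 1 = 1) (cs : List Code) (w : List (ℕ × Poly)) (cols : Code → SVec)
    (hc : T.checkColsOn cs w cols = true) (i j : D.Idx) (hj : code D j ∈ cs) :
    D.wordMat F (evWord ρ w) i j = evVec D ρ (cols (code D j)) i := by
  unfold checkColsOn at hc
  rw [List.all_eq_true] at hc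
  have h1 := evVec_eq_zero_of_isZeroVec D ρ hρ _ (hc _ hj)
  rw [evVec_append, evVec_negVec, evVec_applyWordF T D h ρ hρ, evVec_single_code, evPoly_onePoly, one_smul,
    Matrix.mulVec_single_one] at h1
  have h2 := congrFun h1 i
  simp only [Pi.add_apply, Pi.neg_apply, Pi.zero_apply, Matrix.col_apply] at h2
  exact add_neg_eq_zero.mp h2

/-- Soundness of `checkColsF`. -/
theorem wordMat_apply_of_checkColsF (D : ChevalleyDatum) (h : T.agree D = true) (ρ : ℕ → F)
    (hρ : ρ 0 * ρ 1 = 1) (w : List (ℕ × Poly)) (cols : Code → SVec)
    (hc : T.checkColsF w cols = true) (i j : D.Idx) :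
    D.wordMat F (evWord ρ w) i j = evVec D ρ (cols (code D j)) i := by
  apply T.wordMat_apply_of_checkColsOn D h ρ hρ _ w cols hc i j
  rw [T.allCodesF_eq D h]
  exact mem_allCodes D j

end Sound

end FastDatum

end Cfsg.Agent.Lib.Helper18
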