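/-
helper18: conjugation of root elements by the diagonal matrices diag(1; c^{A_{p_i,s}}): table facts and the matrix
identity  diag * x_s(t) = x_s(c^{A_{p_i,s}} t) * diag.
-/
import Cfsg.Prelude.Def_ChevStructure

set_option autoImplicit false

namespace Cfsg.Agent.Lib.Helper18

open Cfsg.Lie

/-- Table fact: `A_{p_i,-s} = -A_{p_i,s}`. -/
def CartanNeg (D : ChevalleyDatum) (i : ℕ) : Prop :=
  ∀ s < D.nroots, D.cartan i (D.negIdx.getD s 0) = - D.cartan i s

/-- Table fact: `A_{p_i, k s + v} = k A_{p_i,s} + A_{p_i,v}` along all chains. -/
def CartanChain (D : ChevalleyDatum) (i : ℕ) : Prop :=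
  ∀ s < D.nroots, ∀ v < D.nroots, ∀ u < D.nroots, ∀ km ∈ D.chainCoeff s v u,
    D.cartan i u = (km.1 : ℤ) * D.cartan i s + D.cartan i v

section Conj

variable {F : Type*} [Field F]

/-- The diagonal entries of `h_{p_i}(c)`. -/
def hDiagFun (D : ChevalleyDatum) (i : ℕ) (c : F) : D.Idx → F :=
  Sum.elim (fun _ => (1 : F)) (fun s : Fin D.nroots => c ^ (D.cartan i s))

theorem diag_mul_xMat (D : ChevalleyDatum) (i : ℕ) (h1 : CartanNeg D i)
    (h2 : CartanChain D i) (c : F) (hc : c ≠ 0) (s : Fin D.nroots) (t : F) :
    Matrix.diagonal (hDiagFun D i c) * D.xMat F s t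
      = D.xMat F s (c ^ (D.cartan i s) * t) * Matrix.diagonal (hDiagFun D i c) := by
  ext a b
  rw [Matrix.diagonal_mul, Matrix.mul_diagonal]
  simp only [ChevalleyDatum.xMat, Matrix.of_apply]
  rcases b with j | v
  · rcases a with i' | u
    · simp [hDiagFun]
    · simp only [hDiagFun, Sum.elim_inr, Sum.elim_inl, mul_one]
      split_ifs with hu
      · subst hu; ring
      · simp
  · simp only
    by_cases hvs : v = s
    · subst hvs
      simp only [if_true]
      rcases a with i' | u
      · simp
      · by_cases hu : u = v
        · subst hu; simp [hDiagFun]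
        · simp [hu]
    · rw [if_neg hvs, if_neg hvs]
      by_cases hvn : (v : ℕ) = D.negIdx.getD s.1 0
      · rw [if_pos hvn, if_pos hvn]
        have hneg : D.cartan i v = - D.cartan i s := by
          rw [hvn]; exact h1 s.1 s.2
        rcases a with i' | u
        · simp only [hDiagFun, Sum.elim_inl, Sum.elim_inr, one_mul, hneg, zpow_neg]
          field_simp
        · simp only [hDiagFun, Sum.elim_inr]
          by_cases hu : u = v
          · subst hu; simp [mul_comm]
          · rw [if_neg hu, if_neg hu]
            by_cases hus : u = s
            · subst hus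
              simp only [if_true, hneg, zpow_neg]
              field_simp
            · simp [hus]
      · rw [if_neg hvn, if_neg hvn]
        rcases a with i' | u
        · simp
        · simp only [hDiagFun, Sum.elim_inr]
          rw [mul_add, add_mul]
          congr 1
          · by_cases hu : u = v
            · subst hu; simp [mul_comm]
            · simp [hu]
          · rw [← List.sum_map_mul_left, ← List.sum_map_mul_right]
            congr 1
            apply List.map_congr_left
            intro km hkm
            have h3 := h2 s.1 s.2 v.1 v.2 u.1 u.2 km hkm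
            rw [h3, zpow_add₀ hc, mul_comm (km.1 : ℤ), zpow_mul, zpow_natCast, mul_pow]
            ring

end Conj

end Cfsg.Agent.Lib.Helper18
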