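/-
helper18: the table facts `CartanNeg`, `CartanChain` of `HConj` verified through the packed tables; general
transfer lemmas from the packed tables to the Prelude tables.
-/
import Cfsg.Agent.Lib.Helper18.HConj
import Cfsg.Agent.Lib.Helper18.Fast

set_option autoImplicit false

namespace Cfsg.Agent.Lib.Helper18

open Cfsg.Lie

namespace FastDatum

variable (T : FastDatum)

/-! ### Transfer lemmas -/

theorem rank_eq (D : ChevalleyDatum) (h : T.agree D = true) : T.rank = D.rank := by
  unfold agree at h
  simp only [Bool.and_eq_true, decide_eq_true_eq] at h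
  exact h.1.1.1.1

theorem nroots_eq (D : ChevalleyDatum) (h : T.agree D = true) : T.nroots = D.nroots := by
  unfold agree at h
  simp only [Bool.and_eq_true, decide_eq_true_eq] at h
  exact h.1.1.1.2

theorem neg_eq (D : ChevalleyDatum) (h : T.agree D = true) (r : ℕ) (hr : r < D.nroots) :
    D.negIdx.getD r 0 = T.neg r := by
  have hn := T.nroots_eq D h
  unfold agree at h
  simp only [Bool.and_eq_true, decide_eq_true_eq] at h
  exact array_getD_of_toList_eq _ _ _ 0 h.1.1.2 r (hn ▸ hr)

theorem cartan_eq (D : ChevalleyDatum) (h : T.agree D = true) (i : ℕ) (hi : i < D.rank) (s : ℕ)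
    (hs : s < D.nroots) : D.cartan i s = T.cartan i s := by
  have hn := T.nroots_eq D h
  have hl := T.rank_eq D h
  unfold agree at h
  simp only [Bool.and_eq_true, decide_eq_true_eq, List.all_eq_true, List.mem_range] at h
  exact array_getD_of_toList_eq _ _ _ 0 (h.1.2 i (hl ▸ hi)) s (hn ▸ hs)

theorem coroot_eq (D : ChevalleyDatum) (h : T.agree D = true) (r : ℕ) (hr : r < D.nroots) (i : ℕ)
    (hi : i < D.rank) : (D.coroot.getD r #[]).getD i 0 = T.coroot r i := by
  have hn := T.nroots_eq D h
  have hl := T.rank_eq D h
  unfold agree at h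
  simp only [Bool.and_eq_true, decide_eq_true_eq, List.all_eq_true, List.mem_range] at h
  exact array_getD_of_toList_eq _ _ _ 0 (h.2 r (hn ▸ hr)).1 i (hl ▸ hi)

theorem chain_filter_eq (D : ChevalleyDatum) (h : T.agree D = true) (r : ℕ) (hr : r < D.nroots) (s : ℕ)
    (hs : s < D.nroots) :
    ((D.chain.getD r #[]).toList.filter fun e => decide (e.1 = s)).map (fun e => (e.1, e.2.toList))
      = optEntry s (T.chainL r s) := by
  have hn := T.nroots_eq D h
  unfold agree at h
  simp only [Bool.and_eq_true, decide_eq_true_eq, List.all_eq_true, List.mem_range] at h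
  have hrow2 := (h.2 r (hn ▸ hr)).2
  rw [← genRow_filter T r s (hn ▸ hs), ← hrow2, List.filter_map]
  rfl

theorem chainCoeff_eq (D : ChevalleyDatum) (h : T.agree D = true) (r : ℕ) (hr : r < D.nroots) (s : ℕ)
    (hs : s < D.nroots) (u : ℕ) :
    D.chainCoeff r s u
      = ((T.chainL r s).zipIdx.filter fun q => decide (q.1.1 = u)).map fun q => (q.2 + 1, q.1.2) := by
  unfold ChevalleyDatum.chainCoeff
  have step : ∀ L : List (ℕ × Array (ℕ × ℤ)),
      (L.flatMap fun e => ((e.2.toList.zipIdx).filter (fun q => decide (q.1.1 = u))).map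
        fun q => (q.2 + 1, q.1.2))
      = ((L.map fun e => (e.1, e.2.toList)).flatMap fun e' =>
          (e'.2.zipIdx.filter (fun q => decide (q.1.1 = u))).map fun q => (q.2 + 1, q.1.2)) := by
    intro L
    rw [List.flatMap_map]
  rw [step, T.chain_filter_eq D h r hr s hs]
  unfold optEntry
  cases hl : T.chainL r s with
  | nil => simp
  | cons a l => simp

/-! ### The Cartan checks on the packed tables -/

/-- All chain targets are root indices in range. -/
def chainInRange : Bool :=
  (List.range T.nroots).all fun s => (List.range T.nroots).all fun v =>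
    (T.chainL s v).all fun q => decide (q.1 < T.nroots)

/-- `A_{p_i,-s} = -A_{p_i,s}` for all roots `s` and all `i`, on the packed tables. -/
def cartanNegF : Bool :=
  (List.range T.nroots).all fun s => (List.range T.rank).all fun i =>
    T.cartan i (T.neg s) == - T.cartan i s

/-- `A_{p_i, k s + v} = k A_{p_i,s} + A_{p_i,v}` along all chains and for all `i`, on the packed tables. -/
def cartanChainF : Bool :=
  (List.range T.nroots).all fun s => (List.range T.nroots).all fun v =>
    (T.chainL s v).zipIdx.all fun q => (List.range T.rank).all fun i =>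
      T.cartan i q.1.1 == ((q.2 + 1 : ℕ) : ℤ) * T.cartan i s + T.cartan i v

theorem chain_lt_of_chainInRange (h : T.chainInRange = true) (s v : ℕ) (hs : s < T.nroots)
    (hv : v < T.nroots) (q : ℕ × ℤ) (hq : q ∈ T.chainL s v) : q.1 < T.nroots := by
  unfold chainInRange at h
  simp only [List.all_eq_true, List.mem_range, decide_eq_true_eq] at h
  exact h s hs v hv q hq

theorem cartanNeg_of_check (D : ChevalleyDatum) (h : T.agree D = true) (hc : T.cartanNegF = true)
    (i : ℕ) (hi : i < D.rank) : CartanNeg D i := by
  intro s hs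
  have hn := T.nroots_eq D h
  have hl := T.rank_eq D h
  unfold cartanNegF at hc
  simp only [List.all_eq_true, List.mem_range, beq_iff_eq] at hc
  have h1 := hc s (hn ▸ hs) i (hl ▸ hi)
  have hneg : T.neg s < D.nroots := by unfold neg; omega
  rw [T.neg_eq D h s hs, T.cartan_eq D h i hi _ hneg, T.cartan_eq D h i hi s hs, h1]

theorem cartanChain_of_check (D : ChevalleyDatum) (h : T.agree D = true) (hc : T.cartanChainF = true)
    (i : ℕ) (hi : i < D.rank) : CartanChain D i := by
  intro s hs v hv u hu km hkm
  have hn := T.nroots_eq D h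
  have hl := T.rank_eq D h
  rw [T.chainCoeff_eq D h s hs v hv u] at hkm
  simp only [List.mem_map, List.mem_filter, decide_eq_true_eq] at hkm
  obtain ⟨q, ⟨hq, hqu⟩, rfl⟩ := hkm
  unfold cartanChainF at hc
  simp only [List.all_eq_true, List.mem_range, beq_iff_eq] at hc
  have h1 := hc s (hn ▸ hs) v (hn ▸ hv) q hq i (hl ▸ hi)
  rw [T.cartan_eq D h i hi u hu, T.cartan_eq D h i hi s hs, T.cartan_eq D h i hi v hv, ← hqu]
  exact h1

end FastDatum

end Cfsg.Agent.Lib.Helper18
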