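/-
helper18: the diagonal form of h_p(c) for a fundamental root p, via the symbolic engine.
-/
import Cfsg.Agent.Lib.Helper18.Engine

set_option autoImplicit false

namespace Cfsg.Agent.Lib.Helper18

open Cfsg.Lie

/-- X0^a for an integer a, using X1 (= X0⁻¹) for negative a. -/
def zpowPoly (a : ℤ) : Poly := if 0 ≤ a then [(1, [a.toNat])] else [(1, [0, (-a).toNat])]

/-- The symbolic word of h_r(X0) (with X1 = X0⁻¹). -/
def hWordS (D : ChevalleyDatum) (r : ℕ) : List (ℕ × Poly) :=
  [(r, varPoly 0), (D.neg r, negPoly (varPoly 1)), (r, varPoly 0),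
   (r, constPoly (-1)), (D.neg r, constPoly 1), (r, constPoly (-1))]

/-- The expected columns of h_{p_i}(X0): diagonal, with entry X0^{A_{p_i, s}} at e_s. -/
def hCols (D : ChevalleyDatum) (i : ℕ) : Code → SVec
  | Sum.inl j => [(Sum.inl j, onePoly)]
  | Sum.inr s => [(Sum.inr s, zpowPoly (D.cartan i s))]

/-- The check that h_{p_i}(X0) is the expected diagonal matrix. -/
def checkH1 (D : ChevalleyDatum) (i : ℕ) : Bool := checkCols D (hWordS D (D.simple i)) (hCols D i)

/-- The check for all fundamental roots. -/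
def checkH (D : ChevalleyDatum) : Bool := (List.range D.rank).all fun i => checkH1 D i

section Sound

variable {F : Type*} [Field F]

/-- The valuation X0 ↦ c, X1 ↦ c⁻¹. -/
def rhoInv (c : F) : ℕ → F := fun k => if k = 0 then c else if k = 1 then c⁻¹ else 0

theorem rhoInv_mul (c : F) (hc : c ≠ 0) : rhoInv c 0 * rhoInv c 1 = 1 := by
  simp [rhoInv, hc]

theorem evPoly_zpowPoly (c : F) (a : ℤ) : evPoly (rhoInv c) (zpowPoly a) = c ^ a := by
  unfold zpowPoly
  split_ifs with h
  · obtain ⟨n, rfl⟩ := Int.eq_ofNat_of_zero_le h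
    simp [evPoly, evMono, evExp, rhoInv]
  · have h' : 0 ≤ -a := by omega
    obtain ⟨n, hn⟩ := Int.eq_ofNat_of_zero_le h'
    have ha : a = -(n : ℤ) := by omega
    subst ha
    simp [evPoly, evMono, evExp, rhoInv]

theorem evWord_hWordS (D : ChevalleyDatum) (r : ℕ) (c : F) :
    evWord (rhoInv c) (hWordS D r) = D.hWord r c := by
  simp only [evWord, hWordS, ChevalleyDatum.hWord, ChevalleyDatum.nWord, List.map_cons, List.map_nil,
    evPoly_varPoly, evPoly_negPoly, evPoly_constPoly, List.cons_append, List.nil_append]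
  simp [rhoInv]

theorem hMat_eq_diagonal_of_checkH1 (D : ChevalleyDatum) (i : ℕ) (h : checkH1 D i = true)
    (c : F) (hc : c ≠ 0) :
    D.hMat F (D.simple i) c
      = Matrix.diagonal (Sum.elim (fun _ => (1 : F)) (fun s : Fin D.nroots => c ^ (D.cartan i s))) := by
  unfold ChevalleyDatum.hMat
  rw [← evWord_hWordS]
  ext a b
  rw [wordMat_apply_of_checkCols D (rhoInv c) (rhoInv_mul c hc) _ _ h a b]
  rcases b with b | b
  · simp only [code_inl, hCols, evVec_single_apply, evPoly_onePoly, Matrix.diagonal_apply]
    by_cases hab : a = Sum.inl b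
    · subst hab; simp
    · have : ¬ (Sum.inl (b : ℕ) : Code) = code D a := by
        intro h'
        apply hab
        apply code_injective D
        rw [← h']; rfl
      rw [if_neg this, if_neg hab]
  · simp only [code_inr, hCols, evVec_single_apply, evPoly_zpowPoly, Matrix.diagonal_apply]
    by_cases hab : a = Sum.inr b
    · subst hab; simp
    · have : ¬ (Sum.inr (b : ℕ) : Code) = code D a := by
        intro h'
        apply hab
        apply code_injective D
        rw [← h']; rfl
      rw [if_neg this, if_neg hab]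

theorem hMat_eq_diagonal_of_checkH (D : ChevalleyDatum) (h : checkH D = true) (i : ℕ) (hi : i < D.rank)
    (c : F) (hc : c ≠ 0) :
    D.hMat F (D.simple i) c
      = Matrix.diagonal (Sum.elim (fun _ => (1 : F)) (fun s : Fin D.nroots => c ^ (D.cartan i s))) := by
  unfold checkH at h
  rw [List.all_eq_true] at h
  exact hMat_eq_diagonal_of_checkH1 D i (h i (List.mem_range.mpr hi)) c hc

end Sound

end Cfsg.Agent.Lib.Helper18
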