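/-
helper18: faster access paths to the packed tables: two-level access to the chain table (the packed row is a closed
term that the kernel evaluates once), and the corresponding column skeletons.
-/
import Cfsg.Agent.Lib.Helper18.Fast

set_option autoImplicit false

namespace Cfsg.Agent.Lib.Helper18

open Cfsg.Lie

namespace FastDatum

variable (T : FastDatum)

/-- The packed row `r` of the chain table. -/
def chainRow (r : ℕ) : ℕ := (T.chainT >>> (r * (T.nroots * 33))) % 2 ^ (T.nroots * 33)

/-- Two-level access to the chain table. -/
def chainL2 (r s : ℕ) : List (ℕ × ℤ) := decEntry ((T.chainRow r >>> (s * 33)) % 8589934592)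

theorem chainL2_eq (r s : ℕ) (hs : s < T.nroots) : T.chainL2 r s = T.chainL r s := by
  unfold chainL2 chainL chainRow
  congr 1
  apply Nat.eq_of_testBit_eq
  intro i
  have h33 : (8589934592 : ℕ) = 2 ^ 33 := by norm_num
  rw [h33, Nat.testBit_mod_two_pow, Nat.testBit_mod_two_pow, Nat.testBit_shiftRight, Nat.testBit_shiftRight,
    Nat.testBit_mod_two_pow, Nat.testBit_shiftRight]
  by_cases hi : i < 33
  · have h1 : s * 33 + i < T.nroots * 33 := by nlinarith
    have h2 : r * (T.nroots * 33) + (s * 33 + i) = (r * T.nroots + s) * 33 + i := by ring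
    simp [hi, h1, h2]
  · simp [hi]

/-- The skeleton of the column of `x_r(τ)` at the coordinate `c`, with two-level access to the chain table. -/
def skelF2 (r : ℕ) : Code → Skel
  | Sum.inl i =>
    if i < T.rank then [(Sum.inl i, 1, 0), (Sum.inr r, -(T.cartan i r), 1)] else []
  | Sum.inr s =>
    if s < T.nroots then
      (if s = r then [(Sum.inr r, 1, 0)]
       else if s = T.neg r then
         (Sum.inr s, 1, 0) :: (Sum.inr r, -1, 2) :: (List.range T.rank).map fun i => (Sum.inl i, T.coroot r i, 1)
       else
         (Sum.inr s, 1, 0) :: (T.chainL2 r s).zipIdx.map fun q => (Sum.inr q.1.1, q.1.2, q.2 + 1))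
    else []

theorem skelF2_eq (r : ℕ) (c : Code) : T.skelF2 r c = T.skelF r c := by
  rcases c with i | s
  · rfl
  · simp only [skelF2, skelF]
    split_ifs with hs
    · rfl
    · rfl
    · rw [T.chainL2_eq r s hs]
    · rfl

end FastDatum

end Cfsg.Agent.Lib.Helper18
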