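/-
helper18: a lean variant of the symbolic engine in which every coefficient is a single monomial
`a * X0^e0 * X1^e1 * X2^e2 * X3^e3` (with `X0 * X1 = 1` allowed in normalisation) and a symbolic vector is a flat
list of terms (coordinate, monomial). Parameters of root elements must be monomials. Built on the packed tables.
-/
import Cfsg.Agent.Lib.Helper18.Fast2

set_option autoImplicit false

namespace Cfsg.Agent.Lib.Helper18

open Cfsg.Lie

/-- A monomial `a * X0^e0 * X1^e1 * X2^e2 * X3^e3`. -/
abbrev Mono4 := ℤ × ℕ × ℕ × ℕ × ℕ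

/-- A flat symbolic vector: a list of terms (coordinate, monomial). -/
abbrev MVec := List (Code × Mono4)

/-- Product of monomials. -/
def mulM (m n : Mono4) : Mono4 :=
  (m.1 * n.1, m.2.1 + n.2.1, m.2.2.1 + n.2.2.1, m.2.2.2.1 + n.2.2.2.1, m.2.2.2.2 + n.2.2.2.2)

/-- Powers of a monomial. -/
def powM (m : Mono4) (k : ℕ) : Mono4 :=
  match k with
  | 0 => (1, 0, 0, 0, 0)
  | 1 => m
  | k + 2 => (m.1 ^ (k + 2), (k + 2) * m.2.1, (k + 2) * m.2.2.1, (k + 2) * m.2.2.2.1, (k + 2) * m.2.2.2.2)

/-- `b * p^k * m` for an integer `b`, a monomial parameter `p` and a monomial `m`. -/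
def stepM (b : ℤ) (p : Mono4) (k : ℕ) (m : Mono4) : Mono4 :=
  match k with
  | 0 => (b * m.1, m.2)
  | k + 1 => let q := mulM (powM p (k + 1)) m; (b * q.1, q.2)

/-- Cancel `X0` against `X1`. -/
def cancelM (m : Mono4) : Mono4 :=
  let c := min m.2.1 m.2.2.1
  (m.1, m.2.1 - c, m.2.2.1 - c, m.2.2.2)

/-- Insert a term, merging with a term at the same coordinate and with the same exponents. -/
def insM (e : Code × Mono4) : MVec → MVec
  | [] => [e]
  | f :: v => if f.1 = e.1 ∧ f.2.2 = e.2.2 then (f.1, f.2.1 + e.2.1, f.2.2) :: v else f :: insM e v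

/-- Normal form of a flat symbolic vector. -/
def normM (v : MVec) : MVec :=
  (v.foldr (fun e acc => insM (e.1, cancelM e.2) acc) []).filter fun e => decide (e.2.1 ≠ 0)

/-- Negative of a flat symbolic vector. -/
def negM (v : MVec) : MVec := v.map fun e => (e.1, -e.2.1, e.2.2)

/-- Normal form, skipped on vectors with at most one term. -/
def normQ (v : MVec) : MVec :=
  match v with
  | [] => []
  | [e] => [e]
  | e :: f :: w => normM (e :: f :: w)

namespace FastDatum

variable (T : FastDatum)

/-- The symbolic action of `x_r(p)` for a monomial parameter `p`. -/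
def applyXM (r : ℕ) (p : Mono4) (v : MVec) : MVec :=
  if r < T.nroots then
    v.flatMap fun e => (T.skelF2 r e.1).map fun x => (x.1, stepM x.2.1 p x.2.2 e.2)
  else v

/-- The symbolic action of a word in root elements with monomial parameters. -/
def applyWordM (w : List (ℕ × Mono4)) (v : MVec) : MVec :=
  w.foldr (fun a acc => normQ (T.applyXM a.1 a.2 acc)) v

/-- `x_r(τ)` fixes the basis vector with code `c` (for every `τ`), as seen on the skeleton. -/
def trivAt (r : ℕ) (c : Code) : Bool :=
  decide (T.nroots ≤ r) ||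
  match T.skelF2 r c with
  | [x] => decide (x.1 = c) && decide (x.2.1 = 1) && decide (x.2.2 = 0)
  | _ => false

/-- Test: on the coordinates in `cs`, the matrix of the word `w` has the columns `cols`. -/
def checkColsM (cs : List Code) (w : List (ℕ × Mono4)) (cols : Code → MVec) : Bool :=
  cs.all fun j =>
    if w.all fun a => T.trivAt a.1 j then
      (normM ((j, ((1, 0, 0, 0, 0) : Mono4)) :: negM (cols j))).isEmpty
    else
      (normM (T.applyWordM w [(j, (1, 0, 0, 0, 0))] ++ negM (cols j))).isEmpty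

/-- Test: on the coordinates in `cs`, the matrices of the words `w₁` and `w₂` have the same columns. -/
def checkEqM (cs : List Code) (w₁ w₂ : List (ℕ × Mono4)) : Bool :=
  cs.all fun j =>
    (w₁.all fun a => T.trivAt a.1 j) && (w₂.all fun a => T.trivAt a.1 j) ||
    (normM (T.applyWordM w₁ [(j, (1, 0, 0, 0, 0))] ++ negM (T.applyWordM w₂ [(j, (1, 0, 0, 0, 0))]))).isEmpty

end FastDatum

section Sound

variable {F : Type*} [Field F]

/-- The value of a monomial. -/
def evM (ρ : ℕ → F) (m : Mono4) : F :=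
  (m.1 : F) * ρ 0 ^ m.2.1 * ρ 1 ^ m.2.2.1 * ρ 2 ^ m.2.2.2.1 * ρ 3 ^ m.2.2.2.2

/-- The value of a flat symbolic vector. -/
def evMVec (D : ChevalleyDatum) (ρ : ℕ → F) (v : MVec) : D.Idx → F :=
  fun i => (v.map fun e => if e.1 = code D i then evM ρ e.2 else 0).sum

@[simp] theorem evMVec_nil (D : ChevalleyDatum) (ρ : ℕ → F) : evMVec D ρ [] = 0 := rfl

theorem evMVec_cons (D : ChevalleyDatum) (ρ : ℕ → F) (e : Code × Mono4) (v : MVec) :
    evMVec D ρ (e :: v) = evMVec D ρ [e] + evMVec D ρ v := by
  funext i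
  simp [evMVec]

theorem evMVec_append (D : ChevalleyDatum) (ρ : ℕ → F) (v w : MVec) :
    evMVec D ρ (v ++ w) = evMVec D ρ v + evMVec D ρ w := by
  funext i
  simp [evMVec]

theorem evMVec_single_apply (D : ChevalleyDatum) (ρ : ℕ → F) (e : Code × Mono4) (i : D.Idx) :
    evMVec D ρ [e] i = if e.1 = code D i then evM ρ e.2 else 0 := by
  simp [evMVec]

theorem evM_mulM (ρ : ℕ → F) (m n : Mono4) : evM ρ (mulM m n) = evM ρ m * evM ρ n := by
  simp only [evM, mulM, Int.cast_mul, pow_add]
  ring

theorem evM_powM (ρ : ℕ → F) (m : Mono4) (k : ℕ) : evM ρ (powM m k) = evM ρ m ^ k := by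
  match k with
  | 0 => simp [powM, evM]
  | 1 => simp [powM]
  | k + 2 =>
    simp only [powM, evM, Int.cast_pow, mul_pow, ← pow_mul]
    simp only [mul_comm]

theorem evM_stepM (ρ : ℕ → F) (b : ℤ) (p : Mono4) (k : ℕ) (m : Mono4) :
    evM ρ (stepM b p k m) = (b : F) * evM ρ p ^ k * evM ρ m := by
  match k with
  | 0 =>
    simp only [stepM, evM, Int.cast_mul, pow_zero, mul_one]
    ring
  | k + 1 =>
    have h := evM_mulM ρ (powM p (k + 1)) m
    rw [evM_powM] at h
    simp only [stepM]
    have h2 : evM ρ ((b * (mulM (powM p (k + 1)) m).1, (mulM (powM p (k + 1)) m).2) : Mono4)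
        = (b : F) * evM ρ (mulM (powM p (k + 1)) m) := by
      simp only [evM, Int.cast_mul]
      ring
    rw [h2, h]
    ring

theorem evM_cancelM (ρ : ℕ → F) (h : ρ 0 * ρ 1 = 1) (m : Mono4) : evM ρ (cancelM m) = evM ρ m := by
  obtain ⟨a, e0, e1, e2, e3⟩ := m
  simp only [cancelM, evM]
  have h1 : ρ 0 ^ e0 = ρ 0 ^ (e0 - min e0 e1) * ρ 0 ^ (min e0 e1) := by
    rw [← pow_add]; congr 1; omega
  have h2 : ρ 1 ^ e1 = ρ 1 ^ (e1 - min e0 e1) * ρ 1 ^ (min e0 e1) := by
    rw [← pow_add]; congr 1; omega
  have h3 : ρ 0 ^ (min e0 e1) * ρ 1 ^ (min e0 e1) = 1 := by rw [← mul_pow, h, one_pow]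
  rw [h1, h2]
  calc (a : F) * ρ 0 ^ (e0 - min e0 e1) * ρ 1 ^ (e1 - min e0 e1) * ρ 2 ^ e2 * ρ 3 ^ e3
      = (a : F) * ρ 0 ^ (e0 - min e0 e1) * ρ 1 ^ (e1 - min e0 e1) * ρ 2 ^ e2 * ρ 3 ^ e3 * 1 := by
        rw [mul_one]
    _ = (a : F) * ρ 0 ^ (e0 - min e0 e1) * ρ 1 ^ (e1 - min e0 e1) * ρ 2 ^ e2 * ρ 3 ^ e3
          * (ρ 0 ^ (min e0 e1) * ρ 1 ^ (min e0 e1)) := by rw [h3]
    _ = _ := by ring

theorem evMVec_insM (D : ChevalleyDatum) (ρ : ℕ → F) (e : Code × Mono4) (v : MVec) :
    evMVec D ρ (insM e v) = evMVec D ρ [e] + evMVec D ρ v := by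
  induction v with
  | nil => simp [insM]
  | cons f v ih =>
    unfold insM
    split_ifs with h
    · rw [evMVec_cons, evMVec_cons D ρ f v, ← add_assoc]
      congr 1
      funext i
      simp only [evMVec_single_apply, Pi.add_apply, h.1]
      have : evM ρ (f.2.1 + e.2.1, f.2.2) = evM ρ f.2 + evM ρ e.2 := by
        simp only [evM, Int.cast_add, h.2]
        ring
      split_ifs
      · rw [this]; ring
      · ring
    · rw [evMVec_cons, ih, evMVec_cons D ρ f v]
      abel

theorem evMVec_normM (D : ChevalleyDatum) (ρ : ℕ → F) (h : ρ 0 * ρ 1 = 1) (v : MVec) :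
    evMVec D ρ (normM v) = evMVec D ρ v := by
  unfold normM
  have h1 : ∀ w : MVec, evMVec D ρ (w.filter fun e => decide (e.2.1 ≠ 0)) = evMVec D ρ w := by
    intro w
    induction w with
    | nil => rfl
    | cons e w ih =>
      by_cases he : e.2.1 = 0
      · rw [List.filter_cons_of_neg (by simpa using he), ih, evMVec_cons D ρ e w]
        have : evMVec D ρ [e] = 0 := by
          funext i
          rw [evMVec_single_apply]
          simp [evM, he]
        rw [this, zero_add]
      · rw [List.filter_cons_of_pos (by simpa using he), evMVec_cons, ih, ← evMVec_cons]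
  rw [h1]
  induction v with
  | nil => rfl
  | cons e v ih =>
    rw [List.foldr_cons, evMVec_insM, ih, evMVec_cons D ρ e v]
    congr 1
    funext i
    simp only [evMVec_single_apply, evM_cancelM ρ h]

theorem evMVec_normQ (D : ChevalleyDatum) (ρ : ℕ → F) (h : ρ 0 * ρ 1 = 1) (v : MVec) :
    evMVec D ρ (normQ v) = evMVec D ρ v := by
  match v with
  | [] => rfl
  | [e] => rfl
  | e :: f :: w => exact evMVec_normM D ρ h _

theorem evMVec_negM (D : ChevalleyDatum) (ρ : ℕ → F) (v : MVec) :
    evMVec D ρ (negM v) = - evMVec D ρ v := by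
  induction v with
  | nil => simp [negM]
  | cons e v ih =>
    have h : negM (e :: v) = (e.1, -e.2.1, e.2.2) :: negM v := rfl
    rw [h, evMVec_cons, ih, evMVec_cons D ρ e v, neg_add]
    congr 1
    funext i
    simp only [evMVec_single_apply, Pi.neg_apply]
    split_ifs
    · simp only [evM, Int.cast_neg]; ring
    · simp

/-- A flat symbolic vector as a symbolic vector of the general engine. -/
def toSVec (v : MVec) : SVec := v.map fun e => (e.1, [((e.2.1, [e.2.2.1, e.2.2.2.1, e.2.2.2.2.1, e.2.2.2.2.2]) : Mono)])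

theorem evVec_toSVec (D : ChevalleyDatum) (ρ : ℕ → F) (v : MVec) : evVec D ρ (toSVec v) = evMVec D ρ v := by
  funext i
  simp only [evVec, evMVec, toSVec, List.map_map]
  congr 1
  apply List.map_congr_left
  intro e _
  simp only [Function.comp, evPoly, evMono, evExp, evM, List.map_cons, List.map_nil, List.sum_cons,
    List.sum_nil, add_zero, mul_one]
  split_ifs
  · ring
  · rfl


/-- A monomial as a polynomial of the general engine. -/
def polyOfM (p : Mono4) : Poly := [((p.1, [p.2.1, p.2.2.1, p.2.2.2.1, p.2.2.2.2]) : Mono)]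

theorem evPoly_polyOfM (ρ : ℕ → F) (p : Mono4) : evPoly ρ (polyOfM p) = evM ρ p := by
  simp only [polyOfM, evPoly, evMono, evExp, evM, List.map_cons, List.map_nil, List.sum_cons, List.sum_nil,
    add_zero, mul_one]
  ring

/-- Evaluate the parameters of a word with monomial parameters. -/
def evWordM (ρ : ℕ → F) (w : List (ℕ × Mono4)) : List (ℕ × F) := w.map fun a => (a.1, evM ρ a.2)

theorem evMVec_map_stepM (D : ChevalleyDatum) (ρ : ℕ → F) (p m : Mono4) (sk : Skel) :
    evMVec D ρ (sk.map fun x => (x.1, stepM x.2.1 p x.2.2 m))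
      = evM ρ m • evVec D ρ (instSkel (polyOfM p) sk) := by
  induction sk with
  | nil => simp [instSkel]
  | cons x sk ih =>
    have h1 : instSkel (polyOfM p) (x :: sk)
        = (x.1, coefPoly (polyOfM p) x.2.1 x.2.2) :: instSkel (polyOfM p) sk := rfl
    rw [List.map_cons, evMVec_cons, ih, h1, evVec_cons D ρ _ (instSkel (polyOfM p) sk), smul_add]
    congr 1
    funext i
    simp only [evMVec_single_apply, evVec_single_apply, Pi.smul_apply, smul_eq_mul, evM_stepM,
      evPoly_coefPoly, evPoly_polyOfM]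
    split_ifs <;> ring

namespace FastDatum

variable (T : FastDatum)

theorem nroots_eq' (D : ChevalleyDatum) (h : T.agree D = true) : T.nroots = D.nroots := by
  unfold agree at h
  simp only [Bool.and_eq_true, decide_eq_true_eq] at h
  exact h.1.1.1.2

theorem evMVec_applyXM (D : ChevalleyDatum) (h : T.agree D = true) (ρ : ℕ → F) (r : ℕ) (p : Mono4)
    (v : MVec) :
    evMVec D ρ (T.applyXM r p v) = (D.x F r (evM ρ p)).mulVec (evMVec D ρ v) := by
  have hn : T.nroots = D.nroots := by
    unfold agree at h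
    simp only [Bool.and_eq_true, decide_eq_true_eq] at h
    exact h.1.1.1.2
  unfold applyXM ChevalleyDatum.x
  rw [hn]
  by_cases hr : r < D.nroots
  · rw [if_pos hr, dif_pos hr]
    induction v with
    | nil => simp
    | cons e v ih =>
      rw [List.flatMap_cons, evMVec_append, ih, evMVec_cons D ρ e v, Matrix.mulVec_add]
      congr 1
      rw [evMVec_map_stepM, T.skelF2_eq, T.skelF_eq_skelD D h r hr e.1, evVec_instSkel_skelD]
      by_cases hc : ∃ j : D.Idx, e.1 = code D j
      · obtain ⟨j, hj⟩ := hc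
        have he : evMVec D ρ [e] = evM ρ e.2 • Pi.single j 1 := by
          funext i
          rw [evMVec_single_apply, hj]
          by_cases hji : j = i
          · subst hji; simp
          · have : code D j ≠ code D i := fun h' => hji (code_injective D h')
            simp [this, Ne.symm hji]
        rw [he, Matrix.mulVec_smul]
        congr 1
        funext i
        rw [hj, evVec_colX D ρ ⟨r, hr⟩, Matrix.mulVec_single_one, evPoly_polyOfM]
        rfl
      · simp only [not_exists] at hc
        rw [colX_of_not_code D r _ e.1 hc]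
        have he : evMVec D ρ [e] = 0 := by
          funext i
          rw [evMVec_single_apply, if_neg (hc i)]
          rfl
        rw [he]
        simp
  · rw [if_neg hr, dif_neg hr, Matrix.one_mulVec]

theorem evMVec_applyWordM (D : ChevalleyDatum) (h : T.agree D = true) (ρ : ℕ → F) (hρ : ρ 0 * ρ 1 = 1)
    (w : List (ℕ × Mono4)) (v : MVec) :
    evMVec D ρ (T.applyWordM w v) = (D.wordMat F (evWordM ρ w)).mulVec (evMVec D ρ v) := by
  induction w with
  | nil => simp [applyWordM, evWordM, ChevalleyDatum.wordMat]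
  | cons a w ih =>
    have h1 : T.applyWordM (a :: w) v = normQ (T.applyXM a.1 a.2 (T.applyWordM w v)) := rfl
    have h2 : D.wordMat F (evWordM ρ (a :: w)) = D.x F a.1 (evM ρ a.2) * D.wordMat F (evWordM ρ w) := by
      simp [ChevalleyDatum.wordMat, evWordM]
    rw [h1, evMVec_normQ D ρ hρ, evMVec_applyXM T D h, ih, h2, Matrix.mulVec_mulVec]

theorem evMVec_unit (D : ChevalleyDatum) (ρ : ℕ → F) (j : D.Idx) :
    evMVec D ρ [(code D j, ((1, 0, 0, 0, 0) : Mono4))] = Pi.single j 1 := by
  funext i
  rw [evMVec_single_apply]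
  by_cases hji : j = i
  · subst hji; simp [evM]
  · have : code D j ≠ code D i := fun h' => hji (code_injective D h')
    simp [this, Ne.symm hji]

/-- If the skeleton says so, `x_r(t)` fixes the basis vector `j`. -/
theorem x_mulVec_single_of_trivAt (D : ChevalleyDatum) (h : T.agree D = true) (r : ℕ) (j : D.Idx)
    (ht : T.trivAt r (code D j) = true) (t : F) :
    (D.x F r t).mulVec (Pi.single j 1) = Pi.single j 1 := by
  have hn := T.nroots_eq' D h
  unfold trivAt at ht
  by_cases hr : r < D.nroots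
  · have hr' : ¬ T.nroots ≤ r := by omega
    simp only [hr', decide_false, Bool.false_or] at ht
    let ρ : ℕ → F := fun k => if k = 2 then t else 1
    have hρ : evM ρ ((1, 0, 0, 1, 0) : Mono4) = t := by simp [evM, ρ]
    have h1 := T.evMVec_applyXM D h ρ r (1, 0, 0, 1, 0) [(code D j, ((1, 0, 0, 0, 0) : Mono4))]
    rw [evMVec_unit, hρ] at h1
    rw [← h1]
    unfold applyXM
    rw [if_pos (hn ▸ hr)]
    simp only [List.flatMap_cons, List.flatMap_nil, List.append_nil]
    cases hsk : T.skelF2 r (code D j) with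
    | nil => simp [hsk] at ht
    | cons x l =>
      cases l with
      | cons y l' => simp [hsk] at ht
      | nil =>
        simp only [hsk, Bool.and_eq_true, decide_eq_true_eq] at ht
        obtain ⟨⟨hx1, hx2⟩, hx3⟩ := ht
        simp only [List.map_cons, List.map_nil, hx1, hx2, hx3, stepM]
        rw [← evMVec_unit D ρ j]
        funext i
        simp [evMVec_single_apply, evM]
  · unfold ChevalleyDatum.x
    rw [dif_neg hr, Matrix.one_mulVec]

theorem wordMat_mulVec_single_of_trivAt (D : ChevalleyDatum) (h : T.agree D = true) (ρ : ℕ → F)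
    (w : List (ℕ × Mono4)) (j : D.Idx) (ht : (w.all fun a => T.trivAt a.1 (code D j)) = true) :
    (D.wordMat F (evWordM ρ w)).mulVec (Pi.single j 1) = Pi.single j 1 := by
  induction w with
  | nil =>
    have : D.wordMat F (evWordM ρ []) = 1 := by simp [evWordM, ChevalleyDatum.wordMat]
    rw [this, Matrix.one_mulVec]
  | cons a w ih =>
    rw [List.all_cons, Bool.and_eq_true] at ht
    have h2 : D.wordMat F (evWordM ρ (a :: w)) = D.x F a.1 (evM ρ a.2) * D.wordMat F (evWordM ρ w) := by
      simp [ChevalleyDatum.wordMat, evWordM]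
    rw [h2, ← Matrix.mulVec_mulVec, ih ht.2, T.x_mulVec_single_of_trivAt D h a.1 j ht.1]

/-- Soundness of `checkColsM`. -/
theorem wordMat_apply_of_checkColsM (D : ChevalleyDatum) (h : T.agree D = true) (ρ : ℕ → F)
    (hρ : ρ 0 * ρ 1 = 1) (cs : List Code) (w : List (ℕ × Mono4)) (cols : Code → MVec)
    (hc : T.checkColsM cs w cols = true) (i j : D.Idx) (hj : code D j ∈ cs) :
    D.wordMat F (evWordM ρ w) i j = evMVec D ρ (cols (code D j)) i := by
  unfold checkColsM at hc
  rw [List.all_eq_true] at hc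
  have h0 := hc _ hj
  have key : (D.wordMat F (evWordM ρ w)).mulVec (Pi.single j 1) = evMVec D ρ (cols (code D j)) := by
    split_ifs at h0 with htr
    · rw [List.isEmpty_iff] at h0
      have h1 : evMVec D ρ ((code D j, ((1, 0, 0, 0, 0) : Mono4)) :: negM (cols (code D j))) = 0 := by
        rw [← evMVec_normM D ρ hρ, h0]
        rfl
      rw [evMVec_cons, evMVec_negM, evMVec_unit] at h1
      rw [T.wordMat_mulVec_single_of_trivAt D h ρ w j htr]
      exact add_neg_eq_zero.mp h1
    · rw [List.isEmpty_iff] at h0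
      have h1 : evMVec D ρ (T.applyWordM w [(code D j, (1, 0, 0, 0, 0))] ++ negM (cols (code D j))) = 0 := by
        rw [← evMVec_normM D ρ hρ, h0]
        rfl
      rw [evMVec_append, evMVec_negM, evMVec_applyWordM T D h ρ hρ, evMVec_unit] at h1
      exact add_neg_eq_zero.mp h1
  have h2 := congrFun key i
  rw [Matrix.mulVec_single_one] at h2
  exact h2

/-- Soundness of `checkEqM`. -/
theorem wordMat_apply_eq_of_checkEqM (D : ChevalleyDatum) (h : T.agree D = true) (ρ : ℕ → F)
    (hρ : ρ 0 * ρ 1 = 1) (cs : List Code) (w₁ w₂ : List (ℕ × Mono4))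
    (hc : T.checkEqM cs w₁ w₂ = true) (i j : D.Idx) (hj : code D j ∈ cs) :
    D.wordMat F (evWordM ρ w₁) i j = D.wordMat F (evWordM ρ w₂) i j := by
  unfold checkEqM at hc
  rw [List.all_eq_true] at hc
  have h0 := hc _ hj
  have key : (D.wordMat F (evWordM ρ w₁)).mulVec (Pi.single j 1)
      = (D.wordMat F (evWordM ρ w₂)).mulVec (Pi.single j 1) := by
    rw [Bool.or_eq_true] at h0
    rcases h0 with h0 | h0
    · rw [Bool.and_eq_true] at h0
      rw [T.wordMat_mulVec_single_of_trivAt D h ρ w₁ j h0.1, T.wordMat_mulVec_single_of_trivAt D h ρ w₂ j h0.2]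
    · rw [List.isEmpty_iff] at h0
      have h1 : evMVec D ρ (T.applyWordM w₁ [(code D j, (1, 0, 0, 0, 0))]
          ++ negM (T.applyWordM w₂ [(code D j, (1, 0, 0, 0, 0))])) = 0 := by
        rw [← evMVec_normM D ρ hρ, h0]
        rfl
      rw [evMVec_append, evMVec_negM, evMVec_applyWordM T D h ρ hρ, evMVec_applyWordM T D h ρ hρ,
        evMVec_unit] at h1
      exact add_neg_eq_zero.mp h1
  have h2 := congrFun key i
  rw [Matrix.mulVec_single_one, Matrix.mulVec_single_one] at h2
  exact h2

end FastDatum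

end Sound

end Cfsg.Agent.Lib.Helper18
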