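/-
helper18: the explicit monomial form of n_r(t) = x_r(t) x_{-r}(-t⁻¹) x_r(t) on the root vectors, computed by the
monomial engine, and the diagonal form of h_r(t) = n_r(t) n_r(-1) for every root r.
-/
import Cfsg.Agent.Lib.Helper18.Mono
import Cfsg.Agent.Lib.Helper18.HConjFast
import Cfsg.Agent.Lib.Helper18.HDiag

set_option autoImplicit false

namespace Cfsg.Agent.Lib.Helper18

open Cfsg.Lie

/-- `f x`, written so that the kernel evaluates `x` to a canonical numeral before calling `f`. -/
def forceNat {α : Sort*} (x : ℕ) (f : ℕ → α) : α := Nat.casesOn x (f 0) (fun n => f (n + 1))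

theorem forceNat_eq {α : Sort*} (x : ℕ) (f : ℕ → α) : forceNat x f = f x := by
  cases x <;> rfl

/-- A Boolean check on a range of naturals, with each index forced to a numeral. -/
def allRange (a n : ℕ) (p : ℕ → Bool) : Bool := (List.range' a n).all fun r => forceNat r p

theorem of_allRange {p : ℕ → Bool} {a n : ℕ} (h : allRange a n p = true) (r : ℕ) (h1 : a ≤ r)
    (h2 : r < a + n) : p r = true := by
  unfold allRange at h
  rw [List.all_eq_true] at h
  have := h r (by rw [List.mem_range'_1]; exact ⟨h1, h2⟩)
  rwa [forceNat_eq] at this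

namespace FastDatum

variable (T : FastDatum)

/-- The word of `n_r(X0)` (with `X1 = X0⁻¹`). -/
def nWordM (r : ℕ) : List (ℕ × Mono4) :=
  [(r, (1, 1, 0, 0, 0)), (T.neg r, (-1, 0, 1, 0, 0)), (r, (1, 1, 0, 0, 0))]

/-- The word of `h_r(X0)` (with `X1 = X0⁻¹`). -/
def hWordM (r : ℕ) : List (ℕ × Mono4) :=
  T.nWordM r ++ [(r, (-1, 0, 0, 0, 0)), (T.neg r, (1, 0, 0, 0, 0)), (r, (-1, 0, 0, 0, 0))]

/-- The column of `n_r(X0)` at the root vector `e_s`, computed by the engine. -/
def nColR (r s : ℕ) : MVec :=
  if T.trivAt r (Sum.inr s) && T.trivAt (T.neg r) (Sum.inr s) then [(Sum.inr s, (1, 0, 0, 0, 0))]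
  else normM (T.applyWordM (T.nWordM r) [(Sum.inr s, (1, 0, 0, 0, 0))])

/-- The pairing `⟨s, r^∨⟩ = Σ_i c_i(r) A_{p_i,s}`. -/
def pairing (r s : ℕ) : ℤ := ((List.range T.rank).map fun i => T.coroot r i * T.cartan i s).sum

/-- The check on the columns of `n_r` at the root vectors: each is a single term `η t^{-A} e_{s'}`, and applying
`n_r` twice gives back `e_s` with the scalar predicted for `h_r(t) = n_r(t) n_r(-1)`. -/
def nCheckRoots (r : ℕ) : Bool :=
  (List.range T.nroots).all fun s0 => forceNat s0 fun s =>
    match T.nColR r s with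
    | [(Sum.inr s', m)] =>
      decide (s' < T.nroots) && decide (m.2.2.2.1 = 0) && decide (m.2.2.2.2 = 0) &&
      forceNat s' fun s'' =>
        match T.nColR r s'' with
        | [(Sum.inr s3, m')] =>
          decide (s3 = s) && decide (m'.2.2.2.1 = 0) && decide (m'.2.2.2.2 = 0) &&
          decide (m.1 * m'.1 * (if (m.2.1 + m.2.2.1) % 2 = 0 then 1 else -1) = 1) &&
          decide ((m'.2.1 : ℤ) - (m'.2.2.1 : ℤ) = T.pairing r s)
        | _ => false
    | _ => false

/-- The check that `h_r(X0)` fixes the coroot vectors `h_{p_i}`. -/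
def hCheckCoroots (r : ℕ) : Bool :=
  T.checkColsM ((List.range T.rank).map Sum.inl) (T.hWordM r) fun c => [(c, (1, 0, 0, 0, 0))]

/-- The complete check for the root `r`. -/
def hCheckRoot (r : ℕ) : Bool := T.nCheckRoots r && T.hCheckCoroots r

end FastDatum


section Sound

variable {F : Type*} [Field F]

theorem evM_nn_aux (c : F) (hc : c ≠ 0) (a a' : ℤ) (e0 e1 e0' e1' : ℕ) (z : ℤ)
    (hsign : (a * a' * if (e0 + e1) % 2 = 0 then 1 else -1) = 1)
    (hexp : (e0' : ℤ) - (e1' : ℤ) = z) :
    evM (rhoInv (-1 : F)) ((a, e0, e1, 0, 0) : Mono4) * evM (rhoInv c) ((a', e0', e1', 0, 0) : Mono4)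
      = c ^ z := by
  have e1r : rhoInv (-1 : F) 0 = -1 := by simp [rhoInv]
  have e2r : rhoInv (-1 : F) 1 = -1 := by simp [rhoInv]
  have e3r : rhoInv c 0 = c := by simp [rhoInv]
  have e4r : rhoInv c 1 = c⁻¹ := by simp [rhoInv]
  simp only [evM, e1r, e2r, e3r, e4r, pow_zero, mul_one]
  rw [← hexp, zpow_sub₀ hc, zpow_natCast, zpow_natCast]
  have h2 : ((a : F) * (-1) ^ e0 * (-1) ^ e1) * (a' : F)
      = ((a * a' * (if (e0 + e1) % 2 = 0 then 1 else -1) : ℤ) : F) := by
    rw [mul_assoc (a : F), ← pow_add]
    split_ifs with hpar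
    · have : Even (e0 + e1) := Nat.even_iff.mpr hpar
      rw [this.neg_one_pow]
      push_cast; ring
    · have : Odd (e0 + e1) := Nat.odd_iff.mpr (by omega)
      rw [this.neg_one_pow]
      push_cast; ring
  rw [hsign] at h2
  rw [inv_pow, div_eq_mul_inv]
  calc (a : F) * (-1) ^ e0 * (-1) ^ e1 * ((a' : F) * c ^ e0' * (c ^ e1')⁻¹)
      = ((a : F) * (-1) ^ e0 * (-1) ^ e1 * (a' : F)) * (c ^ e0' * (c ^ e1')⁻¹) := by ring
    _ = c ^ e0' * (c ^ e1')⁻¹ := by rw [h2]; simp

namespace FastDatum

variable (T : FastDatum)

theorem evWordM_nWordM (D : ChevalleyDatum) (h : T.agree D = true) (r : ℕ) (hr : r < D.nroots) (c : F) :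
    evWordM (rhoInv c) (T.nWordM r) = D.nWord r c := by
  have hneg : D.neg r = T.neg r := T.neg_eq D h r hr
  simp only [evWordM, nWordM, ChevalleyDatum.nWord, List.map_cons, List.map_nil, hneg]
  simp [evM, rhoInv]

theorem evWordM_hWordM (D : ChevalleyDatum) (h : T.agree D = true) (r : ℕ) (hr : r < D.nroots) (c : F) :
    evWordM (rhoInv c) (T.hWordM r) = D.hWord r c := by
  have hneg : D.neg r = T.neg r := T.neg_eq D h r hr
  have h1 := T.evWordM_nWordM D h r hr c
  unfold hWordM ChevalleyDatum.hWord
  unfold evWordM at h1 ⊢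
  rw [List.map_append, h1]
  congr 1
  simp only [ChevalleyDatum.nWord, List.map_cons, List.map_nil, hneg]
  simp [evM, rhoInv]

/-- The column of `n_r(c)` at a root vector is the value of the computed symbolic column. -/
theorem nMat_mulVec_single (D : ChevalleyDatum) (h : T.agree D = true) (r : ℕ) (hr : r < D.nroots)
    (c : F) (hc : c ≠ 0) (s : Fin D.nroots) :
    (D.nMat F r c).mulVec (Pi.single (Sum.inr s) 1) = evMVec D (rhoInv c) (T.nColR r s) := by
  unfold ChevalleyDatum.nMat
  rw [← T.evWordM_nWordM D h r hr c]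
  unfold nColR
  split_ifs with ht
  · rw [Bool.and_eq_true] at ht
    have : evMVec D (rhoInv c) [((Sum.inr (s : ℕ) : Code), ((1, 0, 0, 0, 0) : Mono4))]
        = Pi.single (Sum.inr s) 1 := FastDatum.evMVec_unit D (rhoInv c) (Sum.inr s)
    rw [this]
    apply T.wordMat_mulVec_single_of_trivAt D h
    simp only [nWordM, List.all_cons, List.all_nil, Bool.and_true, Bool.and_eq_true]
    exact ⟨ht.1, ht.2, ht.1⟩
  · rw [evMVec_normM D _ (rhoInv_mul c hc), T.evMVec_applyWordM D h _ (rhoInv_mul c hc)]
    congr 1
    exact (FastDatum.evMVec_unit D (rhoInv c) (Sum.inr s)).symm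

theorem hMat_eq_nMat_mul (D : ChevalleyDatum) (r : ℕ) (c : F) :
    D.hMat F r c = D.nMat F r c * D.nMat F r (-1) := by
  unfold ChevalleyDatum.hMat ChevalleyDatum.nMat ChevalleyDatum.hWord ChevalleyDatum.wordMat
  rw [List.map_append, List.prod_append]

theorem evMVec_single_inr (D : ChevalleyDatum) (ρ : ℕ → F) (s : ℕ) (hs : s < D.nroots) (m : Mono4) :
    evMVec D ρ [((Sum.inr s : Code), m)] = evM ρ m • Pi.single (Sum.inr ⟨s, hs⟩) 1 := by
  funext i
  rw [evMVec_single_apply]
  by_cases hi : (Sum.inr ⟨s, hs⟩ : D.Idx) = i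
  · subst hi; simp
  · have : ¬ (Sum.inr s : Code) = code D i := by
      intro h'
      apply hi
      apply code_injective D
      rw [← h']; rfl
    simp [this, Ne.symm hi]

/-- The diagonal form of `h_r(c)` for an arbitrary root `r`. -/
theorem hMat_eq_diagonal_of_hCheckRoot (D : ChevalleyDatum) (h : T.agree D = true) (r : ℕ)
    (hr : r < D.nroots) (hchk : T.hCheckRoot r = true) (c : F) (hc : c ≠ 0) :
    D.hMat F r c
      = Matrix.diagonal (Sum.elim (fun _ => (1 : F)) (fun s : Fin D.nroots => c ^ (T.pairing r s))) := by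
  have hn := T.nroots_eq D h
  unfold hCheckRoot at hchk
  rw [Bool.and_eq_true] at hchk
  obtain ⟨hroots, hcor⟩ := hchk
  -- it suffices to compare columns
  have hcols : ∀ j : D.Idx, (D.hMat F r c).mulVec (Pi.single j 1)
      = (Matrix.diagonal (Sum.elim (fun _ => (1 : F))
          (fun s : Fin D.nroots => c ^ (T.pairing r s)))).mulVec (Pi.single j 1) := by
    intro j
    rw [Matrix.mulVec_single_one, Matrix.mulVec_single_one]
    rcases j with k | s
    · -- coroot columns
      funext i
      have h1 := T.wordMat_apply_of_checkColsM D h (rhoInv c) (rhoInv_mul c hc) _ _ _ hcor i (Sum.inl k)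
        (by simp [code, k.2, T.rank_eq D h])
      rw [T.evWordM_hWordM D h r hr c] at h1
      simp only [Matrix.col_apply, Matrix.diagonal_apply]
      unfold ChevalleyDatum.hMat
      rw [h1, evMVec_single_apply]
      by_cases hik : i = Sum.inl k
      · subst hik; simp [evM]
      · have : ¬ code D (Sum.inl k) = code D i := fun h' => hik (code_injective D h').symm
        rw [if_neg this, if_neg hik]
    · -- root vector columns
      unfold nCheckRoots at hroots
      rw [List.all_eq_true] at hroots
      have h0 := hroots s.1 (List.mem_range.mpr (by rw [hn]; exact s.2))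
      rw [forceNat_eq] at h0
      -- analyse the first column
      cases hcol1 : T.nColR r s.1 with
      | nil => simp [hcol1] at h0
      | cons e l =>
        cases l with
        | cons e' l' => simp [hcol1] at h0
        | nil =>
          obtain ⟨c1, m⟩ := e
          rcases c1 with k1 | s'
          · simp [hcol1] at h0
          · simp only [hcol1, Bool.and_eq_true, decide_eq_true_eq] at h0
            obtain ⟨⟨⟨hs', hm2⟩, hm3⟩, h0'⟩ := h0
            rw [forceNat_eq] at h0'
            have hs'D : s' < D.nroots := by rw [← hn]; exact hs'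
            cases hcol2 : T.nColR r s' with
            | nil => simp [hcol2] at h0'
            | cons e2 l2 =>
              cases l2 with
              | cons e2' l2' => simp [hcol2] at h0'
              | nil =>
                obtain ⟨c2, m'⟩ := e2
                rcases c2 with k2 | s3
                · simp [hcol2] at h0'
                · simp only [hcol2, Bool.and_eq_true, decide_eq_true_eq] at h0'
                  obtain ⟨⟨⟨⟨hs3, hm2'⟩, hm3'⟩, hsign⟩, hexp⟩ := h0'
                  -- now compute
                  rw [FastDatum.hMat_eq_nMat_mul D r c, ← Matrix.mulVec_single_one, ← Matrix.mulVec_mulVec,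
                    T.nMat_mulVec_single D h r hr (-1) (by norm_num) s, hcol1,
                    FastDatum.evMVec_single_inr D _ s' hs'D, Matrix.mulVec_smul,
                    T.nMat_mulVec_single D h r hr c hc ⟨s', hs'D⟩, hcol2, hs3,
                    FastDatum.evMVec_single_inr D _ s.1 s.2, smul_smul]
                  have hval : evM (rhoInv (-1 : F)) m * evM (rhoInv c) m' = c ^ (T.pairing r s) := by
                    obtain ⟨a, e0, e1, e2, e3⟩ := m
                    obtain ⟨a', e0', e1', e2', e3'⟩ := m'
                    simp only at hm2 hm3 hm2' hm3' hsign hexp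
                    subst hm2 hm3 hm2' hm3'
                    exact evM_nn_aux c hc a a' e0 e1 e0' e1' _ hsign hexp
                  rw [hval]
                  funext i
                  simp only [Pi.smul_apply, smul_eq_mul, Matrix.col_apply, Matrix.diagonal_apply]
                  by_cases hi : i = Sum.inr s
                  · subst hi; simp
                  · simp [hi]
  ext i j
  have := congrFun (hcols j) i
  rw [Matrix.mulVec_single_one, Matrix.mulVec_single_one] at this
  exact this

end FastDatum

end Sound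

end Cfsg.Agent.Lib.Helper18
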