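/-
helper18: packing a list of small numbers into one natural number (base 2^b digits) and reading a digit back, and
forcing the evaluation of a list of naturals.
-/
import Cfsg.Agent.Lib.Helper18.NForm

set_option autoImplicit false

namespace Cfsg.Agent.Lib.Helper18

/-- Little-endian packing in base `B`. -/
def packL (B : ℕ) : List ℕ → ℕ
  | [] => 0
  | a :: l => a + B * packL B l

/-- The digit number `s`. -/
def unpackL (B : ℕ) (N s : ℕ) : ℕ := (N / B ^ s) % B

theorem unpackL_packL (B : ℕ) (hB : 0 < B) (l : List ℕ) (hl : ∀ a ∈ l, a < B) (s : ℕ) (hs : s < l.length) :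
    unpackL B (packL B l) s = l[s] := by
  induction l generalizing s with
  | nil => simp at hs
  | cons a l ih =>
    have ha : a < B := hl a List.mem_cons_self
    cases s with
    | zero =>
      simp only [unpackL, packL, pow_zero, Nat.div_one, List.getElem_cons_zero]
      rw [Nat.add_mul_mod_self_left, Nat.mod_eq_of_lt ha]
    | succ s =>
      have hs' : s < l.length := by simpa using hs
      have := ih (fun b hb => hl b (List.mem_cons_of_mem _ hb)) s hs'
      simp only [List.getElem_cons_succ]
      rw [← this]
      unfold unpackL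
      simp only [packL]
      rw [pow_succ, mul_comm (B ^ s) B, ← Nat.div_div_eq_div_mul, Nat.add_mul_div_left _ _ hB,
        Nat.div_eq_of_lt ha, zero_add]

/-- The packed table of a function on `0..n-1`. -/
def packFn (B n : ℕ) (f : ℕ → ℕ) : ℕ := packL B ((List.range n).map f)

theorem unpackL_packFn (B n : ℕ) (hB : 0 < B) (f : ℕ → ℕ) (hf : ∀ s < n, f s < B) (s : ℕ) (hs : s < n) :
    unpackL B (packFn B n f) s = f s := by
  unfold packFn
  rw [unpackL_packL B hB _ _ s (by simpa using hs)]
  · simp
  · intro a ha
    rw [List.mem_map] at ha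
    obtain ⟨k, hk, rfl⟩ := ha
    exact hf k (List.mem_range.mp hk)

end Cfsg.Agent.Lib.Helper18
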