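/-
helper18: the relation n_p(1) x_s(t) = x_{s'}(η t) n_p(1), checked column by column with the monomial engine, the
action of n_p(1) on the root vectors being read from a packed table computed once.
-/
import Cfsg.Agent.Lib.Helper18.Pack

set_option autoImplicit false

namespace Cfsg.Agent.Lib.Helper18

open Cfsg.Lie

/-- Encoding of a column `± e_{s'}`. -/
def encCol (v : MVec) : ℕ :=
  match v with
  | [(Sum.inr s', (a, 0, 0, 0, 0))] => if a = 1 then 2 * s' + 2 else if a = -1 then 2 * s' + 3 else 0
  | _ => 0

/-- Decoding. -/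
def decCol (e : ℕ) : MVec :=
  if e < 2 then [] else [(Sum.inr ((e - 2) / 2), ((if e % 2 = 0 then 1 else -1, 0, 0, 0, 0) : Mono4))]

theorem decCol_encCol (v : MVec) (h : 2 ≤ encCol v) : decCol (encCol v) = v := by
  unfold encCol at h ⊢
  split at h
  · rename_i s' a
    split_ifs at h with h1 h2
    · subst h1
      rw [if_pos rfl]
      unfold decCol
      rw [if_neg (by omega)]
      have e1 : (2 * s' + 2 - 2) / 2 = s' := by omega
      have e2 : (2 * s' + 2) % 2 = 0 := by omega
      rw [e1, e2]
      rfl
    · subst h2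
      rw [if_neg (by norm_num), if_pos rfl]
      unfold decCol
      rw [if_neg (by omega)]
      have e1 : (2 * s' + 3 - 2) / 2 = s' := by omega
      have e2 : ¬ (2 * s' + 3) % 2 = 0 := by omega
      rw [e1, if_neg e2]
    · omega
  · omega

/-- The linear map given on the basis vectors by `col`, applied to a symbolic vector. -/
def applyTab (col : Code → MVec) (v : MVec) : MVec :=
  v.flatMap fun e => (col e.1).map fun x => (x.1, mulM x.2 e.2)

/-- The image root, read from the packed table. -/
def tabRoot (tab s : ℕ) : ℕ := (unpackL 1024 tab s - 2) / 2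

/-- The sign `η` with `n_p(1) e_s = η e_{s'}`, read from the packed table. -/
def tabSign (tab s : ℕ) : ℤ := if unpackL 1024 tab s % 2 = 0 then 1 else -1

theorem tabSign_cases (tab s : ℕ) : tabSign tab s = 1 ∨ tabSign tab s = -1 := by
  unfold tabSign
  split_ifs
  · left; rfl
  · right; rfl

namespace FastDatum

variable (T : FastDatum)

/-- The word of `n_p(1)`, with constant parameters. -/
def nWord1 (p : ℕ) : List (ℕ × Mono4) :=
  [(p, (1, 0, 0, 0, 0)), (T.neg p, (-1, 0, 0, 0, 0)), (p, (1, 0, 0, 0, 0))]

/-- The column of `n_p(1)` at the coordinate `c`, computed by the engine. -/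
def nCol1 (p : ℕ) (c : Code) : MVec := normM (T.applyWordM (T.nWord1 p) [(c, (1, 0, 0, 0, 0))])

/-- The packed table of the action of `n_p(1)` on the root vectors. -/
def rootTab (p : ℕ) : ℕ :=
  packFn 1024 T.nroots fun s => let e := encCol (T.nCol1 p (Sum.inr s)); if e < 1024 then e else 0

/-- All entries of the table are valid. -/
def tabValid (tab : ℕ) : Bool := (List.range T.nroots).all fun s => decide (2 ≤ unpackL 1024 tab s)

/-- The columns of `n_p(1)`, the root part read from the table. -/
def colOf (p tab : ℕ) (c : Code) : MVec :=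
  match c with
  | Sum.inl i => if i < T.rank then forceNat i fun i' => T.nCol1 p (Sum.inl i') else []
  | Sum.inr s => if s < T.nroots then decCol (unpackL 1024 tab s) else []

/-- `x_{s'}` fixes the one-term column `v`. -/
def trivCol (s' : ℕ) (v : MVec) : Bool :=
  match v with
  | [e] => T.trivAt s' e.1
  | _ => false

/-- The check of the relation on one column. -/
def nxCol (p tab s s' : ℕ) (η : ℤ) (j : Code) : Bool :=
  (T.trivAt s j && T.trivCol s' (T.colOf p tab j)) ||
  (normM (applyTab (T.colOf p tab) (normQ (T.applyXM s (1, 0, 0, 1, 0) [(j, (1, 0, 0, 0, 0))]))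
    ++ negM (T.applyXM s' (η, 0, 0, 1, 0) (T.colOf p tab j)))).isEmpty

/-- The check of the relation on all columns. -/
def nxCheck (p tab s s' : ℕ) (η : ℤ) : Bool :=
  T.allCodesF.all fun j => T.nxCol p tab s s' η j

/-- The complete check for `n_p(1)` and the roots `s` in `[a, a + n)`. -/
def nxCheckR (p a n : ℕ) : Bool :=
  forceNat (T.rootTab p) fun tab =>
    T.tabValid tab && (List.range' a n).all fun s0 => forceNat s0 fun s =>
      forceNat (tabRoot tab s) fun s' =>
        decide (s' < T.nroots) && T.nxCheck p tab s s' (tabSign tab s)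

/-- The complete check for `n_p(1)`. -/
def nxCheckP (p : ℕ) : Bool := T.nxCheckR p 0 T.nroots

end FastDatum

section Sound

variable {F : Type*} [Field F]

/-- The valuation `X2 ↦ t`, all other variables `1`. -/
def rhoT (t : F) : ℕ → F := fun k => if k = 2 then t else 1

theorem rhoT_mul (t : F) : rhoT t 0 * rhoT t 1 = 1 := by simp [rhoT]

theorem evM_rhoT_X2 (t : F) (η : ℤ) : evM (rhoT t) ((η, 0, 0, 1, 0) : Mono4) = (η : F) * t := by
  simp [evM, rhoT]

theorem evM_rhoT_const (t : F) (a : ℤ) : evM (rhoT t) ((a, 0, 0, 0, 0) : Mono4) = (a : F) := by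
  simp [evM]

/-- A code is valid for the datum if it is the code of a coordinate. -/
theorem evMVec_single_of_code (D : ChevalleyDatum) (ρ : ℕ → F) (k : D.Idx) (m : Mono4) :
    evMVec D ρ [(code D k, m)] = evM ρ m • Pi.single k 1 := by
  funext i
  rw [evMVec_single_apply]
  by_cases hki : k = i
  · subst hki; simp
  · have : code D k ≠ code D i := fun h' => hki (code_injective D h')
    simp [this, Ne.symm hki]

theorem evMVec_single_of_not_code (D : ChevalleyDatum) (ρ : ℕ → F) (c : Code) (m : Mono4)
    (hc : ∀ k : D.Idx, c ≠ code D k) : evMVec D ρ [(c, m)] = 0 := by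
  funext i
  rw [evMVec_single_apply, if_neg (hc i)]
  rfl

theorem evMVec_map_mulM (D : ChevalleyDatum) (ρ : ℕ → F) (v : MVec) (m : Mono4) :
    evMVec D ρ (v.map fun x => (x.1, mulM x.2 m)) = evM ρ m • evMVec D ρ v := by
  induction v with
  | nil => simp
  | cons x v ih =>
    rw [List.map_cons, evMVec_cons, ih, evMVec_cons D ρ x v, smul_add]
    congr 1
    funext i
    rw [evMVec_single_apply, Pi.smul_apply, evMVec_single_apply]
    simp only [smul_eq_mul]
    split_ifs
    · rw [evM_mulM, mul_comm]
    · rw [mul_zero]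

/-- Soundness of `applyTab`: if `col` gives the columns of `M` (and nothing on invalid codes), then `applyTab col`
computes the action of `M`. -/
theorem evMVec_applyTab (D : ChevalleyDatum) (ρ : ℕ → F) (M : Matrix D.Idx D.Idx F) (col : Code → MVec)
    (h1 : ∀ k : D.Idx, evMVec D ρ (col (code D k)) = M.mulVec (Pi.single k 1))
    (h2 : ∀ c : Code, (∀ k : D.Idx, c ≠ code D k) → col c = []) (v : MVec) :
    evMVec D ρ (applyTab col v) = M.mulVec (evMVec D ρ v) := by
  unfold applyTab
  induction v with
  | nil => simp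
  | cons e v ih =>
    rw [List.flatMap_cons, evMVec_append, ih, evMVec_cons D ρ e v, Matrix.mulVec_add]
    congr 1
    rw [evMVec_map_mulM]
    by_cases hc : ∃ k : D.Idx, e.1 = code D k
    · obtain ⟨k, hk⟩ := hc
      have : e = (code D k, e.2) := by rw [← hk]
      rw [hk, h1 k, this, evMVec_single_of_code, Matrix.mulVec_smul]
    · simp only [not_exists] at hc
      have : e = (e.1, e.2) := rfl
      rw [h2 e.1 hc, this, evMVec_single_of_not_code D ρ e.1 e.2 hc]
      simp

namespace FastDatum

variable (T : FastDatum)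

theorem evWordM_nWord1 (D : ChevalleyDatum) (h : T.agree D = true) (p : ℕ) (hp : p < D.nroots) (ρ : ℕ → F) :
    evWordM ρ (T.nWord1 p) = D.nWord p (1 : F) := by
  have hneg : D.neg p = T.neg p := T.neg_eq D h p hp
  simp only [evWordM, nWord1, ChevalleyDatum.nWord, List.map_cons, List.map_nil, hneg]
  simp [evM]

/-- The engine column of `n_p(1)`. -/
theorem evMVec_nCol1 (D : ChevalleyDatum) (h : T.agree D = true) (p : ℕ) (hp : p < D.nroots) (ρ : ℕ → F)
    (hρ : ρ 0 * ρ 1 = 1) (k : D.Idx) :
    evMVec D ρ (T.nCol1 p (code D k)) = (D.nMat F p 1).mulVec (Pi.single k 1) := by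
  unfold nCol1 ChevalleyDatum.nMat
  rw [evMVec_normM D ρ hρ, T.evMVec_applyWordM D h ρ hρ, T.evWordM_nWord1 D h p hp ρ,
    FastDatum.evMVec_unit]

/-- The table column agrees with the engine column. -/
theorem colOf_eq (p : ℕ) (hv : T.tabValid (T.rootTab p) = true) (c : Code) :
    T.colOf p (T.rootTab p) c
      = match c with
        | Sum.inl i => if i < T.rank then T.nCol1 p (Sum.inl i) else []
        | Sum.inr s => if s < T.nroots then T.nCol1 p (Sum.inr s) else [] := by
  rcases c with i | s
  · show (if i < T.rank then forceNat i fun i' => T.nCol1 p (Sum.inl i') else []) = _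
    rw [forceNat_eq]
  · show (if s < T.nroots then decCol (unpackL 1024 (T.rootTab p) s) else [])
      = if s < T.nroots then T.nCol1 p (Sum.inr s) else []
    split_ifs with hs
    · unfold tabValid at hv
      rw [List.all_eq_true] at hv
      have h2 := hv s (List.mem_range.mpr hs)
      rw [decide_eq_true_eq] at h2
      have h3 : unpackL 1024 (T.rootTab p) s
          = (let e := encCol (T.nCol1 p (Sum.inr s)); if e < 1024 then e else 0) := by
        unfold rootTab
        rw [unpackL_packFn 1024 T.nroots (by norm_num) _ _ s hs]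
        intro s' _
        simp only
        split_ifs <;> omega
      rw [h3] at h2 ⊢
      simp only at h2 ⊢
      split_ifs at h2 ⊢ with h4
      · exact decCol_encCol _ h2
      · omega
    · rfl

theorem code_cases (D : ChevalleyDatum) (h : T.agree D = true) (c : Code) :
    (∃ k : D.Idx, c = code D k) ↔
      (match c with | Sum.inl i => i < T.rank | Sum.inr s => s < T.nroots) := by
  have hn := T.nroots_eq D h
  have hl := T.rank_eq D h
  rcases c with i | s
  · simp only
    constructor
    · rintro ⟨k, hk⟩
      rcases k with k | k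
      · simp only [code] at hk
        have := k.2
        have : i = k.1 := by simpa using hk
        omega
      · simp [code] at hk
    · intro hi
      exact ⟨Sum.inl ⟨i, by omega⟩, rfl⟩
  · simp only
    constructor
    · rintro ⟨k, hk⟩
      rcases k with k | k
      · simp [code] at hk
      · simp only [code] at hk
        have := k.2
        have : s = k.1 := by simpa using hk
        omega
    · intro hs
      exact ⟨Sum.inr ⟨s, by omega⟩, rfl⟩

/-- The table columns are the columns of `n_p(1)`. -/
theorem evMVec_colOf (D : ChevalleyDatum) (h : T.agree D = true) (p : ℕ) (hp : p < D.nroots)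
    (hv : T.tabValid (T.rootTab p) = true) (ρ : ℕ → F) (hρ : ρ 0 * ρ 1 = 1) (k : D.Idx) :
    evMVec D ρ (T.colOf p (T.rootTab p) (code D k)) = (D.nMat F p 1).mulVec (Pi.single k 1) := by
  rw [T.colOf_eq p hv, ← T.evMVec_nCol1 D h p hp ρ hρ k]
  have hk := (T.code_cases D h (code D k)).mp ⟨k, rfl⟩
  rcases hc : code D k with i | s
  · rw [hc] at hk
    simp only at hk ⊢
    rw [if_pos hk]
  · rw [hc] at hk
    simp only at hk ⊢
    rw [if_pos hk]

theorem colOf_of_not_code (D : ChevalleyDatum) (h : T.agree D = true) (p tab : ℕ) (c : Code)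
    (hc : ∀ k : D.Idx, c ≠ code D k) : T.colOf p tab c = [] := by
  have h1 := (T.code_cases D h c).not.mp (by simpa using hc)
  rcases c with i | s
  · simp only at h1
    show (if i < T.rank then _ else _) = _
    rw [if_neg h1]
  · simp only at h1
    show (if s < T.nroots then _ else _) = _
    rw [if_neg h1]

/-- Soundness of the column check. -/
theorem nx_col_of_nxCol (D : ChevalleyDatum) (h : T.agree D = true) (p : ℕ) (hp : p < D.nroots)
    (hv : T.tabValid (T.rootTab p) = true) (s s' : ℕ) (η : ℤ) (j : D.Idx)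
    (hchk : T.nxCol p (T.rootTab p) s s' η (code D j) = true) (t : F) :
    (D.nMat F p 1 * D.x F s t).mulVec (Pi.single j 1)
      = (D.x F s' ((η : F) * t) * D.nMat F p 1).mulVec (Pi.single j 1) := by
  have hρ := rhoT_mul t
  rw [← Matrix.mulVec_mulVec, ← Matrix.mulVec_mulVec]
  have hcolj := T.evMVec_colOf D h p hp hv (rhoT t) hρ j
  unfold nxCol at hchk
  rw [Bool.or_eq_true] at hchk
  rcases hchk with hchk | hchk
  · -- trivial column
    rw [Bool.and_eq_true] at hchk
    obtain ⟨ht1, ht2⟩ := hchk
    rw [T.x_mulVec_single_of_trivAt D h s j ht1 t, ← hcolj]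
    unfold trivCol at ht2
    split at ht2
    · rename_i e heq
      rw [heq]
      by_cases hc : ∃ k : D.Idx, e.1 = code D k
      · obtain ⟨k, hk⟩ := hc
        have he : e = (code D k, e.2) := by rw [← hk]
        rw [he, evMVec_single_of_code, Matrix.mulVec_smul]
        rw [hk] at ht2
        rw [T.x_mulVec_single_of_trivAt D h s' k ht2]
      · simp only [not_exists] at hc
        have he : e = (e.1, e.2) := rfl
        rw [he, evMVec_single_of_not_code D _ e.1 e.2 hc]
        simp
    · exact absurd ht2 (by simp)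
  · rw [List.isEmpty_iff] at hchk
    have h1 : evMVec D (rhoT t) (applyTab (T.colOf p (T.rootTab p))
          (normQ (T.applyXM s (1, 0, 0, 1, 0) [(code D j, (1, 0, 0, 0, 0))]))
        ++ negM (T.applyXM s' (η, 0, 0, 1, 0) (T.colOf p (T.rootTab p) (code D j)))) = 0 := by
      rw [← evMVec_normM D _ hρ, hchk]
      rfl
    rw [evMVec_append, evMVec_negM,
      evMVec_applyTab D (rhoT t) (D.nMat F p 1) _ (fun k => T.evMVec_colOf D h p hp hv (rhoT t) hρ k)
        (fun c hc => T.colOf_of_not_code D h p _ c hc),
      evMVec_normQ D _ hρ, T.evMVec_applyXM D h, T.evMVec_applyXM D h, FastDatum.evMVec_unit,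
      hcolj, evM_rhoT_X2, evM_rhoT_X2] at h1
    simp only [Int.cast_one, one_mul] at h1
    exact add_neg_eq_zero.mp h1

/-- Soundness of the complete check for `n_p(1)`. -/
theorem nx_of_nxCheckR (D : ChevalleyDatum) (h : T.agree D = true) (p : ℕ) (hp : p < D.nroots) (a n : ℕ)
    (hchk : T.nxCheckR p a n = true) (s : ℕ) (hs : s < D.nroots) (hs1 : a ≤ s) (hs2 : s < a + n) :
    tabRoot (T.rootTab p) s < D.nroots ∧ ∀ t : F,
      D.nMat F p 1 * D.x F s t
        = D.x F (tabRoot (T.rootTab p) s) (((tabSign (T.rootTab p) s : ℤ) : F) * t) * D.nMat F p 1 := by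
  have hn := T.nroots_eq D h
  unfold nxCheckR at hchk
  rw [forceNat_eq, Bool.and_eq_true, List.all_eq_true] at hchk
  obtain ⟨hv, hall⟩ := hchk
  have h1 := hall s (by rw [List.mem_range'_1]; exact ⟨hs1, hs2⟩)
  rw [forceNat_eq, forceNat_eq, Bool.and_eq_true, decide_eq_true_eq] at h1
  obtain ⟨hs', h2⟩ := h1
  refine ⟨by omega, ?_⟩
  · intro t
    unfold nxCheck at h2
    rw [List.all_eq_true] at h2
    have hcols : ∀ j : D.Idx, (D.nMat F p 1 * D.x F s t).mulVec (Pi.single j 1)
        = (D.x F (tabRoot (T.rootTab p) s)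
            (((tabSign (T.rootTab p) s : ℤ) : F) * t)
            * D.nMat F p 1).mulVec (Pi.single j 1) := by
      intro j
      apply T.nx_col_of_nxCol D h p hp hv
      apply h2
      rw [T.allCodesF_eq D h]
      exact mem_allCodes D j
    ext i j
    have := congrFun (hcols j) i
    rw [Matrix.mulVec_single_one, Matrix.mulVec_single_one] at this
    exact this

theorem nx_of_nxCheckP (D : ChevalleyDatum) (h : T.agree D = true) (p : ℕ) (hp : p < D.nroots)
    (hchk : T.nxCheckP p = true) (s : ℕ) (hs : s < D.nroots) :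
    tabRoot (T.rootTab p) s < D.nroots ∧ ∀ t : F,
      D.nMat F p 1 * D.x F s t
        = D.x F (tabRoot (T.rootTab p) s) (((tabSign (T.rootTab p) s : ℤ) : F) * t) * D.nMat F p 1 := by
  have hn := T.nroots_eq D h
  exact T.nx_of_nxCheckR D h p hp 0 T.nroots hchk s hs (Nat.zero_le _) (by omega)

end FastDatum

/-- The relation `n_p(1) x_s(t) = x_{s'}(η t) n_p(1)` for the pair `(p, s)`, with `s'` read from the packed table. -/
def NXRel (F : Type*) [Field F] (T : FastDatum) (D : ChevalleyDatum) (p s : ℕ) : Prop :=
  tabRoot (T.rootTab p) s < D.nroots ∧ ∀ t : F,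
    D.nMat F p 1 * D.x F s t
      = D.x F (tabRoot (T.rootTab p) s) (((tabSign (T.rootTab p) s : ℤ) : F) * t) * D.nMat F p 1

theorem nxRel_of_nxCheckR (T : FastDatum) (D : ChevalleyDatum) (h : T.agree D = true) (p : ℕ)
    (hp : p < D.nroots) (a n : ℕ) (hchk : T.nxCheckR p a n = true) (s : ℕ) (hs : s < D.nroots)
    (hs1 : a ≤ s) (hs2 : s < a + n) : NXRel F T D p s :=
  T.nx_of_nxCheckR D h p hp a n hchk s hs hs1 hs2

/-- The check that `reflectRoot` agrees with the packed table of `n_{p_i}(1)`. -/
def reflOK (D : ChevalleyDatum) (T : FastDatum) (i : ℕ) : Bool :=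
  forceNat (T.rootTab (D.simple i)) fun tab =>
    (List.range D.nroots).all fun s => decide (D.reflectRoot i s = tabRoot tab s)

theorem reflectRoot_eq_of_reflOK (D : ChevalleyDatum) (T : FastDatum) (i : ℕ) (h : reflOK D T i = true)
    (s : ℕ) (hs : s < D.nroots) : D.reflectRoot i s = tabRoot (T.rootTab (D.simple i)) s := by
  unfold reflOK at h
  rw [forceNat_eq, List.all_eq_true] at h
  have := h s (List.mem_range.mpr hs)
  rwa [decide_eq_true_eq] at this

end Sound

end Cfsg.Agent.Lib.Helper18
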