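/-
helper18: Chevalley's commutator formula by transport along the Weyl group. The formula for a pair of roots `(r, s)` is
carried to the pair `(w r, w s)` by conjugation with `n_p(1)` for a fundamental root `p` (the table identity needed
for the constants is a Boolean check on the packed tables); base pairs are checked with the monomial engine; a
certificate (parent reflection and depth for every pair) organises the induction.
-/
import Cfsg.Agent.Lib.Helper18.NX

set_option autoImplicit false

namespace Cfsg.Agent.Lib.Helper18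

open Cfsg.Lie

/-- The commutator formula for the pair of roots `(r, s)` over the field `F`. -/
def CommOK (F : Type*) [Field F] (D : ChevalleyDatum) (r s : ℕ) : Prop :=
  ∀ t u : F, D.x F s u * D.x F r t = D.x F r t * D.x F s u * D.wordMat F (D.commWord F r s t u)

/-- The entry of the certificate at position `P` (12 bits per entry). -/
def certAt (cert P : ℕ) : ℕ := (cert >>> (12 * P)) % 4096

namespace FastDatum

variable (T : FastDatum)

/-- The index of the root `i r + s`, from the packed tables. -/
def chainRootF (r s i : ℕ) : Option ℕ := ((T.chainL2 r s)[i - 1]?).map Prod.fst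

/-- The integer `M_{r,s,i}`, from the packed tables. -/
def chainMF (r s i : ℕ) : ℤ := (((T.chainL2 r s)[i - 1]?).map Prod.snd).getD 0

/-- The terms of the commutator formula, from the packed tables. -/
def commTermsF (r s : ℕ) : List (ℕ × ℤ × ℕ × ℕ) :=
  let rs := T.chainRootF r s 1
  let cands : List (Option ℕ × ℤ × ℕ × ℕ) :=
    [ (T.chainRootF r s 1, T.chainMF r s 1, 1, 1),
      (T.chainRootF r s 2, T.chainMF r s 2, 2, 1),
      (T.chainRootF s r 2, T.chainMF s r 2, 1, 2),
      (T.chainRootF r s 3, T.chainMF r s 3, 3, 1),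
      (T.chainRootF s r 3, - T.chainMF s r 3, 1, 3),
      ((T.chainRootF r s 3).bind fun k => T.chainRootF k s 1, (rs.map fun k => T.chainMF k r 2 / 3).getD 0, 3, 2),
      ((T.chainRootF s r 3).bind fun k => T.chainRootF k r 1, (rs.map fun k => -2 * T.chainMF k s 2 / 3).getD 0, 2, 3) ]
  cands.filterMap fun c => c.1.map fun k => (k, c.2)

theorem chainEntry_eq (D : ChevalleyDatum) (h : T.agree D = true) (r s : ℕ) (hr : r < D.nroots)
    (hs : s < D.nroots) : D.chainEntry r s = T.chainL2 r s := by
  have hn := T.nroots_eq D h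
  rw [T.chainL2_eq r s (hn ▸ hs)]
  unfold ChevalleyDatum.chainEntry
  have key := T.chain_filter_eq D h r hr s hs
  rw [← List.head?_filter]
  generalize ((D.chain.getD r #[]).toList.filter fun e => decide (e.1 = s)) = L at key ⊢
  unfold optEntry at key
  cases hl : T.chainL r s with
  | nil =>
    rw [hl] at key
    simp only [List.map_eq_nil_iff] at key
    subst key
    rfl
  | cons a l =>
    rw [hl] at key
    cases L with
    | nil => simp at key
    | cons e L' =>
      simp only [List.map_cons, List.cons.injEq, Prod.mk.injEq, List.map_eq_nil_iff] at key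
      simp only [List.head?_cons]
      exact key.1.2

theorem chainRootF_eq (D : ChevalleyDatum) (h : T.agree D = true) (r s i : ℕ) (hr : r < D.nroots)
    (hs : s < D.nroots) : T.chainRootF r s i = D.chainRoot r s i := by
  unfold chainRootF ChevalleyDatum.chainRoot
  rw [T.chainEntry_eq D h r s hr hs]

theorem chainMF_eq (D : ChevalleyDatum) (h : T.agree D = true) (r s i : ℕ) (hr : r < D.nroots)
    (hs : s < D.nroots) : T.chainMF r s i = D.chainM r s i := by
  unfold chainMF ChevalleyDatum.chainM
  rw [T.chainEntry_eq D h r s hr hs]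

theorem chainRootF_lt (hin : T.chainInRange = true) (r s i k : ℕ) (hr : r < T.nroots) (hs : s < T.nroots)
    (hk : T.chainRootF r s i = some k) : k < T.nroots := by
  unfold chainRootF at hk
  rw [Option.map_eq_some_iff] at hk
  obtain ⟨q, hq, rfl⟩ := hk
  have hq' : q ∈ T.chainL2 r s := List.mem_of_getElem? hq
  rw [T.chainL2_eq r s hs] at hq'
  exact T.chain_lt_of_chainInRange hin r s hr hs q hq'

theorem commTermsF_eq (D : ChevalleyDatum) (h : T.agree D = true) (hin : T.chainInRange = true) (r s : ℕ)
    (hr : r < D.nroots) (hs : s < D.nroots) : T.commTermsF r s = D.commTerms r s := by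
  have hn := T.nroots_eq D h
  have hr' : r < T.nroots := hn ▸ hr
  have hs' : s < T.nroots := hn ▸ hs
  unfold commTermsF ChevalleyDatum.commTerms
  have n1 : ((D.chainRoot r s 3).bind fun k => T.chainRootF k s 1)
      = ((D.chainRoot r s 3).bind fun k => D.chainRoot k s 1) := by
    rw [← T.chainRootF_eq D h r s 3 hr hs]
    cases hk : T.chainRootF r s 3 with
    | none => rfl
    | some k =>
      simp only [Option.bind_some]
      exact T.chainRootF_eq D h k s 1 (hn ▸ T.chainRootF_lt hin r s 3 k hr' hs' hk) hs
  have n2 : ((D.chainRoot s r 3).bind fun k => T.chainRootF k r 1)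
      = ((D.chainRoot s r 3).bind fun k => D.chainRoot k r 1) := by
    rw [← T.chainRootF_eq D h s r 3 hs hr]
    cases hk : T.chainRootF s r 3 with
    | none => rfl
    | some k =>
      simp only [Option.bind_some]
      exact T.chainRootF_eq D h k r 1 (hn ▸ T.chainRootF_lt hin s r 3 k hs' hr' hk) hr
  have n3 : ((D.chainRoot r s 1).map fun k => T.chainMF k r 2 / 3)
      = ((D.chainRoot r s 1).map fun k => D.chainM k r 2 / 3) := by
    rw [← T.chainRootF_eq D h r s 1 hr hs]
    cases hk : T.chainRootF r s 1 with
    | none => rfl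
    | some k =>
      simp only [Option.map_some]
      rw [T.chainMF_eq D h k r 2 (hn ▸ T.chainRootF_lt hin r s 1 k hr' hs' hk) hr]
  have n4 : ((D.chainRoot r s 1).map fun k => -2 * T.chainMF k s 2 / 3)
      = ((D.chainRoot r s 1).map fun k => -2 * D.chainM k s 2 / 3) := by
    rw [← T.chainRootF_eq D h r s 1 hr hs]
    cases hk : T.chainRootF r s 1 with
    | none => rfl
    | some k =>
      simp only [Option.map_some]
      rw [T.chainMF_eq D h k s 2 (hn ▸ T.chainRootF_lt hin r s 1 k hr' hs' hk) hs]
  simp only [T.chainRootF_eq D h r s _ hr hs, T.chainRootF_eq D h s r _ hs hr,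
    T.chainMF_eq D h r s _ hr hs, T.chainMF_eq D h s r _ hs hr]
  rw [n1, n2, n3, n4]

/-- The raw chain entry. -/
def chainX (r s : ℕ) : ℕ := (T.chainRow r >>> (s * 33)) % 8589934592

theorem chainL2_eq_decEntry (r s : ℕ) : T.chainL2 r s = decEntry (T.chainX r s) := rfl

theorem decEntry_of_lt (x : ℕ) (h : x < 2048) : decEntry x = if x = 0 then [] else [decTerm x] := by
  unfold decEntry
  split_ifs <;> rfl

/-- A fast path for the terms of the commutator formula when both chains have length at most one. -/
def commTermsFast (r s : ℕ) : List (ℕ × ℤ × ℕ × ℕ) :=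
  forceNat (T.chainX r s) fun a => forceNat (T.chainX s r) fun b =>
    if a < 2048 ∧ b < 2048 then (if a = 0 then [] else [(a / 8, Int.ofNat (a % 8) - 4, 1, 1)])
    else T.commTermsF r s

theorem commTermsFast_eq (r s : ℕ) : T.commTermsFast r s = T.commTermsF r s := by
  unfold commTermsFast
  rw [forceNat_eq, forceNat_eq]
  split_ifs with h h0
  · have h1 : T.chainL2 r s = [] := by rw [chainL2_eq_decEntry, decEntry_of_lt _ h.1, if_pos h0]
    have h2 : T.chainL2 s r = if T.chainX s r = 0 then [] else [decTerm (T.chainX s r)] := by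
      rw [chainL2_eq_decEntry, decEntry_of_lt _ h.2]
    unfold commTermsF chainRootF chainMF
    rw [h1, h2]
    split_ifs <;> simp
  · have h1 : T.chainL2 r s = [decTerm (T.chainX r s)] := by
      rw [chainL2_eq_decEntry, decEntry_of_lt _ h.1, if_neg h0]
    have h2 : T.chainL2 s r = if T.chainX s r = 0 then [] else [decTerm (T.chainX s r)] := by
      rw [chainL2_eq_decEntry, decEntry_of_lt _ h.2]
    unfold commTermsF chainRootF chainMF
    rw [h1, h2]
    split_ifs <;> simp [decTerm]
  · rfl

/-- The transported list of terms. -/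
def transTerms (tab r s : ℕ) (L : List (ℕ × ℤ × ℕ × ℕ)) : List (ℕ × ℤ × ℕ × ℕ) :=
  L.map fun c => (tabRoot tab c.1,
    tabSign tab c.1 * tabSign tab r ^ c.2.2.1 * tabSign tab s ^ c.2.2.2 * c.2.1, c.2.2)

/-- The check of the table identity that carries the commutator formula from `(r0, s0)` to `(r, s) = (w r0, w s0)`. -/
def stepOK (tab r0 s0 r s : ℕ) : Bool :=
  ((T.commTermsFast r0 s0).all fun c => decide (c.1 < T.nroots)) &&
  decide (T.commTermsFast r s = transTerms tab r0 s0 (T.commTermsFast r0 s0))

/-- The check of one pair against the certificate: entry `depth * 16 + code` with `code = 15` for a base pair and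
the index of the fundamental reflection leading to the parent pair otherwise. -/
def pairOK (tabs : List ℕ) (bases : List (ℕ × ℕ)) (cert : ℕ) (r s : ℕ) : Bool :=
  forceNat (certAt cert (r * T.nroots + s)) fun e =>
    if e % 16 = 15 then decide ((r, s) ∈ bases)
    else forceNat (tabs.getD (e % 16) 0) fun tab =>
      forceNat (tabRoot tab r) fun r0 => forceNat (tabRoot tab s) fun s0 =>
        decide (e % 16 < T.rank) && decide (r0 < T.nroots) && decide (s0 < T.nroots) && decide (s0 ≠ r0) &&
        decide (s0 ≠ T.neg r0) && decide (certAt cert (r0 * T.nroots + s0) / 16 < e / 16) &&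
        decide (tabRoot tab r0 = r) && decide (tabRoot tab s0 = s) && T.stepOK tab r0 s0 r s

/-- The check of all pairs `(r, s)` with `r` in `[a, a + m)`. -/
def certOK (tabs : List ℕ) (bases : List (ℕ × ℕ)) (cert : ℕ) (a m : ℕ) : Bool :=
  allRange a m fun r => allRange 0 T.nroots fun s =>
    decide (s = r) || decide (s = T.neg r) || T.pairOK tabs bases cert r s

/-- The words of the base check. -/
def commBaseW (r s : ℕ) : List (ℕ × Mono4) :=
  [(r, ((1, 0, 0, 1, 0) : Mono4)), (s, ((1, 0, 0, 0, 1) : Mono4))] ++
    (T.commTermsF r s).map fun c => (c.1, ((c.2.1 * (-1) ^ c.2.2.1, 0, 0, c.2.2.1, c.2.2.2) : Mono4))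

/-- The base check: the commutator formula for `(r, s)` with indeterminate parameters. -/
def commBaseOK (r s : ℕ) : Bool :=
  T.checkEqM T.allCodesF [(s, ((1, 0, 0, 0, 1) : Mono4)), (r, ((1, 0, 0, 1, 0) : Mono4))] (T.commBaseW r s)

end FastDatum

section Sound

variable {F : Type*} [Field F]

theorem wordMat_cons' (D : ChevalleyDatum) (a : ℕ × F) (w : List (ℕ × F)) :
    D.wordMat F (a :: w) = D.x F a.1 a.2 * D.wordMat F w := by
  unfold ChevalleyDatum.wordMat
  rw [List.map_cons, List.prod_cons]

theorem wordMat_append' (D : ChevalleyDatum) (w₁ w₂ : List (ℕ × F)) :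
    D.wordMat F (w₁ ++ w₂) = D.wordMat F w₁ * D.wordMat F w₂ := by
  unfold ChevalleyDatum.wordMat
  rw [List.map_append, List.prod_append]

theorem wordMat_nil' (D : ChevalleyDatum) : D.wordMat F ([] : List (ℕ × F)) = 1 := by
  simp [ChevalleyDatum.wordMat]

/-- Conjugation of a word by a matrix that conjugates each of its root elements. -/
theorem mul_wordMat_of_rel (D : ChevalleyDatum) (n : Matrix D.Idx D.Idx F) (w : ℕ → ℕ) (η : ℕ → ℤ)
    (L : List (ℕ × F))
    (hrel : ∀ a ∈ L, ∀ t : F, n * D.x F a.1 t = D.x F (w a.1) ((η a.1 : F) * t) * n) :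
    n * D.wordMat F L = D.wordMat F (L.map fun a => (w a.1, (η a.1 : F) * a.2)) * n := by
  induction L with
  | nil => simp [wordMat_nil']
  | cons a L ih =>
    rw [wordMat_cons', List.map_cons, wordMat_cons', ← mul_assoc, hrel a List.mem_cons_self, mul_assoc,
      ih (fun b hb => hrel b (List.mem_cons_of_mem _ hb)), mul_assoc]

/-- Transport of the commutator formula by a matrix `n` that conjugates root elements according to `w`, `η`. -/
theorem commOK_transport (D : ChevalleyDatum) (n n' : Matrix D.Idx D.Idx F) (hn : n * n' = 1) (w : ℕ → ℕ)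
    (η : ℕ → ℤ) (hη : ∀ k, η k = 1 ∨ η k = -1) (r s : ℕ)
    (hr : ∀ t : F, n * D.x F r t = D.x F (w r) ((η r : F) * t) * n)
    (hs : ∀ t : F, n * D.x F s t = D.x F (w s) ((η s : F) * t) * n)
    (hrel : ∀ c ∈ D.commTerms r s, ∀ t : F, n * D.x F c.1 t = D.x F (w c.1) ((η c.1 : F) * t) * n)
    (hterms : D.commTerms (w r) (w s) = (D.commTerms r s).map fun c =>
      (w c.1, η c.1 * η r ^ c.2.2.1 * η s ^ c.2.2.2 * c.2.1, c.2.2))
    (h : CommOK F D r s) : CommOK F D (w r) (w s) := by
  intro t' u'
  have hsq : ∀ k, ((η k : ℤ) : F) * (η k : F) = 1 := by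
    intro k
    rcases hη k with hk | hk <;> rw [hk] <;> simp
  have h0 := h ((η r : F) * t') ((η s : F) * u')
  have h1 : n * (D.x F s ((η s : F) * u') * D.x F r ((η r : F) * t'))
      = D.x F (w s) u' * D.x F (w r) t' * n := by
    rw [← mul_assoc, hs, mul_assoc, hr, ← mul_assoc, ← mul_assoc, ← mul_assoc, hsq, one_mul, hsq, one_mul]
  have hrel' : ∀ a ∈ D.commWord F r s ((η r : F) * t') ((η s : F) * u'), ∀ t : F,
      n * D.x F a.1 t = D.x F (w a.1) ((η a.1 : F) * t) * n := by
    intro a ha t
    unfold ChevalleyDatum.commWord at ha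
    rw [List.mem_map] at ha
    obtain ⟨c, hc, rfl⟩ := ha
    exact hrel c hc t
  have h2 : n * (D.x F r ((η r : F) * t') * D.x F s ((η s : F) * u')
        * D.wordMat F (D.commWord F r s ((η r : F) * t') ((η s : F) * u')))
      = D.x F (w r) t' * D.x F (w s) u' * D.wordMat F (D.commWord F (w r) (w s) t' u') * n := by
    rw [← mul_assoc, ← mul_assoc, hr, mul_assoc (D.x F (w r) _), hs, ← mul_assoc, ← mul_assoc, hsq, one_mul,
      ← mul_assoc, hsq, one_mul, mul_assoc, mul_wordMat_of_rel D n w η _ hrel', ← mul_assoc]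
    congr 2
    congr 1
    unfold ChevalleyDatum.commWord
    rw [hterms, List.map_map, List.map_map]
    apply List.map_congr_left
    intro c _
    simp only [Function.comp]
    congr 1
    push_cast
    have e1 : ∀ i : ℕ, (-(((η r : ℤ) : F) * t')) ^ i = ((η r : ℤ) : F) ^ i * (-t') ^ i := by
      intro i
      rw [← mul_pow]
      congr 1
      ring
    rw [e1, mul_pow]
    ring
  have h3 : D.x F (w s) u' * D.x F (w r) t' * n
      = D.x F (w r) t' * D.x F (w s) u' * D.wordMat F (D.commWord F (w r) (w s) t' u') * n := by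
    rw [← h1, ← h2, h0]
  have h4 := congrArg (· * n') h3
  simp only [mul_assoc, hn, mul_one] at h4
  rw [h4, mul_assoc]

/-- The valuation `X2 ↦ t`, `X3 ↦ u`, other variables `1`. -/
def rhoTU (t u : F) : ℕ → F := fun k => if k = 2 then t else if k = 3 then u else 1

theorem rhoTU_mul (t u : F) : rhoTU t u 0 * rhoTU t u 1 = 1 := by simp [rhoTU]

namespace FastDatum

variable (T : FastDatum)

/-- Soundness of the base check. -/
theorem commOK_of_commBaseOK (D : ChevalleyDatum) (h : T.agree D = true) (r s : ℕ)
    (hcomm : T.commTermsF r s = D.commTerms r s) (hc : T.commBaseOK r s = true) : CommOK F D r s := by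
  intro t u
  unfold commBaseOK at hc
  have key : D.wordMat F (evWordM (rhoTU t u) [(s, ((1, 0, 0, 0, 1) : Mono4)), (r, ((1, 0, 0, 1, 0) : Mono4))])
      = D.wordMat F (evWordM (rhoTU t u) (T.commBaseW r s)) := by
    ext i j
    apply T.wordMat_apply_eq_of_checkEqM D h (rhoTU t u) (rhoTU_mul t u) _ _ _ hc i j
    rw [T.allCodesF_eq D h]
    exact mem_allCodes D j
  have ev2 : evM (rhoTU t u) ((1, 0, 0, 1, 0) : Mono4) = t := by simp [evM, rhoTU]
  have ev3 : evM (rhoTU t u) ((1, 0, 0, 0, 1) : Mono4) = u := by simp [evM, rhoTU]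
  have e1 : evWordM (rhoTU t u) [(s, ((1, 0, 0, 0, 1) : Mono4)), (r, ((1, 0, 0, 1, 0) : Mono4))]
      = [(s, u), (r, t)] := by
    simp only [evWordM, List.map_cons, List.map_nil, ev2, ev3]
  have e2 : evWordM (rhoTU t u) (T.commBaseW r s) = [(r, t), (s, u)] ++ D.commWord F r s t u := by
    unfold commBaseW evWordM ChevalleyDatum.commWord
    rw [List.map_append, hcomm, List.map_map]
    simp only [List.map_cons, List.map_nil, ev2, ev3]
    congr 1
    apply List.map_congr_left
    intro c _
    simp only [Function.comp]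
    congr 1
    simp only [evM, rhoTU]
    simp only [show ((0 : ℕ) = 2) = False by simp, show ((0 : ℕ) = 3) = False by simp,
      show ((1 : ℕ) = 2) = False by simp, show ((1 : ℕ) = 3) = False by simp,
      show ((3 : ℕ) = 2) = False by simp, if_true, if_false, pow_zero, mul_one]
    push_cast
    rw [neg_pow t]
    ring
  rw [e1, e2, wordMat_append'] at key
  simp only [wordMat_cons', wordMat_nil', mul_one] at key
  exact key

theorem transTerms_eq (tab r s : ℕ) (L : List (ℕ × ℤ × ℕ × ℕ)) :
    transTerms tab r s L = L.map fun c => (tabRoot tab c.1,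
      tabSign tab c.1 * tabSign tab r ^ c.2.2.1 * tabSign tab s ^ c.2.2.2 * c.2.1, c.2.2) := rfl

/-- The induction over the certificate. -/
theorem commOK_of_cert (D : ChevalleyDatum) (h : T.agree D = true) (hin : T.chainInRange = true)
    (tabs : List ℕ) (htabs : ∀ i < D.rank, tabs.getD i 0 = T.rootTab (D.simple i))
    (hnx : ∀ i < D.rank, ∀ s < D.nroots, NXRel F T D (D.simple i) s)
    (hinv : ∀ i < D.rank, D.nMat F (D.simple i) 1 * D.nMat F (D.simple i) (-1) = 1)
    (bases : List (ℕ × ℕ)) (hb : ∀ p ∈ bases, CommOK F D p.1 p.2) (cert : ℕ)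
    (hc : ∀ r s, r < D.nroots → s < D.nroots → s ≠ r → s ≠ T.neg r → T.pairOK tabs bases cert r s = true) :
    ∀ r s, r < D.nroots → s < D.nroots → s ≠ r → s ≠ T.neg r → CommOK F D r s := by
  have hn := T.nroots_eq D h
  have hl := T.rank_eq D h
  have main : ∀ d r s, certAt cert (r * T.nroots + s) / 16 = d → r < D.nroots → s < D.nroots → s ≠ r →
      s ≠ T.neg r → CommOK F D r s := by
    intro d
    induction d using Nat.strong_induction_on with
    | _ d ih =>
      intro r s hd hr hs hsr hsn
      have h0 := hc r s hr hs hsr hsn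
      unfold pairOK at h0
      rw [forceNat_eq] at h0
      split_ifs at h0 with hbase
      · rw [decide_eq_true_eq] at h0
        exact hb _ h0
      · rw [forceNat_eq, forceNat_eq, forceNat_eq] at h0
        simp only [Bool.and_eq_true, decide_eq_true_eq] at h0
        obtain ⟨⟨⟨⟨⟨⟨⟨⟨hi, hr0⟩, hs0⟩, hne⟩, hneg⟩, hdep⟩, hwr⟩, hws⟩, hstep⟩ := h0
        set e := certAt cert (r * T.nroots + s) with he
        set i := e % 16 with hi_def
        have hiD : i < D.rank := hl ▸ hi
        have htab : tabs.getD i 0 = T.rootTab (D.simple i) := htabs i hiD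
        rw [htab] at hr0 hs0 hne hneg hdep hwr hws hstep
        set tab := T.rootTab (D.simple i) with htab_def
        set r0 := tabRoot tab r with hr0_def
        set s0 := tabRoot tab s with hs0_def
        have hr0D : r0 < D.nroots := hn ▸ hr0
        have hs0D : s0 < D.nroots := hn ▸ hs0
        have hpar : CommOK F D r0 s0 := ih _ (hd ▸ hdep) r0 s0 rfl hr0D hs0D hne hneg
        unfold stepOK at hstep
        simp only [Bool.and_eq_true, decide_eq_true_eq, List.all_eq_true] at hstep
        obtain ⟨hlt, hterms⟩ := hstep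
        have hc0 : T.commTermsFast r0 s0 = D.commTerms r0 s0 := by
          rw [T.commTermsFast_eq]; exact T.commTermsF_eq D h hin r0 s0 hr0D hs0D
        have hc1 : T.commTermsFast r s = D.commTerms (tabRoot tab r0) (tabRoot tab s0) := by
          rw [T.commTermsFast_eq, hwr, hws]
          exact T.commTermsF_eq D h hin r s hr hs
        rw [hc0] at hlt
        rw [hc1, hc0, transTerms_eq] at hterms
        have hrel : ∀ k < D.nroots, ∀ t : F, D.nMat F (D.simple i) 1 * D.x F k t
            = D.x F (tabRoot tab k) ((tabSign tab k : F) * t) * D.nMat F (D.simple i) 1 :=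
          fun k hk => (hnx i hiD k hk).2
        have := commOK_transport D (D.nMat F (D.simple i) 1) (D.nMat F (D.simple i) (-1)) (hinv i hiD)
          (tabRoot tab) (tabSign tab) (tabSign_cases tab) r0 s0 (hrel r0 hr0D) (hrel s0 hs0D)
          (fun c hc t => hrel c.1 (hn ▸ hlt c hc) t) hterms hpar
        rw [hwr, hws] at this
        exact this
  intro r s hr hs hsr hsn
  exact main _ r s rfl hr hs hsr hsn

/-- From the Boolean check of a block of rows. -/
theorem pairOK_of_certOK (tabs : List ℕ) (bases : List (ℕ × ℕ)) (cert : ℕ) (a m : ℕ)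
    (hc : T.certOK tabs bases cert a m = true) (r s : ℕ) (h1 : a ≤ r) (h2 : r < a + m) (hs : s < T.nroots)
    (hsr : s ≠ r) (hsn : s ≠ T.neg r) : T.pairOK tabs bases cert r s = true := by
  unfold certOK at hc
  have h3 := of_allRange (of_allRange hc r h1 h2) s (Nat.zero_le _) (by omega)
  simp only [Bool.or_eq_true, decide_eq_true_eq] at h3
  rcases h3 with (h3 | h3) | h3
  · exact absurd h3 hsr
  · exact absurd h3 hsn
  · exact h3

end FastDatum

end Sound

end Cfsg.Agent.Lib.Helper18
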