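/-
helper18: table facts about the fundamental reflections (read from the packed tables of the action of the n_p(1) on the
roots): they permute the positive roots other than p, commute with negation, signs are compatible with negation;
positivity of the roots occurring in the commutator formula with a fundamental root; every root is conjugate to a
fundamental root (certificate). All facts are Boolean checks on the packed tables.
-/
import Cfsg.Agent.Lib.Helper18.Comm

set_option autoImplicit false

namespace Cfsg.Agent.Lib.Helper18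

open Cfsg.Lie

/-- The image of the root `s` under the word `ws` in the fundamental reflections (tables `tabs`). -/
def wordRootF (tabs : List ℕ) (ws : List ℕ) (s : ℕ) : ℕ :=
  ws.foldr (fun i acc => tabRoot (tabs.getD i 0) acc) s

/-- The sign attached to the root `s` and the word `ws`. -/
def wordSignF (tabs : List ℕ) : List ℕ → ℕ → ℤ
  | [], _ => 1
  | i :: ws, s => tabSign (tabs.getD i 0) (wordRootF tabs ws s) * wordSignF tabs ws s

theorem wordRootF_cons (tabs : List ℕ) (i : ℕ) (ws : List ℕ) (s : ℕ) :
    wordRootF tabs (i :: ws) s = tabRoot (tabs.getD i 0) (wordRootF tabs ws s) := rfl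

theorem wordRootF_append (tabs : List ℕ) (ws ws' : List ℕ) (s : ℕ) :
    wordRootF tabs (ws ++ ws') s = wordRootF tabs ws (wordRootF tabs ws' s) := by
  unfold wordRootF
  rw [List.foldr_append]

theorem wordSignF_cases (tabs : List ℕ) (ws : List ℕ) (s : ℕ) :
    wordSignF tabs ws s = 1 ∨ wordSignF tabs ws s = -1 := by
  induction ws with
  | nil => left; rfl
  | cons i ws ih =>
    unfold wordSignF
    rcases tabSign_cases (tabs.getD i 0) (wordRootF tabs ws s) with h1 | h1 <;> rcases ih with h2 | h2 <;>
      rw [h1, h2] <;> simp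

namespace FastDatum

variable (T : FastDatum)

/-- The Boolean check of the facts about the fundamental reflections. -/
def reflFacts (tabs simples : List ℕ) : Bool :=
  (List.range T.rank).all fun i0 => forceNat i0 fun i =>
    forceNat (tabs.getD i 0) fun tab => forceNat (simples.getD i 0) fun p =>
      decide (T.nroots / 2 ≤ p) && decide (p < T.nroots) && decide (tabRoot tab p = T.neg p) &&
      (List.range T.nroots).all fun s0 => forceNat s0 fun s =>
        forceNat (tabRoot tab s) fun s' =>
          decide (s' < T.nroots) && decide (tabRoot tab s' = s) &&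
          decide (tabRoot tab (T.neg s) = T.neg s') && decide (tabSign tab (T.neg s) = tabSign tab s) &&
          (decide (s < T.nroots / 2) || decide (s = p) ||
            (decide (T.nroots / 2 ≤ s') && decide (s' ≠ p) &&
              ((T.commTermsFast p s).all fun c =>
                decide (T.nroots / 2 ≤ c.1) && decide (c.1 < T.nroots) && decide (c.1 ≠ p)) &&
              ((T.commTermsFast (T.neg p) s).all fun c =>
                decide (T.nroots / 2 ≤ c.1) && decide (c.1 < T.nroots) && decide (c.1 ≠ p))))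

/-- The facts about the fundamental reflections. -/
structure ReflSpec (tabs simples : List ℕ) : Prop where
  simple_pos : ∀ i < T.rank, T.nroots / 2 ≤ simples.getD i 0 ∧ simples.getD i 0 < T.nroots
  refl_simple : ∀ i < T.rank, tabRoot (tabs.getD i 0) (simples.getD i 0) = T.neg (simples.getD i 0)
  refl_lt : ∀ i < T.rank, ∀ s < T.nroots, tabRoot (tabs.getD i 0) s < T.nroots
  refl_invol : ∀ i < T.rank, ∀ s < T.nroots, tabRoot (tabs.getD i 0) (tabRoot (tabs.getD i 0) s) = s
  refl_neg : ∀ i < T.rank, ∀ s < T.nroots,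
    tabRoot (tabs.getD i 0) (T.neg s) = T.neg (tabRoot (tabs.getD i 0) s)
  sign_neg : ∀ i < T.rank, ∀ s < T.nroots, tabSign (tabs.getD i 0) (T.neg s) = tabSign (tabs.getD i 0) s
  refl_pos : ∀ i < T.rank, ∀ s, T.nroots / 2 ≤ s → s < T.nroots → s ≠ simples.getD i 0 →
    T.nroots / 2 ≤ tabRoot (tabs.getD i 0) s ∧ tabRoot (tabs.getD i 0) s ≠ simples.getD i 0
  comm_pos : ∀ i < T.rank, ∀ s, T.nroots / 2 ≤ s → s < T.nroots → s ≠ simples.getD i 0 →
    ∀ c ∈ T.commTermsF (simples.getD i 0) s, T.nroots / 2 ≤ c.1 ∧ c.1 < T.nroots ∧ c.1 ≠ simples.getD i 0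
  comm_neg : ∀ i < T.rank, ∀ s, T.nroots / 2 ≤ s → s < T.nroots → s ≠ simples.getD i 0 →
    ∀ c ∈ T.commTermsF (T.neg (simples.getD i 0)) s,
      T.nroots / 2 ≤ c.1 ∧ c.1 < T.nroots ∧ c.1 ≠ simples.getD i 0

theorem reflSpec_of_reflFacts (tabs simples : List ℕ) (h : T.reflFacts tabs simples = true) :
    T.ReflSpec tabs simples := by
  unfold reflFacts at h
  rw [List.all_eq_true] at h
  have h1 : ∀ i < T.rank,
      (T.nroots / 2 ≤ simples.getD i 0 ∧ simples.getD i 0 < T.nroots ∧
        tabRoot (tabs.getD i 0) (simples.getD i 0) = T.neg (simples.getD i 0)) ∧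
      ∀ s < T.nroots, tabRoot (tabs.getD i 0) s < T.nroots ∧
        tabRoot (tabs.getD i 0) (tabRoot (tabs.getD i 0) s) = s ∧
        tabRoot (tabs.getD i 0) (T.neg s) = T.neg (tabRoot (tabs.getD i 0) s) ∧
        tabSign (tabs.getD i 0) (T.neg s) = tabSign (tabs.getD i 0) s ∧
        (T.nroots / 2 ≤ s → s ≠ simples.getD i 0 →
          (T.nroots / 2 ≤ tabRoot (tabs.getD i 0) s ∧ tabRoot (tabs.getD i 0) s ≠ simples.getD i 0) ∧
          (∀ c ∈ T.commTermsF (simples.getD i 0) s,
            T.nroots / 2 ≤ c.1 ∧ c.1 < T.nroots ∧ c.1 ≠ simples.getD i 0) ∧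
          (∀ c ∈ T.commTermsF (T.neg (simples.getD i 0)) s,
            T.nroots / 2 ≤ c.1 ∧ c.1 < T.nroots ∧ c.1 ≠ simples.getD i 0)) := by
    intro i hi
    have h2 := h i (List.mem_range.mpr hi)
    rw [forceNat_eq, forceNat_eq, forceNat_eq] at h2
    simp only [Bool.and_eq_true, decide_eq_true_eq, List.all_eq_true, List.mem_range] at h2
    obtain ⟨⟨⟨ha, hb⟩, hc⟩, hs⟩ := h2
    refine ⟨⟨ha, hb, hc⟩, ?_⟩
    intro s hs'
    have h3 := hs s hs'
    rw [forceNat_eq, forceNat_eq] at h3
    simp only [Bool.and_eq_true, Bool.or_eq_true, decide_eq_true_eq, List.all_eq_true] at h3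
    obtain ⟨⟨⟨⟨h31, h32⟩, h33⟩, h34⟩, h35⟩ := h3
    refine ⟨h31, h32, h33, h34, ?_⟩
    intro hge hne
    rcases h35 with (h35 | h35) | h35
    · omega
    · exact absurd h35 hne
    · obtain ⟨⟨⟨h41, h42⟩, h43⟩, h44⟩ := h35
      rw [T.commTermsFast_eq] at h43 h44
      exact ⟨⟨h41, h42⟩, fun c hc => ⟨(h43 c hc).1.1, (h43 c hc).1.2, (h43 c hc).2⟩,
        fun c hc => ⟨(h44 c hc).1.1, (h44 c hc).1.2, (h44 c hc).2⟩⟩
  exact
    { simple_pos := fun i hi => ⟨(h1 i hi).1.1, (h1 i hi).1.2.1⟩
      refl_simple := fun i hi => (h1 i hi).1.2.2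
      refl_lt := fun i hi s hs => ((h1 i hi).2 s hs).1
      refl_invol := fun i hi s hs => ((h1 i hi).2 s hs).2.1
      refl_neg := fun i hi s hs => ((h1 i hi).2 s hs).2.2.1
      sign_neg := fun i hi s hs => ((h1 i hi).2 s hs).2.2.2.1
      refl_pos := fun i hi s h1' h2' h3' => (((h1 i hi).2 s h2').2.2.2.2 h1' h3').1
      comm_pos := fun i hi s h1' h2' h3' => (((h1 i hi).2 s h2').2.2.2.2 h1' h3').2.1
      comm_neg := fun i hi s h1' h2' h3' => (((h1 i hi).2 s h2').2.2.2.2 h1' h3').2.2 }

/-- The check of the certificate that every root is conjugate to a fundamental root. -/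
def rootCertOK (tabs simples : List ℕ) (cert : ℕ) : Bool :=
  (List.range T.nroots).all fun r0 => forceNat r0 fun r => forceNat (certAt cert r) fun e =>
    if e % 16 = 15 then decide (∃ j < T.rank, simples.getD j 0 = r)
    else forceNat (tabRoot (tabs.getD (e % 16) 0) r) fun r' =>
      decide (e % 16 < T.rank) && decide (r' < T.nroots) && decide (certAt cert r' / 16 < e / 16)

/-- Every root is the image of a fundamental root under a word in the fundamental reflections. -/
theorem exists_word_of_rootCertOK (tabs simples : List ℕ) (cert : ℕ) (hspec : T.ReflSpec tabs simples)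
    (h : T.rootCertOK tabs simples cert = true) (r : ℕ) (hr : r < T.nroots) :
    ∃ (ws : List ℕ) (j : ℕ), (∀ i ∈ ws, i < T.rank) ∧ j < T.rank ∧ wordRootF tabs ws (simples.getD j 0) = r := by
  unfold rootCertOK at h
  rw [List.all_eq_true] at h
  have main : ∀ d r, certAt cert r / 16 = d → r < T.nroots →
      ∃ (ws : List ℕ) (j : ℕ), (∀ i ∈ ws, i < T.rank) ∧ j < T.rank ∧
        wordRootF tabs ws (simples.getD j 0) = r := by
    intro d
    induction d using Nat.strong_induction_on with
    | _ d ih =>
      intro r hd hr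
      have h0 := h r (List.mem_range.mpr hr)
      rw [forceNat_eq, forceNat_eq] at h0
      split_ifs at h0 with hb
      · rw [decide_eq_true_eq] at h0
        obtain ⟨j, hj, hjr⟩ := h0
        exact ⟨[], j, by simp, hj, by simpa [wordRootF] using hjr⟩
      · rw [forceNat_eq] at h0
        simp only [Bool.and_eq_true, decide_eq_true_eq] at h0
        obtain ⟨⟨hi, hr'⟩, hdep⟩ := h0
        obtain ⟨ws, j, hws, hj, hw⟩ := ih _ (hd ▸ hdep) _ rfl hr'
        refine ⟨(certAt cert r % 16) :: ws, j, ?_, hj, ?_⟩
        · intro i hi'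
          rcases List.mem_cons.mp hi' with rfl | hi'
          · exact hi
          · exact hws i hi'
        · rw [wordRootF_cons, hw]
          exact hspec.refl_invol _ hi r hr
  exact main _ r rfl hr

end FastDatum

end Cfsg.Agent.Lib.Helper18
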