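/-
helper18: a bundle of the table facts and relations available for each of the seven tabulated data, so that the
generic theory (BN-pair axioms etc.) can be written once.
-/
import Cfsg.Agent.Lib.Helper18.RootFacts

set_option autoImplicit false

namespace Cfsg.Agent.Lib.Helper18

open Cfsg.Lie

/-- The packed tables of a Chevalley datum together with the facts proved about them. -/
structure ChevData.{u} (D : ChevalleyDatum) where
  T : FastDatum
  tabs : List ℕ
  simples : List ℕ
  hag : T.agree D = true
  hin : T.chainInRange = true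
  heven : T.nroots % 2 = 0
  hsimple : ∀ i < D.rank, D.simple i = simples.getD i 0
  htabs : ∀ i < D.rank, tabs.getD i 0 = T.rootTab (D.simple i)
  hrefl : ∀ i < D.rank, ∀ s < D.nroots, D.reflectRoot i s = tabRoot (tabs.getD i 0) s
  spec : T.ReflSpec tabs simples
  hword : ∀ r < D.nroots, ∃ (ws : List ℕ) (j : ℕ), (∀ i ∈ ws, i < D.rank) ∧ j < D.rank ∧
    wordRootF tabs ws (simples.getD j 0) = r
  nx : ∀ (F : Type u) [Field F], ∀ i < D.rank, ∀ s < D.nroots, NXRel F T D (D.simple i) s
  comm : ∀ (F : Type u) [Field F], ∀ r s, r < D.nroots → s < D.nroots → s ≠ r → s ≠ T.neg r → CommOK F D r s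

end Cfsg.Agent.Lib.Helper18
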