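/-
helper18: packed tables of type B2 (generated by tools/gen_fast.py from the Prelude tables) and the check that they
agree with the Prelude tables.
-/
import Cfsg.Agent.Lib.Helper18.Fast
import Cfsg.Prelude.Def_ChevB2

set_option autoImplicit false

namespace Cfsg.Agent.Lib.Helper18

open Cfsg.Lie

/-- The rows of the packed chain table of type B2. -/
def fastB2ChainRows : List ℕ := [7632955710838188489953975552593255252390437956645133905559552, 205102647060748579353093573306635629392315388339431845832786243103544573952, 247541485347177415055404872551701040068126502294843410710396336429995130880, 18078052997913640599847073538838079278375595336795662617411584, 2478706776913211349273449476286816001336624801644544, 24907539686014349929050066199348888800583949126424533932234763, 2712547038886155895395820630085253456802862791206933, 3763135791423295586304]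

/-- The packed tables of type B2. -/
def fastB2 : FastDatum where
  rank := 2
  nroots := 8
  chainT := fastB2ChainRows.foldr (fun x acc => acc * 2 ^ 264 + x) 0
  cartanT := 164812337392802
  corootT := 11072532446817249143

set_option maxRecDepth 100000 in
theorem agree_B2 : fastB2.agree chevB2 = true := by decide +kernel

end Cfsg.Agent.Lib.Helper18
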