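/-
helper18: data for the commutator formula of type B2: packed tables of the action of the n_p(1) (p fundamental) on the
roots, the list of base pairs and the certificate (parent reflection and depth of every pair of roots).
-/
import Cfsg.Agent.Lib.Helper18.FastTB2
import Cfsg.Agent.Lib.Helper18.Comm

set_option autoImplicit false

namespace Cfsg.Agent.Lib.Helper18

open Cfsg.Lie

/-- The packed tables of the action of `n_p(1)` on the roots, for the fundamental roots `p`. -/
def wTabs_B2 : List ℕ := [13003809550454907474953, 18904469683544585673730]

/-- The base pairs. -/
def commBases_B2 : List (ℕ × ℕ) := [(0, 1), (0, 3), (0, 5), (1, 0), (1, 2), (1, 4)]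

/-- The certificate. -/
def commCert_B2 : ℕ := 0x4103004103004103000004100004103104103100003103003000003002000002002003103103100000002102102102002002000000001001001002102100002101100001101101000001000f01000f00000f00001100f01100f01100f000

set_option maxRecDepth 1000000 in
theorem wTab_B2_0 : fastB2.rootTab 5 = wTabs_B2.getD 0 0 := by decide +kernel

set_option maxRecDepth 1000000 in
theorem wTab_B2_1 : fastB2.rootTab 4 = wTabs_B2.getD 1 0 := by decide +kernel

end Cfsg.Agent.Lib.Helper18
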