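/-
helper18: checks for the commutator formula of type B2, part 0 (kernel computation).
-/
import Cfsg.Agent.Lib.Helper18.CommDataB2

set_option autoImplicit false

namespace Cfsg.Agent.Lib.Helper18

open Cfsg.Lie

set_option maxRecDepth 1000000 in
theorem commBase_B2_0 : fastB2.commBaseOK 0 1 = true := by decide +kernel

set_option maxRecDepth 1000000 in
theorem commBase_B2_1 : fastB2.commBaseOK 0 3 = true := by decide +kernel

set_option maxRecDepth 1000000 in
theorem commBase_B2_2 : fastB2.commBaseOK 0 5 = true := by decide +kernel

set_option maxRecDepth 1000000 in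
theorem commBase_B2_3 : fastB2.commBaseOK 1 0 = true := by decide +kernel

set_option maxRecDepth 1000000 in
theorem commBase_B2_4 : fastB2.commBaseOK 1 2 = true := by decide +kernel

set_option maxRecDepth 1000000 in
theorem commBase_B2_5 : fastB2.commBaseOK 1 4 = true := by decide +kernel

set_option maxRecDepth 1000000 in
theorem certOK_B2_0 : fastB2.certOK wTabs_B2 commBases_B2 commCert_B2 0 8 = true := by decide +kernel

end Cfsg.Agent.Lib.Helper18
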