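/-
helper18: the torus H of a Chevalley group: every h_r(t) is diagonal, and products of h_{p_i}(c_i) are the matrices
diag(1, …, 1; ∏_i c_i^{A_{i,s}}).
-/
import Cfsg.Agent.Lib.Helper18.NForm

set_option autoImplicit false

namespace Cfsg.Agent.Lib.Helper18

open Cfsg.Lie

section

variable {F : Type*} [Field F]

theorem wordMat_append (D : ChevalleyDatum) (w₁ w₂ : List (ℕ × F)) :
    D.wordMat F (w₁ ++ w₂) = D.wordMat F w₁ * D.wordMat F w₂ := by
  unfold ChevalleyDatum.wordMat
  rw [List.map_append, List.prod_append]

theorem wordMat_flatMap {α : Type*} (D : ChevalleyDatum) (l : List α) (f : α → List (ℕ × F)) :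
    D.wordMat F (l.flatMap f) = (l.map fun a => D.wordMat F (f a)).prod := by
  induction l with
  | nil => simp [ChevalleyDatum.wordMat]
  | cons a l ih => rw [List.flatMap_cons, wordMat_append, ih, List.map_cons, List.prod_cons]

theorem prod_map_diagonal {ι α : Type*} [DecidableEq ι] [Fintype ι] (l : List α) (d : α → ι → F) :
    (l.map fun a => Matrix.diagonal (d a)).prod = Matrix.diagonal (fun j => (l.map fun a => d a j).prod) := by
  induction l with
  | nil => simp
  | cons a l ih =>
    rw [List.map_cons, List.prod_cons, ih, Matrix.diagonal_mul_diagonal]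
    congr 1

/-- The diagonal entries of `∏_i h_{p_i}(c_i)`. -/
def torusFun (D : ChevalleyDatum) (c : ℕ → F) : D.Idx → F :=
  Sum.elim (fun _ => (1 : F)) (fun s : Fin D.nroots => ((List.range D.rank).map fun i => c i ^ D.cartan i s).prod)

/-- The word `∏_i h_{p_i}(c_i)`. -/
def torusWord (D : ChevalleyDatum) (c : ℕ → F) : List (ℕ × F) :=
  (List.range D.rank).flatMap fun i => D.hWord (D.simple i) (c i)

theorem torusFun_one (D : ChevalleyDatum) : torusFun D (fun _ => (1 : F)) = fun _ => 1 := by
  funext j
  rcases j with k | s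
  · rfl
  · simp [torusFun]

theorem torusFun_mul (D : ChevalleyDatum) (c c' : ℕ → F) :
    torusFun D (fun i => c i * c' i) = fun j => torusFun D c j * torusFun D c' j := by
  funext j
  rcases j with k | s
  · simp [torusFun]
  · simp only [torusFun, Sum.elim_inr, mul_zpow]
    rw [List.prod_map_mul]

theorem torusFun_inv (D : ChevalleyDatum) (c : ℕ → F) :
    torusFun D (fun i => (c i)⁻¹) = fun j => (torusFun D c j)⁻¹ := by
  funext j
  rcases j with k | s
  · simp [torusFun]
  · simp only [torusFun, Sum.elim_inr, inv_zpow]
    rw [List.prod_inv]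
    · rw [List.map_map]; rfl

theorem torusFun_ne_zero (D : ChevalleyDatum) (c : ℕ → F) (hc : ∀ i < D.rank, c i ≠ 0) (j : D.Idx) :
    torusFun D c j ≠ 0 := by
  rcases j with k | s
  · simp [torusFun]
  · simp only [torusFun, Sum.elim_inr]
    apply List.prod_ne_zero
    intro h0
    rw [List.mem_map] at h0
    obtain ⟨i, hi, h0⟩ := h0
    exact zpow_ne_zero _ (hc i (List.mem_range.mp hi)) h0

/-- The matrix of the torus word, given the diagonal form of each `h_{p_i}(c)`. -/
theorem wordMat_torusWord (D : ChevalleyDatum)
    (hdiag : ∀ i < D.rank, ∀ c : F, c ≠ 0 → D.hMat F (D.simple i) c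
      = Matrix.diagonal (Sum.elim (fun _ => (1 : F)) (fun s : Fin D.nroots => c ^ (D.cartan i s))))
    (c : ℕ → F) (hc : ∀ i < D.rank, c i ≠ 0) :
    D.wordMat F (torusWord D c) = Matrix.diagonal (torusFun D c) := by
  unfold torusWord
  rw [wordMat_flatMap]
  have : ((List.range D.rank).map fun i => D.wordMat F (D.hWord (D.simple i) (c i)))
      = (List.range D.rank).map fun i => Matrix.diagonal
          (Sum.elim (fun _ => (1 : F)) (fun s : Fin D.nroots => c i ^ (D.cartan i s))) := by
    apply List.map_congr_left
    intro i hi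
    have hi' := List.mem_range.mp hi
    exact hdiag i hi' (c i) (hc i hi')
  rw [this, prod_map_diagonal]
  congr 1
  funext j
  rcases j with k | s
  · simp [torusFun]
  · simp [torusFun]

end

namespace FastDatum

variable (T : FastDatum)

variable {F : Type*} [Field F]

/-- The diagonal form of `h_r(t)` in terms of the torus parameters `c_i = t^{c_i(r)}`. -/
theorem hMat_eq_torus (D : ChevalleyDatum) (h : T.agree D = true) (r : ℕ)
    (hr : r < D.nroots) (hchk : T.hCheckRoot r = true) (t : F) (ht : t ≠ 0) :
    D.hMat F r t = Matrix.diagonal (torusFun D (fun i => t ^ T.coroot r i)) := by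
  rw [T.hMat_eq_diagonal_of_hCheckRoot D h r hr hchk t ht]
  congr 1
  funext j
  rcases j with k | s
  · rfl
  · simp only [torusFun, Sum.elim_inr, pairing]
    have hrk := T.rank_eq D h
    rw [hrk]
    have : ∀ l : List ℕ, (∀ i ∈ l, i < D.rank) →
        t ^ (l.map fun i => T.coroot r i * T.cartan i s).sum
          = (l.map fun i => (t ^ T.coroot r i) ^ D.cartan i s).prod := by
      intro l
      induction l with
      | nil => simp
      | cons a l ih =>
        intro hl
        rw [List.map_cons, List.sum_cons, List.map_cons, List.prod_cons, zpow_add₀ ht,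
          ih (fun i hi => hl i (List.mem_cons_of_mem _ hi)), zpow_mul,
          T.cartan_eq D h a (hl a List.mem_cons_self) s s.2]
    exact this _ (fun i hi => List.mem_range.mp hi)

end FastDatum

end Cfsg.Agent.Lib.Helper18
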