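/-
helper18: basic checks on the packed tables of type D4.
-/
import Cfsg.Agent.Lib.Helper18.FastTD4
import Cfsg.Agent.Lib.Helper18.HConjFast

set_option autoImplicit false

namespace Cfsg.Agent.Lib.Helper18

open Cfsg.Lie

set_option maxRecDepth 100000 in
theorem chainInRange_D4 : fastD4.chainInRange = true := by decide +kernel
set_option maxRecDepth 100000 in
theorem cartanNegF_D4 : fastD4.cartanNegF = true := by decide +kernel
set_option maxRecDepth 100000 in
theorem cartanChainF_D4 : fastD4.cartanChainF = true := by decide +kernel

end Cfsg.Agent.Lib.Helper18
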