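/-
helper18: packed tables of type G2 (generated by tools/gen_fast.py from the Prelude tables) and the check that they
agree with the Prelude tables.
-/
import Cfsg.Agent.Lib.Helper18.Fast
import Cfsg.Prelude.Def_ChevG2

set_option autoImplicit false

namespace Cfsg.Agent.Lib.Helper18

open Cfsg.Lie

/-- The rows of the packed chain table of type G2. -/
def fastG2ChainRows : List ℕ := [94051781172544509168768984578953534775170276986007388505945361735887545432878522716668663057019305984, 958205373771723956987820115886512883796775398178026837622943189384245635055011008632895633191562580380138602496, 868192143444168742933590479792315459509794039308879843760255211042237060862571230062201935875110280995516082991136768, 3390921169414402356437237441305000419195942997164132560392612010067644500458143053545022449768323447500495173638422528, 486522000803681492789720499528410929861849299209505249112459427589129976727093043785951969774489429927264256, 1597008956286206594964846805818557387880994062965391996582853531010938948160454894448771704711340700043810177024, 203414317404820108966642707122176897226809031523735255664845223774235214368967343189954358741171175435, 22152771162211734973057918920539578795353214824681005851194777803096075749543830703289925632, 24189802218972022946108845273172260749543585104494689358167024818120995477235437136769001491, 2638206961462532923575659155829052905943887139144757923865859815066567051493627933, 36557840506892028768987976441066575363540668643030643987447853,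 3881748348750878150796523813208097604127082307125248]

/-- The packed tables of type G2. -/
def fastG2 : FastDatum where
  rank := 2
  nroots := 12
  chainT := fastG2ChainRows.foldr (fun x acc => acc * 2 ^ 396 + x) 0
  cartanT := 3216044545421141846732
  corootT := 52488814092936629370832189287

set_option maxRecDepth 100000 in
theorem agree_G2 : fastG2.agree chevG2 = true := by decide +kernel

end Cfsg.Agent.Lib.Helper18
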