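/-
helper18: the check `checkH` for the type E₇.
-/
import Cfsg.Agent.Lib.Helper18.HDiag
import Cfsg.Prelude.Def_ChevE7

set_option autoImplicit false

namespace Cfsg.Agent.Lib.Helper18

open Cfsg.Lie

set_option maxRecDepth 100000 in
theorem checkH_E7 : checkH chevE7 = true := by decide +kernel

end Cfsg.Agent.Lib.Helper18
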