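/-
helper18: the check `checkH1` for the type E₈, part a.
-/
import Cfsg.Agent.Lib.Helper18.HDiag
import Cfsg.Prelude.Def_ChevE8

set_option autoImplicit false

namespace Cfsg.Agent.Lib.Helper18

open Cfsg.Lie

set_option maxRecDepth 100000 in
theorem checkH1_E8_0 : checkH1 chevE8 0 = true := by decide +kernel
set_option maxRecDepth 100000 in
theorem checkH1_E8_1 : checkH1 chevE8 1 = true := by decide +kernel
set_option maxRecDepth 100000 in
theorem checkH1_E8_2 : checkH1 chevE8 2 = true := by decide +kernel
set_option maxRecDepth 100000 in
theorem checkH1_E8_3 : checkH1 chevE8 3 = true := by decide +kernel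

end Cfsg.Agent.Lib.Helper18
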