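/-
helper18: the check `checkH` for the types G₂, B₂, D₄, F₄, E₆.
-/
import Cfsg.Agent.Lib.Helper18.HDiag
import Cfsg.Prelude.Def_ChevG2
import Cfsg.Prelude.Def_ChevB2
import Cfsg.Prelude.Def_ChevD4
import Cfsg.Prelude.Def_ChevF4
import Cfsg.Prelude.Def_ChevE6

set_option autoImplicit false

namespace Cfsg.Agent.Lib.Helper18

open Cfsg.Lie

set_option maxRecDepth 100000 in
theorem checkH_G2 : checkH chevG2 = true := by decide +kernel
set_option maxRecDepth 100000 in
theorem checkH_B2 : checkH chevB2 = true := by decide +kernel
set_option maxRecDepth 100000 in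
theorem checkH_D4 : checkH chevD4 = true := by decide +kernel
set_option maxRecDepth 100000 in
theorem checkH_F4 : checkH chevF4 = true := by decide +kernel
set_option maxRecDepth 100000 in
theorem checkH_E6 : checkH chevE6 = true := by decide +kernel

end Cfsg.Agent.Lib.Helper18
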