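/-
helper18: the torus normalises every root subgroup: diag(torusFun c) x_s(t) = x_s(χ_s(c) t) diag(torusFun c).
-/
import Cfsg.Agent.S1032
import Cfsg.Agent.Lib.Helper18.Torus

set_option autoImplicit false

namespace Cfsg.Agent.Lib.Helper18

open Cfsg Cfsg.Lie

variable {F : Type*} [Field F]

theorem prod_hMat_mul_x (D : ChevalleyDatum)
    (hD : D ∈ [chevG2, chevB2, chevD4, chevF4, chevE6, chevE7, chevE8]) (c : ℕ → F) (s : ℕ)
    (hs : s < D.nroots) (l : List ℕ) (hl : ∀ i ∈ l, i < D.rank) (hc : ∀ i ∈ l, c i ≠ 0) (t : F) :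
    (l.map fun i => D.hMat F (D.simple i) (c i)).prod * D.x F s t
      = D.x F s ((l.map fun i => c i ^ D.cartan i s).prod * t)
        * (l.map fun i => D.hMat F (D.simple i) (c i)).prod := by
  induction l with
  | nil => simp
  | cons a l ih =>
    have ih' := ih (fun i hi => hl i (List.mem_cons_of_mem _ hi)) (fun i hi => hc i (List.mem_cons_of_mem _ hi))
    rw [List.map_cons, List.prod_cons, List.map_cons, List.prod_cons, mul_assoc, ih', ← mul_assoc,
      Cfsg.Agent.S1032.result D hD a s (hl a List.mem_cons_self) hs (c a) (hc a List.mem_cons_self),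
      mul_assoc, mul_assoc]

theorem torus_mul_x (D : ChevalleyDatum)
    (hD : D ∈ [chevG2, chevB2, chevD4, chevF4, chevE6, chevE7, chevE8]) (c : ℕ → F)
    (hc : ∀ i < D.rank, c i ≠ 0) (s : ℕ) (hs : s < D.nroots) (t : F) :
    Matrix.diagonal (torusFun D c) * D.x F s t
      = D.x F s (torusFun D c (Sum.inr ⟨s, hs⟩) * t) * Matrix.diagonal (torusFun D c) := by
  have h1 := wordMat_torusWord D (fun i hi c hc => Cfsg.Agent.S1033.result D hD i hi c hc) c hc
  rw [← h1]
  unfold torusWord
  rw [wordMat_flatMap]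
  exact prod_hMat_mul_x D hD c s hs (List.range D.rank) (fun i hi => List.mem_range.mp hi)
    (fun i hi => hc i (List.mem_range.mp hi)) t

end Cfsg.Agent.Lib.Helper18
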