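/-
helper18: the diagonal form of h_r(t) for the roots 84..125 of type E7 (kernel computation).
-/
import Cfsg.Agent.Lib.Helper18.FastTE7
import Cfsg.Agent.Lib.Helper18.NForm

set_option autoImplicit false

namespace Cfsg.Agent.Lib.Helper18

open Cfsg.Lie

set_option maxRecDepth 1000000 in
theorem hCheckRoot_E7_2 : allRange 84 42 (fun r => fastE7.hCheckRoot r) = true := by decide +kernel

end Cfsg.Agent.Lib.Helper18
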