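/-
helper18: the diagonal form of h_r(t) for all roots of type E7.
-/
import Cfsg.Agent.Lib.Helper18.HChkE7p0
import Cfsg.Agent.Lib.Helper18.HChkE7p1
import Cfsg.Agent.Lib.Helper18.HChkE7p2

set_option autoImplicit false

namespace Cfsg.Agent.Lib.Helper18

open Cfsg.Lie

theorem hCheckRoot_E7 (r : ℕ) (hr : r < 126) : fastE7.hCheckRoot r = true := by
  by_cases h0 : r < 42
  · exact of_allRange hCheckRoot_E7_0 r (by omega) (by omega)
  by_cases h1 : r < 84
  · exact of_allRange hCheckRoot_E7_1 r (by omega) (by omega)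
  exact of_allRange hCheckRoot_E7_2 r (by omega) (by omega)

end Cfsg.Agent.Lib.Helper18
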