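/-
helper18: the diagonal form of h_r(t) for the roots 96..119 of type E8 (kernel computation).
-/
import Cfsg.Agent.Lib.Helper18.FastTE8
import Cfsg.Agent.Lib.Helper18.NForm

set_option autoImplicit false

namespace Cfsg.Agent.Lib.Helper18

open Cfsg.Lie

set_option maxRecDepth 1000000 in
theorem hCheckRoot_E8_4 : allRange 96 24 (fun r => fastE8.hCheckRoot r) = true := by decide +kernel

end Cfsg.Agent.Lib.Helper18
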