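/-
helper18: the diagonal form of h_r(t) for all roots of type E8.
-/
import Cfsg.Agent.Lib.Helper18.HChkE8p0
import Cfsg.Agent.Lib.Helper18.HChkE8p1
import Cfsg.Agent.Lib.Helper18.HChkE8p2
import Cfsg.Agent.Lib.Helper18.HChkE8p3
import Cfsg.Agent.Lib.Helper18.HChkE8p4
import Cfsg.Agent.Lib.Helper18.HChkE8p5
import Cfsg.Agent.Lib.Helper18.HChkE8p6
import Cfsg.Agent.Lib.Helper18.HChkE8p7
import Cfsg.Agent.Lib.Helper18.HChkE8p8
import Cfsg.Agent.Lib.Helper18.HChkE8p9

set_option autoImplicit false

namespace Cfsg.Agent.Lib.Helper18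

open Cfsg.Lie

theorem hCheckRoot_E8 (r : ℕ) (hr : r < 240) : fastE8.hCheckRoot r = true := by
  by_cases h0 : r < 24
  · exact of_allRange hCheckRoot_E8_0 r (by omega) (by omega)
  by_cases h1 : r < 48
  · exact of_allRange hCheckRoot_E8_1 r (by omega) (by omega)
  by_cases h2 : r < 72
  · exact of_allRange hCheckRoot_E8_2 r (by omega) (by omega)
  by_cases h3 : r < 96
  · exact of_allRange hCheckRoot_E8_3 r (by omega) (by omega)
  by_cases h4 : r < 120
  · exact of_allRange hCheckRoot_E8_4 r (by omega) (by omega)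
  by_cases h5 : r < 144
  · exact of_allRange hCheckRoot_E8_5 r (by omega) (by omega)
  by_cases h6 : r < 168
  · exact of_allRange hCheckRoot_E8_6 r (by omega) (by omega)
  by_cases h7 : r < 192
  · exact of_allRange hCheckRoot_E8_7 r (by omega) (by omega)
  by_cases h8 : r < 216
  · exact of_allRange hCheckRoot_E8_8 r (by omega) (by omega)
  exact of_allRange hCheckRoot_E8_9 r (by omega) (by omega)

end Cfsg.Agent.Lib.Helper18
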