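/-
helper18: the diagonal form of h_r(t) for all roots of type F4.
-/
import Cfsg.Agent.Lib.Helper18.HChkF4

set_option autoImplicit false

namespace Cfsg.Agent.Lib.Helper18

open Cfsg.Lie

theorem hCheckRoot_F4 (r : ℕ) (hr : r < 48) : fastF4.hCheckRoot r = true := by
  exact of_allRange hCheckRoot_F4_0 r (by omega) (by omega)

end Cfsg.Agent.Lib.Helper18
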