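/-
helper18: the elements n_r(t): n_r(1) n_r(-1) = 1, and the torus conjugates n_r(t) to n_r(χ_r t).
-/
import Cfsg.Agent.S1034
import Cfsg.Agent.Lib.Helper18.TorusConj

set_option autoImplicit false

namespace Cfsg.Agent.Lib.Helper18

open Cfsg Cfsg.Lie

variable {F : Type*} [Field F]

theorem nMat_eq (D : ChevalleyDatum) (r : ℕ) (t : F) :
    D.nMat F r t = D.x F r t * D.x F (D.neg r) (-t⁻¹) * D.x F r t := by
  unfold ChevalleyDatum.nMat ChevalleyDatum.wordMat ChevalleyDatum.nWord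
  simp [mul_assoc]

theorem hMat_eq_nMat_mul' (D : ChevalleyDatum) (r : ℕ) (c : F) :
    D.hMat F r c = D.nMat F r c * D.nMat F r (-1) :=
  FastDatum.hMat_eq_nMat_mul D r c

/-- `h_r(1) = 1`. -/
theorem hMat_one (D : ChevalleyDatum)
    (hD : D ∈ [chevG2, chevB2, chevD4, chevF4, chevE6, chevE7, chevE8]) (r : ℕ) (hr : r < D.nroots) :
    D.hMat F r 1 = 1 := by
  obtain ⟨T, hag, hchk⟩ := exists_hcert D hD
  rw [T.hMat_eq_diagonal_of_hCheckRoot D hag r hr (hchk r hr) 1 one_ne_zero]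
  rw [← Matrix.diagonal_one]
  congr 1
  funext j
  rcases j with k | s
  · rfl
  · simp

/-- `n_r(1) n_r(-1) = 1`. -/
theorem nMat_one_mul_nMat_neg_one (D : ChevalleyDatum)
    (hD : D ∈ [chevG2, chevB2, chevD4, chevF4, chevE6, chevE7, chevE8]) (r : ℕ) (hr : r < D.nroots) :
    D.nMat F r 1 * D.nMat F r (-1) = 1 := by
  rw [← hMat_eq_nMat_mul', hMat_one D hD r hr]

theorem neg_lt_nroots (D : ChevalleyDatum)
    (hD : D ∈ [chevG2, chevB2, chevD4, chevF4, chevE6, chevE7, chevE8]) (r : ℕ) (hr : r < D.nroots) :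
    D.neg r < D.nroots := by
  obtain ⟨T, hag, -⟩ := exists_hcert D hD
  have h1 : D.neg r = T.neg r := T.neg_eq D hag r hr
  have hn := T.nroots_eq D hag
  rw [h1]
  unfold FastDatum.neg
  omega

/-- `χ_{-r} = χ_r⁻¹`. -/
theorem torusFun_neg (D : ChevalleyDatum)
    (hD : D ∈ [chevG2, chevB2, chevD4, chevF4, chevE6, chevE7, chevE8]) (c : ℕ → F) (r : ℕ)
    (hr : r < D.nroots) (hr' : D.neg r < D.nroots) :
    torusFun D c (Sum.inr ⟨D.neg r, hr'⟩) = (torusFun D c (Sum.inr ⟨r, hr⟩))⁻¹ := by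
  simp only [torusFun, Sum.elim_inr]
  rw [List.prod_inv, List.map_map]
  apply congrArg
  apply List.map_congr_left
  intro i hi
  have hi' := List.mem_range.mp hi
  have := (Cfsg.Agent.S1032.cartan_facts D hD i hi').1 r hr
  show c i ^ D.cartan i (D.neg r) = (c i ^ D.cartan i r)⁻¹
  unfold ChevalleyDatum.neg
  rw [this, zpow_neg]

/-- The torus conjugates `n_r(t)` to `n_r(χ_r t)`. -/
theorem torus_mul_nMat (D : ChevalleyDatum)
    (hD : D ∈ [chevG2, chevB2, chevD4, chevF4, chevE6, chevE7, chevE8]) (c : ℕ → F)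
    (hc : ∀ i < D.rank, c i ≠ 0) (r : ℕ) (hr : r < D.nroots) (t : F) :
    Matrix.diagonal (torusFun D c) * D.nMat F r t
      = D.nMat F r (torusFun D c (Sum.inr ⟨r, hr⟩) * t) * Matrix.diagonal (torusFun D c) := by
  have hr' := neg_lt_nroots D hD r hr
  rw [nMat_eq, nMat_eq, ← mul_assoc, ← mul_assoc, torus_mul_x D hD c hc r hr, mul_assoc (D.x F r _),
    torus_mul_x D hD c hc (D.neg r) hr', mul_assoc (D.x F r _), mul_assoc (D.x F (D.neg r) _),
    torus_mul_x D hD c hc r hr, torusFun_neg D hD c r hr hr']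
  have : (torusFun D c (Sum.inr ⟨r, hr⟩))⁻¹ * -t⁻¹ = -(torusFun D c (Sum.inr ⟨r, hr⟩) * t)⁻¹ := by
    rw [mul_inv]; ring
  rw [this]
  simp only [mul_assoc]

end Cfsg.Agent.Lib.Helper18
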