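/-
helper18: the reflected roots `reflectRoot i s` of type B2 agree with the action of n_(p_i)(1) (kernel computation).
-/
import Cfsg.Agent.Lib.Helper18.FastTB2
import Cfsg.Agent.Lib.Helper18.NX

set_option autoImplicit false

namespace Cfsg.Agent.Lib.Helper18

open Cfsg.Lie

theorem simple_B2_0 : chevB2.simple 0 = 5 := by decide

theorem simple_B2_1 : chevB2.simple 1 = 4 := by decide

set_option maxRecDepth 1000000 in
theorem reflOK_B2_0 : reflOK chevB2 fastB2 0 = true := by decide +kernel

set_option maxRecDepth 1000000 in
theorem reflOK_B2_1 : reflOK chevB2 fastB2 1 = true := by decide +kernel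

end Cfsg.Agent.Lib.Helper18
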