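/-
helper18: Chevalley's commutator formula for all pairs of roots of type B2.
-/
import Cfsg.Agent.Lib.Helper18.CommChkB2
import Cfsg.Agent.Lib.Helper18.NXAllB2
import Cfsg.Agent.Lib.Helper18.FastChkB2
import Cfsg.Agent.Lib.Helper18.NConj

set_option autoImplicit false

namespace Cfsg.Agent.Lib.Helper18

open Cfsg.Lie

theorem commOK_B2 {F : Type*} [Field F] (r s : ℕ) (hr : r < 8) (hs : s < 8) (hsr : s ≠ r)
    (hsn : s ≠ fastB2.neg r) : CommOK F chevB2 r s := by
  have hag := agree_B2
  have hin := chainInRange_B2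
  refine fastB2.commOK_of_cert chevB2 hag hin wTabs_B2 ?_ ?_ ?_ commBases_B2 ?_ commCert_B2 ?_ r s hr hs hsr hsn
  · intro i hi
    change i < 2 at hi
    interval_cases i
    · rw [simple_B2_0]; exact wTab_B2_0.symm
    · rw [simple_B2_1]; exact wTab_B2_1.symm
  · intro i hi s hs
    exact (nxRel_B2 (F := F) i hi s hs).1
  · intro i hi
    apply nMat_one_mul_nMat_neg_one chevB2 (by simp)
    change i < 2 at hi
    interval_cases i
    · rw [simple_B2_0]; decide
    · rw [simple_B2_1]; decide
  · intro p hp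
    simp only [commBases_B2, List.mem_cons, List.not_mem_nil, or_false] at hp
    rcases hp with rfl | rfl | rfl | rfl | rfl | rfl
    · exact fastB2.commOK_of_commBaseOK chevB2 hag 0 1 (fastB2.commTermsF_eq chevB2 hag hin 0 1 (by decide) (by decide)) commBase_B2_0
    · exact fastB2.commOK_of_commBaseOK chevB2 hag 0 3 (fastB2.commTermsF_eq chevB2 hag hin 0 3 (by decide) (by decide)) commBase_B2_1
    · exact fastB2.commOK_of_commBaseOK chevB2 hag 0 5 (fastB2.commTermsF_eq chevB2 hag hin 0 5 (by decide) (by decide)) commBase_B2_2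
    · exact fastB2.commOK_of_commBaseOK chevB2 hag 1 0 (fastB2.commTermsF_eq chevB2 hag hin 1 0 (by decide) (by decide)) commBase_B2_3
    · exact fastB2.commOK_of_commBaseOK chevB2 hag 1 2 (fastB2.commTermsF_eq chevB2 hag hin 1 2 (by decide) (by decide)) commBase_B2_4
    · exact fastB2.commOK_of_commBaseOK chevB2 hag 1 4 (fastB2.commTermsF_eq chevB2 hag hin 1 4 (by decide) (by decide)) commBase_B2_5
  · intro r s hr hs hsr hsn
    change r < 8 at hr
    change s < 8 at hs
    exact fastB2.pairOK_of_certOK _ _ _ 0 8 certOK_B2_0 r s (by omega) (by omega) hs hsr hsn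

end Cfsg.Agent.Lib.Helper18
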