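/-
helper18: the bundle of table facts and relations for type B2.
-/
import Cfsg.Agent.Lib.Helper18.ChevData
import Cfsg.Agent.Lib.Helper18.CommAllB2

set_option autoImplicit false

namespace Cfsg.Agent.Lib.Helper18

open Cfsg.Lie

/-- The fundamental roots. -/
def simples_B2 : List ℕ := [5, 4]

/-- The certificate that every root is conjugate to a fundamental root. -/
def rootCert_B2 : ℕ := 0x1001100f00f011010021020

set_option maxRecDepth 1000000 in
theorem reflFacts_B2 : fastB2.reflFacts wTabs_B2 simples_B2 = true := by decide +kernel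

set_option maxRecDepth 1000000 in
theorem rootCertOK_B2 : fastB2.rootCertOK wTabs_B2 simples_B2 rootCert_B2 = true := by decide +kernel

theorem hsimple_B2 : ∀ i < chevB2.rank, chevB2.simple i = simples_B2.getD i 0 := by
  intro i hi
  change i < 2 at hi
  interval_cases i
  · exact simple_B2_0
  · exact simple_B2_1

theorem htabs_B2 : ∀ i < chevB2.rank, wTabs_B2.getD i 0 = fastB2.rootTab (chevB2.simple i) := by
  intro i hi
  change i < 2 at hi
  interval_cases i
  · rw [simple_B2_0]; exact wTab_B2_0.symm
  · rw [simple_B2_1]; exact wTab_B2_1.symm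

/-- The bundle for type B2. -/
def chevData_B2.{u} : ChevData.{u} chevB2 where
  T := fastB2
  tabs := wTabs_B2
  simples := simples_B2
  hag := agree_B2
  hin := chainInRange_B2
  heven := by decide
  hsimple := hsimple_B2
  htabs := htabs_B2
  hrefl := fun i hi s hs => by
    rw [htabs_B2 i hi]
    exact (nxRel_B2 (F := ℚ) i hi s hs).2
  spec := fastB2.reflSpec_of_reflFacts _ _ reflFacts_B2
  hword := fun r hr => by
    obtain ⟨ws, j, h1, h2, h3⟩ := fastB2.exists_word_of_rootCertOK wTabs_B2 simples_B2 rootCert_B2
      (fastB2.reflSpec_of_reflFacts _ _ reflFacts_B2) rootCertOK_B2 r hr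
    exact ⟨ws, j, h1, h2, h3⟩
  nx := fun F _ i hi s hs => (nxRel_B2 (F := F) i hi s hs).1
  comm := fun F _ r s hr hs hsr hsn => commOK_B2 (F := F) r s hr hs hsr hsn

end Cfsg.Agent.Lib.Helper18
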