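/-
helper18: data for the commutator formula of type D4: packed tables of the action of the n_p(1) (p fundamental) on the
roots, the list of base pairs and the certificate (parent reflection and depth of every pair of roots).
-/
import Cfsg.Agent.Lib.Helper18.FastTD4
import Cfsg.Agent.Lib.Helper18.Comm

set_option autoImplicit false

namespace Cfsg.Agent.Lib.Helper18

open Cfsg.Lie

/-- The packed tables of the action of `n_p(1)` on the roots, for the fundamental roots `p`. -/
def wTabs_D4 : List ℕ := [82881672040111918981910604383825199004789209748152518048708264340764674, 81176471884543759509345239133593373947806333230308985244402361611323397, 82893478557829839402378746678996714019466911502276605418721088682075138, 82896856770648191069221101835057867237088430549021612584147349460229122]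

/-- The base pairs. -/
def commBases_D4 : List (ℕ × ℕ) := [(0, 1), (0, 5), (0, 10), (0, 11), (0, 14)]

/-- The certificate. -/
def commCert_D4 : ℕ := 0xc30b10b30a10a10b30a10a30910a10a30910910c30b10b30a10910b30a10a30910000b30000a20a30920920a30920930b30920930a20a30820820820920a30820920930000820a10920000820910820820910a10810820920810910720720820720910820720000810720a30930800000900800830a30930800930830900800700800700700930830000700800700910700810800000700910710700810810800710700700600600600810000710700600600600820720700600000820720700600620600500500720620600500000720620600500500a30930820830a309300009209308208208309209307208208300008207207207208207209107208109107108108200007208107208207108107206200007107206206207206206209307309308307108308307100008108307308107107300006107107106107106106106108108106106107107106107107100007107106106100006106105106106105105105105106208207208207206207206207206200006205200007206207206205206205206205205206308308307307306307307306306306300000005307307306306305306306305305305305107107106106105006106105105105100000004106006005005004105105104104104105107006007006005006105106105100005104100006005006005004105104105104104107207205205306206205306206300006206305205300005205304305305304304304304306204206205204005205204200005005204205004004200003204004203204203203203206004305006004005005300004305004305304005004303300004004303303304303303305004003003005004000004004003003003004004002003003000003002002002003002005107206206105100007206206105105205104104106205205104100006205205104104106204305205300004306204204305205205304204304303303303305200004204303303305204203200004103203205204203104203204103102203202202204203200002203102205104300003304103303304105103103304303104102302303302304103302300003102304100003103102102103102102104102102103103101101101102103101102102100001100003302202301001002301201300f01201300f00f03302202301000f02301201300f000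

set_option maxRecDepth 1000000 in
theorem wTab_D4_0 : fastD4.rootTab 18 = wTabs_D4.getD 0 0 := by decide +kernel

set_option maxRecDepth 1000000 in
theorem wTab_D4_1 : fastD4.rootTab 14 = wTabs_D4.getD 1 0 := by decide +kernel

set_option maxRecDepth 1000000 in
theorem wTab_D4_2 : fastD4.rootTab 13 = wTabs_D4.getD 2 0 := by decide +kernel

set_option maxRecDepth 1000000 in
theorem wTab_D4_3 : fastD4.rootTab 12 = wTabs_D4.getD 3 0 := by decide +kernel

end Cfsg.Agent.Lib.Helper18
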