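/-
helper18: checks for the commutator formula of type D4, part 0 (kernel computation).
-/
import Cfsg.Agent.Lib.Helper18.CommDataD4

set_option autoImplicit false

namespace Cfsg.Agent.Lib.Helper18

open Cfsg.Lie

set_option maxRecDepth 1000000 in
theorem commBase_D4_0 : fastD4.commBaseOK 0 1 = true := by decide +kernel

set_option maxRecDepth 1000000 in
theorem commBase_D4_1 : fastD4.commBaseOK 0 5 = true := by decide +kernel

set_option maxRecDepth 1000000 in
theorem commBase_D4_2 : fastD4.commBaseOK 0 10 = true := by decide +kernel

set_option maxRecDepth 1000000 in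
theorem commBase_D4_3 : fastD4.commBaseOK 0 11 = true := by decide +kernel

set_option maxRecDepth 1000000 in
theorem commBase_D4_4 : fastD4.commBaseOK 0 14 = true := by decide +kernel

set_option maxRecDepth 1000000 in
theorem certOK_D4_0 : fastD4.certOK wTabs_D4 commBases_D4 commCert_D4 0 24 = true := by decide +kernel

end Cfsg.Agent.Lib.Helper18
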