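/-
helper18: the reflected roots `reflectRoot i s` of type D4 agree with the action of n_(p_i)(1) (kernel computation).
-/
import Cfsg.Agent.Lib.Helper18.FastTD4
import Cfsg.Agent.Lib.Helper18.NX

set_option autoImplicit false

namespace Cfsg.Agent.Lib.Helper18

open Cfsg.Lie

theorem simple_D4_0 : chevD4.simple 0 = 18 := by decide

theorem simple_D4_1 : chevD4.simple 1 = 14 := by decide

theorem simple_D4_2 : chevD4.simple 2 = 13 := by decide

theorem simple_D4_3 : chevD4.simple 3 = 12 := by decide

set_option maxRecDepth 1000000 in
theorem reflOK_D4_0 : reflOK chevD4 fastD4 0 = true := by decide +kernel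

set_option maxRecDepth 1000000 in
theorem reflOK_D4_1 : reflOK chevD4 fastD4 1 = true := by decide +kernel

set_option maxRecDepth 1000000 in
theorem reflOK_D4_2 : reflOK chevD4 fastD4 2 = true := by decide +kernel

set_option maxRecDepth 1000000 in
theorem reflOK_D4_3 : reflOK chevD4 fastD4 3 = true := by decide +kernel

end Cfsg.Agent.Lib.Helper18
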