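/-
helper18: the relations n_p(1) x_s(t) = x_(w_p s)(eta t) n_p(1) for all fundamental roots p and all roots s of type D4.
-/
import Cfsg.Agent.Lib.Helper18.NXChkD4
import Cfsg.Agent.Lib.Helper18.NXReflD4

set_option autoImplicit false

namespace Cfsg.Agent.Lib.Helper18

open Cfsg.Lie

theorem nxRel_D4 {F : Type*} [Field F] (i : ℕ) (hi : i < 4) (s : ℕ) (hs : s < 24) :
    NXRel F fastD4 chevD4 (chevD4.simple i) s ∧ chevD4.reflectRoot i s = tabRoot (fastD4.rootTab (chevD4.simple i)) s := by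
  interval_cases i
  · have hp : chevD4.simple 0 = 18 := simple_D4_0
    refine ⟨?_, reflectRoot_eq_of_reflOK chevD4 fastD4 0 reflOK_D4_0 s hs⟩
    rw [hp]
    exact nxRel_of_nxCheckR fastD4 chevD4 agree_D4 18 (by decide) 0 24 nxCheckR_D4_0_0 s hs (by omega) (by omega)
  · have hp : chevD4.simple 1 = 14 := simple_D4_1
    refine ⟨?_, reflectRoot_eq_of_reflOK chevD4 fastD4 1 reflOK_D4_1 s hs⟩
    rw [hp]
    exact nxRel_of_nxCheckR fastD4 chevD4 agree_D4 14 (by decide) 0 24 nxCheckR_D4_1_0 s hs (by omega) (by omega)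
  · have hp : chevD4.simple 2 = 13 := simple_D4_2
    refine ⟨?_, reflectRoot_eq_of_reflOK chevD4 fastD4 2 reflOK_D4_2 s hs⟩
    rw [hp]
    exact nxRel_of_nxCheckR fastD4 chevD4 agree_D4 13 (by decide) 0 24 nxCheckR_D4_2_0 s hs (by omega) (by omega)
  · have hp : chevD4.simple 3 = 12 := simple_D4_3
    refine ⟨?_, reflectRoot_eq_of_reflOK chevD4 fastD4 3 reflOK_D4_3 s hs⟩
    rw [hp]
    exact nxRel_of_nxCheckR fastD4 chevD4 agree_D4 12 (by decide) 0 24 nxCheckR_D4_3_0 s hs (by omega) (by omega)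

end Cfsg.Agent.Lib.Helper18
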