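/-
helper18: Chevalley's commutator formula for all pairs of roots of type D4.
-/
import Cfsg.Agent.Lib.Helper18.CommChkD4
import Cfsg.Agent.Lib.Helper18.NXAllD4
import Cfsg.Agent.Lib.Helper18.FastChkD4
import Cfsg.Agent.Lib.Helper18.NConj

set_option autoImplicit false

namespace Cfsg.Agent.Lib.Helper18

open Cfsg.Lie

theorem commOK_D4 {F : Type*} [Field F] (r s : ℕ) (hr : r < 24) (hs : s < 24) (hsr : s ≠ r)
    (hsn : s ≠ fastD4.neg r) : CommOK F chevD4 r s := by
  have hag := agree_D4
  have hin := chainInRange_D4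
  refine fastD4.commOK_of_cert chevD4 hag hin wTabs_D4 ?_ ?_ ?_ commBases_D4 ?_ commCert_D4 ?_ r s hr hs hsr hsn
  · intro i hi
    change i < 4 at hi
    interval_cases i
    · rw [simple_D4_0]; exact wTab_D4_0.symm
    · rw [simple_D4_1]; exact wTab_D4_1.symm
    · rw [simple_D4_2]; exact wTab_D4_2.symm
    · rw [simple_D4_3]; exact wTab_D4_3.symm
  · intro i hi s hs
    exact (nxRel_D4 (F := F) i hi s hs).1
  · intro i hi
    apply nMat_one_mul_nMat_neg_one chevD4 (by simp)
    change i < 4 at hi
    interval_cases i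
    · rw [simple_D4_0]; decide
    · rw [simple_D4_1]; decide
    · rw [simple_D4_2]; decide
    · rw [simple_D4_3]; decide
  · intro p hp
    simp only [commBases_D4, List.mem_cons, List.not_mem_nil, or_false] at hp
    rcases hp with rfl | rfl | rfl | rfl | rfl
    · exact fastD4.commOK_of_commBaseOK chevD4 hag 0 1 (fastD4.commTermsF_eq chevD4 hag hin 0 1 (by decide) (by decide)) commBase_D4_0
    · exact fastD4.commOK_of_commBaseOK chevD4 hag 0 5 (fastD4.commTermsF_eq chevD4 hag hin 0 5 (by decide) (by decide)) commBase_D4_1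
    · exact fastD4.commOK_of_commBaseOK chevD4 hag 0 10 (fastD4.commTermsF_eq chevD4 hag hin 0 10 (by decide) (by decide)) commBase_D4_2
    · exact fastD4.commOK_of_commBaseOK chevD4 hag 0 11 (fastD4.commTermsF_eq chevD4 hag hin 0 11 (by decide) (by decide)) commBase_D4_3
    · exact fastD4.commOK_of_commBaseOK chevD4 hag 0 14 (fastD4.commTermsF_eq chevD4 hag hin 0 14 (by decide) (by decide)) commBase_D4_4
  · intro r s hr hs hsr hsn
    change r < 24 at hr
    change s < 24 at hs
    exact fastD4.pairOK_of_certOK _ _ _ 0 24 certOK_D4_0 r s (by omega) (by omega) hs hsr hsn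

end Cfsg.Agent.Lib.Helper18
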