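/-
helper18: the bundle of table facts and relations for type D4.
-/
import Cfsg.Agent.Lib.Helper18.ChevData
import Cfsg.Agent.Lib.Helper18.CommAllD4

set_option autoImplicit false

namespace Cfsg.Agent.Lib.Helper18

open Cfsg.Lie

/-- The fundamental roots. -/
def simples_D4 : List ℕ := [18, 14, 13, 12]

/-- The certificate that every root is conjugate to a fundamental root. -/
def rootCert_D4 : ℕ := 0x4103302202301100f02301201300f00f00f013012011023022033010021033032043051

set_option maxRecDepth 1000000 in
theorem reflFacts_D4 : fastD4.reflFacts wTabs_D4 simples_D4 = true := by decide +kernel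

set_option maxRecDepth 1000000 in
theorem rootCertOK_D4 : fastD4.rootCertOK wTabs_D4 simples_D4 rootCert_D4 = true := by decide +kernel

theorem hsimple_D4 : ∀ i < chevD4.rank, chevD4.simple i = simples_D4.getD i 0 := by
  intro i hi
  change i < 4 at hi
  interval_cases i
  · exact simple_D4_0
  · exact simple_D4_1
  · exact simple_D4_2
  · exact simple_D4_3

theorem htabs_D4 : ∀ i < chevD4.rank, wTabs_D4.getD i 0 = fastD4.rootTab (chevD4.simple i) := by
  intro i hi
  change i < 4 at hi
  interval_cases i
  · rw [simple_D4_0]; exact wTab_D4_0.symm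
  · rw [simple_D4_1]; exact wTab_D4_1.symm
  · rw [simple_D4_2]; exact wTab_D4_2.symm
  · rw [simple_D4_3]; exact wTab_D4_3.symm

/-- The bundle for type D4. -/
def chevData_D4.{u} : ChevData.{u} chevD4 where
  T := fastD4
  tabs := wTabs_D4
  simples := simples_D4
  hag := agree_D4
  hin := chainInRange_D4
  heven := by decide
  hsimple := hsimple_D4
  htabs := htabs_D4
  hrefl := fun i hi s hs => by
    rw [htabs_D4 i hi]
    exact (nxRel_D4 (F := ℚ) i hi s hs).2
  spec := fastD4.reflSpec_of_reflFacts _ _ reflFacts_D4
  hword := fun r hr => by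
    obtain ⟨ws, j, h1, h2, h3⟩ := fastD4.exists_word_of_rootCertOK wTabs_D4 simples_D4 rootCert_D4
      (fastD4.reflSpec_of_reflFacts _ _ reflFacts_D4) rootCertOK_D4 r hr
    exact ⟨ws, j, h1, h2, h3⟩
  nx := fun F _ i hi s hs => (nxRel_D4 (F := F) i hi s hs).1
  comm := fun F _ r s hr hs hsr hsn => commOK_D4 (F := F) r s hr hs hsr hsn

end Cfsg.Agent.Lib.Helper18
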