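/-
helper18: checks for the commutator formula of type E6, part 0 (kernel computation).
-/
import Cfsg.Agent.Lib.Helper18.CommDataE6

set_option autoImplicit false

namespace Cfsg.Agent.Lib.Helper18

open Cfsg.Lie

set_option maxRecDepth 1000000 in
theorem commBase_E6_0 : fastE6.commBaseOK 0 1 = true := by decide +kernel

set_option maxRecDepth 1000000 in
theorem commBase_E6_1 : fastE6.commBaseOK 0 11 = true := by decide +kernel

set_option maxRecDepth 1000000 in
theorem commBase_E6_2 : fastE6.commBaseOK 0 46 = true := by decide +kernel

set_option maxRecDepth 1000000 in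
theorem certOK_E6_0 : fastE6.certOK wTabs_E6 commBases_E6 commCert_E6 0 36 = true := by decide +kernel

set_option maxRecDepth 1000000 in
theorem certOK_E6_36 : fastE6.certOK wTabs_E6 commBases_E6 commCert_E6 36 36 = true := by decide +kernel

end Cfsg.Agent.Lib.Helper18
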