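/-
helper18: the reflected roots `reflectRoot i s` of type E6 agree with the action of n_(p_i)(1) (kernel computation).
-/
import Cfsg.Agent.Lib.Helper18.FastTE6
import Cfsg.Agent.Lib.Helper18.NX

set_option autoImplicit false

namespace Cfsg.Agent.Lib.Helper18

open Cfsg.Lie

theorem simple_E6_0 : chevE6.simple 0 = 56 := by decide

theorem simple_E6_1 : chevE6.simple 1 = 46 := by decide

theorem simple_E6_2 : chevE6.simple 2 = 42 := by decide

theorem simple_E6_3 : chevE6.simple 3 = 39 := by decide

theorem simple_E6_4 : chevE6.simple 4 = 37 := by decide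

theorem simple_E6_5 : chevE6.simple 5 = 36 := by decide

set_option maxRecDepth 1000000 in
theorem reflOK_E6_0 : reflOK chevE6 fastE6 0 = true := by decide +kernel

set_option maxRecDepth 1000000 in
theorem reflOK_E6_1 : reflOK chevE6 fastE6 1 = true := by decide +kernel

set_option maxRecDepth 1000000 in
theorem reflOK_E6_2 : reflOK chevE6 fastE6 2 = true := by decide +kernel

set_option maxRecDepth 1000000 in
theorem reflOK_E6_3 : reflOK chevE6 fastE6 3 = true := by decide +kernel

set_option maxRecDepth 1000000 in
theorem reflOK_E6_4 : reflOK chevE6 fastE6 4 = true := by decide +kernel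

set_option maxRecDepth 1000000 in
theorem reflOK_E6_5 : reflOK chevE6 fastE6 5 = true := by decide +kernel

end Cfsg.Agent.Lib.Helper18
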