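/-
helper18: the relations n_p(1) x_s(t) = x_(w_p s)(eta t) n_p(1) for all fundamental roots p and all roots s of type E6.
-/
import Cfsg.Agent.Lib.Helper18.NXChkE6p0
import Cfsg.Agent.Lib.Helper18.NXChkE6p1
import Cfsg.Agent.Lib.Helper18.NXReflE6

set_option autoImplicit false

namespace Cfsg.Agent.Lib.Helper18

open Cfsg.Lie

theorem nxRel_E6 {F : Type*} [Field F] (i : ℕ) (hi : i < 6) (s : ℕ) (hs : s < 72) :
    NXRel F fastE6 chevE6 (chevE6.simple i) s ∧ chevE6.reflectRoot i s = tabRoot (fastE6.rootTab (chevE6.simple i)) s := by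
  interval_cases i
  · have hp : chevE6.simple 0 = 56 := simple_E6_0
    refine ⟨?_, reflectRoot_eq_of_reflOK chevE6 fastE6 0 reflOK_E6_0 s hs⟩
    rw [hp]
    exact nxRel_of_nxCheckR fastE6 chevE6 agree_E6 56 (by decide) 0 72 nxCheckR_E6_0_0 s hs (by omega) (by omega)
  · have hp : chevE6.simple 1 = 46 := simple_E6_1
    refine ⟨?_, reflectRoot_eq_of_reflOK chevE6 fastE6 1 reflOK_E6_1 s hs⟩
    rw [hp]
    exact nxRel_of_nxCheckR fastE6 chevE6 agree_E6 46 (by decide) 0 72 nxCheckR_E6_1_0 s hs (by omega) (by omega)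
  · have hp : chevE6.simple 2 = 42 := simple_E6_2
    refine ⟨?_, reflectRoot_eq_of_reflOK chevE6 fastE6 2 reflOK_E6_2 s hs⟩
    rw [hp]
    exact nxRel_of_nxCheckR fastE6 chevE6 agree_E6 42 (by decide) 0 72 nxCheckR_E6_2_0 s hs (by omega) (by omega)
  · have hp : chevE6.simple 3 = 39 := simple_E6_3
    refine ⟨?_, reflectRoot_eq_of_reflOK chevE6 fastE6 3 reflOK_E6_3 s hs⟩
    rw [hp]
    exact nxRel_of_nxCheckR fastE6 chevE6 agree_E6 39 (by decide) 0 72 nxCheckR_E6_3_0 s hs (by omega) (by omega)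
  · have hp : chevE6.simple 4 = 37 := simple_E6_4
    refine ⟨?_, reflectRoot_eq_of_reflOK chevE6 fastE6 4 reflOK_E6_4 s hs⟩
    rw [hp]
    exact nxRel_of_nxCheckR fastE6 chevE6 agree_E6 37 (by decide) 0 72 nxCheckR_E6_4_0 s hs (by omega) (by omega)
  · have hp : chevE6.simple 5 = 36 := simple_E6_5
    refine ⟨?_, reflectRoot_eq_of_reflOK chevE6 fastE6 5 reflOK_E6_5 s hs⟩
    rw [hp]
    exact nxRel_of_nxCheckR fastE6 chevE6 agree_E6 36 (by decide) 0 72 nxCheckR_E6_5_0 s hs (by omega) (by omega)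

end Cfsg.Agent.Lib.Helper18
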