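/-
helper18: Chevalley's commutator formula for all pairs of roots of type E6.
-/
import Cfsg.Agent.Lib.Helper18.CommChkE6
import Cfsg.Agent.Lib.Helper18.NXAllE6
import Cfsg.Agent.Lib.Helper18.FastChkE6
import Cfsg.Agent.Lib.Helper18.NConj

set_option autoImplicit false

namespace Cfsg.Agent.Lib.Helper18

open Cfsg.Lie

theorem commOK_E6 {F : Type*} [Field F] (r s : ℕ) (hr : r < 72) (hs : s < 72) (hsr : s ≠ r)
    (hsn : s ≠ fastE6.neg r) : CommOK F chevE6 r s := by
  have hag := agree_E6
  have hin := chainInRange_E6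
  refine fastE6.commOK_of_cert chevE6 hag hin wTabs_E6 ?_ ?_ ?_ commBases_E6 ?_ commCert_E6 ?_ r s hr hs hsr hsn
  · intro i hi
    change i < 6 at hi
    interval_cases i
    · rw [simple_E6_0]; exact wTab_E6_0.symm
    · rw [simple_E6_1]; exact wTab_E6_1.symm
    · rw [simple_E6_2]; exact wTab_E6_2.symm
    · rw [simple_E6_3]; exact wTab_E6_3.symm
    · rw [simple_E6_4]; exact wTab_E6_4.symm
    · rw [simple_E6_5]; exact wTab_E6_5.symm
  · intro i hi s hs
    exact (nxRel_E6 (F := F) i hi s hs).1
  · intro i hi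
    apply nMat_one_mul_nMat_neg_one chevE6 (by simp)
    change i < 6 at hi
    interval_cases i
    · rw [simple_E6_0]; decide
    · rw [simple_E6_1]; decide
    · rw [simple_E6_2]; decide
    · rw [simple_E6_3]; decide
    · rw [simple_E6_4]; decide
    · rw [simple_E6_5]; decide
  · intro p hp
    simp only [commBases_E6, List.mem_cons, List.not_mem_nil, or_false] at hp
    rcases hp with rfl | rfl | rfl
    · exact fastE6.commOK_of_commBaseOK chevE6 hag 0 1 (fastE6.commTermsF_eq chevE6 hag hin 0 1 (by decide) (by decide)) commBase_E6_0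
    · exact fastE6.commOK_of_commBaseOK chevE6 hag 0 11 (fastE6.commTermsF_eq chevE6 hag hin 0 11 (by decide) (by decide)) commBase_E6_1
    · exact fastE6.commOK_of_commBaseOK chevE6 hag 0 46 (fastE6.commTermsF_eq chevE6 hag hin 0 46 (by decide) (by decide)) commBase_E6_2
  · intro r s hr hs hsr hsn
    change r < 72 at hr
    change s < 72 at hs
    by_cases h0 : r < 36
    · exact fastE6.pairOK_of_certOK _ _ _ 0 36 certOK_E6_0 r s (by omega) (by omega) hs hsr hsn
    exact fastE6.pairOK_of_certOK _ _ _ 36 36 certOK_E6_36 r s (by omega) (by omega) hs hsr hsn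

end Cfsg.Agent.Lib.Helper18
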