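/-
helper18: the bundle of table facts and relations for type E6.
-/
import Cfsg.Agent.Lib.Helper18.ChevData
import Cfsg.Agent.Lib.Helper18.CommAllE6

set_option autoImplicit false

namespace Cfsg.Agent.Lib.Helper18

open Cfsg.Lie

/-- The fundamental roots. -/
def simples_E6 : List ℕ := [56, 46, 42, 39, 37, 36]

/-- The certificate that every root is conjugate to a fundamental root. -/
def rootCert_E6 : ℕ := 0xa109308407506207406505305504403104503402301200f06405504304503402203502401300f03502401300f02501400f01500f00f0150140250130240350120230340450110230340450320440550530650740100220330440550410540650630750840720850940a30b1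

set_option maxRecDepth 1000000 in
theorem reflFacts_E6 : fastE6.reflFacts wTabs_E6 simples_E6 = true := by decide +kernel

set_option maxRecDepth 1000000 in
theorem rootCertOK_E6 : fastE6.rootCertOK wTabs_E6 simples_E6 rootCert_E6 = true := by decide +kernel

theorem hsimple_E6 : ∀ i < chevE6.rank, chevE6.simple i = simples_E6.getD i 0 := by
  intro i hi
  change i < 6 at hi
  interval_cases i
  · exact simple_E6_0
  · exact simple_E6_1
  · exact simple_E6_2
  · exact simple_E6_3
  · exact simple_E6_4
  · exact simple_E6_5

theorem htabs_E6 : ∀ i < chevE6.rank, wTabs_E6.getD i 0 = fastE6.rootTab (chevE6.simple i) := by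
  intro i hi
  change i < 6 at hi
  interval_cases i
  · rw [simple_E6_0]; exact wTab_E6_0.symm
  · rw [simple_E6_1]; exact wTab_E6_1.symm
  · rw [simple_E6_2]; exact wTab_E6_2.symm
  · rw [simple_E6_3]; exact wTab_E6_3.symm
  · rw [simple_E6_4]; exact wTab_E6_4.symm
  · rw [simple_E6_5]; exact wTab_E6_5.symm

/-- The bundle for type E6. -/
def chevData_E6.{u} : ChevData.{u} chevE6 where
  T := fastE6
  tabs := wTabs_E6
  simples := simples_E6
  hag := agree_E6
  hin := chainInRange_E6
  heven := by decide
  hsimple := hsimple_E6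
  htabs := htabs_E6
  hrefl := fun i hi s hs => by
    rw [htabs_E6 i hi]
    exact (nxRel_E6 (F := ℚ) i hi s hs).2
  spec := fastE6.reflSpec_of_reflFacts _ _ reflFacts_E6
  hword := fun r hr => by
    obtain ⟨ws, j, h1, h2, h3⟩ := fastE6.exists_word_of_rootCertOK wTabs_E6 simples_E6 rootCert_E6
      (fastE6.reflSpec_of_reflFacts _ _ reflFacts_E6) rootCertOK_E6 r hr
    exact ⟨ws, j, h1, h2, h3⟩
  nx := fun F _ i hi s hs => (nxRel_E6 (F := F) i hi s hs).1
  comm := fun F _ r s hr hs hsr hsn => commOK_E6 (F := F) r s hr hs hsr hsn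

end Cfsg.Agent.Lib.Helper18
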