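/-
helper18: checks for the commutator formula of type E7, part 1 (kernel computation).
-/
import Cfsg.Agent.Lib.Helper18.CommDataE7

set_option autoImplicit false

namespace Cfsg.Agent.Lib.Helper18

open Cfsg.Lie

set_option maxRecDepth 1000000 in
theorem certOK_E7_0 : fastE7.certOK wTabs_E7 commBases_E7 commCert_E7 0 42 = true := by decide +kernel

set_option maxRecDepth 1000000 in
theorem certOK_E7_42 : fastE7.certOK wTabs_E7 commBases_E7 commCert_E7 42 42 = true := by decide +kernel

set_option maxRecDepth 1000000 in
theorem certOK_E7_84 : fastE7.certOK wTabs_E7 commBases_E7 commCert_E7 84 42 = true := by decide +kernel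

end Cfsg.Agent.Lib.Helper18
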