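/-
helper18: the relations n_p(1) x_s(t) = x_(s')(eta t) n_p(1) of type E7, part 1 (kernel computation).
-/
import Cfsg.Agent.Lib.Helper18.FastTE7
import Cfsg.Agent.Lib.Helper18.NX

set_option autoImplicit false

namespace Cfsg.Agent.Lib.Helper18

open Cfsg.Lie

set_option maxRecDepth 1000000 in
theorem nxCheckR_E7_1_0 : fastE7.nxCheckR 78 0 126 = true := by decide +kernel

end Cfsg.Agent.Lib.Helper18
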