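/-
helper18: the reflected roots `reflectRoot i s` of type E7 agree with the action of n_(p_i)(1) (kernel computation).
-/
import Cfsg.Agent.Lib.Helper18.FastTE7
import Cfsg.Agent.Lib.Helper18.NX

set_option autoImplicit false

namespace Cfsg.Agent.Lib.Helper18

open Cfsg.Lie

theorem simple_E7_0 : chevE7.simple 0 = 93 := by decide

theorem simple_E7_1 : chevE7.simple 1 = 78 := by decide

theorem simple_E7_2 : chevE7.simple 2 = 73 := by decide

theorem simple_E7_3 : chevE7.simple 3 = 69 := by decide

theorem simple_E7_4 : chevE7.simple 4 = 66 := by decide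

theorem simple_E7_5 : chevE7.simple 5 = 64 := by decide

theorem simple_E7_6 : chevE7.simple 6 = 63 := by decide

set_option maxRecDepth 1000000 in
theorem reflOK_E7_0 : reflOK chevE7 fastE7 0 = true := by decide +kernel

set_option maxRecDepth 1000000 in
theorem reflOK_E7_1 : reflOK chevE7 fastE7 1 = true := by decide +kernel

set_option maxRecDepth 1000000 in
theorem reflOK_E7_2 : reflOK chevE7 fastE7 2 = true := by decide +kernel

set_option maxRecDepth 1000000 in
theorem reflOK_E7_3 : reflOK chevE7 fastE7 3 = true := by decide +kernel

set_option maxRecDepth 1000000 in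
theorem reflOK_E7_4 : reflOK chevE7 fastE7 4 = true := by decide +kernel

set_option maxRecDepth 1000000 in
theorem reflOK_E7_5 : reflOK chevE7 fastE7 5 = true := by decide +kernel

set_option maxRecDepth 1000000 in
theorem reflOK_E7_6 : reflOK chevE7 fastE7 6 = true := by decide +kernel

end Cfsg.Agent.Lib.Helper18
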