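/-
helper18: the relations n_p(1) x_s(t) = x_(w_p s)(eta t) n_p(1) for all fundamental roots p and all roots s of type E7.
-/
import Cfsg.Agent.Lib.Helper18.NXChkE7p0
import Cfsg.Agent.Lib.Helper18.NXChkE7p1
import Cfsg.Agent.Lib.Helper18.NXChkE7p2
import Cfsg.Agent.Lib.Helper18.NXChkE7p3
import Cfsg.Agent.Lib.Helper18.NXChkE7p4
import Cfsg.Agent.Lib.Helper18.NXChkE7p5
import Cfsg.Agent.Lib.Helper18.NXChkE7p6
import Cfsg.Agent.Lib.Helper18.NXReflE7

set_option autoImplicit false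

namespace Cfsg.Agent.Lib.Helper18

open Cfsg.Lie

theorem nxRel_E7 {F : Type*} [Field F] (i : ℕ) (hi : i < 7) (s : ℕ) (hs : s < 126) :
    NXRel F fastE7 chevE7 (chevE7.simple i) s ∧ chevE7.reflectRoot i s = tabRoot (fastE7.rootTab (chevE7.simple i)) s := by
  interval_cases i
  · have hp : chevE7.simple 0 = 93 := simple_E7_0
    refine ⟨?_, reflectRoot_eq_of_reflOK chevE7 fastE7 0 reflOK_E7_0 s hs⟩
    rw [hp]
    exact nxRel_of_nxCheckR fastE7 chevE7 agree_E7 93 (by decide) 0 126 nxCheckR_E7_0_0 s hs (by omega) (by omega)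
  · have hp : chevE7.simple 1 = 78 := simple_E7_1
    refine ⟨?_, reflectRoot_eq_of_reflOK chevE7 fastE7 1 reflOK_E7_1 s hs⟩
    rw [hp]
    exact nxRel_of_nxCheckR fastE7 chevE7 agree_E7 78 (by decide) 0 126 nxCheckR_E7_1_0 s hs (by omega) (by omega)
  · have hp : chevE7.simple 2 = 73 := simple_E7_2
    refine ⟨?_, reflectRoot_eq_of_reflOK chevE7 fastE7 2 reflOK_E7_2 s hs⟩
    rw [hp]
    exact nxRel_of_nxCheckR fastE7 chevE7 agree_E7 73 (by decide) 0 126 nxCheckR_E7_2_0 s hs (by omega) (by omega)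
  · have hp : chevE7.simple 3 = 69 := simple_E7_3
    refine ⟨?_, reflectRoot_eq_of_reflOK chevE7 fastE7 3 reflOK_E7_3 s hs⟩
    rw [hp]
    exact nxRel_of_nxCheckR fastE7 chevE7 agree_E7 69 (by decide) 0 126 nxCheckR_E7_3_0 s hs (by omega) (by omega)
  · have hp : chevE7.simple 4 = 66 := simple_E7_4
    refine ⟨?_, reflectRoot_eq_of_reflOK chevE7 fastE7 4 reflOK_E7_4 s hs⟩
    rw [hp]
    exact nxRel_of_nxCheckR fastE7 chevE7 agree_E7 66 (by decide) 0 126 nxCheckR_E7_4_0 s hs (by omega) (by omega)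
  · have hp : chevE7.simple 5 = 64 := simple_E7_5
    refine ⟨?_, reflectRoot_eq_of_reflOK chevE7 fastE7 5 reflOK_E7_5 s hs⟩
    rw [hp]
    exact nxRel_of_nxCheckR fastE7 chevE7 agree_E7 64 (by decide) 0 126 nxCheckR_E7_5_0 s hs (by omega) (by omega)
  · have hp : chevE7.simple 6 = 63 := simple_E7_6
    refine ⟨?_, reflectRoot_eq_of_reflOK chevE7 fastE7 6 reflOK_E7_6 s hs⟩
    rw [hp]
    exact nxRel_of_nxCheckR fastE7 chevE7 agree_E7 63 (by decide) 0 126 nxCheckR_E7_6_0 s hs (by omega) (by omega)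

end Cfsg.Agent.Lib.Helper18
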