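/-
helper18: Chevalley's commutator formula for all pairs of roots of type E7.
-/
import Cfsg.Agent.Lib.Helper18.CommChkE7p0
import Cfsg.Agent.Lib.Helper18.CommChkE7p1
import Cfsg.Agent.Lib.Helper18.NXAllE7
import Cfsg.Agent.Lib.Helper18.FastChkE7
import Cfsg.Agent.Lib.Helper18.NConj

set_option autoImplicit false

namespace Cfsg.Agent.Lib.Helper18

open Cfsg.Lie

theorem commOK_E7 {F : Type*} [Field F] (r s : ℕ) (hr : r < 126) (hs : s < 126) (hsr : s ≠ r)
    (hsn : s ≠ fastE7.neg r) : CommOK F chevE7 r s := by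
  have hag := agree_E7
  have hin := chainInRange_E7
  refine fastE7.commOK_of_cert chevE7 hag hin wTabs_E7 ?_ ?_ ?_ commBases_E7 ?_ commCert_E7 ?_ r s hr hs hsr hsn
  · intro i hi
    change i < 7 at hi
    interval_cases i
    · rw [simple_E7_0]; exact wTab_E7_0.symm
    · rw [simple_E7_1]; exact wTab_E7_1.symm
    · rw [simple_E7_2]; exact wTab_E7_2.symm
    · rw [simple_E7_3]; exact wTab_E7_3.symm
    · rw [simple_E7_4]; exact wTab_E7_4.symm
    · rw [simple_E7_5]; exact wTab_E7_5.symm
    · rw [simple_E7_6]; exact wTab_E7_6.symm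
  · intro i hi s hs
    exact (nxRel_E7 (F := F) i hi s hs).1
  · intro i hi
    apply nMat_one_mul_nMat_neg_one chevE7 (by simp)
    change i < 7 at hi
    interval_cases i
    · rw [simple_E7_0]; decide
    · rw [simple_E7_1]; decide
    · rw [simple_E7_2]; decide
    · rw [simple_E7_3]; decide
    · rw [simple_E7_4]; decide
    · rw [simple_E7_5]; decide
    · rw [simple_E7_6]; decide
  · intro p hp
    simp only [commBases_E7, List.mem_cons, List.not_mem_nil, or_false] at hp
    rcases hp with rfl | rfl | rfl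
    · exact fastE7.commOK_of_commBaseOK chevE7 hag 0 1 (fastE7.commTermsF_eq chevE7 hag hin 0 1 (by decide) (by decide)) commBase_E7_0
    · exact fastE7.commOK_of_commBaseOK chevE7 hag 0 33 (fastE7.commTermsF_eq chevE7 hag hin 0 33 (by decide) (by decide)) commBase_E7_1
    · exact fastE7.commOK_of_commBaseOK chevE7 hag 0 93 (fastE7.commTermsF_eq chevE7 hag hin 0 93 (by decide) (by decide)) commBase_E7_2
  · intro r s hr hs hsr hsn
    change r < 126 at hr
    change s < 126 at hs
    by_cases h0 : r < 42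
    · exact fastE7.pairOK_of_certOK _ _ _ 0 42 certOK_E7_0 r s (by omega) (by omega) hs hsr hsn
    by_cases h42 : r < 84
    · exact fastE7.pairOK_of_certOK _ _ _ 42 42 certOK_E7_42 r s (by omega) (by omega) hs hsr hsn
    exact fastE7.pairOK_of_certOK _ _ _ 84 42 certOK_E7_84 r s (by omega) (by omega) hs hsr hsn

end Cfsg.Agent.Lib.Helper18
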