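/-
helper18: the bundle of table facts and relations for type E7.
-/
import Cfsg.Agent.Lib.Helper18.ChevData
import Cfsg.Agent.Lib.Helper18.CommAllE7

set_option autoImplicit false

namespace Cfsg.Agent.Lib.Helper18

open Cfsg.Lie

/-- The fundamental roots. -/
def simples_E7 : List ℕ := [93, 78, 73, 69, 66, 64, 63]

/-- The certificate that every root is conjugate to a fundamental root. -/
def rootCert_E7 : ℕ := 0x1000f20e30d40c50b60a10c40b50a60930a509608408607506209508607407606505306605504403105604503402301200f08507606406605504305604503402204603502401300f04603502401300f03602501400f02601500f01600f00f0160150260140250360130240350460120230340450560110230340450560320440550660530650760740860950100220330440550660410540650760630750860840960a50720850960940a60b50a30b60c50d40b10c60d50e40f3102110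

set_option maxRecDepth 1000000 in
theorem reflFacts_E7 : fastE7.reflFacts wTabs_E7 simples_E7 = true := by decide +kernel

set_option maxRecDepth 1000000 in
theorem rootCertOK_E7 : fastE7.rootCertOK wTabs_E7 simples_E7 rootCert_E7 = true := by decide +kernel

theorem hsimple_E7 : ∀ i < chevE7.rank, chevE7.simple i = simples_E7.getD i 0 := by
  intro i hi
  change i < 7 at hi
  interval_cases i
  · exact simple_E7_0
  · exact simple_E7_1
  · exact simple_E7_2
  · exact simple_E7_3
  · exact simple_E7_4
  · exact simple_E7_5
  · exact simple_E7_6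

theorem htabs_E7 : ∀ i < chevE7.rank, wTabs_E7.getD i 0 = fastE7.rootTab (chevE7.simple i) := by
  intro i hi
  change i < 7 at hi
  interval_cases i
  · rw [simple_E7_0]; exact wTab_E7_0.symm
  · rw [simple_E7_1]; exact wTab_E7_1.symm
  · rw [simple_E7_2]; exact wTab_E7_2.symm
  · rw [simple_E7_3]; exact wTab_E7_3.symm
  · rw [simple_E7_4]; exact wTab_E7_4.symm
  · rw [simple_E7_5]; exact wTab_E7_5.symm
  · rw [simple_E7_6]; exact wTab_E7_6.symm

/-- The bundle for type E7. -/
def chevData_E7.{u} : ChevData.{u} chevE7 where
  T := fastE7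
  tabs := wTabs_E7
  simples := simples_E7
  hag := agree_E7
  hin := chainInRange_E7
  heven := by decide
  hsimple := hsimple_E7
  htabs := htabs_E7
  hrefl := fun i hi s hs => by
    rw [htabs_E7 i hi]
    exact (nxRel_E7 (F := ℚ) i hi s hs).2
  spec := fastE7.reflSpec_of_reflFacts _ _ reflFacts_E7
  hword := fun r hr => by
    obtain ⟨ws, j, h1, h2, h3⟩ := fastE7.exists_word_of_rootCertOK wTabs_E7 simples_E7 rootCert_E7
      (fastE7.reflSpec_of_reflFacts _ _ reflFacts_E7) rootCertOK_E7 r hr
    exact ⟨ws, j, h1, h2, h3⟩
  nx := fun F _ i hi s hs => (nxRel_E7 (F := F) i hi s hs).1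
  comm := fun F _ r s hr hs hsr hsn => commOK_E7 (F := F) r s hr hs hsr hsn

end Cfsg.Agent.Lib.Helper18
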