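/-
helper18: checks for the commutator formula of type E8, part 0 (kernel computation).
-/
import Cfsg.Agent.Lib.Helper18.CommDataE8

set_option autoImplicit false

namespace Cfsg.Agent.Lib.Helper18

open Cfsg.Lie

set_option maxRecDepth 1000000 in
theorem commBase_E8_0 : fastE8.commBaseOK 0 1 = true := by decide +kernel

set_option maxRecDepth 1000000 in
theorem commBase_E8_1 : fastE8.commBaseOK 0 13 = true := by decide +kernel

set_option maxRecDepth 1000000 in
theorem commBase_E8_2 : fastE8.commBaseOK 0 120 = true := by decide +kernel

end Cfsg.Agent.Lib.Helper18
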