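/-
helper18: checks for the commutator formula of type E8, part 2 (kernel computation).
-/
import Cfsg.Agent.Lib.Helper18.CommDataE8

set_option autoImplicit false

namespace Cfsg.Agent.Lib.Helper18

open Cfsg.Lie

set_option maxRecDepth 1000000 in
theorem certOK_E8_120 : fastE8.certOK wTabs_E8 commBases_E8 commCert_E8 120 40 = true := by decide +kernel

set_option maxRecDepth 1000000 in
theorem certOK_E8_160 : fastE8.certOK wTabs_E8 commBases_E8 commCert_E8 160 40 = true := by decide +kernel

set_option maxRecDepth 1000000 in
theorem certOK_E8_200 : fastE8.certOK wTabs_E8 commBases_E8 commCert_E8 200 40 = true := by decide +kernel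

end Cfsg.Agent.Lib.Helper18
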