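/-
helper18: the relations n_p(1) x_s(t) = x_(s')(eta t) n_p(1) of type E8, part 15 (kernel computation).
-/
import Cfsg.Agent.Lib.Helper18.FastTE8
import Cfsg.Agent.Lib.Helper18.NX

set_option autoImplicit false

namespace Cfsg.Agent.Lib.Helper18

open Cfsg.Lie

set_option maxRecDepth 1000000 in
theorem nxCheckR_E8_7_120 : fastE8.nxCheckR 120 120 40 = true := by decide +kernel

set_option maxRecDepth 1000000 in
theorem nxCheckR_E8_7_160 : fastE8.nxCheckR 120 160 40 = true := by decide +kernel

set_option maxRecDepth 1000000 in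
theorem nxCheckR_E8_7_200 : fastE8.nxCheckR 120 200 40 = true := by decide +kernel

end Cfsg.Agent.Lib.Helper18
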