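/-
helper18: the reflected roots `reflectRoot i s` of type E8 agree with the action of n_(p_i)(1) (kernel computation).
-/
import Cfsg.Agent.Lib.Helper18.FastTE8
import Cfsg.Agent.Lib.Helper18.NX

set_option autoImplicit false

namespace Cfsg.Agent.Lib.Helper18

open Cfsg.Lie

theorem simple_E8_0 : chevE8.simple 0 = 162 := by decide

theorem simple_E8_1 : chevE8.simple 1 = 141 := by decide

theorem simple_E8_2 : chevE8.simple 2 = 135 := by decide

theorem simple_E8_3 : chevE8.simple 3 = 130 := by decide

theorem simple_E8_4 : chevE8.simple 4 = 126 := by decide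

theorem simple_E8_5 : chevE8.simple 5 = 123 := by decide

theorem simple_E8_6 : chevE8.simple 6 = 121 := by decide

theorem simple_E8_7 : chevE8.simple 7 = 120 := by decide

set_option maxRecDepth 1000000 in
theorem reflOK_E8_0 : reflOK chevE8 fastE8 0 = true := by decide +kernel

set_option maxRecDepth 1000000 in
theorem reflOK_E8_1 : reflOK chevE8 fastE8 1 = true := by decide +kernel

set_option maxRecDepth 1000000 in
theorem reflOK_E8_2 : reflOK chevE8 fastE8 2 = true := by decide +kernel

set_option maxRecDepth 1000000 in
theorem reflOK_E8_3 : reflOK chevE8 fastE8 3 = true := by decide +kernel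

set_option maxRecDepth 1000000 in
theorem reflOK_E8_4 : reflOK chevE8 fastE8 4 = true := by decide +kernel

set_option maxRecDepth 1000000 in
theorem reflOK_E8_5 : reflOK chevE8 fastE8 5 = true := by decide +kernel

set_option maxRecDepth 1000000 in
theorem reflOK_E8_6 : reflOK chevE8 fastE8 6 = true := by decide +kernel

set_option maxRecDepth 1000000 in
theorem reflOK_E8_7 : reflOK chevE8 fastE8 7 = true := by decide +kernel

end Cfsg.Agent.Lib.Helper18
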