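/-
helper18: the relations n_p(1) x_s(t) = x_(w_p s)(eta t) n_p(1) for all fundamental roots p and all roots s of type E8.
-/
import Cfsg.Agent.Lib.Helper18.NXChkE8p0
import Cfsg.Agent.Lib.Helper18.NXChkE8p1
import Cfsg.Agent.Lib.Helper18.NXChkE8p2
import Cfsg.Agent.Lib.Helper18.NXChkE8p3
import Cfsg.Agent.Lib.Helper18.NXChkE8p4
import Cfsg.Agent.Lib.Helper18.NXChkE8p5
import Cfsg.Agent.Lib.Helper18.NXChkE8p6
import Cfsg.Agent.Lib.Helper18.NXChkE8p7
import Cfsg.Agent.Lib.Helper18.NXChkE8p8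
import Cfsg.Agent.Lib.Helper18.NXChkE8p9
import Cfsg.Agent.Lib.Helper18.NXChkE8p10
import Cfsg.Agent.Lib.Helper18.NXChkE8p11
import Cfsg.Agent.Lib.Helper18.NXChkE8p12
import Cfsg.Agent.Lib.Helper18.NXChkE8p13
import Cfsg.Agent.Lib.Helper18.NXChkE8p14
import Cfsg.Agent.Lib.Helper18.NXChkE8p15
import Cfsg.Agent.Lib.Helper18.NXReflE8

set_option autoImplicit false

namespace Cfsg.Agent.Lib.Helper18

open Cfsg.Lie

theorem nxRel_E8 {F : Type*} [Field F] (i : ℕ) (hi : i < 8) (s : ℕ) (hs : s < 240) :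
    NXRel F fastE8 chevE8 (chevE8.simple i) s ∧ chevE8.reflectRoot i s = tabRoot (fastE8.rootTab (chevE8.simple i)) s := by
  interval_cases i
  · have hp : chevE8.simple 0 = 162 := simple_E8_0
    refine ⟨?_, reflectRoot_eq_of_reflOK chevE8 fastE8 0 reflOK_E8_0 s hs⟩
    rw [hp]
    by_cases h0 : s < 40
    · exact nxRel_of_nxCheckR fastE8 chevE8 agree_E8 162 (by decide) 0 40 nxCheckR_E8_0_0 s hs (by omega) (by omega)
    by_cases h40 : s < 80
    · exact nxRel_of_nxCheckR fastE8 chevE8 agree_E8 162 (by decide) 40 40 nxCheckR_E8_0_40 s hs (by omega) (by omega)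
    by_cases h80 : s < 120
    · exact nxRel_of_nxCheckR fastE8 chevE8 agree_E8 162 (by decide) 80 40 nxCheckR_E8_0_80 s hs (by omega) (by omega)
    by_cases h120 : s < 160
    · exact nxRel_of_nxCheckR fastE8 chevE8 agree_E8 162 (by decide) 120 40 nxCheckR_E8_0_120 s hs (by omega) (by omega)
    by_cases h160 : s < 200
    · exact nxRel_of_nxCheckR fastE8 chevE8 agree_E8 162 (by decide) 160 40 nxCheckR_E8_0_160 s hs (by omega) (by omega)
    exact nxRel_of_nxCheckR fastE8 chevE8 agree_E8 162 (by decide) 200 40 nxCheckR_E8_0_200 s hs (by omega) (by omega)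
  · have hp : chevE8.simple 1 = 141 := simple_E8_1
    refine ⟨?_, reflectRoot_eq_of_reflOK chevE8 fastE8 1 reflOK_E8_1 s hs⟩
    rw [hp]
    by_cases h0 : s < 40
    · exact nxRel_of_nxCheckR fastE8 chevE8 agree_E8 141 (by decide) 0 40 nxCheckR_E8_1_0 s hs (by omega) (by omega)
    by_cases h40 : s < 80
    · exact nxRel_of_nxCheckR fastE8 chevE8 agree_E8 141 (by decide) 40 40 nxCheckR_E8_1_40 s hs (by omega) (by omega)
    by_cases h80 : s < 120
    · exact nxRel_of_nxCheckR fastE8 chevE8 agree_E8 141 (by decide) 80 40 nxCheckR_E8_1_80 s hs (by omega) (by omega)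
    by_cases h120 : s < 160
    · exact nxRel_of_nxCheckR fastE8 chevE8 agree_E8 141 (by decide) 120 40 nxCheckR_E8_1_120 s hs (by omega) (by omega)
    by_cases h160 : s < 200
    · exact nxRel_of_nxCheckR fastE8 chevE8 agree_E8 141 (by decide) 160 40 nxCheckR_E8_1_160 s hs (by omega) (by omega)
    exact nxRel_of_nxCheckR fastE8 chevE8 agree_E8 141 (by decide) 200 40 nxCheckR_E8_1_200 s hs (by omega) (by omega)
  · have hp : chevE8.simple 2 = 135 := simple_E8_2
    refine ⟨?_, reflectRoot_eq_of_reflOK chevE8 fastE8 2 reflOK_E8_2 s hs⟩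
    rw [hp]
    by_cases h0 : s < 40
    · exact nxRel_of_nxCheckR fastE8 chevE8 agree_E8 135 (by decide) 0 40 nxCheckR_E8_2_0 s hs (by omega) (by omega)
    by_cases h40 : s < 80
    · exact nxRel_of_nxCheckR fastE8 chevE8 agree_E8 135 (by decide) 40 40 nxCheckR_E8_2_40 s hs (by omega) (by omega)
    by_cases h80 : s < 120
    · exact nxRel_of_nxCheckR fastE8 chevE8 agree_E8 135 (by decide) 80 40 nxCheckR_E8_2_80 s hs (by omega) (by omega)
    by_cases h120 : s < 160
    · exact nxRel_of_nxCheckR fastE8 chevE8 agree_E8 135 (by decide) 120 40 nxCheckR_E8_2_120 s hs (by omega) (by omega)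
    by_cases h160 : s < 200
    · exact nxRel_of_nxCheckR fastE8 chevE8 agree_E8 135 (by decide) 160 40 nxCheckR_E8_2_160 s hs (by omega) (by omega)
    exact nxRel_of_nxCheckR fastE8 chevE8 agree_E8 135 (by decide) 200 40 nxCheckR_E8_2_200 s hs (by omega) (by omega)
  · have hp : chevE8.simple 3 = 130 := simple_E8_3
    refine ⟨?_, reflectRoot_eq_of_reflOK chevE8 fastE8 3 reflOK_E8_3 s hs⟩
    rw [hp]
    by_cases h0 : s < 40
    · exact nxRel_of_nxCheckR fastE8 chevE8 agree_E8 130 (by decide) 0 40 nxCheckR_E8_3_0 s hs (by omega) (by omega)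
    by_cases h40 : s < 80
    · exact nxRel_of_nxCheckR fastE8 chevE8 agree_E8 130 (by decide) 40 40 nxCheckR_E8_3_40 s hs (by omega) (by omega)
    by_cases h80 : s < 120
    · exact nxRel_of_nxCheckR fastE8 chevE8 agree_E8 130 (by decide) 80 40 nxCheckR_E8_3_80 s hs (by omega) (by omega)
    by_cases h120 : s < 160
    · exact nxRel_of_nxCheckR fastE8 chevE8 agree_E8 130 (by decide) 120 40 nxCheckR_E8_3_120 s hs (by omega) (by omega)
    by_cases h160 : s < 200
    · exact nxRel_of_nxCheckR fastE8 chevE8 agree_E8 130 (by decide) 160 40 nxCheckR_E8_3_160 s hs (by omega) (by omega)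
    exact nxRel_of_nxCheckR fastE8 chevE8 agree_E8 130 (by decide) 200 40 nxCheckR_E8_3_200 s hs (by omega) (by omega)
  · have hp : chevE8.simple 4 = 126 := simple_E8_4
    refine ⟨?_, reflectRoot_eq_of_reflOK chevE8 fastE8 4 reflOK_E8_4 s hs⟩
    rw [hp]
    by_cases h0 : s < 40
    · exact nxRel_of_nxCheckR fastE8 chevE8 agree_E8 126 (by decide) 0 40 nxCheckR_E8_4_0 s hs (by omega) (by omega)
    by_cases h40 : s < 80
    · exact nxRel_of_nxCheckR fastE8 chevE8 agree_E8 126 (by decide) 40 40 nxCheckR_E8_4_40 s hs (by omega) (by omega)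
    by_cases h80 : s < 120
    · exact nxRel_of_nxCheckR fastE8 chevE8 agree_E8 126 (by decide) 80 40 nxCheckR_E8_4_80 s hs (by omega) (by omega)
    by_cases h120 : s < 160
    · exact nxRel_of_nxCheckR fastE8 chevE8 agree_E8 126 (by decide) 120 40 nxCheckR_E8_4_120 s hs (by omega) (by omega)
    by_cases h160 : s < 200
    · exact nxRel_of_nxCheckR fastE8 chevE8 agree_E8 126 (by decide) 160 40 nxCheckR_E8_4_160 s hs (by omega) (by omega)
    exact nxRel_of_nxCheckR fastE8 chevE8 agree_E8 126 (by decide) 200 40 nxCheckR_E8_4_200 s hs (by omega) (by omega)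
  · have hp : chevE8.simple 5 = 123 := simple_E8_5
    refine ⟨?_, reflectRoot_eq_of_reflOK chevE8 fastE8 5 reflOK_E8_5 s hs⟩
    rw [hp]
    by_cases h0 : s < 40
    · exact nxRel_of_nxCheckR fastE8 chevE8 agree_E8 123 (by decide) 0 40 nxCheckR_E8_5_0 s hs (by omega) (by omega)
    by_cases h40 : s < 80
    · exact nxRel_of_nxCheckR fastE8 chevE8 agree_E8 123 (by decide) 40 40 nxCheckR_E8_5_40 s hs (by omega) (by omega)
    by_cases h80 : s < 120
    · exact nxRel_of_nxCheckR fastE8 chevE8 agree_E8 123 (by decide) 80 40 nxCheckR_E8_5_80 s hs (by omega) (by omega)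
    by_cases h120 : s < 160
    · exact nxRel_of_nxCheckR fastE8 chevE8 agree_E8 123 (by decide) 120 40 nxCheckR_E8_5_120 s hs (by omega) (by omega)
    by_cases h160 : s < 200
    · exact nxRel_of_nxCheckR fastE8 chevE8 agree_E8 123 (by decide) 160 40 nxCheckR_E8_5_160 s hs (by omega) (by omega)
    exact nxRel_of_nxCheckR fastE8 chevE8 agree_E8 123 (by decide) 200 40 nxCheckR_E8_5_200 s hs (by omega) (by omega)
  · have hp : chevE8.simple 6 = 121 := simple_E8_6
    refine ⟨?_, reflectRoot_eq_of_reflOK chevE8 fastE8 6 reflOK_E8_6 s hs⟩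
    rw [hp]
    by_cases h0 : s < 40
    · exact nxRel_of_nxCheckR fastE8 chevE8 agree_E8 121 (by decide) 0 40 nxCheckR_E8_6_0 s hs (by omega) (by omega)
    by_cases h40 : s < 80
    · exact nxRel_of_nxCheckR fastE8 chevE8 agree_E8 121 (by decide) 40 40 nxCheckR_E8_6_40 s hs (by omega) (by omega)
    by_cases h80 : s < 120
    · exact nxRel_of_nxCheckR fastE8 chevE8 agree_E8 121 (by decide) 80 40 nxCheckR_E8_6_80 s hs (by omega) (by omega)
    by_cases h120 : s < 160
    · exact nxRel_of_nxCheckR fastE8 chevE8 agree_E8 121 (by decide) 120 40 nxCheckR_E8_6_120 s hs (by omega) (by omega)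
    by_cases h160 : s < 200
    · exact nxRel_of_nxCheckR fastE8 chevE8 agree_E8 121 (by decide) 160 40 nxCheckR_E8_6_160 s hs (by omega) (by omega)
    exact nxRel_of_nxCheckR fastE8 chevE8 agree_E8 121 (by decide) 200 40 nxCheckR_E8_6_200 s hs (by omega) (by omega)
  · have hp : chevE8.simple 7 = 120 := simple_E8_7
    refine ⟨?_, reflectRoot_eq_of_reflOK chevE8 fastE8 7 reflOK_E8_7 s hs⟩
    rw [hp]
    by_cases h0 : s < 40
    · exact nxRel_of_nxCheckR fastE8 chevE8 agree_E8 120 (by decide) 0 40 nxCheckR_E8_7_0 s hs (by omega) (by omega)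
    by_cases h40 : s < 80
    · exact nxRel_of_nxCheckR fastE8 chevE8 agree_E8 120 (by decide) 40 40 nxCheckR_E8_7_40 s hs (by omega) (by omega)
    by_cases h80 : s < 120
    · exact nxRel_of_nxCheckR fastE8 chevE8 agree_E8 120 (by decide) 80 40 nxCheckR_E8_7_80 s hs (by omega) (by omega)
    by_cases h120 : s < 160
    · exact nxRel_of_nxCheckR fastE8 chevE8 agree_E8 120 (by decide) 120 40 nxCheckR_E8_7_120 s hs (by omega) (by omega)
    by_cases h160 : s < 200
    · exact nxRel_of_nxCheckR fastE8 chevE8 agree_E8 120 (by decide) 160 40 nxCheckR_E8_7_160 s hs (by omega) (by omega)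
    exact nxRel_of_nxCheckR fastE8 chevE8 agree_E8 120 (by decide) 200 40 nxCheckR_E8_7_200 s hs (by omega) (by omega)

end Cfsg.Agent.Lib.Helper18
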