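/-
helper18: Chevalley's commutator formula for all pairs of roots of type E8.
-/
import Cfsg.Agent.Lib.Helper18.CommChkE8p0
import Cfsg.Agent.Lib.Helper18.CommChkE8p1
import Cfsg.Agent.Lib.Helper18.CommChkE8p2
import Cfsg.Agent.Lib.Helper18.NXAllE8
import Cfsg.Agent.Lib.Helper18.FastChkE8
import Cfsg.Agent.Lib.Helper18.NConj

set_option autoImplicit false

namespace Cfsg.Agent.Lib.Helper18

open Cfsg.Lie

theorem commOK_E8 {F : Type*} [Field F] (r s : ℕ) (hr : r < 240) (hs : s < 240) (hsr : s ≠ r)
    (hsn : s ≠ fastE8.neg r) : CommOK F chevE8 r s := by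
  have hag := agree_E8
  have hin := chainInRange_E8
  refine fastE8.commOK_of_cert chevE8 hag hin wTabs_E8 ?_ ?_ ?_ commBases_E8 ?_ commCert_E8 ?_ r s hr hs hsr hsn
  · intro i hi
    change i < 8 at hi
    interval_cases i
    · rw [simple_E8_0]; exact wTab_E8_0.symm
    · rw [simple_E8_1]; exact wTab_E8_1.symm
    · rw [simple_E8_2]; exact wTab_E8_2.symm
    · rw [simple_E8_3]; exact wTab_E8_3.symm
    · rw [simple_E8_4]; exact wTab_E8_4.symm
    · rw [simple_E8_5]; exact wTab_E8_5.symm
    · rw [simple_E8_6]; exact wTab_E8_6.symm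
    · rw [simple_E8_7]; exact wTab_E8_7.symm
  · intro i hi s hs
    exact (nxRel_E8 (F := F) i hi s hs).1
  · intro i hi
    apply nMat_one_mul_nMat_neg_one chevE8 (by simp)
    change i < 8 at hi
    interval_cases i
    · rw [simple_E8_0]; decide
    · rw [simple_E8_1]; decide
    · rw [simple_E8_2]; decide
    · rw [simple_E8_3]; decide
    · rw [simple_E8_4]; decide
    · rw [simple_E8_5]; decide
    · rw [simple_E8_6]; decide
    · rw [simple_E8_7]; decide
  · intro p hp
    simp only [commBases_E8, List.mem_cons, List.not_mem_nil, or_false] at hp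
    rcases hp with rfl | rfl | rfl
    · exact fastE8.commOK_of_commBaseOK chevE8 hag 0 1 (fastE8.commTermsF_eq chevE8 hag hin 0 1 (by decide) (by decide)) commBase_E8_0
    · exact fastE8.commOK_of_commBaseOK chevE8 hag 0 13 (fastE8.commTermsF_eq chevE8 hag hin 0 13 (by decide) (by decide)) commBase_E8_1
    · exact fastE8.commOK_of_commBaseOK chevE8 hag 0 120 (fastE8.commTermsF_eq chevE8 hag hin 0 120 (by decide) (by decide)) commBase_E8_2
  · intro r s hr hs hsr hsn
    change r < 240 at hr
    change s < 240 at hs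
    by_cases h0 : r < 40
    · exact fastE8.pairOK_of_certOK _ _ _ 0 40 certOK_E8_0 r s (by omega) (by omega) hs hsr hsn
    by_cases h40 : r < 80
    · exact fastE8.pairOK_of_certOK _ _ _ 40 40 certOK_E8_40 r s (by omega) (by omega) hs hsr hsn
    by_cases h80 : r < 120
    · exact fastE8.pairOK_of_certOK _ _ _ 80 40 certOK_E8_80 r s (by omega) (by omega) hs hsr hsn
    by_cases h120 : r < 160
    · exact fastE8.pairOK_of_certOK _ _ _ 120 40 certOK_E8_120 r s (by omega) (by omega) hs hsr hsn
    by_cases h160 : r < 200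
    · exact fastE8.pairOK_of_certOK _ _ _ 160 40 certOK_E8_160 r s (by omega) (by omega) hs hsr hsn
    exact fastE8.pairOK_of_certOK _ _ _ 200 40 certOK_E8_200 r s (by omega) (by omega) hs hsr hsn

end Cfsg.Agent.Lib.Helper18
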