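/-
helper18: the bundle of table facts and relations for type E8.
-/
import Cfsg.Agent.Lib.Helper18.ChevData
import Cfsg.Agent.Lib.Helper18.CommAllE8

set_option autoImplicit false

namespace Cfsg.Agent.Lib.Helper18

open Cfsg.Lie

/-- The fundamental roots. -/
def simples_E8 : List ℕ := [162, 141, 135, 130, 126, 123, 121, 120]

/-- The certificate that every root is conjugate to a fundamental root. -/
def rootCert_E8 : ℕ := 0x1c71b61a51941831721611621531441351261171001511431341251161070f21241151060f70e31050f60e70d40e60d70c50c70b60a10f50e60d70c40d60c70b50b70a60930c60b70a50a70960840970860750620b60a709509708607408707606505307706605504403106705604503402301200f0a609708508707606407706605504306705604503402205704603502401300f05704603502401300f04703602501400f03702601500f02701600f01700f00f0170160270150260370140250360470130240350460570120230340450560670110230340450560670320440550660770530650760870740860970950a70b60100220330440550660770410540650760870630750860970840960a70a50b70c60720850960a70940a60b70b50c70d60a30b60c70c50d70e60d40e70f61050b10c60d70d50e70f60e40f71061150f31071161251341021171261351441531611101271361451541631721711821931a41b51c61d7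

set_option maxRecDepth 1000000 in
theorem reflFacts_E8 : fastE8.reflFacts wTabs_E8 simples_E8 = true := by decide +kernel

set_option maxRecDepth 1000000 in
theorem rootCertOK_E8 : fastE8.rootCertOK wTabs_E8 simples_E8 rootCert_E8 = true := by decide +kernel

theorem hsimple_E8 : ∀ i < chevE8.rank, chevE8.simple i = simples_E8.getD i 0 := by
  intro i hi
  change i < 8 at hi
  interval_cases i
  · exact simple_E8_0
  · exact simple_E8_1
  · exact simple_E8_2
  · exact simple_E8_3
  · exact simple_E8_4
  · exact simple_E8_5
  · exact simple_E8_6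
  · exact simple_E8_7

theorem htabs_E8 : ∀ i < chevE8.rank, wTabs_E8.getD i 0 = fastE8.rootTab (chevE8.simple i) := by
  intro i hi
  change i < 8 at hi
  interval_cases i
  · rw [simple_E8_0]; exact wTab_E8_0.symm
  · rw [simple_E8_1]; exact wTab_E8_1.symm
  · rw [simple_E8_2]; exact wTab_E8_2.symm
  · rw [simple_E8_3]; exact wTab_E8_3.symm
  · rw [simple_E8_4]; exact wTab_E8_4.symm
  · rw [simple_E8_5]; exact wTab_E8_5.symm
  · rw [simple_E8_6]; exact wTab_E8_6.symm
  · rw [simple_E8_7]; exact wTab_E8_7.symm

/-- The bundle for type E8. -/
def chevData_E8.{u} : ChevData.{u} chevE8 where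
  T := fastE8
  tabs := wTabs_E8
  simples := simples_E8
  hag := agree_E8
  hin := chainInRange_E8
  heven := by decide
  hsimple := hsimple_E8
  htabs := htabs_E8
  hrefl := fun i hi s hs => by
    rw [htabs_E8 i hi]
    exact (nxRel_E8 (F := ℚ) i hi s hs).2
  spec := fastE8.reflSpec_of_reflFacts _ _ reflFacts_E8
  hword := fun r hr => by
    obtain ⟨ws, j, h1, h2, h3⟩ := fastE8.exists_word_of_rootCertOK wTabs_E8 simples_E8 rootCert_E8
      (fastE8.reflSpec_of_reflFacts _ _ reflFacts_E8) rootCertOK_E8 r hr
    exact ⟨ws, j, h1, h2, h3⟩
  nx := fun F _ i hi s hs => (nxRel_E8 (F := F) i hi s hs).1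
  comm := fun F _ r s hr hs hsr hsn => commOK_E8 (F := F) r s hr hs hsr hsn

end Cfsg.Agent.Lib.Helper18
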