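/-
helper18: checks for the commutator formula of type F4, part 0 (kernel computation).
-/
import Cfsg.Agent.Lib.Helper18.CommDataF4

set_option autoImplicit false

namespace Cfsg.Agent.Lib.Helper18

open Cfsg.Lie

set_option maxRecDepth 1000000 in
theorem commBase_F4_0 : fastF4.commBaseOK 0 1 = true := by decide +kernel

set_option maxRecDepth 1000000 in
theorem commBase_F4_1 : fastF4.commBaseOK 0 3 = true := by decide +kernel

set_option maxRecDepth 1000000 in
theorem commBase_F4_2 : fastF4.commBaseOK 0 6 = true := by decide +kernel

set_option maxRecDepth 1000000 in
theorem commBase_F4_3 : fastF4.commBaseOK 0 10 = true := by decide +kernel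

set_option maxRecDepth 1000000 in
theorem commBase_F4_4 : fastF4.commBaseOK 0 24 = true := by decide +kernel

set_option maxRecDepth 1000000 in
theorem commBase_F4_5 : fastF4.commBaseOK 0 29 = true := by decide +kernel

set_option maxRecDepth 1000000 in
theorem commBase_F4_6 : fastF4.commBaseOK 3 0 = true := by decide +kernel

end Cfsg.Agent.Lib.Helper18
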