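/-
helper18: checks for the commutator formula of type F4, part 1 (kernel computation).
-/
import Cfsg.Agent.Lib.Helper18.CommDataF4

set_option autoImplicit false

namespace Cfsg.Agent.Lib.Helper18

open Cfsg.Lie

set_option maxRecDepth 1000000 in
theorem commBase_F4_7 : fastF4.commBaseOK 3 7 = true := by decide +kernel

set_option maxRecDepth 1000000 in
theorem commBase_F4_8 : fastF4.commBaseOK 3 15 = true := by decide +kernel

set_option maxRecDepth 1000000 in
theorem commBase_F4_9 : fastF4.commBaseOK 3 18 = true := by decide +kernel

set_option maxRecDepth 1000000 in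
theorem commBase_F4_10 : fastF4.commBaseOK 3 33 = true := by decide +kernel

set_option maxRecDepth 1000000 in
theorem commBase_F4_11 : fastF4.commBaseOK 3 41 = true := by decide +kernel

set_option maxRecDepth 1000000 in
theorem certOK_F4_0 : fastF4.certOK wTabs_F4 commBases_F4 commCert_F4 0 48 = true := by decide +kernel

end Cfsg.Agent.Lib.Helper18
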