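/-
helper18: the relations n_p(1) x_s(t) = x_(s')(eta t) n_p(1) of type F4, part 0 (kernel computation).
-/
import Cfsg.Agent.Lib.Helper18.FastTF4
import Cfsg.Agent.Lib.Helper18.NX

set_option autoImplicit false

namespace Cfsg.Agent.Lib.Helper18

open Cfsg.Lie

set_option maxRecDepth 1000000 in
theorem nxCheckR_F4_0_0 : fastF4.nxCheckR 33 0 48 = true := by decide +kernel

set_option maxRecDepth 1000000 in
theorem nxCheckR_F4_1_0 : fastF4.nxCheckR 27 0 48 = true := by decide +kernel

set_option maxRecDepth 1000000 in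
theorem nxCheckR_F4_2_0 : fastF4.nxCheckR 25 0 48 = true := by decide +kernel

set_option maxRecDepth 1000000 in
theorem nxCheckR_F4_3_0 : fastF4.nxCheckR 24 0 48 = true := by decide +kernel

end Cfsg.Agent.Lib.Helper18
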