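/-
helper18: the reflected roots `reflectRoot i s` of type F4 agree with the action of n_(p_i)(1) (kernel computation).
-/
import Cfsg.Agent.Lib.Helper18.FastTF4
import Cfsg.Agent.Lib.Helper18.NX

set_option autoImplicit false

namespace Cfsg.Agent.Lib.Helper18

open Cfsg.Lie

theorem simple_F4_0 : chevF4.simple 0 = 33 := by decide

theorem simple_F4_1 : chevF4.simple 1 = 27 := by decide

theorem simple_F4_2 : chevF4.simple 2 = 25 := by decide

theorem simple_F4_3 : chevF4.simple 3 = 24 := by decide

set_option maxRecDepth 1000000 in
theorem reflOK_F4_0 : reflOK chevF4 fastF4 0 = true := by decide +kernel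

set_option maxRecDepth 1000000 in
theorem reflOK_F4_1 : reflOK chevF4 fastF4 1 = true := by decide +kernel

set_option maxRecDepth 1000000 in
theorem reflOK_F4_2 : reflOK chevF4 fastF4 2 = true := by decide +kernel

set_option maxRecDepth 1000000 in
theorem reflOK_F4_3 : reflOK chevF4 fastF4 3 = true := by decide +kernel

end Cfsg.Agent.Lib.Helper18
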