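/-
helper18: the relations n_p(1) x_s(t) = x_(w_p s)(eta t) n_p(1) for all fundamental roots p and all roots s of type F4.
-/
import Cfsg.Agent.Lib.Helper18.NXChkF4
import Cfsg.Agent.Lib.Helper18.NXReflF4

set_option autoImplicit false

namespace Cfsg.Agent.Lib.Helper18

open Cfsg.Lie

theorem nxRel_F4 {F : Type*} [Field F] (i : ℕ) (hi : i < 4) (s : ℕ) (hs : s < 48) :
    NXRel F fastF4 chevF4 (chevF4.simple i) s ∧ chevF4.reflectRoot i s = tabRoot (fastF4.rootTab (chevF4.simple i)) s := by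
  interval_cases i
  · have hp : chevF4.simple 0 = 33 := simple_F4_0
    refine ⟨?_, reflectRoot_eq_of_reflOK chevF4 fastF4 0 reflOK_F4_0 s hs⟩
    rw [hp]
    exact nxRel_of_nxCheckR fastF4 chevF4 agree_F4 33 (by decide) 0 48 nxCheckR_F4_0_0 s hs (by omega) (by omega)
  · have hp : chevF4.simple 1 = 27 := simple_F4_1
    refine ⟨?_, reflectRoot_eq_of_reflOK chevF4 fastF4 1 reflOK_F4_1 s hs⟩
    rw [hp]
    exact nxRel_of_nxCheckR fastF4 chevF4 agree_F4 27 (by decide) 0 48 nxCheckR_F4_1_0 s hs (by omega) (by omega)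
  · have hp : chevF4.simple 2 = 25 := simple_F4_2
    refine ⟨?_, reflectRoot_eq_of_reflOK chevF4 fastF4 2 reflOK_F4_2 s hs⟩
    rw [hp]
    exact nxRel_of_nxCheckR fastF4 chevF4 agree_F4 25 (by decide) 0 48 nxCheckR_F4_2_0 s hs (by omega) (by omega)
  · have hp : chevF4.simple 3 = 24 := simple_F4_3
    refine ⟨?_, reflectRoot_eq_of_reflOK chevF4 fastF4 3 reflOK_F4_3 s hs⟩
    rw [hp]
    exact nxRel_of_nxCheckR fastF4 chevF4 agree_F4 24 (by decide) 0 48 nxCheckR_F4_3_0 s hs (by omega) (by omega)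

end Cfsg.Agent.Lib.Helper18
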