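/-
helper18: Chevalley's commutator formula for all pairs of roots of type F4.
-/
import Cfsg.Agent.Lib.Helper18.CommChkF4p0
import Cfsg.Agent.Lib.Helper18.CommChkF4p1
import Cfsg.Agent.Lib.Helper18.NXAllF4
import Cfsg.Agent.Lib.Helper18.FastChkF4
import Cfsg.Agent.Lib.Helper18.NConj

set_option autoImplicit false

namespace Cfsg.Agent.Lib.Helper18

open Cfsg.Lie

theorem commOK_F4 {F : Type*} [Field F] (r s : ℕ) (hr : r < 48) (hs : s < 48) (hsr : s ≠ r)
    (hsn : s ≠ fastF4.neg r) : CommOK F chevF4 r s := by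
  have hag := agree_F4
  have hin := chainInRange_F4
  refine fastF4.commOK_of_cert chevF4 hag hin wTabs_F4 ?_ ?_ ?_ commBases_F4 ?_ commCert_F4 ?_ r s hr hs hsr hsn
  · intro i hi
    change i < 4 at hi
    interval_cases i
    · rw [simple_F4_0]; exact wTab_F4_0.symm
    · rw [simple_F4_1]; exact wTab_F4_1.symm
    · rw [simple_F4_2]; exact wTab_F4_2.symm
    · rw [simple_F4_3]; exact wTab_F4_3.symm
  · intro i hi s hs
    exact (nxRel_F4 (F := F) i hi s hs).1
  · intro i hi
    apply nMat_one_mul_nMat_neg_one chevF4 (by simp)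
    change i < 4 at hi
    interval_cases i
    · rw [simple_F4_0]; decide
    · rw [simple_F4_1]; decide
    · rw [simple_F4_2]; decide
    · rw [simple_F4_3]; decide
  · intro p hp
    simp only [commBases_F4, List.mem_cons, List.not_mem_nil, or_false] at hp
    rcases hp with rfl | rfl | rfl | rfl | rfl | rfl | rfl | rfl | rfl | rfl | rfl | rfl
    · exact fastF4.commOK_of_commBaseOK chevF4 hag 0 1 (fastF4.commTermsF_eq chevF4 hag hin 0 1 (by decide) (by decide)) commBase_F4_0
    · exact fastF4.commOK_of_commBaseOK chevF4 hag 0 3 (fastF4.commTermsF_eq chevF4 hag hin 0 3 (by decide) (by decide)) commBase_F4_1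
    · exact fastF4.commOK_of_commBaseOK chevF4 hag 0 6 (fastF4.commTermsF_eq chevF4 hag hin 0 6 (by decide) (by decide)) commBase_F4_2
    · exact fastF4.commOK_of_commBaseOK chevF4 hag 0 10 (fastF4.commTermsF_eq chevF4 hag hin 0 10 (by decide) (by decide)) commBase_F4_3
    · exact fastF4.commOK_of_commBaseOK chevF4 hag 0 24 (fastF4.commTermsF_eq chevF4 hag hin 0 24 (by decide) (by decide)) commBase_F4_4
    · exact fastF4.commOK_of_commBaseOK chevF4 hag 0 29 (fastF4.commTermsF_eq chevF4 hag hin 0 29 (by decide) (by decide)) commBase_F4_5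
    · exact fastF4.commOK_of_commBaseOK chevF4 hag 3 0 (fastF4.commTermsF_eq chevF4 hag hin 3 0 (by decide) (by decide)) commBase_F4_6
    · exact fastF4.commOK_of_commBaseOK chevF4 hag 3 7 (fastF4.commTermsF_eq chevF4 hag hin 3 7 (by decide) (by decide)) commBase_F4_7
    · exact fastF4.commOK_of_commBaseOK chevF4 hag 3 15 (fastF4.commTermsF_eq chevF4 hag hin 3 15 (by decide) (by decide)) commBase_F4_8
    · exact fastF4.commOK_of_commBaseOK chevF4 hag 3 18 (fastF4.commTermsF_eq chevF4 hag hin 3 18 (by decide) (by decide)) commBase_F4_9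
    · exact fastF4.commOK_of_commBaseOK chevF4 hag 3 33 (fastF4.commTermsF_eq chevF4 hag hin 3 33 (by decide) (by decide)) commBase_F4_10
    · exact fastF4.commOK_of_commBaseOK chevF4 hag 3 41 (fastF4.commTermsF_eq chevF4 hag hin 3 41 (by decide) (by decide)) commBase_F4_11
  · intro r s hr hs hsr hsn
    change r < 48 at hr
    change s < 48 at hs
    exact fastF4.pairOK_of_certOK _ _ _ 0 48 certOK_F4_0 r s (by omega) (by omega) hs hsr hsn

end Cfsg.Agent.Lib.Helper18
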