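/-
helper18: the bundle of table facts and relations for type F4.
-/
import Cfsg.Agent.Lib.Helper18.ChevData
import Cfsg.Agent.Lib.Helper18.CommAllF4

set_option autoImplicit false

namespace Cfsg.Agent.Lib.Helper18

open Cfsg.Lie

/-- The fundamental roots. -/
def simples_F4 : List ℕ := [33, 27, 25, 24]

/-- The certificate that every root is conjugate to a fundamental root. -/
def rootCert_F4 : ℕ := 0x7306205107004203302006105204303103302201100f03202301102301200f01300f00f013012023011022033021033042010021032043041053062071030043052080061072083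

set_option maxRecDepth 1000000 in
theorem reflFacts_F4 : fastF4.reflFacts wTabs_F4 simples_F4 = true := by decide +kernel

set_option maxRecDepth 1000000 in
theorem rootCertOK_F4 : fastF4.rootCertOK wTabs_F4 simples_F4 rootCert_F4 = true := by decide +kernel

theorem hsimple_F4 : ∀ i < chevF4.rank, chevF4.simple i = simples_F4.getD i 0 := by
  intro i hi
  change i < 4 at hi
  interval_cases i
  · exact simple_F4_0
  · exact simple_F4_1
  · exact simple_F4_2
  · exact simple_F4_3

theorem htabs_F4 : ∀ i < chevF4.rank, wTabs_F4.getD i 0 = fastF4.rootTab (chevF4.simple i) := by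
  intro i hi
  change i < 4 at hi
  interval_cases i
  · rw [simple_F4_0]; exact wTab_F4_0.symm
  · rw [simple_F4_1]; exact wTab_F4_1.symm
  · rw [simple_F4_2]; exact wTab_F4_2.symm
  · rw [simple_F4_3]; exact wTab_F4_3.symm

/-- The bundle for type F4. -/
def chevData_F4.{u} : ChevData.{u} chevF4 where
  T := fastF4
  tabs := wTabs_F4
  simples := simples_F4
  hag := agree_F4
  hin := chainInRange_F4
  heven := by decide
  hsimple := hsimple_F4
  htabs := htabs_F4
  hrefl := fun i hi s hs => by
    rw [htabs_F4 i hi]
    exact (nxRel_F4 (F := ℚ) i hi s hs).2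
  spec := fastF4.reflSpec_of_reflFacts _ _ reflFacts_F4
  hword := fun r hr => by
    obtain ⟨ws, j, h1, h2, h3⟩ := fastF4.exists_word_of_rootCertOK wTabs_F4 simples_F4 rootCert_F4
      (fastF4.reflSpec_of_reflFacts _ _ reflFacts_F4) rootCertOK_F4 r hr
    exact ⟨ws, j, h1, h2, h3⟩
  nx := fun F _ i hi s hs => (nxRel_F4 (F := F) i hi s hs).1
  comm := fun F _ r s hr hs hsr hsn => commOK_F4 (F := F) r s hr hs hsr hsn

end Cfsg.Agent.Lib.Helper18
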