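/-
helper18: data for the commutator formula of type G2: packed tables of the action of the n_p(1) (p fundamental) on the
roots, the list of base pairs and the certificate (parent reflection and depth of every pair of roots).
-/
import Cfsg.Agent.Lib.Helper18.FastTG2
import Cfsg.Agent.Lib.Helper18.Comm

set_option autoImplicit false

namespace Cfsg.Agent.Lib.Helper18

open Cfsg.Lie

/-- The packed tables of the action of `n_p(1)` on the roots, for the fundamental roots `p`. -/
def wTabs_G2 : List ℕ := [31172819455264663903346525752800258, 29886155330354526664790248528021509]

/-- The base pairs. -/
def commBases_G2 : List (ℕ × ℕ) := [(0, 1), (0, 2), (0, 4), (0, 6), (0, 8), (2, 0), (2, 3), (2, 5), (2, 7), (2, 10)]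

/-- The certificate. -/
def commCert_G2 : ℕ := 0x6106105106105106105106105105100005000005005004005004005004004000004006105000006105006105006105000006105005105105100005104105104100004104104104004004004000004003000003003003003004104104104104100000003103103103103103003003003003000000002002002002002003103103103100003102100002102102102102002002000002001002001000001001001001100f00001100f01100f01100f00001100f02100002102101102101102101101100001100001001000f01000f01000f01000f00f000

set_option maxRecDepth 1000000 in
theorem wTab_G2_0 : fastG2.rootTab 7 = wTabs_G2.getD 0 0 := by decide +kernel

set_option maxRecDepth 1000000 in
theorem wTab_G2_1 : fastG2.rootTab 6 = wTabs_G2.getD 1 0 := by decide +kernel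

end Cfsg.Agent.Lib.Helper18
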