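/-
helper18: checks for the commutator formula of type G2, part 0 (kernel computation).
-/
import Cfsg.Agent.Lib.Helper18.CommDataG2

set_option autoImplicit false

namespace Cfsg.Agent.Lib.Helper18

open Cfsg.Lie

set_option maxRecDepth 1000000 in
theorem commBase_G2_0 : fastG2.commBaseOK 0 1 = true := by decide +kernel

set_option maxRecDepth 1000000 in
theorem commBase_G2_1 : fastG2.commBaseOK 0 2 = true := by decide +kernel

set_option maxRecDepth 1000000 in
theorem commBase_G2_2 : fastG2.commBaseOK 0 4 = true := by decide +kernel

set_option maxRecDepth 1000000 in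
theorem commBase_G2_3 : fastG2.commBaseOK 0 6 = true := by decide +kernel

set_option maxRecDepth 1000000 in
theorem commBase_G2_4 : fastG2.commBaseOK 0 8 = true := by decide +kernel

set_option maxRecDepth 1000000 in
theorem commBase_G2_5 : fastG2.commBaseOK 2 0 = true := by decide +kernel

set_option maxRecDepth 1000000 in
theorem commBase_G2_6 : fastG2.commBaseOK 2 3 = true := by decide +kernel

set_option maxRecDepth 1000000 in
theorem commBase_G2_7 : fastG2.commBaseOK 2 5 = true := by decide +kernel

set_option maxRecDepth 1000000 in
theorem commBase_G2_8 : fastG2.commBaseOK 2 7 = true := by decide +kernel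

set_option maxRecDepth 1000000 in
theorem commBase_G2_9 : fastG2.commBaseOK 2 10 = true := by decide +kernel

set_option maxRecDepth 1000000 in
theorem certOK_G2_0 : fastG2.certOK wTabs_G2 commBases_G2 commCert_G2 0 12 = true := by decide +kernel

end Cfsg.Agent.Lib.Helper18
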