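/-
helper18: the relations n_p(1) x_s(t) = x_(w_p s)(eta t) n_p(1) for all fundamental roots p and all roots s of type G2.
-/
import Cfsg.Agent.Lib.Helper18.NXChkG2
import Cfsg.Agent.Lib.Helper18.NXReflG2

set_option autoImplicit false

namespace Cfsg.Agent.Lib.Helper18

open Cfsg.Lie

theorem nxRel_G2 {F : Type*} [Field F] (i : ℕ) (hi : i < 2) (s : ℕ) (hs : s < 12) :
    NXRel F fastG2 chevG2 (chevG2.simple i) s ∧ chevG2.reflectRoot i s = tabRoot (fastG2.rootTab (chevG2.simple i)) s := by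
  interval_cases i
  · have hp : chevG2.simple 0 = 7 := simple_G2_0
    refine ⟨?_, reflectRoot_eq_of_reflOK chevG2 fastG2 0 reflOK_G2_0 s hs⟩
    rw [hp]
    exact nxRel_of_nxCheckR fastG2 chevG2 agree_G2 7 (by decide) 0 12 nxCheckR_G2_0_0 s hs (by omega) (by omega)
  · have hp : chevG2.simple 1 = 6 := simple_G2_1
    refine ⟨?_, reflectRoot_eq_of_reflOK chevG2 fastG2 1 reflOK_G2_1 s hs⟩
    rw [hp]
    exact nxRel_of_nxCheckR fastG2 chevG2 agree_G2 6 (by decide) 0 12 nxCheckR_G2_1_0 s hs (by omega) (by omega)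

end Cfsg.Agent.Lib.Helper18
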