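/-
helper18: Chevalley's commutator formula for all pairs of roots of type G2.
-/
import Cfsg.Agent.Lib.Helper18.CommChkG2
import Cfsg.Agent.Lib.Helper18.NXAllG2
import Cfsg.Agent.Lib.Helper18.FastChkG2
import Cfsg.Agent.Lib.Helper18.NConj

set_option autoImplicit false

namespace Cfsg.Agent.Lib.Helper18

open Cfsg.Lie

theorem commOK_G2 {F : Type*} [Field F] (r s : ℕ) (hr : r < 12) (hs : s < 12) (hsr : s ≠ r)
    (hsn : s ≠ fastG2.neg r) : CommOK F chevG2 r s := by
  have hag := agree_G2
  have hin := chainInRange_G2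
  refine fastG2.commOK_of_cert chevG2 hag hin wTabs_G2 ?_ ?_ ?_ commBases_G2 ?_ commCert_G2 ?_ r s hr hs hsr hsn
  · intro i hi
    change i < 2 at hi
    interval_cases i
    · rw [simple_G2_0]; exact wTab_G2_0.symm
    · rw [simple_G2_1]; exact wTab_G2_1.symm
  · intro i hi s hs
    exact (nxRel_G2 (F := F) i hi s hs).1
  · intro i hi
    apply nMat_one_mul_nMat_neg_one chevG2 (by simp)
    change i < 2 at hi
    interval_cases i
    · rw [simple_G2_0]; decide
    · rw [simple_G2_1]; decide
  · intro p hp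
    simp only [commBases_G2, List.mem_cons, List.not_mem_nil, or_false] at hp
    rcases hp with rfl | rfl | rfl | rfl | rfl | rfl | rfl | rfl | rfl | rfl
    · exact fastG2.commOK_of_commBaseOK chevG2 hag 0 1 (fastG2.commTermsF_eq chevG2 hag hin 0 1 (by decide) (by decide)) commBase_G2_0
    · exact fastG2.commOK_of_commBaseOK chevG2 hag 0 2 (fastG2.commTermsF_eq chevG2 hag hin 0 2 (by decide) (by decide)) commBase_G2_1
    · exact fastG2.commOK_of_commBaseOK chevG2 hag 0 4 (fastG2.commTermsF_eq chevG2 hag hin 0 4 (by decide) (by decide)) commBase_G2_2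
    · exact fastG2.commOK_of_commBaseOK chevG2 hag 0 6 (fastG2.commTermsF_eq chevG2 hag hin 0 6 (by decide) (by decide)) commBase_G2_3
    · exact fastG2.commOK_of_commBaseOK chevG2 hag 0 8 (fastG2.commTermsF_eq chevG2 hag hin 0 8 (by decide) (by decide)) commBase_G2_4
    · exact fastG2.commOK_of_commBaseOK chevG2 hag 2 0 (fastG2.commTermsF_eq chevG2 hag hin 2 0 (by decide) (by decide)) commBase_G2_5
    · exact fastG2.commOK_of_commBaseOK chevG2 hag 2 3 (fastG2.commTermsF_eq chevG2 hag hin 2 3 (by decide) (by decide)) commBase_G2_6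
    · exact fastG2.commOK_of_commBaseOK chevG2 hag 2 5 (fastG2.commTermsF_eq chevG2 hag hin 2 5 (by decide) (by decide)) commBase_G2_7
    · exact fastG2.commOK_of_commBaseOK chevG2 hag 2 7 (fastG2.commTermsF_eq chevG2 hag hin 2 7 (by decide) (by decide)) commBase_G2_8
    · exact fastG2.commOK_of_commBaseOK chevG2 hag 2 10 (fastG2.commTermsF_eq chevG2 hag hin 2 10 (by decide) (by decide)) commBase_G2_9
  · intro r s hr hs hsr hsn
    change r < 12 at hr
    change s < 12 at hs
    exact fastG2.pairOK_of_certOK _ _ _ 0 12 certOK_G2_0 r s (by omega) (by omega) hs hsr hsn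

end Cfsg.Agent.Lib.Helper18
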