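/-
helper18: the bundle of table facts and relations for type G2.
-/
import Cfsg.Agent.Lib.Helper18.ChevData
import Cfsg.Agent.Lib.Helper18.CommAllG2

set_option autoImplicit false

namespace Cfsg.Agent.Lib.Helper18

open Cfsg.Lie

/-- The fundamental roots. -/
def simples_G2 : List ℕ := [7, 6]

/-- The certificate that every root is conjugate to a fundamental root. -/
def rootCert_G2 : ℕ := 0x2101002001100f00f011010021030020031

set_option maxRecDepth 1000000 in
theorem reflFacts_G2 : fastG2.reflFacts wTabs_G2 simples_G2 = true := by decide +kernel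

set_option maxRecDepth 1000000 in
theorem rootCertOK_G2 : fastG2.rootCertOK wTabs_G2 simples_G2 rootCert_G2 = true := by decide +kernel

theorem hsimple_G2 : ∀ i < chevG2.rank, chevG2.simple i = simples_G2.getD i 0 := by
  intro i hi
  change i < 2 at hi
  interval_cases i
  · exact simple_G2_0
  · exact simple_G2_1

theorem htabs_G2 : ∀ i < chevG2.rank, wTabs_G2.getD i 0 = fastG2.rootTab (chevG2.simple i) := by
  intro i hi
  change i < 2 at hi
  interval_cases i
  · rw [simple_G2_0]; exact wTab_G2_0.symm
  · rw [simple_G2_1]; exact wTab_G2_1.symm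

/-- The bundle for type G2. -/
def chevData_G2.{u} : ChevData.{u} chevG2 where
  T := fastG2
  tabs := wTabs_G2
  simples := simples_G2
  hag := agree_G2
  hin := chainInRange_G2
  heven := by decide
  hsimple := hsimple_G2
  htabs := htabs_G2
  hrefl := fun i hi s hs => by
    rw [htabs_G2 i hi]
    exact (nxRel_G2 (F := ℚ) i hi s hs).2
  spec := fastG2.reflSpec_of_reflFacts _ _ reflFacts_G2
  hword := fun r hr => by
    obtain ⟨ws, j, h1, h2, h3⟩ := fastG2.exists_word_of_rootCertOK wTabs_G2 simples_G2 rootCert_G2
      (fastG2.reflSpec_of_reflFacts _ _ reflFacts_G2) rootCertOK_G2 r hr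
    exact ⟨ws, j, h1, h2, h3⟩
  nx := fun F _ i hi s hs => (nxRel_G2 (F := F) i hi s hs).1
  comm := fun F _ r s hr hs hsr hsn => commOK_G2 (F := F) r s hr hs hsr hsn

end Cfsg.Agent.Lib.Helper18
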