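/-
helper18: the bundle of table facts and relations exists for each of the seven tabulated data.
-/
import Cfsg.Agent.Lib.Helper18.ChevDataG2
import Cfsg.Agent.Lib.Helper18.ChevDataB2
import Cfsg.Agent.Lib.Helper18.ChevDataD4
import Cfsg.Agent.Lib.Helper18.ChevDataF4
import Cfsg.Agent.Lib.Helper18.ChevDataE6
import Cfsg.Agent.Lib.Helper18.ChevDataE7
import Cfsg.Agent.Lib.Helper18.ChevDataE8

set_option autoImplicit false

namespace Cfsg.Agent.Lib.Helper18

open Cfsg.Lie

theorem nonempty_chevData.{u} (D : ChevalleyDatum)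
    (hD : D ∈ [chevG2, chevB2, chevD4, chevF4, chevE6, chevE7, chevE8]) : Nonempty (ChevData.{u} D) := by
  simp only [List.mem_cons, List.not_mem_nil, or_false] at hD
  rcases hD with rfl | rfl | rfl | rfl | rfl | rfl | rfl
  · exact ⟨chevData_G2⟩
  · exact ⟨chevData_B2⟩
  · exact ⟨chevData_D4⟩
  · exact ⟨chevData_F4⟩
  · exact ⟨chevData_E6⟩
  · exact ⟨chevData_E7⟩
  · exact ⟨chevData_E8⟩

end Cfsg.Agent.Lib.Helper18
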