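/-
helper18: triangularity.  U is unitriangular (helper17's `chevUT`), V is unitriangular for the reversed weight, and H is
diagonal.  Consequences for intersections.
-/
import Cfsg.Agent.Lib.Helper17.ChevUnipotent
import Cfsg.Agent.Lib.Helper18.Torus

set_option autoImplicit false

namespace Cfsg.Agent.Lib.Helper18

open Cfsg Cfsg.Lie Matrix Cfsg.Agent.Lib.Helper17

/-- The reversed weight of a coordinate. -/
def chevWeightRev (D : ChevalleyDatum) : D.Idx → ℕ := fun i => D.rank + D.nroots - 1 - chevWeight D i

theorem chevWeightRev_lt (D : ChevalleyDatum) (i : D.Idx) : chevWeightRev D i < D.rank + D.nroots := by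
  have := chevWeight_lt D i
  unfold chevWeightRev
  omega

theorem chevWeightRev_lt_iff (D : ChevalleyDatum) (i j : D.Idx) :
    chevWeightRev D i < chevWeightRev D j ↔ chevWeight D j < chevWeight D i := by
  have h1 := chevWeight_lt D i
  have h2 := chevWeight_lt D j
  unfold chevWeightRev
  omega

theorem chevWeight_inl (D : ChevalleyDatum) (i : Fin D.rank) :
    chevWeight D (Sum.inl i) = D.nroots / 2 + i.val := rfl

theorem chevWeight_inr (D : ChevalleyDatum) (s : Fin D.nroots) :
    chevWeight D (Sum.inr s) = if s.val < D.nroots / 2 then s.val else s.val + D.rank := rfl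

theorem chevWeight_injective (D : ChevalleyDatum) : Function.Injective (chevWeight D) := by
  intro i j h
  rcases i with i | s <;> rcases j with j | u
  · rw [chevWeight_inl, chevWeight_inl] at h
    congr 1
    exact Fin.ext (by omega)
  · rw [chevWeight_inl, chevWeight_inr] at h
    have := i.isLt
    split_ifs at h <;> omega
  · rw [chevWeight_inl, chevWeight_inr] at h
    have := j.isLt
    split_ifs at h <;> omega
  · rw [chevWeight_inr, chevWeight_inr] at h
    congr 1
    apply Fin.ext
    split_ifs at h <;> omega

/-- The decidable table check for negative roots: they are in the lower half, their negatives in the upper half, and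
their chains go downwards in the index ordering. -/
def negOK (D : ChevalleyDatum) : Bool :=
  (List.range D.nroots).all fun r =>
    !(decide (D.IsNegRoot r)) ||
      (decide (r < D.nroots / 2) && decide (D.nroots / 2 ≤ D.negIdx.getD r 0) &&
        (D.chain.getD r #[]).toList.all fun e => e.2.toList.all fun q => decide (q.1 < e.1))

theorem negOK_spec {D : ChevalleyDatum} (hOK : negOK D = true) (r : ℕ) (hr : D.IsNegRoot r) :
    r < D.nroots / 2 ∧ D.nroots / 2 ≤ D.negIdx.getD r 0 ∧
      ∀ e ∈ (D.chain.getD r #[]).toList, ∀ q ∈ e.2.toList, q.1 < e.1 := by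
  unfold negOK at hOK
  rw [List.all_eq_true] at hOK
  have h := hOK r (List.mem_range.2 hr.1)
  simp only [hr, decide_true, Bool.not_true, Bool.false_or, Bool.and_eq_true, decide_eq_true_eq,
    List.all_eq_true] at h
  exact ⟨h.1.1, h.1.2, h.2⟩

theorem chainCoeff_eq_nil_neg {D : ChevalleyDatum} (hOK : negOK D = true) (r : ℕ)
    (hr : D.IsNegRoot r) (s u : ℕ) (hus : s ≤ u) : D.chainCoeff r s u = [] := by
  rw [List.eq_nil_iff_forall_not_mem]
  intro km hkm
  obtain ⟨e, he, hes, q, hq, hqu, -⟩ := mem_chainCoeff' D r s u km hkm
  have := (negOK_spec hOK r hr).2.2 e he q.1 (List.fst_mem_of_mem_zipIdx hq)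
  omega

variable {F : Type*} [Field F]

theorem xMat_sub_one_depth_neg {D : ChevalleyDatum} (hOK : negOK D = true) (r : Fin D.nroots)
    (hr : D.IsNegRoot r.val) (t : F) : Depth (chevWeightRev D) 1 (D.xMat F r t - 1) := by
  obtain ⟨h1, h2, -⟩ := negOK_spec hOK r.val hr
  intro i j hij
  have hij' : chevWeight D j ≤ chevWeight D i := by
    have := (chevWeightRev_lt_iff D j i).not
    have h3 := chevWeight_lt D i
    have h4 := chevWeight_lt D j
    unfold chevWeightRev at hij
    omega
  clear hij
  rw [Matrix.sub_apply, sub_eq_zero]
  rcases j with j | s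
  · -- column h_j
    rcases i with i | u
    · show (if i = j then (1 : F) else 0) = (1 : Matrix D.Idx D.Idx F) (Sum.inl i) (Sum.inl j)
      by_cases hij'' : i = j
      · subst hij''; rw [if_pos rfl, Matrix.one_apply_eq]
      · rw [if_neg hij'', Matrix.one_apply_ne (by simpa using hij'')]
    · show (if u = r then - (((D.cartanSR.getD j.val #[]).getD r.val 0 : ℤ) : F) * t else 0)
        = (1 : Matrix D.Idx D.Idx F) (Sum.inr u) (Sum.inl j)
      rw [Matrix.one_apply_ne (by simp)]
      rw [if_neg]
      rintro rfl
      have hj := j.isLt
      rw [chevWeight_inr, chevWeight_inl, if_pos h1] at hij'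
      omega
  · -- column e_s
    by_cases hsr : s = r
    · subst hsr
      rcases i with i | u
      · show (D.xMat F s t) (Sum.inl i) (Sum.inr s) = _
        rw [Matrix.one_apply_ne (by simp)]
        simp [ChevalleyDatum.xMat]
      · show (D.xMat F s t) (Sum.inr u) (Sum.inr s) = _
        by_cases hus : u = s
        · subst hus
          rw [Matrix.one_apply_eq]
          simp [ChevalleyDatum.xMat]
        · rw [Matrix.one_apply_ne (by simpa using hus)]
          simp [ChevalleyDatum.xMat, hus]
    · by_cases hsn : s.val = D.negIdx.getD r.val 0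
      · have hws : chevWeight D (Sum.inr s) = s.val + D.rank := by
          rw [chevWeight_inr, if_neg (by omega)]
        rcases i with i | u
        · exfalso
          have hi := i.isLt
          rw [chevWeight_inl, hws] at hij'
          omega
        · by_cases hus : u = s
          · subst hus
            rw [Matrix.one_apply_eq]
            simp [ChevalleyDatum.xMat, hsr, hsn]
          · rw [Matrix.one_apply_ne (by simpa using hus)]
            have hur : u ≠ r := by
              rintro rfl
              rw [hws, chevWeight_inr, if_pos h1] at hij'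
              omega
            simp [ChevalleyDatum.xMat, hsr, hsn, hus, hur]
      · have hsn' : ¬ (s.val = (D.negIdx[r.val]?).getD 0) := by simpa using hsn
        rcases i with i | u
        · rw [Matrix.one_apply_ne (by simp)]
          simp [ChevalleyDatum.xMat, hsr, hsn']
        · have hus : s.val ≤ u.val := by
            rw [chevWeight_inr, chevWeight_inr] at hij'
            split_ifs at hij' <;> omega
          have hnil := chainCoeff_eq_nil_neg hOK r.val hr s.val u.val hus
          by_cases hus' : u = s
          · subst hus'
            rw [Matrix.one_apply_eq]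
            simp [ChevalleyDatum.xMat, hsr, hsn', hnil]
          · rw [Matrix.one_apply_ne (by simpa using hus')]
            simp [ChevalleyDatum.xMat, hsr, hsn', hnil, hus']

/-- The ambient unitriangular group of a Chevalley datum, for the reversed weight. -/
def chevLT (D : ChevalleyDatum) (F : Type*) [Field F] : Subgroup (GL D.Idx F) :=
  UT (chevWeightRev D) (D.rank + D.nroots) (chevWeightRev_lt D) 1 le_rfl F

theorem negUnipotent_le_chevLT {D : ChevalleyDatum} (hOK : negOK D = true) :
    D.negUnipotent F ≤ chevLT D F := by
  unfold ChevalleyDatum.negUnipotent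
  rw [Subgroup.closure_le]
  rintro g ⟨r, t, hr, hg⟩
  show Depth (chevWeightRev D) 1 ((g : Matrix D.Idx D.Idx F) - 1)
  rw [hg]
  unfold ChevalleyDatum.x
  rw [dif_pos hr.1]
  exact xMat_sub_one_depth_neg hOK ⟨r, hr.1⟩ hr t

set_option maxRecDepth 100000 in
theorem negOK_G2 : negOK chevG2 = true := by decide +kernel

set_option maxRecDepth 100000 in
theorem negOK_B2 : negOK chevB2 = true := by decide +kernel

set_option maxRecDepth 100000 in
theorem negOK_D4 : negOK chevD4 = true := by decide +kernel

set_option maxRecDepth 100000 in
theorem negOK_F4 : negOK chevF4 = true := by decide +kernel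

set_option maxRecDepth 100000 in
theorem negOK_E6 : negOK chevE6 = true := by decide +kernel

set_option maxRecDepth 100000 in
theorem negOK_E7 : negOK chevE7 = true := by decide +kernel

set_option maxRecDepth 100000 in
theorem negOK_E8 : negOK chevE8 = true := by decide +kernel

theorem negOK_of_mem (D : ChevalleyDatum)
    (hD : D ∈ [chevG2, chevB2, chevD4, chevF4, chevE6, chevE7, chevE8]) : negOK D = true := by
  simp only [List.mem_cons, List.not_mem_nil, or_false] at hD
  rcases hD with rfl | rfl | rfl | rfl | rfl | rfl | rfl
  · exact negOK_G2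
  · exact negOK_B2
  · exact negOK_D4
  · exact negOK_F4
  · exact negOK_E6
  · exact negOK_E7
  · exact negOK_E8

/-! ### Diagonal versus unitriangular -/

/-- A unitriangular matrix (for any weight) that is diagonal is the identity. -/
theorem eq_one_of_depth_of_diagonal {ι : Type*} [Fintype ι] [DecidableEq ι] (w : ι → ℕ)
    (g : Matrix ι ι F) (h1 : Depth w 1 (g - 1)) (d : ι → F) (h2 : g = Matrix.diagonal d) : g = 1 := by
  ext i j
  by_cases hij : i = j
  · subst hij
    have := h1 i i (by omega)
    rw [Matrix.sub_apply, sub_eq_zero] at this
    exact this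
  · rw [h2, Matrix.diagonal_apply_ne _ hij, Matrix.one_apply_ne hij]

/-- A matrix that is upper unitriangular up to a diagonal factor and lower unitriangular is the identity. -/
theorem eq_one_of_depth_of_depthRev (D : ChevalleyDatum) (g : Matrix D.Idx D.Idx F)
    (h1 : Depth (chevWeight D) 0 g) (h2 : Depth (chevWeightRev D) 1 (g - 1)) : g = 1 := by
  ext i j
  by_cases hij : i = j
  · subst hij
    have := h2 i i (by omega)
    rw [Matrix.sub_apply, sub_eq_zero] at this
    exact this
  · rw [Matrix.one_apply_ne hij]
    have hne : chevWeight D i ≠ chevWeight D j := fun h => hij (chevWeight_injective D h)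
    rcases Nat.lt_or_gt_of_ne hne with hlt | hgt
    · exact h1 i j (by omega)
    · have h3 : chevWeightRev D i < chevWeightRev D j + 1 := by
        have := (chevWeightRev_lt_iff D i j).mpr hgt
        omega
      have := h2 i j h3
      rw [Matrix.sub_apply, Matrix.one_apply_ne hij, sub_zero] at this
      exact this

theorem depth_zero_of_sub_one {ι : Type*} [Fintype ι] [DecidableEq ι] (w : ι → ℕ)
    (g : Matrix ι ι F) (h1 : Depth w 1 (g - 1)) : Depth w 0 g := by
  have : g = (g - 1) + 1 := by abel
  rw [this]
  exact (h1.mono (Nat.zero_le _)).add Depth.one_mat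

theorem depth_zero_diagonal {ι : Type*} [Fintype ι] [DecidableEq ι] (w : ι → ℕ) (d : ι → F) :
    Depth w 0 (Matrix.diagonal d) := by
  intro i j hij
  rw [Matrix.diagonal_apply_ne]
  rintro rfl
  omega

end Cfsg.Agent.Lib.Helper18
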