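/-
helper18: words of fundamental reflections acting on roots, and the characterisation of positive and negative roots by
their index.
-/
import Cfsg.Prelude.Def_ChevStructure
import Cfsg.Prelude.Def_LieTypes
import Cfsg.Prelude.Def_ChevB2

set_option autoImplicit false

namespace Cfsg.Agent.Lib.Helper18

open Cfsg Cfsg.Lie

/-- The image of the root `s` under the word `ws` of fundamental reflections (the last letter acts first). -/
def wordRoot (D : ChevalleyDatum) (ws : List ℕ) (s : ℕ) : ℕ := ws.foldr (fun i acc => D.reflectRoot i acc) s

/-- Positive roots are those in the upper half of the index range, negative roots those in the lower half. -/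
def signOK (D : ChevalleyDatum) : Bool :=
  (List.range D.nroots).all fun s =>
    if s < D.nroots / 2 then decide (D.IsNegRoot s) else decide (D.IsPosRoot s)

set_option maxRecDepth 1000000 in
theorem signOK_G2 : signOK chevG2 = true := by decide +kernel

set_option maxRecDepth 1000000 in
theorem signOK_B2 : signOK chevB2 = true := by decide +kernel

set_option maxRecDepth 1000000 in
theorem signOK_D4 : signOK chevD4 = true := by decide +kernel

set_option maxRecDepth 1000000 in
theorem signOK_F4 : signOK chevF4 = true := by decide +kernel

set_option maxRecDepth 1000000 in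
theorem signOK_E6 : signOK chevE6 = true := by decide +kernel

set_option maxRecDepth 1000000 in
theorem signOK_E7 : signOK chevE7 = true := by decide +kernel

set_option maxRecDepth 1000000 in
theorem signOK_E8 : signOK chevE8 = true := by decide +kernel

theorem signOK_of_mem (D : ChevalleyDatum)
    (hD : D ∈ [chevG2, chevB2, chevD4, chevF4, chevE6, chevE7, chevE8]) : signOK D = true := by
  simp only [List.mem_cons, List.not_mem_nil, or_false] at hD
  rcases hD with rfl | rfl | rfl | rfl | rfl | rfl | rfl
  · exact signOK_G2
  · exact signOK_B2
  · exact signOK_D4
  · exact signOK_F4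
  · exact signOK_E6
  · exact signOK_E7
  · exact signOK_E8

theorem isPosRoot_of_ge (D : ChevalleyDatum) (h : signOK D = true) (s : ℕ) (h1 : s < D.nroots)
    (h2 : D.nroots / 2 ≤ s) : D.IsPosRoot s := by
  unfold signOK at h
  rw [List.all_eq_true] at h
  have := h s (List.mem_range.mpr h1)
  rw [if_neg (by omega), decide_eq_true_eq] at this
  exact this

theorem isNegRoot_of_lt (D : ChevalleyDatum) (h : signOK D = true) (s : ℕ) (h1 : s < D.nroots)
    (h2 : s < D.nroots / 2) : D.IsNegRoot s := by
  unfold signOK at h
  rw [List.all_eq_true] at h
  have := h s (List.mem_range.mpr h1)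
  rw [if_pos h2, decide_eq_true_eq] at this
  exact this

end Cfsg.Agent.Lib.Helper18
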