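/-
helper18: a word for the longest element of the Weyl group, checked on the packed tables of the action of the
n_{p_i}(1) on the root vectors.
-/
import Cfsg.Agent.Lib.Helper18.NX
import Cfsg.Agent.Lib.Helper18.Longest

set_option autoImplicit false

namespace Cfsg.Agent.Lib.Helper18

open Cfsg Cfsg.Lie

/-- Evaluate all the elements of a list of naturals to numerals before calling `k`. -/
def forceList {α : Sort*} : List ℕ → (List ℕ → α) → α
  | [], k => k []
  | a :: l, k => forceNat a fun a' => forceList l fun l' => k (a' :: l')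

theorem forceList_eq {α : Sort*} (l : List ℕ) (k : List ℕ → α) : forceList l k = k l := by
  induction l generalizing k with
  | nil => rfl
  | cons a l ih => simp only [forceList, forceNat_eq, ih]

/-- The image of a root under a word, read from the packed tables `tabs` of the fundamental reflections. -/
def wordRootT (tabs : List ℕ) (ws : List ℕ) (s : ℕ) : ℕ :=
  ws.foldr (fun i acc => tabRoot (tabs.getD i 0) acc) s

/-- The word `ws` is an involution on the roots that interchanges the two halves of the index range. -/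
def w0OKT (T : FastDatum) (ps ws : List ℕ) : Bool :=
  forceList (ps.map T.rootTab) fun tabs =>
    (ws.all fun i => decide (i < ps.length)) &&
    (List.range T.nroots).all fun s0 => forceNat s0 fun s =>
      forceNat (wordRootT tabs ws s) fun s' =>
        decide (wordRootT tabs ws s' = s) && decide (s' < T.nroots) &&
          (decide (T.nroots / 2 ≤ s) == decide (s' < T.nroots / 2))

theorem wordRootT_eq (D : ChevalleyDatum) (T : FastDatum) (ps ws : List ℕ) (hlen : ps.length = D.rank)
    (hps : ∀ i < D.rank, ps.getD i 0 = D.simple i)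
    (hrefl : ∀ i < D.rank, ∀ s < D.nroots,
      D.reflectRoot i s = tabRoot (T.rootTab (D.simple i)) s ∧ D.reflectRoot i s < D.nroots)
    (hws : ∀ i ∈ ws, i < D.rank) (s : ℕ) (hs : s < D.nroots) :
    wordRootT (ps.map T.rootTab) ws s = wordRoot D ws s ∧ wordRoot D ws s < D.nroots := by
  induction ws with
  | nil => exact ⟨rfl, hs⟩
  | cons i ws ih =>
    obtain ⟨ih1, ih2⟩ := ih (fun j hj => hws j (List.mem_cons_of_mem _ hj))
    have hi := hws i List.mem_cons_self
    obtain ⟨h1, h2⟩ := hrefl i hi _ ih2
    have e1 : wordRootT (ps.map T.rootTab) (i :: ws) s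
        = tabRoot ((ps.map T.rootTab).getD i 0) (wordRootT (ps.map T.rootTab) ws s) := rfl
    have e2 : wordRoot D (i :: ws) s = D.reflectRoot i (wordRoot D ws s) := rfl
    have e3 : (ps.map T.rootTab).getD i 0 = T.rootTab (D.simple i) := by
      rw [← hps i hi]
      have hi' : i < ps.length := by omega
      simp [List.getD_eq_getElem?_getD, hi']
    rw [e1, e2, e3, ih1, ← h1]
    exact ⟨rfl, h2⟩

theorem w0OKT_spec (D : ChevalleyDatum) (T : FastDatum) (hag : T.agree D = true) (ps ws : List ℕ)
    (hlen : ps.length = D.rank) (hps : ∀ i < D.rank, ps.getD i 0 = D.simple i)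
    (hrefl : ∀ i < D.rank, ∀ s < D.nroots,
      D.reflectRoot i s = tabRoot (T.rootTab (D.simple i)) s ∧ D.reflectRoot i s < D.nroots)
    (h : w0OKT T ps ws = true) :
    (∀ i ∈ ws, i < D.rank) ∧ ∀ s < D.nroots, wordRoot D ws (wordRoot D ws s) = s ∧
      wordRoot D ws s < D.nroots ∧ (D.nroots / 2 ≤ s ↔ wordRoot D ws s < D.nroots / 2) := by
  have hn := T.nroots_eq D hag
  unfold w0OKT at h
  rw [forceList_eq, Bool.and_eq_true, List.all_eq_true, List.all_eq_true] at h
  have hws : ∀ i ∈ ws, i < D.rank := fun i hi => by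
    have := h.1 i hi
    rw [decide_eq_true_eq] at this
    omega
  refine ⟨hws, fun s hs => ?_⟩
  have h2 := h.2 s (List.mem_range.mpr (by omega))
  rw [forceNat_eq, forceNat_eq] at h2
  simp only [Bool.and_eq_true, decide_eq_true_eq, beq_iff_eq, decide_eq_decide] at h2
  obtain ⟨e1, l1⟩ := wordRootT_eq D T ps ws hlen hps hrefl hws s hs
  rw [e1] at h2
  obtain ⟨e2, -⟩ := wordRootT_eq D T ps ws hlen hps hrefl hws _ l1
  rw [e2, hn] at h2
  exact ⟨h2.1.1, l1, h2.2⟩

end Cfsg.Agent.Lib.Helper18
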