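/-
helper18: a word for the longest element of the Weyl group of type B2 (kernel computation).
-/
import Cfsg.Agent.Lib.Helper18.FastTB2
import Cfsg.Agent.Lib.Helper18.LongestT

set_option autoImplicit false

namespace Cfsg.Agent.Lib.Helper18

open Cfsg Cfsg.Lie

/-- A reduced word for the longest element. -/
def longestB2 : List ℕ := [0, 1, 0, 1]

set_option maxRecDepth 1000000 in
theorem w0OKT_B2 : w0OKT fastB2 [5, 4] longestB2 = true := by decide +kernel

end Cfsg.Agent.Lib.Helper18
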