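/-
helper18: a word for the longest element of the Weyl group of type D4 (kernel computation).
-/
import Cfsg.Agent.Lib.Helper18.FastTD4
import Cfsg.Agent.Lib.Helper18.LongestT

set_option autoImplicit false

namespace Cfsg.Agent.Lib.Helper18

open Cfsg Cfsg.Lie

/-- A reduced word for the longest element. -/
def longestD4 : List ℕ := [0, 1, 0, 2, 1, 0, 3, 1, 0, 2, 1, 3]

set_option maxRecDepth 1000000 in
theorem w0OKT_D4 : w0OKT fastD4 [18, 14, 13, 12] longestD4 = true := by decide +kernel

end Cfsg.Agent.Lib.Helper18
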