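/-
helper18: a word for the longest element of the Weyl group of type F4 (kernel computation).
-/
import Cfsg.Agent.Lib.Helper18.FastTF4
import Cfsg.Agent.Lib.Helper18.LongestT

set_option autoImplicit false

namespace Cfsg.Agent.Lib.Helper18

open Cfsg Cfsg.Lie

/-- A reduced word for the longest element. -/
def longestF4 : List ℕ := [0, 1, 0, 2, 1, 0, 2, 1, 2, 3, 2, 1, 0, 2, 1, 2, 3, 2, 1, 0, 2, 1, 2, 3]

set_option maxRecDepth 1000000 in
theorem w0OKT_F4 : w0OKT fastF4 [33, 27, 25, 24] longestF4 = true := by decide +kernel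

end Cfsg.Agent.Lib.Helper18
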