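/-
helper18: a word for the longest element of the Weyl group of type G2 (kernel computation).
-/
import Cfsg.Agent.Lib.Helper18.FastTG2
import Cfsg.Agent.Lib.Helper18.LongestT

set_option autoImplicit false

namespace Cfsg.Agent.Lib.Helper18

open Cfsg Cfsg.Lie

/-- A reduced word for the longest element. -/
def longestG2 : List ℕ := [0, 1, 0, 1, 0, 1]

set_option maxRecDepth 1000000 in
theorem w0OKT_G2 : w0OKT fastG2 [7, 6] longestG2 = true := by decide +kernel

end Cfsg.Agent.Lib.Helper18
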