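/-
helper18: the relations n_p(1) x_s(t) = x_(w_p s)(eta t) n_p(1) for all fundamental roots p and all roots s, for the seven
tabulated data.
-/
import Cfsg.Agent.Lib.Helper18.NXAllG2
import Cfsg.Agent.Lib.Helper18.NXAllB2
import Cfsg.Agent.Lib.Helper18.NXAllD4
import Cfsg.Agent.Lib.Helper18.NXAllF4
import Cfsg.Agent.Lib.Helper18.NXAllE6
import Cfsg.Agent.Lib.Helper18.NXAllE7
import Cfsg.Agent.Lib.Helper18.NXAllE8

set_option autoImplicit false

namespace Cfsg.Agent.Lib.Helper18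

open Cfsg.Lie

variable {F : Type*} [Field F]

/-- For a fundamental root `p = p_i` and a root `s`: `reflectRoot i s` is a root and
`n_p(1) x_s(t) = x_{w_p s}(η t) n_p(1)` for a sign `η`. -/
theorem nx_simple (D : ChevalleyDatum)
    (hD : D ∈ [chevG2, chevB2, chevD4, chevF4, chevE6, chevE7, chevE8]) (i s : ℕ) (hi : i < D.rank)
    (hs : s < D.nroots) :
    ∃ T : FastDatum, T.agree D = true ∧ D.reflectRoot i s = tabRoot (T.rootTab (D.simple i)) s ∧
      D.reflectRoot i s < D.nroots ∧ ∀ t : F,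
      D.nMat F (D.simple i) 1 * D.x F s t
        = D.x F (D.reflectRoot i s) (((tabSign (T.rootTab (D.simple i)) s : ℤ) : F) * t)
          * D.nMat F (D.simple i) 1 := by
  simp only [List.mem_cons, List.not_mem_nil, or_false] at hD
  rcases hD with rfl | rfl | rfl | rfl | rfl | rfl | rfl
  · obtain ⟨h1, h2⟩ := nxRel_G2 (F := F) i hi s hs
    refine ⟨fastG2, agree_G2, h2, ?_⟩
    rw [h2]; exact h1
  · obtain ⟨h1, h2⟩ := nxRel_B2 (F := F) i hi s hs
    refine ⟨fastB2, agree_B2, h2, ?_⟩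
    rw [h2]; exact h1
  · obtain ⟨h1, h2⟩ := nxRel_D4 (F := F) i hi s hs
    refine ⟨fastD4, agree_D4, h2, ?_⟩
    rw [h2]; exact h1
  · obtain ⟨h1, h2⟩ := nxRel_F4 (F := F) i hi s hs
    refine ⟨fastF4, agree_F4, h2, ?_⟩
    rw [h2]; exact h1
  · obtain ⟨h1, h2⟩ := nxRel_E6 (F := F) i hi s hs
    refine ⟨fastE6, agree_E6, h2, ?_⟩
    rw [h2]; exact h1
  · obtain ⟨h1, h2⟩ := nxRel_E7 (F := F) i hi s hs
    refine ⟨fastE7, agree_E7, h2, ?_⟩
    rw [h2]; exact h1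
  · obtain ⟨h1, h2⟩ := nxRel_E8 (F := F) i hi s hs
    refine ⟨fastE8, agree_E8, h2, ?_⟩
    rw [h2]; exact h1

end Cfsg.Agent.Lib.Helper18
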