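/-
helper18: words in the fundamental reflections: the product of the n_{p_i}(1) along a word conjugates x_s(t) to
x_{w(s)}(± t), and it is (the matrix of) an element of the monomial subgroup N.
-/
import Cfsg.Agent.Lib.Helper18.NXAll
import Cfsg.Agent.Lib.Helper18.NConj
import Cfsg.Agent.Lib.Helper18.Longest

set_option autoImplicit false

namespace Cfsg.Agent.Lib.Helper18

open Cfsg Cfsg.Lie

variable {F : Type*} [Field F]

/-- The product of the `n_{p_i}(1)` along the word. -/
def nWordMat (D : ChevalleyDatum) (F : Type*) [Field F] (ws : List ℕ) : Matrix D.Idx D.Idx F :=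
  (ws.map fun i => D.nMat F (D.simple i) 1).prod

theorem wordRoot_cons (D : ChevalleyDatum) (i : ℕ) (ws : List ℕ) (s : ℕ) :
    wordRoot D (i :: ws) s = D.reflectRoot i (wordRoot D ws s) := rfl

theorem nWordMat_cons (D : ChevalleyDatum) (i : ℕ) (ws : List ℕ) :
    nWordMat D F (i :: ws) = D.nMat F (D.simple i) 1 * nWordMat D F ws := by
  simp [nWordMat]

theorem wordRoot_lt (D : ChevalleyDatum)
    (hD : D ∈ [chevG2, chevB2, chevD4, chevF4, chevE6, chevE7, chevE8]) (ws : List ℕ)
    (hws : ∀ i ∈ ws, i < D.rank) (s : ℕ) (hs : s < D.nroots) : wordRoot D ws s < D.nroots := by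
  induction ws with
  | nil => exact hs
  | cons i ws ih =>
    rw [wordRoot_cons]
    have ih' := ih (fun j hj => hws j (List.mem_cons_of_mem _ hj))
    obtain ⟨T, -, -, h, -⟩ := nx_simple (F := ℚ) D hD i _ (hws i List.mem_cons_self) ih'
    exact h

/-- Conjugation of a root element along a word. -/
theorem nWordMat_mul_x (D : ChevalleyDatum)
    (hD : D ∈ [chevG2, chevB2, chevD4, chevF4, chevE6, chevE7, chevE8]) (ws : List ℕ)
    (hws : ∀ i ∈ ws, i < D.rank) (s : ℕ) (hs : s < D.nroots) :
    ∃ η : ℤ, (η = 1 ∨ η = -1) ∧ ∀ t : F,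
      nWordMat D F ws * D.x F s t = D.x F (wordRoot D ws s) ((η : F) * t) * nWordMat D F ws := by
  induction ws with
  | nil =>
    refine ⟨1, Or.inl rfl, fun t => ?_⟩
    simp [nWordMat, wordRoot]
  | cons i ws ih =>
    obtain ⟨η, hη, ih'⟩ := ih (fun j hj => hws j (List.mem_cons_of_mem _ hj))
    have hlt := wordRoot_lt D hD ws (fun j hj => hws j (List.mem_cons_of_mem _ hj)) s hs
    obtain ⟨T, -, -, -, h⟩ := nx_simple (F := F) D hD i _ (hws i List.mem_cons_self) hlt
    refine ⟨tabSign (T.rootTab (D.simple i)) (wordRoot D ws s) * η, ?_, fun t => ?_⟩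
    · rcases tabSign_cases (T.rootTab (D.simple i)) (wordRoot D ws s) with h1 | h1 <;>
        rcases hη with h2 | h2 <;> rw [h1, h2] <;> norm_num
    · rw [nWordMat_cons, mul_assoc, ih' t, ← mul_assoc, h, wordRoot_cons, mul_assoc]
      push_cast
      rw [mul_assoc]

/-- `n_r(1)` is the matrix of an element of `N`. -/
theorem exists_unit_nMat (D : ChevalleyDatum)
    (hD : D ∈ [chevG2, chevB2, chevD4, chevF4, chevE6, chevE7, chevE8]) (r : ℕ) (hr : r < D.nroots) :
    ∃ g : GL D.Idx F, g ∈ D.monomialSubgroup F ∧ (g : Matrix D.Idx D.Idx F) = D.nMat F r 1 := by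
  have h1 := nMat_one_mul_nMat_neg_one (F := F) D hD r hr
  have h2 : D.nMat F r (-1) * D.nMat F r 1 = 1 := mul_eq_one_comm.mp h1
  refine ⟨⟨D.nMat F r 1, D.nMat F r (-1), h1, h2⟩, ?_, rfl⟩
  apply Subgroup.mem_sup_right
  apply Subgroup.subset_closure
  exact ⟨r, hr, rfl⟩

theorem simple_lt (D : ChevalleyDatum)
    (hD : D ∈ [chevG2, chevB2, chevD4, chevF4, chevE6, chevE7, chevE8]) (i : ℕ) (hi : i < D.rank) :
    D.simple i < D.nroots := by
  simp only [List.mem_cons, List.not_mem_nil, or_false] at hD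
  rcases hD with rfl | rfl | rfl | rfl | rfl | rfl | rfl
  · change i < 2 at hi; interval_cases i <;> simp [simple_G2_0, simple_G2_1] <;> decide
  · change i < 2 at hi; interval_cases i <;> simp [simple_B2_0, simple_B2_1] <;> decide
  · change i < 4 at hi
    interval_cases i <;> simp [simple_D4_0, simple_D4_1, simple_D4_2, simple_D4_3] <;> decide
  · change i < 4 at hi
    interval_cases i <;> simp [simple_F4_0, simple_F4_1, simple_F4_2, simple_F4_3] <;> decide
  · change i < 6 at hi
    interval_cases i <;>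
      simp [simple_E6_0, simple_E6_1, simple_E6_2, simple_E6_3, simple_E6_4, simple_E6_5] <;> decide
  · change i < 7 at hi
    interval_cases i <;>
      simp [simple_E7_0, simple_E7_1, simple_E7_2, simple_E7_3, simple_E7_4, simple_E7_5, simple_E7_6] <;>
      decide
  · change i < 8 at hi
    interval_cases i <;>
      simp [simple_E8_0, simple_E8_1, simple_E8_2, simple_E8_3, simple_E8_4, simple_E8_5, simple_E8_6,
        simple_E8_7] <;> decide

/-- The product along a word is the matrix of an element of `N`. -/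
theorem exists_unit_nWordMat (D : ChevalleyDatum)
    (hD : D ∈ [chevG2, chevB2, chevD4, chevF4, chevE6, chevE7, chevE8]) (ws : List ℕ)
    (hws : ∀ i ∈ ws, i < D.rank) :
    ∃ g : GL D.Idx F, g ∈ D.monomialSubgroup F ∧ (g : Matrix D.Idx D.Idx F) = nWordMat D F ws := by
  induction ws with
  | nil => exact ⟨1, one_mem _, by simp [nWordMat]⟩
  | cons i ws ih =>
    obtain ⟨g, hg, hgm⟩ := ih (fun j hj => hws j (List.mem_cons_of_mem _ hj))
    obtain ⟨g', hg', hgm'⟩ := exists_unit_nMat (F := F) D hD (D.simple i)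
      (simple_lt D hD i (hws i List.mem_cons_self))
    exact ⟨g' * g, mul_mem hg' hg, by rw [Units.val_mul, hgm, hgm', nWordMat_cons]⟩

end Cfsg.Agent.Lib.Helper18
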