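/-
helper18: for each of the seven tabulated data, a word in the fundamental reflections that is an involution on the
roots and interchanges positive and negative roots.
-/
import Cfsg.Agent.Lib.Helper18.WWord
import Cfsg.Agent.Lib.Helper18.LongestChkG2
import Cfsg.Agent.Lib.Helper18.LongestChkB2
import Cfsg.Agent.Lib.Helper18.LongestChkD4
import Cfsg.Agent.Lib.Helper18.LongestChkF4
import Cfsg.Agent.Lib.Helper18.LongestChkE6
import Cfsg.Agent.Lib.Helper18.LongestChkE7
import Cfsg.Agent.Lib.Helper18.LongestChkE8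

set_option autoImplicit false

namespace Cfsg.Agent.Lib.Helper18

open Cfsg Cfsg.Lie

/-- The specification of a word for the longest element. -/
def IsLongestWord (D : ChevalleyDatum) (ws : List ℕ) : Prop :=
  (∀ i ∈ ws, i < D.rank) ∧ ∀ s < D.nroots, wordRoot D ws (wordRoot D ws s) = s ∧
    wordRoot D ws s < D.nroots ∧ (D.nroots / 2 ≤ s ↔ wordRoot D ws s < D.nroots / 2)

theorem hrefl_of_nxRel (D : ChevalleyDatum) (T : FastDatum)
    (h : ∀ i < D.rank, ∀ s < D.nroots, NXRel ℚ T D (D.simple i) s ∧
      D.reflectRoot i s = tabRoot (T.rootTab (D.simple i)) s) :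
    ∀ i < D.rank, ∀ s < D.nroots,
      D.reflectRoot i s = tabRoot (T.rootTab (D.simple i)) s ∧ D.reflectRoot i s < D.nroots := by
  intro i hi s hs
  obtain ⟨h1, h2⟩ := h i hi s hs
  exact ⟨h2, by rw [h2]; exact h1.1⟩

theorem exists_longestWord (D : ChevalleyDatum)
    (hD : D ∈ [chevG2, chevB2, chevD4, chevF4, chevE6, chevE7, chevE8]) :
    ∃ ws : List ℕ, IsLongestWord D ws := by
  simp only [List.mem_cons, List.not_mem_nil, or_false] at hD
  rcases hD with rfl | rfl | rfl | rfl | rfl | rfl | rfl
  · refine ⟨longestG2, w0OKT_spec chevG2 fastG2 agree_G2 _ _ rfl ?_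
      (hrefl_of_nxRel _ _ fun i hi s hs => nxRel_G2 i hi s hs) w0OKT_G2⟩
    intro i hi
    change i < 2 at hi
    interval_cases i
    · exact simple_G2_0.symm
    · exact simple_G2_1.symm
  · refine ⟨longestB2, w0OKT_spec chevB2 fastB2 agree_B2 _ _ rfl ?_
      (hrefl_of_nxRel _ _ fun i hi s hs => nxRel_B2 i hi s hs) w0OKT_B2⟩
    intro i hi
    change i < 2 at hi
    interval_cases i
    · exact simple_B2_0.symm
    · exact simple_B2_1.symm
  · refine ⟨longestD4, w0OKT_spec chevD4 fastD4 agree_D4 _ _ rfl ?_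
      (hrefl_of_nxRel _ _ fun i hi s hs => nxRel_D4 i hi s hs) w0OKT_D4⟩
    intro i hi
    change i < 4 at hi
    interval_cases i
    · exact simple_D4_0.symm
    · exact simple_D4_1.symm
    · exact simple_D4_2.symm
    · exact simple_D4_3.symm
  · refine ⟨longestF4, w0OKT_spec chevF4 fastF4 agree_F4 _ _ rfl ?_
      (hrefl_of_nxRel _ _ fun i hi s hs => nxRel_F4 i hi s hs) w0OKT_F4⟩
    intro i hi
    change i < 4 at hi
    interval_cases i
    · exact simple_F4_0.symm
    · exact simple_F4_1.symm
    · exact simple_F4_2.symm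
    · exact simple_F4_3.symm
  · refine ⟨longestE6, w0OKT_spec chevE6 fastE6 agree_E6 _ _ rfl ?_
      (hrefl_of_nxRel _ _ fun i hi s hs => nxRel_E6 i hi s hs) w0OKT_E6⟩
    intro i hi
    change i < 6 at hi
    interval_cases i
    · exact simple_E6_0.symm
    · exact simple_E6_1.symm
    · exact simple_E6_2.symm
    · exact simple_E6_3.symm
    · exact simple_E6_4.symm
    · exact simple_E6_5.symm
  · refine ⟨longestE7, w0OKT_spec chevE7 fastE7 agree_E7 _ _ rfl ?_
      (hrefl_of_nxRel _ _ fun i hi s hs => nxRel_E7 i hi s hs) w0OKT_E7⟩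
    intro i hi
    change i < 7 at hi
    interval_cases i
    · exact simple_E7_0.symm
    · exact simple_E7_1.symm
    · exact simple_E7_2.symm
    · exact simple_E7_3.symm
    · exact simple_E7_4.symm
    · exact simple_E7_5.symm
    · exact simple_E7_6.symm
  · refine ⟨longestE8, w0OKT_spec chevE8 fastE8 agree_E8 _ _ rfl ?_
      (hrefl_of_nxRel _ _ fun i hi s hs => nxRel_E8 i hi s hs) w0OKT_E8⟩
    intro i hi
    change i < 8 at hi
    interval_cases i
    · exact simple_E8_0.symm
    · exact simple_E8_1.symm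
    · exact simple_E8_2.symm
    · exact simple_E8_3.symm
    · exact simple_E8_4.symm
    · exact simple_E8_5.symm
    · exact simple_E8_6.symm
    · exact simple_E8_7.symm

end Cfsg.Agent.Lib.Helper18
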