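/-
helper18: root elements and the elements n_p as elements of the general linear group; conjugation of root elements by
the n_p(1) (p fundamental) and by words in them, with the roots and signs read from the packed tables.
-/
import Cfsg.Agent.Lib.Helper18.ChevDataAll
import Cfsg.Agent.S1043
import Cfsg.Agent.S1038
import Cfsg.Agent.S1036

set_option autoImplicit false

namespace Cfsg.Agent.Lib.Helper18

open Cfsg.Lie

universe u

variable {F : Type u} [Field F] {D : ChevalleyDatum}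

/-- The root element `x_r(t)` as an element of the general linear group. -/
noncomputable def xG (hD : D ∈ [chevG2, chevB2, chevD4, chevF4, chevE6, chevE7, chevE8]) (r : ℕ) (t : F) :
    GL D.Idx F :=
  ⟨D.x F r t, D.x F r (-t), Cfsg.Agent.S1043.x_mul_x_neg D hD r t,
    mul_eq_one_comm.mp (Cfsg.Agent.S1043.x_mul_x_neg D hD r t)⟩

@[simp] theorem coe_xG (hD : D ∈ [chevG2, chevB2, chevD4, chevF4, chevE6, chevE7, chevE8]) (r : ℕ) (t : F) :
    ((xG hD r t : GL D.Idx F) : Matrix D.Idx D.Idx F) = D.x F r t := rfl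

theorem xG_inv (hD : D ∈ [chevG2, chevB2, chevD4, chevF4, chevE6, chevE7, chevE8]) (r : ℕ) (t : F) :
    (xG hD r t)⁻¹ = xG hD r (-t) := by
  apply Units.ext
  rfl

theorem x_zero (hD : D ∈ [chevG2, chevB2, chevD4, chevF4, chevE6, chevE7, chevE8]) (r : ℕ) :
    D.x F r 0 = 1 := by
  by_cases hr : r < D.nroots
  · exact (Cfsg.Agent.S1024.result D hD r hr 0).mpr rfl
  · unfold ChevalleyDatum.x
    rw [dif_neg hr]

theorem x_add' (hD : D ∈ [chevG2, chevB2, chevD4, chevF4, chevE6, chevE7, chevE8]) (r : ℕ) (t u : F) :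
    D.x F r t * D.x F r u = D.x F r (t + u) := by
  by_cases hr : r < D.nroots
  · exact Cfsg.Agent.S1023.result D hD r hr t u
  · unfold ChevalleyDatum.x
    rw [dif_neg hr, dif_neg hr, dif_neg hr, one_mul]

theorem xG_mul (hD : D ∈ [chevG2, chevB2, chevD4, chevF4, chevE6, chevE7, chevE8]) (r : ℕ) (t u : F) :
    xG hD r t * xG hD r u = xG hD r (t + u) := by
  apply Units.ext
  rw [Units.val_mul, coe_xG, coe_xG, coe_xG, x_add' hD]

theorem xG_zero (hD : D ∈ [chevG2, chevB2, chevD4, chevF4, chevE6, chevE7, chevE8]) (r : ℕ) :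
    xG (F := F) hD r 0 = 1 := by
  apply Units.ext
  rw [coe_xG, x_zero hD, Units.val_one]

theorem eq_xG (hD : D ∈ [chevG2, chevB2, chevD4, chevF4, chevE6, chevE7, chevE8]) (g : GL D.Idx F) (r : ℕ)
    (t : F) (hg : (g : Matrix D.Idx D.Idx F) = D.x F r t) : g = xG hD r t :=
  Units.ext hg

/-- The element `n_r(1)` as an element of the general linear group. -/
noncomputable def nG (hD : D ∈ [chevG2, chevB2, chevD4, chevF4, chevE6, chevE7, chevE8]) (r : ℕ)
    (hr : r < D.nroots) : GL D.Idx F :=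
  ⟨D.nMat F r 1, D.nMat F r (-1), nMat_one_mul_nMat_neg_one D hD r hr,
    mul_eq_one_comm.mp (nMat_one_mul_nMat_neg_one D hD r hr)⟩

@[simp] theorem coe_nG (hD : D ∈ [chevG2, chevB2, chevD4, chevF4, chevE6, chevE7, chevE8]) (r : ℕ)
    (hr : r < D.nroots) : ((nG (F := F) hD r hr : GL D.Idx F) : Matrix D.Idx D.Idx F) = D.nMat F r 1 := rfl

theorem coe_nG_inv (hD : D ∈ [chevG2, chevB2, chevD4, chevF4, chevE6, chevE7, chevE8]) (r : ℕ)
    (hr : r < D.nroots) :
    (((nG (F := F) hD r hr)⁻¹ : GL D.Idx F) : Matrix D.Idx D.Idx F) = D.nMat F r (-1) := rfl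

theorem nG_mem_monomial (hD : D ∈ [chevG2, chevB2, chevD4, chevF4, chevE6, chevE7, chevE8]) (r : ℕ)
    (hr : r < D.nroots) : nG (F := F) hD r hr ∈ D.monomialSubgroup F := by
  apply Subgroup.mem_sup_right
  apply Subgroup.subset_closure
  exact ⟨r, hr, rfl⟩

theorem nG_inv_sq_mem (hD : D ∈ [chevG2, chevB2, chevD4, chevF4, chevE6, chevE7, chevE8]) (r : ℕ)
    (hr : r < D.nroots) : (nG (F := F) hD r hr)⁻¹ * (nG hD r hr)⁻¹ ∈ D.diagonalSubgroup F :=
  Cfsg.Agent.S1038.inv_sq_mem D hD r hr _ rfl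

theorem nG_sq_mem (hD : D ∈ [chevG2, chevB2, chevD4, chevF4, chevE6, chevE7, chevE8]) (r : ℕ)
    (hr : r < D.nroots) : nG (F := F) hD r hr * nG hD r hr ∈ D.diagonalSubgroup F := by
  have h := inv_mem (nG_inv_sq_mem (F := F) hD r hr)
  rw [mul_inv_rev, inv_inv] at h
  exact h

namespace ChevData

variable (C : ChevData.{u} D)

include C

theorem nroots_eq : C.T.nroots = D.nroots := C.T.nroots_eq D C.hag

theorem rank_eq : C.T.rank = D.rank := C.T.rank_eq D C.hag

theorem neg_eq (r : ℕ) (hr : r < D.nroots) : D.neg r = C.T.neg r := C.T.neg_eq D C.hag r hr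

/-- The reflected root. -/
def w (i s : ℕ) : ℕ := tabRoot (C.tabs.getD i 0) s

/-- The sign. -/
def eta (i s : ℕ) : ℤ := tabSign (C.tabs.getD i 0) s

theorem eta_cases (i s : ℕ) : C.eta i s = 1 ∨ C.eta i s = -1 := tabSign_cases _ _

theorem eta_mul_self (i s : ℕ) : ((C.eta i s : ℤ) : F) * (C.eta i s : F) = 1 := by
  rcases C.eta_cases i s with h | h <;> rw [h] <;> simp

theorem eta_ne_zero (i s : ℕ) : ((C.eta i s : ℤ) : F) ≠ 0 := by
  intro h
  have := C.eta_mul_self (F := F) i s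
  rw [h, mul_zero] at this
  exact zero_ne_one this

theorem w_lt (i s : ℕ) (hi : i < D.rank) (hs : s < D.nroots) : C.w i s < D.nroots := by
  have := C.spec.refl_lt i (C.rank_eq ▸ hi) s (C.nroots_eq ▸ hs)
  rw [C.nroots_eq] at this
  exact this

theorem w_w (i s : ℕ) (hi : i < D.rank) (hs : s < D.nroots) : C.w i (C.w i s) = s :=
  C.spec.refl_invol i (C.rank_eq ▸ hi) s (C.nroots_eq ▸ hs)

theorem w_eq_reflectRoot (i s : ℕ) (hi : i < D.rank) (hs : s < D.nroots) : D.reflectRoot i s = C.w i s :=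
  C.hrefl i hi s hs

theorem simple_lt (i : ℕ) (hi : i < D.rank) : D.simple i < D.nroots := by
  rw [C.hsimple i hi, ← C.nroots_eq]
  exact (C.spec.simple_pos i (C.rank_eq ▸ hi)).2

theorem half_le_simple (i : ℕ) (hi : i < D.rank) : D.nroots / 2 ≤ D.simple i := by
  rw [C.hsimple i hi, ← C.nroots_eq]
  exact (C.spec.simple_pos i (C.rank_eq ▸ hi)).1

/-- `n_p(1) x_s(t) = x_{w s}(η t) n_p(1)` for a fundamental root `p = p_i`. -/
theorem n_mul_x (i s : ℕ) (hi : i < D.rank) (hs : s < D.nroots) (t : F) :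
    D.nMat F (D.simple i) 1 * D.x F s t
      = D.x F (C.w i s) ((C.eta i s : F) * t) * D.nMat F (D.simple i) 1 := by
  have := (C.nx F i hi s hs).2 t
  rw [← C.htabs i hi] at this
  exact this

end ChevData

/-- `n_p(1) x_s(t) n_p(1)⁻¹ = x_{w s}(η t)` in the general linear group. -/
theorem nG_conj_xG (hD : D ∈ [chevG2, chevB2, chevD4, chevF4, chevE6, chevE7, chevE8]) (C : ChevData.{u} D)
    (i s : ℕ) (hi : i < D.rank) (hs : s < D.nroots) (t : F) :
    nG hD (D.simple i) (C.simple_lt i hi) * xG hD s t * (nG hD (D.simple i) (C.simple_lt i hi))⁻¹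
      = xG hD (C.w i s) ((C.eta i s : F) * t) := by
  rw [mul_inv_eq_iff_eq_mul]
  apply Units.ext
  rw [Units.val_mul, Units.val_mul, coe_nG, coe_xG, coe_xG]
  exact C.n_mul_x i s hi hs t

/-- `n_p(1)⁻¹ x_s(t) n_p(1) = x_{w s}(η' t)` in the general linear group, with `η' = η_{w s}`. -/
theorem nG_inv_conj_xG (hD : D ∈ [chevG2, chevB2, chevD4, chevF4, chevE6, chevE7, chevE8])
    (C : ChevData.{u} D) (i s : ℕ) (hi : i < D.rank) (hs : s < D.nroots) (t : F) :
    (nG hD (D.simple i) (C.simple_lt i hi))⁻¹ * xG hD s t * nG hD (D.simple i) (C.simple_lt i hi)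
      = xG hD (C.w i s) ((C.eta i (C.w i s) : F) * t) := by
  have h := nG_conj_xG hD C i (C.w i s) hi (C.w_lt i s hi hs) ((C.eta i (C.w i s) : F) * t)
  rw [C.w_w i s hi hs, ← mul_assoc, C.eta_mul_self, one_mul] at h
  rw [← h]
  group

end Cfsg.Agent.Lib.Helper18
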