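/-
helper18: words in the elements n_p(1) (p fundamental) in the general linear group: they normalise H, conjugate root
elements to root elements, and every element of N is such a word times an element of H.
-/
import Cfsg.Agent.Lib.Helper18.BN1

set_option autoImplicit false

namespace Cfsg.Agent.Lib.Helper18

open Cfsg.Lie

universe u

variable {F : Type u} [Field F] {D : ChevalleyDatum}

theorem wordSignF_cons (tabs : List ℕ) (i : ℕ) (ws : List ℕ) (s : ℕ) :
    wordSignF tabs (i :: ws) s = tabSign (tabs.getD i 0) (wordRootF tabs ws s) * wordSignF tabs ws s := rfl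

/-- The element `n_{p_i}(1)` of the general linear group (1 if `i` is out of range). -/
noncomputable def sG (hD : D ∈ [chevG2, chevB2, chevD4, chevF4, chevE6, chevE7, chevE8]) (C : ChevData.{u} D)
    (i : ℕ) : GL D.Idx F :=
  if h : i < D.rank then nG hD (D.simple i) (C.simple_lt i h) else 1

theorem sG_of_lt (hD : D ∈ [chevG2, chevB2, chevD4, chevF4, chevE6, chevE7, chevE8]) (C : ChevData.{u} D)
    (i : ℕ) (hi : i < D.rank) : sG (F := F) hD C i = nG hD (D.simple i) (C.simple_lt i hi) := by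
  unfold sG
  rw [dif_pos hi]

theorem coe_sG (hD : D ∈ [chevG2, chevB2, chevD4, chevF4, chevE6, chevE7, chevE8]) (C : ChevData.{u} D)
    (i : ℕ) (hi : i < D.rank) :
    ((sG (F := F) hD C i : GL D.Idx F) : Matrix D.Idx D.Idx F) = D.nMat F (D.simple i) 1 := by
  rw [sG_of_lt hD C i hi]
  rfl

theorem sG_mem_monomial (hD : D ∈ [chevG2, chevB2, chevD4, chevF4, chevE6, chevE7, chevE8])
    (C : ChevData.{u} D) (i : ℕ) : sG (F := F) hD C i ∈ D.monomialSubgroup F := by
  unfold sG
  split_ifs with h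
  · exact nG_mem_monomial hD _ _
  · exact one_mem _

theorem sG_sq_mem (hD : D ∈ [chevG2, chevB2, chevD4, chevF4, chevE6, chevE7, chevE8])
    (C : ChevData.{u} D) (i : ℕ) : sG (F := F) hD C i * sG hD C i ∈ D.diagonalSubgroup F := by
  unfold sG
  split_ifs with h
  · exact nG_sq_mem hD _ _
  · rw [one_mul]; exact one_mem _

theorem sG_conj_H (hD : D ∈ [chevG2, chevB2, chevD4, chevF4, chevE6, chevE7, chevE8])
    (C : ChevData.{u} D) (i : ℕ) (h : GL D.Idx F) (hh : h ∈ D.diagonalSubgroup F) :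
    sG hD C i * h * (sG hD C i)⁻¹ ∈ D.diagonalSubgroup F := by
  unfold sG
  split_ifs with hi
  · exact Cfsg.Agent.S1038.conj_mem D hD _ (C.simple_lt i hi) _ rfl h hh
  · simpa using hh

theorem sG_inv_conj_H (hD : D ∈ [chevG2, chevB2, chevD4, chevF4, chevE6, chevE7, chevE8])
    (C : ChevData.{u} D) (i : ℕ) (h : GL D.Idx F) (hh : h ∈ D.diagonalSubgroup F) :
    (sG hD C i)⁻¹ * h * sG hD C i ∈ D.diagonalSubgroup F := by
  have h1 := sG_conj_H hD C i h hh
  have h2 := sG_sq_mem (F := F) hD C i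
  have h3 : (sG hD C i)⁻¹ * h * sG hD C i
      = (sG hD C i * sG hD C i)⁻¹ * (sG hD C i * h * (sG hD C i)⁻¹) * (sG hD C i * sG hD C i) := by group
  rw [h3]
  exact mul_mem (mul_mem (inv_mem h2) h1) h2

/-- The product of the `n_{p_i}(1)` along a word. -/
noncomputable def nW (hD : D ∈ [chevG2, chevB2, chevD4, chevF4, chevE6, chevE7, chevE8]) (C : ChevData.{u} D)
    (ws : List ℕ) : GL D.Idx F := (ws.map (sG hD C)).prod

theorem nW_nil (hD : D ∈ [chevG2, chevB2, chevD4, chevF4, chevE6, chevE7, chevE8]) (C : ChevData.{u} D) :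
    nW (F := F) hD C [] = 1 := rfl

theorem nW_cons (hD : D ∈ [chevG2, chevB2, chevD4, chevF4, chevE6, chevE7, chevE8]) (C : ChevData.{u} D)
    (i : ℕ) (ws : List ℕ) : nW (F := F) hD C (i :: ws) = sG hD C i * nW hD C ws := by
  unfold nW
  rw [List.map_cons, List.prod_cons]

theorem nW_append (hD : D ∈ [chevG2, chevB2, chevD4, chevF4, chevE6, chevE7, chevE8]) (C : ChevData.{u} D)
    (ws ws' : List ℕ) : nW (F := F) hD C (ws ++ ws') = nW hD C ws * nW hD C ws' := by
  unfold nW
  rw [List.map_append, List.prod_append]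

theorem nW_mem_monomial (hD : D ∈ [chevG2, chevB2, chevD4, chevF4, chevE6, chevE7, chevE8])
    (C : ChevData.{u} D) (ws : List ℕ) : nW (F := F) hD C ws ∈ D.monomialSubgroup F := by
  induction ws with
  | nil => exact one_mem _
  | cons i ws ih => rw [nW_cons]; exact mul_mem (sG_mem_monomial hD C i) ih

theorem nW_conj_H (hD : D ∈ [chevG2, chevB2, chevD4, chevF4, chevE6, chevE7, chevE8])
    (C : ChevData.{u} D) (ws : List ℕ) (h : GL D.Idx F) (hh : h ∈ D.diagonalSubgroup F) :
    nW hD C ws * h * (nW hD C ws)⁻¹ ∈ D.diagonalSubgroup F := by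
  induction ws with
  | nil => simpa [nW_nil] using hh
  | cons i ws ih =>
    rw [nW_cons]
    have := sG_conj_H hD C i _ ih
    have e : sG hD C i * nW hD C ws * h * (sG hD C i * nW hD C ws)⁻¹
        = sG hD C i * (nW hD C ws * h * (nW hD C ws)⁻¹) * (sG hD C i)⁻¹ := by group
    rw [e]
    exact this

theorem nW_inv_conj_H (hD : D ∈ [chevG2, chevB2, chevD4, chevF4, chevE6, chevE7, chevE8])
    (C : ChevData.{u} D) (ws : List ℕ) (h : GL D.Idx F) (hh : h ∈ D.diagonalSubgroup F) :
    (nW hD C ws)⁻¹ * h * nW hD C ws ∈ D.diagonalSubgroup F := by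
  induction ws generalizing h with
  | nil => simpa [nW_nil] using hh
  | cons i ws ih =>
    rw [nW_cons]
    have := ih _ (sG_inv_conj_H hD C i h hh)
    have e : (sG hD C i * nW hD C ws)⁻¹ * h * (sG hD C i * nW hD C ws)
        = (nW hD C ws)⁻¹ * ((sG hD C i)⁻¹ * h * sG hD C i) * nW hD C ws := by group
    rw [e]
    exact this

theorem wordRootF_lt (C : ChevData.{u} D) (ws : List ℕ) (hws : ∀ i ∈ ws, i < D.rank) (s : ℕ)
    (hs : s < D.nroots) : wordRootF C.tabs ws s < D.nroots := by
  induction ws with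
  | nil => exact hs
  | cons i ws ih =>
    rw [wordRootF_cons]
    exact C.w_lt i _ (hws i List.mem_cons_self) (ih fun j hj => hws j (List.mem_cons_of_mem _ hj))

/-- Conjugation of a root element by a word. -/
theorem nW_conj_xG (hD : D ∈ [chevG2, chevB2, chevD4, chevF4, chevE6, chevE7, chevE8]) (C : ChevData.{u} D)
    (ws : List ℕ) (hws : ∀ i ∈ ws, i < D.rank) (s : ℕ) (hs : s < D.nroots) (t : F) :
    nW hD C ws * xG hD s t * (nW hD C ws)⁻¹
      = xG hD (wordRootF C.tabs ws s) ((wordSignF C.tabs ws s : F) * t) := by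
  induction ws with
  | nil => simp [nW_nil, wordRootF, wordSignF]
  | cons i ws ih =>
    have hws' : ∀ j ∈ ws, j < D.rank := fun j hj => hws j (List.mem_cons_of_mem _ hj)
    have hi : i < D.rank := hws i List.mem_cons_self
    have e : nW hD C (i :: ws) * xG hD s t * (nW hD C (i :: ws))⁻¹
        = sG hD C i * (nW hD C ws * xG hD s t * (nW hD C ws)⁻¹) * (sG hD C i)⁻¹ := by
      rw [nW_cons]; group
    rw [e, ih hws', sG_of_lt hD C i hi, nG_conj_xG hD C i _ hi (wordRootF_lt C ws hws' s hs), wordRootF_cons]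
    congr 1
    rw [wordSignF_cons]
    push_cast
    rw [mul_assoc]
    rfl

/-- Conjugation of a root element by the inverse of a word. -/
theorem nW_inv_conj_xG (hD : D ∈ [chevG2, chevB2, chevD4, chevF4, chevE6, chevE7, chevE8])
    (C : ChevData.{u} D) (ws : List ℕ) (hws : ∀ i ∈ ws, i < D.rank) (s : ℕ) (hs : s < D.nroots) :
    ∃ ε : ℤ, (ε = 1 ∨ ε = -1) ∧ ∀ t : F,
      (nW hD C ws)⁻¹ * xG hD s t * nW hD C ws = xG hD (wordRootF C.tabs ws.reverse s) ((ε : F) * t) := by
  induction ws generalizing s with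
  | nil => exact ⟨1, Or.inl rfl, fun t => by simp [nW_nil, wordRootF]⟩
  | cons i ws ih =>
    have hws' : ∀ j ∈ ws, j < D.rank := fun j hj => hws j (List.mem_cons_of_mem _ hj)
    have hi : i < D.rank := hws i List.mem_cons_self
    obtain ⟨ε, hε, ih'⟩ := ih hws' (C.w i s) (C.w_lt i s hi hs)
    refine ⟨ε * C.eta i (C.w i s), ?_, fun t => ?_⟩
    · rcases hε with h1 | h1 <;> rcases C.eta_cases i (C.w i s) with h2 | h2 <;> rw [h1, h2] <;> simp
    · have e : (nW hD C (i :: ws))⁻¹ * xG hD s t * nW hD C (i :: ws)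
          = (nW hD C ws)⁻¹ * ((sG hD C i)⁻¹ * xG hD s t * sG hD C i) * nW hD C ws := by
        rw [nW_cons]; group
      rw [e, sG_of_lt hD C i hi, nG_inv_conj_xG hD C i s hi hs, ih', List.reverse_cons, wordRootF_append]
      congr 1
      push_cast
      rw [mul_assoc]

theorem wordRootF_neg (C : ChevData.{u} D) (ws : List ℕ) (hws : ∀ i ∈ ws, i < D.rank) (s : ℕ)
    (hs : s < D.nroots) : wordRootF C.tabs ws (C.T.neg s) = C.T.neg (wordRootF C.tabs ws s) := by
  induction ws with
  | nil => rfl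
  | cons i ws ih =>
    have hws' : ∀ j ∈ ws, j < D.rank := fun j hj => hws j (List.mem_cons_of_mem _ hj)
    have hi : i < D.rank := hws i List.mem_cons_self
    rw [wordRootF_cons, wordRootF_cons, ih hws']
    have := wordRootF_lt C ws hws' s hs
    exact C.spec.refl_neg i (C.rank_eq ▸ hi) _ (C.nroots_eq ▸ this)

theorem wordSignF_neg (C : ChevData.{u} D) (ws : List ℕ) (hws : ∀ i ∈ ws, i < D.rank) (s : ℕ)
    (hs : s < D.nroots) : wordSignF C.tabs ws (C.T.neg s) = wordSignF C.tabs ws s := by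
  induction ws with
  | nil => rfl
  | cons i ws ih =>
    have hws' : ∀ j ∈ ws, j < D.rank := fun j hj => hws j (List.mem_cons_of_mem _ hj)
    have hi : i < D.rank := hws i List.mem_cons_self
    rw [wordSignF_cons, wordSignF_cons, ih hws', wordRootF_neg C ws hws' s hs]
    have := wordRootF_lt C ws hws' s hs
    rw [C.spec.sign_neg i (C.rank_eq ▸ hi) _ (C.nroots_eq ▸ this)]

end Cfsg.Agent.Lib.Helper18
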