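/-
helper18: every element of the monomial subgroup N is a word in the n_p(1) (p fundamental) times an element of H.
-/
import Cfsg.Agent.Lib.Helper18.BN2

set_option autoImplicit false

namespace Cfsg.Agent.Lib.Helper18

open Cfsg.Lie

universe u

variable {F : Type u} [Field F] {D : ChevalleyDatum}

/-- `n` is a word in the `n_p(1)` times an element of `H`. -/
def IsWordH (hD : D ∈ [chevG2, chevB2, chevD4, chevF4, chevE6, chevE7, chevE8]) (C : ChevData.{u} D)
    (n : GL D.Idx F) : Prop :=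
  ∃ (ws : List ℕ) (h : GL D.Idx F), (∀ i ∈ ws, i < D.rank) ∧ h ∈ D.diagonalSubgroup F ∧ n = nW hD C ws * h

theorem isWordH_mul (hD : D ∈ [chevG2, chevB2, chevD4, chevF4, chevE6, chevE7, chevE8]) (C : ChevData.{u} D)
    (n₁ n₂ : GL D.Idx F) (h1 : IsWordH hD C n₁) (h2 : IsWordH hD C n₂) : IsWordH hD C (n₁ * n₂) := by
  obtain ⟨ws₁, g₁, hw₁, hg₁, rfl⟩ := h1
  obtain ⟨ws₂, g₂, hw₂, hg₂, rfl⟩ := h2
  refine ⟨ws₁ ++ ws₂, (nW hD C ws₂)⁻¹ * g₁ * nW hD C ws₂ * g₂, ?_, ?_, ?_⟩
  · intro i hi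
    rcases List.mem_append.mp hi with hi | hi
    · exact hw₁ i hi
    · exact hw₂ i hi
  · exact mul_mem (nW_inv_conj_H hD C ws₂ g₁ hg₁) hg₂
  · rw [nW_append]; group

theorem isWordH_of_mem_H (hD : D ∈ [chevG2, chevB2, chevD4, chevF4, chevE6, chevE7, chevE8])
    (C : ChevData.{u} D) (h : GL D.Idx F) (hh : h ∈ D.diagonalSubgroup F) : IsWordH hD C h :=
  ⟨[], h, by simp, hh, by rw [nW_nil, one_mul]⟩

theorem isWordH_sG (hD : D ∈ [chevG2, chevB2, chevD4, chevF4, chevE6, chevE7, chevE8])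
    (C : ChevData.{u} D) (i : ℕ) (hi : i < D.rank) : IsWordH (F := F) hD C (sG hD C i) :=
  ⟨[i], 1, by simpa using hi, one_mem _, by rw [nW_cons, nW_nil, mul_one, mul_one]⟩

theorem isWordH_sG_inv (hD : D ∈ [chevG2, chevB2, chevD4, chevF4, chevE6, chevE7, chevE8])
    (C : ChevData.{u} D) (i : ℕ) (hi : i < D.rank) : IsWordH (F := F) hD C (sG hD C i)⁻¹ := by
  have e : (sG (F := F) hD C i)⁻¹ = sG hD C i * (sG hD C i * sG hD C i)⁻¹ := by group
  rw [e]
  exact isWordH_mul hD C _ _ (isWordH_sG hD C i hi) (isWordH_of_mem_H hD C _ (inv_mem (sG_sq_mem hD C i)))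

theorem isWordH_nW_inv (hD : D ∈ [chevG2, chevB2, chevD4, chevF4, chevE6, chevE7, chevE8])
    (C : ChevData.{u} D) (ws : List ℕ) (hws : ∀ i ∈ ws, i < D.rank) : IsWordH (F := F) hD C (nW hD C ws)⁻¹ := by
  induction ws with
  | nil => rw [nW_nil, inv_one]; exact isWordH_of_mem_H hD C 1 (one_mem _)
  | cons i ws ih =>
    rw [nW_cons, mul_inv_rev]
    exact isWordH_mul hD C _ _ (ih fun j hj => hws j (List.mem_cons_of_mem _ hj))
      (isWordH_sG_inv hD C i (hws i List.mem_cons_self))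

theorem isWordH_inv (hD : D ∈ [chevG2, chevB2, chevD4, chevF4, chevE6, chevE7, chevE8]) (C : ChevData.{u} D)
    (n : GL D.Idx F) (h : IsWordH hD C n) : IsWordH hD C n⁻¹ := by
  obtain ⟨ws, g, hw, hg, rfl⟩ := h
  rw [mul_inv_rev]
  exact isWordH_mul hD C _ _ (isWordH_of_mem_H hD C _ (inv_mem hg)) (isWordH_nW_inv hD C ws hw)

/-- The subgroup of words in the `n_p(1)` times elements of `H`. -/
def wordHSubgroup (hD : D ∈ [chevG2, chevB2, chevD4, chevF4, chevE6, chevE7, chevE8]) (C : ChevData.{u} D) :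
    Subgroup (GL D.Idx F) where
  carrier := {n | IsWordH hD C n}
  mul_mem' := fun h1 h2 => isWordH_mul hD C _ _ h1 h2
  one_mem' := isWordH_of_mem_H hD C 1 (one_mem _)
  inv_mem' := fun h => isWordH_inv hD C _ h

theorem nG_eq_xG (hD : D ∈ [chevG2, chevB2, chevD4, chevF4, chevE6, chevE7, chevE8]) (r : ℕ)
    (hr : r < D.nroots) : nG (F := F) hD r hr = xG hD r 1 * xG hD (D.neg r) (-1) * xG hD r 1 := by
  apply Units.ext
  rw [Units.val_mul, Units.val_mul, coe_nG, coe_xG, coe_xG, nMat_eq]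
  simp

theorem nG_inv_eq_xG (hD : D ∈ [chevG2, chevB2, chevD4, chevF4, chevE6, chevE7, chevE8]) (r : ℕ)
    (hr : r < D.nroots) : (nG (F := F) hD r hr)⁻¹ = xG hD r (-1) * xG hD (D.neg r) 1 * xG hD r (-1) := by
  apply Units.ext
  rw [Units.val_mul, Units.val_mul, coe_nG_inv, coe_xG, coe_xG, nMat_eq]
  simp

/-- Every `n_r(1)` is a word in the `n_p(1)`, up to inversion. -/
theorem nG_mem_wordHSubgroup (hD : D ∈ [chevG2, chevB2, chevD4, chevF4, chevE6, chevE7, chevE8])
    (C : ChevData.{u} D) (r : ℕ) (hr : r < D.nroots) : nG (F := F) hD r hr ∈ wordHSubgroup hD C := by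
  obtain ⟨ws, j, hws, hj, hw⟩ := C.hword r hr
  rw [← C.hsimple j hj] at hw
  have hp := C.simple_lt j hj
  have h1 : nW (F := F) hD C ws ∈ wordHSubgroup hD C := ⟨ws, 1, hws, one_mem _, by rw [mul_one]⟩
  have h2 : sG (F := F) hD C j ∈ wordHSubgroup hD C := isWordH_sG hD C j hj
  have h3 : nW (F := F) hD C ws * sG hD C j * (nW hD C ws)⁻¹ ∈ wordHSubgroup hD C :=
    mul_mem (mul_mem h1 h2) (inv_mem h1)
  have hnegp : D.neg (D.simple j) < D.nroots := neg_lt_nroots D hD _ hp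
  have e : nW (F := F) hD C ws * sG hD C j * (nW hD C ws)⁻¹
      = xG hD r ((wordSignF C.tabs ws (D.simple j) : F) * 1)
        * xG hD (D.neg r) ((wordSignF C.tabs ws (D.simple j) : F) * (-1))
        * xG hD r ((wordSignF C.tabs ws (D.simple j) : F) * 1) := by
    rw [sG_of_lt hD C j hj, nG_eq_xG hD _ hp]
    have e1 : nW (F := F) hD C ws * (xG hD (D.simple j) 1 * xG hD (D.neg (D.simple j)) (-1) * xG hD (D.simple j) 1)
          * (nW hD C ws)⁻¹
        = (nW hD C ws * xG hD (D.simple j) 1 * (nW hD C ws)⁻¹)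
          * (nW hD C ws * xG hD (D.neg (D.simple j)) (-1) * (nW hD C ws)⁻¹)
          * (nW hD C ws * xG hD (D.simple j) 1 * (nW hD C ws)⁻¹) := by group
    rw [e1, nW_conj_xG hD C ws hws _ hp, nW_conj_xG hD C ws hws _ hnegp, hw, C.neg_eq _ hp,
      wordRootF_neg C ws hws _ hp, wordSignF_neg C ws hws _ hp, hw, ← C.neg_eq r hr]
  rw [e] at h3
  rcases wordSignF_cases C.tabs ws (D.simple j) with hη | hη
  · rw [hη] at h3
    simp only [Int.cast_one, one_mul] at h3
    rw [nG_eq_xG hD r hr]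
    exact h3
  · rw [hη] at h3
    simp only [Int.cast_neg, Int.cast_one, neg_mul, one_mul, neg_neg] at h3
    have h4 := inv_mem h3
    rw [← nG_inv_eq_xG hD r hr, inv_inv] at h4
    exact h4

/-- Every element of `N` is a word in the `n_p(1)` times an element of `H`. -/
theorem isWordH_of_mem_monomial (hD : D ∈ [chevG2, chevB2, chevD4, chevF4, chevE6, chevE7, chevE8])
    (C : ChevData.{u} D) (n : GL D.Idx F) (hn : n ∈ D.monomialSubgroup F) : IsWordH hD C n := by
  have : D.monomialSubgroup F ≤ wordHSubgroup hD C := by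
    unfold ChevalleyDatum.monomialSubgroup
    apply sup_le
    · intro h hh
      exact isWordH_of_mem_H hD C h hh
    · rw [Subgroup.closure_le]
      rintro g ⟨r, hr, hg⟩
      have : g = nG hD r hr := Units.ext hg
      rw [this]
      exact nG_mem_wordHSubgroup hD C r hr
  exact this hn

end Cfsg.Agent.Lib.Helper18
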