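/-
helper18: B = U·H and V ⊔ H = V·H as sets, and the triangular shape of their elements.
-/
import Cfsg.Agent.S1036

set_option autoImplicit false

namespace Cfsg.Agent.Lib.Helper18

open Cfsg Cfsg.Lie Cfsg.Agent.Lib.Helper17

variable {F : Type*} [Field F]

theorem diagonal_le_normalizer_negUnipotent (D : ChevalleyDatum)
    (hD : D ∈ [chevG2, chevB2, chevD4, chevF4, chevE6, chevE7, chevE8]) :
    D.diagonalSubgroup F ≤ Subgroup.normalizer (D.negUnipotent F : Set (GL D.Idx F)) := by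
  unfold ChevalleyDatum.negUnipotent
  rw [Subgroup.le_normalizer_closure_iff]
  rintro h hh g ⟨r, t, hr, hg⟩
  obtain ⟨t', ht'⟩ := Cfsg.Agent.S1036.conj_root_elem D hD h hh g r hr.1 t hg
  exact Subgroup.subset_closure ⟨r, t', hr, ht'⟩

/-- Every element of `B` is a product `u h`. -/
theorem mem_borel_iff (D : ChevalleyDatum)
    (hD : D ∈ [chevG2, chevB2, chevD4, chevF4, chevE6, chevE7, chevE8]) (g : GL D.Idx F) :
    g ∈ D.borelSubgroup F ↔ ∃ u ∈ D.posUnipotent F, ∃ h ∈ D.diagonalSubgroup F, u * h = g := by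
  have h1 := Subgroup.coe_mul_of_right_le_normalizer_left (D.posUnipotent F) (D.diagonalSubgroup F)
    (Cfsg.Agent.S1036.result D hD).1
  unfold ChevalleyDatum.borelSubgroup
  rw [← SetLike.mem_coe, h1, Set.mem_mul]
  rfl

/-- Every element of `V ⊔ H` is a product `v h`. -/
theorem mem_negBorel_iff (D : ChevalleyDatum)
    (hD : D ∈ [chevG2, chevB2, chevD4, chevF4, chevE6, chevE7, chevE8]) (g : GL D.Idx F) :
    g ∈ D.negUnipotent F ⊔ D.diagonalSubgroup F
      ↔ ∃ v ∈ D.negUnipotent F, ∃ h ∈ D.diagonalSubgroup F, v * h = g := by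
  have h1 := Subgroup.coe_mul_of_right_le_normalizer_left (D.negUnipotent F) (D.diagonalSubgroup F)
    (diagonal_le_normalizer_negUnipotent D hD)
  rw [← SetLike.mem_coe, h1, Set.mem_mul]
  rfl

theorem depth_of_mem_posUnipotent (D : ChevalleyDatum)
    (hD : D ∈ [chevG2, chevB2, chevD4, chevF4, chevE6, chevE7, chevE8]) (u : GL D.Idx F)
    (hu : u ∈ D.posUnipotent F) : Depth (chevWeight D) 1 ((u : Matrix D.Idx D.Idx F) - 1) :=
  posUnipotent_le_chevUT (posOK_of_mem D hD) hu

theorem depth_of_mem_negUnipotent (D : ChevalleyDatum)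
    (hD : D ∈ [chevG2, chevB2, chevD4, chevF4, chevE6, chevE7, chevE8]) (v : GL D.Idx F)
    (hv : v ∈ D.negUnipotent F) : Depth (chevWeightRev D) 1 ((v : Matrix D.Idx D.Idx F) - 1) :=
  negUnipotent_le_chevLT (negOK_of_mem D hD) hv

theorem depth_of_mem_borel (D : ChevalleyDatum)
    (hD : D ∈ [chevG2, chevB2, chevD4, chevF4, chevE6, chevE7, chevE8]) (g : GL D.Idx F)
    (hg : g ∈ D.borelSubgroup F) : Depth (chevWeight D) 0 (g : Matrix D.Idx D.Idx F) := by
  obtain ⟨u, hu, h, hh, rfl⟩ := (mem_borel_iff D hD g).mp hg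
  obtain ⟨c, -, hhc⟩ := Cfsg.Agent.S1034.mem_diagonalSubgroup_torus D hD h hh
  rw [Units.val_mul, hhc]
  have := (depth_zero_of_sub_one _ _ (depth_of_mem_posUnipotent D hD u hu)).mul
    (depth_zero_diagonal (chevWeight D) (torusFun D c))
  exact this

end Cfsg.Agent.Lib.Helper18
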