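/-
helper18: for a fundamental root p, the subgroup U_p generated by the root subgroups of the positive roots other than p:
it is normalised by X_p, X_{-p}, n_p and H, and U = U_p X_p.
-/
import Cfsg.Agent.Lib.Helper18.BN3
import Cfsg.Agent.Lib.Helper18.Longest
import Cfsg.Agent.Lib.Helper18.Borel

set_option autoImplicit false

namespace Cfsg.Agent.Lib.Helper18

open Cfsg.Lie Cfsg.Agent.Lib.Helper17

universe u

variable {F : Type u} [Field F] {D : ChevalleyDatum}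

theorem isPosRoot_iff (hD : D ∈ [chevG2, chevB2, chevD4, chevF4, chevE6, chevE7, chevE8]) (r : ℕ) :
    D.IsPosRoot r ↔ r < D.nroots ∧ D.nroots / 2 ≤ r := by
  constructor
  · intro h
    exact ⟨h.1, (posOK_spec (posOK_of_mem D hD) r h).1⟩
  · rintro ⟨h1, h2⟩
    exact isPosRoot_of_ge D (signOK_of_mem D hD) r h1 h2

/-- The generating set of `U_p`, `p = p_i`. -/
def UpSet (D : ChevalleyDatum) (F : Type u) [Field F] (i : ℕ) : Set (GL D.Idx F) :=
  {g : GL D.Idx F | ∃ (s : ℕ) (t : F), D.IsPosRoot s ∧ s ≠ D.simple i ∧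
    (g : Matrix D.Idx D.Idx F) = D.x F s t}

/-- The subgroup `U_p`, `p = p_i`. -/
def Up (D : ChevalleyDatum) (F : Type u) [Field F] (i : ℕ) : Subgroup (GL D.Idx F) :=
  Subgroup.closure (UpSet D F i)

theorem xG_mem_Up (hD : D ∈ [chevG2, chevB2, chevD4, chevF4, chevE6, chevE7, chevE8]) (i s : ℕ) (t : F)
    (hs : D.IsPosRoot s) (hne : s ≠ D.simple i) : xG hD s t ∈ Up D F i :=
  Subgroup.subset_closure ⟨s, t, hs, hne, rfl⟩

theorem xG_mem_posUnipotent (hD : D ∈ [chevG2, chevB2, chevD4, chevF4, chevE6, chevE7, chevE8]) (s : ℕ)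
    (t : F) (hs : D.IsPosRoot s) : xG hD s t ∈ D.posUnipotent F :=
  Subgroup.subset_closure ⟨s, t, hs, rfl⟩

theorem Up_le_posUnipotent (D : ChevalleyDatum) (i : ℕ) : Up D F i ≤ D.posUnipotent F := by
  unfold Up ChevalleyDatum.posUnipotent
  apply Subgroup.closure_mono
  rintro g ⟨s, t, hs, -, hg⟩
  exact ⟨s, t, hs, hg⟩

theorem mem_rootSubgroup_iff (hD : D ∈ [chevG2, chevB2, chevD4, chevF4, chevE6, chevE7, chevE8]) (r : ℕ)
    (g : GL D.Idx F) : g ∈ D.rootSubgroup F r ↔ ∃ t : F, g = xG hD r t := by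
  constructor
  · intro hg
    unfold ChevalleyDatum.rootSubgroup at hg
    induction hg using Subgroup.closure_induction with
    | mem g hg =>
      obtain ⟨t, ht⟩ := hg
      exact ⟨t, Units.ext ht⟩
    | one => exact ⟨0, (xG_zero hD r).symm⟩
    | mul g₁ g₂ _ _ h1 h2 =>
      obtain ⟨t₁, rfl⟩ := h1
      obtain ⟨t₂, rfl⟩ := h2
      exact ⟨t₁ + t₂, xG_mul hD r t₁ t₂⟩
    | inv g _ h1 =>
      obtain ⟨t₁, rfl⟩ := h1
      exact ⟨-t₁, xG_inv hD r t₁⟩
  · rintro ⟨t, rfl⟩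
    exact Subgroup.subset_closure ⟨t, rfl⟩

/-- A word all of whose roots are positive and different from `p` is in `U_p`. -/
theorem exists_mem_Up_wordMat (hD : D ∈ [chevG2, chevB2, chevD4, chevF4, chevE6, chevE7, chevE8]) (i : ℕ)
    (L : List (ℕ × F)) (hL : ∀ a ∈ L, D.IsPosRoot a.1 ∧ a.1 ≠ D.simple i) :
    ∃ g ∈ Up D F i, (g : Matrix D.Idx D.Idx F) = D.wordMat F L := by
  induction L with
  | nil => exact ⟨1, one_mem _, by simp [ChevalleyDatum.wordMat]⟩
  | cons a L ih =>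
    obtain ⟨g, hg, hgm⟩ := ih fun b hb => hL b (List.mem_cons_of_mem _ hb)
    refine ⟨xG hD a.1 a.2 * g, mul_mem (xG_mem_Up hD i a.1 a.2 (hL a List.mem_cons_self).1
      (hL a List.mem_cons_self).2) hg, ?_⟩
    rw [Units.val_mul, hgm, coe_xG, wordMat_cons']

/-- Conjugation of a generator of `U_p` by `x_r(t)`, `r = ± p`, stays in `U_p`. -/
theorem xG_conj_mem_Up (hD : D ∈ [chevG2, chevB2, chevD4, chevF4, chevE6, chevE7, chevE8]) (C : ChevData.{u} D)
    (i : ℕ) (hi : i < D.rank) (r : ℕ) (hr : r = D.simple i ∨ r = D.neg (D.simple i)) (t : F)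
    (g : GL D.Idx F) (hg : g ∈ UpSet D F i) : xG hD r t * g * (xG hD r t)⁻¹ ∈ Up D F i := by
  obtain ⟨s, u, hs, hne, hgs⟩ := hg
  have hgs' : g = xG hD s u := Units.ext hgs
  have hp := C.simple_lt i hi
  have hpos := (isPosRoot_iff hD s).mp hs
  have hn := C.nroots_eq
  have hl := C.rank_eq
  have hpge := C.half_le_simple i hi
  have hev := C.heven
  have hnegp : D.neg (D.simple i) = C.T.neg (D.simple i) := C.neg_eq _ hp
  have hr_lt : r < D.nroots := by
    rcases hr with rfl | rfl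
    · exact hp
    · exact neg_lt_nroots D hD _ hp
  have hsr : s ≠ r := by
    rcases hr with rfl | rfl
    · exact hne
    · rw [hnegp]; unfold FastDatum.neg; omega
  have hsn : s ≠ C.T.neg r := by
    rcases hr with rfl | rfl
    · unfold FastDatum.neg; omega
    · rw [hnegp]; unfold FastDatum.neg; omega
  have hcomm := C.comm F r s hr_lt hpos.1 hsr hsn (-t) u
  -- the commutator word lies in `U_p`
  have hterms : ∀ a ∈ D.commWord F r s (-t) u, D.IsPosRoot a.1 ∧ a.1 ≠ D.simple i := by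
    intro a ha
    unfold ChevalleyDatum.commWord at ha
    rw [List.mem_map] at ha
    obtain ⟨c, hc, rfl⟩ := ha
    rw [← C.T.commTermsF_eq D C.hag C.hin r s hr_lt hpos.1] at hc
    have key : C.T.nroots / 2 ≤ c.1 ∧ c.1 < C.T.nroots ∧ c.1 ≠ C.simples.getD i 0 := by
      rcases hr with rfl | rfl
      · rw [C.hsimple i hi] at hc
        exact C.spec.comm_pos i (hl ▸ hi) s (hn ▸ hpos.2) (hn ▸ hpos.1) (C.hsimple i hi ▸ hne) c hc
      · rw [hnegp, C.hsimple i hi] at hc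
        exact C.spec.comm_neg i (hl ▸ hi) s (hn ▸ hpos.2) (hn ▸ hpos.1) (C.hsimple i hi ▸ hne) c hc
    rw [hn, ← C.hsimple i hi] at key
    exact ⟨(isPosRoot_iff hD c.1).mpr ⟨key.2.1, key.1⟩, key.2.2⟩
  obtain ⟨wg, hwg, hwgm⟩ := exists_mem_Up_wordMat hD i _ hterms
  have e : xG hD r t * g * (xG hD r t)⁻¹ = xG hD s u * wg := by
    rw [hgs', xG_inv]
    apply Units.ext
    rw [Units.val_mul, Units.val_mul, Units.val_mul, coe_xG, coe_xG, coe_xG, hwgm, mul_assoc, hcomm,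
      ← mul_assoc, ← mul_assoc, x_add' hD, add_neg_cancel, x_zero hD, one_mul]
  rw [e]
  exact mul_mem (xG_mem_Up hD i s u hs hne) hwg

/-- `X_p` and `X_{-p}` normalise `U_p`. -/
theorem rootSubgroup_le_normalizer_Up (hD : D ∈ [chevG2, chevB2, chevD4, chevF4, chevE6, chevE7, chevE8])
    (C : ChevData.{u} D) (i : ℕ) (hi : i < D.rank) (r : ℕ) (hr : r = D.simple i ∨ r = D.neg (D.simple i)) :
    D.rootSubgroup F r ≤ Subgroup.normalizer (Up D F i : Set (GL D.Idx F)) := by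
  unfold Up
  rw [Subgroup.le_normalizer_closure_iff]
  intro h hh g hg
  obtain ⟨t, rfl⟩ := (mem_rootSubgroup_iff hD r h).mp hh
  exact xG_conj_mem_Up hD C i hi r hr t g hg

/-- `U = U_p ⊔ X_p`. -/
theorem Up_sup_rootSubgroup (hD : D ∈ [chevG2, chevB2, chevD4, chevF4, chevE6, chevE7, chevE8])
    (C : ChevData.{u} D) (i : ℕ) (hi : i < D.rank) :
    Up D F i ⊔ D.rootSubgroup F (D.simple i) = D.posUnipotent F := by
  have hppos : D.IsPosRoot (D.simple i) := (isPosRoot_iff hD _).mpr ⟨C.simple_lt i hi, C.half_le_simple i hi⟩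
  apply le_antisymm
  · apply sup_le (Up_le_posUnipotent D i)
    unfold ChevalleyDatum.rootSubgroup ChevalleyDatum.posUnipotent
    apply Subgroup.closure_mono
    rintro g ⟨t, hg⟩
    exact ⟨D.simple i, t, hppos, hg⟩
  · unfold ChevalleyDatum.posUnipotent
    rw [Subgroup.closure_le]
    rintro g ⟨s, t, hs, hg⟩
    by_cases hsp : s = D.simple i
    · apply Subgroup.mem_sup_right
      apply Subgroup.subset_closure
      exact ⟨t, hsp ▸ hg⟩
    · apply Subgroup.mem_sup_left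
      exact Subgroup.subset_closure ⟨s, t, hs, hsp, hg⟩

/-- Every element of `U` is `u' x_p(t)` with `u' ∈ U_p`. -/
theorem exists_Up_mul_xG (hD : D ∈ [chevG2, chevB2, chevD4, chevF4, chevE6, chevE7, chevE8])
    (C : ChevData.{u} D) (i : ℕ) (hi : i < D.rank) (g : GL D.Idx F) (hg : g ∈ D.posUnipotent F) :
    ∃ u' ∈ Up D F i, ∃ t : F, g = u' * xG hD (D.simple i) t := by
  have h1 := Subgroup.coe_mul_of_right_le_normalizer_left (Up D F i) (D.rootSubgroup F (D.simple i))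
    (rootSubgroup_le_normalizer_Up hD C i hi _ (Or.inl rfl))
  rw [Up_sup_rootSubgroup hD C i hi] at h1
  have h2 : g ∈ (D.posUnipotent F : Set (GL D.Idx F)) := hg
  rw [h1, Set.mem_mul] at h2
  obtain ⟨u', hu', x, hx, rfl⟩ := h2
  obtain ⟨t, rfl⟩ := (mem_rootSubgroup_iff hD _ x).mp hx
  exact ⟨u', hu', t, rfl⟩

/-- `n_p(1)` normalises `U_p` (both directions). -/
theorem sG_conj_mem_Up (hD : D ∈ [chevG2, chevB2, chevD4, chevF4, chevE6, chevE7, chevE8]) (C : ChevData.{u} D)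
    (i : ℕ) (hi : i < D.rank) (g : GL D.Idx F) (hg : g ∈ Up D F i) :
    sG hD C i * g * (sG hD C i)⁻¹ ∈ Up D F i ∧ (sG hD C i)⁻¹ * g * sG hD C i ∈ Up D F i := by
  have hn := C.nroots_eq
  have hl := C.rank_eq
  have key : ∀ g ∈ UpSet D F i,
      sG hD C i * g * (sG hD C i)⁻¹ ∈ Up D F i ∧ (sG hD C i)⁻¹ * g * sG hD C i ∈ Up D F i := by
    rintro g ⟨s, t, hs, hne, hgs⟩
    have hgs' : g = xG hD s t := Units.ext hgs
    have hpos := (isPosRoot_iff hD s).mp hs
    have h1 := C.spec.refl_pos i (hl ▸ hi) s (hn ▸ hpos.2) (hn ▸ hpos.1) (C.hsimple i hi ▸ hne)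
    rw [hn, ← C.hsimple i hi] at h1
    have hw : D.IsPosRoot (C.w i s) := (isPosRoot_iff hD _).mpr ⟨C.w_lt i s hi hpos.1, h1.1⟩
    rw [hgs', sG_of_lt hD C i hi, nG_conj_xG hD C i s hi hpos.1, nG_inv_conj_xG hD C i s hi hpos.1]
    exact ⟨xG_mem_Up hD i _ _ hw h1.2, xG_mem_Up hD i _ _ hw h1.2⟩
  unfold Up at hg ⊢
  induction hg using Subgroup.closure_induction with
  | mem g hg => exact key g hg
  | one => simp [one_mem]
  | mul g₁ g₂ _ _ h1 h2 =>
    constructor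
    · have e : sG hD C i * (g₁ * g₂) * (sG hD C i)⁻¹
          = (sG hD C i * g₁ * (sG hD C i)⁻¹) * (sG hD C i * g₂ * (sG hD C i)⁻¹) := by group
      rw [e]; exact mul_mem h1.1 h2.1
    · have e : (sG hD C i)⁻¹ * (g₁ * g₂) * sG hD C i
          = ((sG hD C i)⁻¹ * g₁ * sG hD C i) * ((sG hD C i)⁻¹ * g₂ * sG hD C i) := by group
      rw [e]; exact mul_mem h1.2 h2.2
  | inv g _ h1 =>
    constructor
    · have e : sG hD C i * g⁻¹ * (sG hD C i)⁻¹ = (sG hD C i * g * (sG hD C i)⁻¹)⁻¹ := by group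
      rw [e]; exact inv_mem h1.1
    · have e : (sG hD C i)⁻¹ * g⁻¹ * sG hD C i = ((sG hD C i)⁻¹ * g * sG hD C i)⁻¹ := by group
      rw [e]; exact inv_mem h1.2

end Cfsg.Agent.Lib.Helper18
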