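/-
helper18: the double coset axiom of a (B,N)-pair in the general linear group:
`n_p b n ∈ B n_p n B ∪ B n B` for `p` fundamental, `b ∈ B`, `n ∈ N`.
-/
import Cfsg.Agent.Lib.Helper18.BN4

set_option autoImplicit false

namespace Cfsg.Agent.Lib.Helper18

open Cfsg.Lie Cfsg.Agent.Lib.Helper17

universe u

variable {F : Type u} [Field F] {D : ChevalleyDatum}

/-- The rank one identity `x_{-p}(c) = x_p(c⁻¹) h n_p x_p(c⁻¹)` with `h = h_p(-c⁻¹) ∈ H`. -/
theorem exists_xG_neg_eq (hD : D ∈ [chevG2, chevB2, chevD4, chevF4, chevE6, chevE7, chevE8]) (r : ℕ)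
    (hr : r < D.nroots) (c : F) (hc : c ≠ 0) :
    ∃ hh ∈ D.diagonalSubgroup F, xG hD (D.neg r) c = xG hD r c⁻¹ * hh * nG hD r hr * xG hD r c⁻¹ := by
  refine ⟨(xG hD r c⁻¹)⁻¹ * xG hD (D.neg r) c * (xG hD r c⁻¹)⁻¹ * (nG hD r hr)⁻¹, ?_, by group⟩
  apply Subgroup.subset_closure
  refine ⟨r, -c⁻¹, hr, neg_ne_zero.mpr (inv_ne_zero hc), ?_⟩
  rw [Units.val_mul, Units.val_mul, Units.val_mul, xG_inv, coe_xG, coe_xG, coe_nG_inv, hMat_eq_nMat_mul',
    nMat_eq D r (-c⁻¹)]
  congr 3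
  rw [inv_neg, inv_inv, neg_neg]

theorem borel_of_posUnipotent (g : GL D.Idx F) (hg : g ∈ D.posUnipotent F) : g ∈ D.borelSubgroup F :=
  Subgroup.mem_sup_left hg

theorem borel_of_diagonal (g : GL D.Idx F) (hg : g ∈ D.diagonalSubgroup F) : g ∈ D.borelSubgroup F :=
  Subgroup.mem_sup_right hg

/-- The double coset axiom. -/
theorem sG_mul_mem_union (hD : D ∈ [chevG2, chevB2, chevD4, chevF4, chevE6, chevE7, chevE8])
    (C : ChevData.{u} D) (i : ℕ) (hi : i < D.rank) (n : GL D.Idx F) (hn : n ∈ D.monomialSubgroup F)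
    (b : GL D.Idx F) (hb : b ∈ D.borelSubgroup F) :
    sG hD C i * b * n ∈
      DoubleCoset.doubleCoset (sG hD C i * n) (D.borelSubgroup F : Set (GL D.Idx F)) (D.borelSubgroup F)
        ∪ DoubleCoset.doubleCoset n (D.borelSubgroup F : Set (GL D.Idx F)) (D.borelSubgroup F) := by
  obtain ⟨ws, h₂, hws, hh₂, rfl⟩ := isWordH_of_mem_monomial hD C n hn
  obtain ⟨u, hu, h₁, hh₁, rfl⟩ := (mem_borel_iff D hD b).mp hb
  obtain ⟨u', hu', t, rfl⟩ := exists_Up_mul_xG hD C i hi u hu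
  have hn' := C.nroots_eq
  have hl := C.rank_eq
  have hev := C.heven
  have hp := C.simple_lt i hi
  have hpge := C.half_le_simple i hi
  -- ingredients
  have hb₁ : sG hD C i * u' * (sG hD C i)⁻¹ ∈ D.borelSubgroup F :=
    borel_of_posUnipotent _ (Up_le_posUnipotent D i (sG_conj_mem_Up hD C i hi u' hu').1)
  have hh₃ : (nW hD C ws)⁻¹ * h₁ * nW hD C ws ∈ D.diagonalSubgroup F := nW_inv_conj_H hD C ws h₁ hh₁
  by_cases ht : t = 0
  · -- the root element is trivial
    left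
    rw [DoubleCoset.mem_doubleCoset]
    refine ⟨sG hD C i * u' * (sG hD C i)⁻¹, hb₁, h₂⁻¹ * ((nW hD C ws)⁻¹ * h₁ * nW hD C ws) * h₂,
      borel_of_diagonal _ (mul_mem (mul_mem (inv_mem hh₂) hh₃) hh₂), ?_⟩
    rw [ht, xG_zero]
    group
  obtain ⟨ε, hε, hconj⟩ := nW_inv_conj_xG (F := F) hD C ws hws (D.simple i) hp
  have hq_lt : wordRootF C.tabs ws.reverse (D.simple i) < D.nroots :=
    wordRootF_lt C ws.reverse (fun j hj => hws j (List.mem_reverse.mp hj)) _ hp
  by_cases hq : D.nroots / 2 ≤ wordRootF C.tabs ws.reverse (D.simple i)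
  · -- `w⁻¹ p` is positive
    left
    rw [DoubleCoset.mem_doubleCoset]
    have hxq : xG hD (wordRootF C.tabs ws.reverse (D.simple i)) ((ε : F) * t) ∈ D.borelSubgroup F :=
      borel_of_posUnipotent _ (xG_mem_posUnipotent hD _ _ ((isPosRoot_iff hD _).mpr ⟨hq_lt, hq⟩))
    refine ⟨sG hD C i * u' * (sG hD C i)⁻¹, hb₁,
      h₂⁻¹ * xG hD (wordRootF C.tabs ws.reverse (D.simple i)) ((ε : F) * t)
        * ((nW hD C ws)⁻¹ * h₁ * nW hD C ws) * h₂,
      mul_mem (mul_mem (mul_mem (borel_of_diagonal _ (inv_mem hh₂)) hxq) (borel_of_diagonal _ hh₃))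
        (borel_of_diagonal _ hh₂), ?_⟩
    rw [← hconj t]
    group
  · -- `w⁻¹ p` is negative
    right
    rw [DoubleCoset.mem_doubleCoset]
    have hi' : ∀ j ∈ i :: ws, j < D.rank := by
      intro j hj
      rcases List.mem_cons.mp hj with rfl | hj
      · exact hi
      · exact hws j hj
    obtain ⟨ε', hε', hconj'⟩ := nW_inv_conj_xG (F := F) hD C (i :: ws) hi' (D.simple i) hp
    -- the new root is positive
    have hq' : wordRootF C.tabs (i :: ws).reverse (D.simple i)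
        = C.T.neg (wordRootF C.tabs ws.reverse (D.simple i)) := by
      rw [List.reverse_cons, wordRootF_append]
      have : wordRootF C.tabs [i] (D.simple i) = C.T.neg (D.simple i) := by
        show tabRoot (C.tabs.getD i 0) (D.simple i) = _
        rw [C.hsimple i hi]
        exact C.spec.refl_simple i (hl ▸ hi)
      rw [this]
      exact wordRootF_neg C ws.reverse (fun j hj => hws j (List.mem_reverse.mp hj)) _ hp
    have hq'pos : D.IsPosRoot (wordRootF C.tabs (i :: ws).reverse (D.simple i)) := by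
      rw [isPosRoot_iff hD, hq']
      unfold FastDatum.neg
      omega
    -- conjugate `x_p(t)` by `n_p`
    have hc : ((C.eta i (D.simple i) : ℤ) : F) * t ≠ 0 := mul_ne_zero (C.eta_ne_zero i _) ht
    have hwp : C.w i (D.simple i) = D.neg (D.simple i) := by
      rw [C.neg_eq _ hp]
      show tabRoot (C.tabs.getD i 0) (D.simple i) = _
      rw [C.hsimple i hi]
      exact C.spec.refl_simple i (hl ▸ hi)
    have hconj1 := nG_conj_xG hD C i (D.simple i) hi hp t
    rw [hwp, ← sG_of_lt hD C i hi] at hconj1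
    obtain ⟨hh, hhh, hrank1⟩ := exists_xG_neg_eq hD (D.simple i) hp _ hc
    rw [← sG_of_lt hD C i hi] at hrank1
    have hxq : xG hD (wordRootF C.tabs (i :: ws).reverse (D.simple i))
        ((ε' : F) * (((C.eta i (D.simple i) : ℤ) : F) * t)⁻¹) ∈ D.borelSubgroup F :=
      borel_of_posUnipotent _ (xG_mem_posUnipotent hD _ _ hq'pos)
    have hxp : xG hD (D.simple i) (((C.eta i (D.simple i) : ℤ) : F) * t)⁻¹ ∈ D.borelSubgroup F :=
      borel_of_posUnipotent _ (xG_mem_posUnipotent hD _ _ ((isPosRoot_iff hD _).mpr ⟨hp, hpge⟩))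
    refine ⟨sG hD C i * u' * (sG hD C i)⁻¹ * xG hD (D.simple i) (((C.eta i (D.simple i) : ℤ) : F) * t)⁻¹
        * hh * (sG hD C i * sG hD C i),
      mul_mem (mul_mem (mul_mem hb₁ hxp) (borel_of_diagonal _ hhh)) (borel_of_diagonal _ (sG_sq_mem hD C i)),
      h₂⁻¹ * xG hD (wordRootF C.tabs (i :: ws).reverse (D.simple i))
          ((ε' : F) * (((C.eta i (D.simple i) : ℤ) : F) * t)⁻¹)
        * ((nW hD C ws)⁻¹ * h₁ * nW hD C ws) * h₂,
      mul_mem (mul_mem (mul_mem (borel_of_diagonal _ (inv_mem hh₂)) hxq) (borel_of_diagonal _ hh₃))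
        (borel_of_diagonal _ hh₂), ?_⟩
    rw [← hconj' (((C.eta i (D.simple i) : ℤ) : F) * t)⁻¹, nW_cons]
    -- now a group identity using `hconj1` and `hrank1`
    have e1 : sG hD C i * xG hD (D.simple i) t
        = xG hD (D.simple i) (((C.eta i (D.simple i) : ℤ) : F) * t)⁻¹ * hh * sG hD C i
          * xG hD (D.simple i) (((C.eta i (D.simple i) : ℤ) : F) * t)⁻¹ * sG hD C i := by
      rw [← hrank1, ← hconj1]
      group
    have e2 : sG hD C i * (u' * xG hD (D.simple i) t * h₁) * (nW hD C ws * h₂)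
        = sG hD C i * u' * (sG hD C i)⁻¹ * (sG hD C i * xG hD (D.simple i) t) * h₁ * (nW hD C ws * h₂) := by
      group
    rw [e2, e1]
    group

end Cfsg.Agent.Lib.Helper18
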