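/-
helper18: the remaining (B,N)-pair axioms in the general linear group: the n_p (p fundamental) are distinct modulo B and
do not normalise B.
-/
import Cfsg.Agent.Lib.Helper18.BN5
import Cfsg.Agent.S1037

set_option autoImplicit false

namespace Cfsg.Agent.Lib.Helper18

open Cfsg.Lie Cfsg.Agent.Lib.Helper17

universe u

variable {F : Type u} [Field F] {D : ChevalleyDatum}

/-- A non-trivial root element of a negative root is not in `B`. -/
theorem xG_neg_not_mem_borel (hD : D ∈ [chevG2, chevB2, chevD4, chevF4, chevE6, chevE7, chevE8]) (r : ℕ)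
    (hr : r < D.nroots) (hneg : r < D.nroots / 2) (c : F) (hc : c ≠ 0) : xG hD r c ∉ D.borelSubgroup F := by
  intro hmem
  have hV : xG hD r c ∈ D.negUnipotent F :=
    Subgroup.subset_closure ⟨r, c, isNegRoot_of_lt D (signOK_of_mem D hD) r hr hneg, rfl⟩
  have h1 : xG hD r c ∈ D.borelSubgroup F ⊓ D.negUnipotent F := ⟨hmem, hV⟩
  rw [(Cfsg.Agent.S1037.result D hD).1, Subgroup.mem_bot] at h1
  have h2 : D.x F r c = 1 := by
    have := congrArg (fun g : GL D.Idx F => (g : Matrix D.Idx D.Idx F)) h1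
    simpa using this
  exact hc ((Cfsg.Agent.S1024.result D hD r hr c).mp h2)

theorem w_simple (C : ChevData.{u} D) (i : ℕ) (hi : i < D.rank) : C.w i (D.simple i) = C.T.neg (D.simple i) := by
  show tabRoot (C.tabs.getD i 0) (D.simple i) = _
  rw [C.hsimple i hi]
  exact C.spec.refl_simple i (C.rank_eq ▸ hi)

/-- `n_p x_p(1) n_p⁻¹` is a non-trivial root element of the negative root `-p`. -/
theorem sG_conj_xG_simple (hD : D ∈ [chevG2, chevB2, chevD4, chevF4, chevE6, chevE7, chevE8])
    (C : ChevData.{u} D) (i : ℕ) (hi : i < D.rank) :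
    sG hD C i * xG hD (D.simple i) (1 : F) * (sG hD C i)⁻¹
      = xG hD (C.T.neg (D.simple i)) ((C.eta i (D.simple i) : F) * 1) := by
  rw [sG_of_lt hD C i hi, nG_conj_xG hD C i _ hi (C.simple_lt i hi), w_simple C i hi]

/-- The `n_p`, `p` fundamental, are distinct modulo `B`. -/
theorem sG_inj (hD : D ∈ [chevG2, chevB2, chevD4, chevF4, chevE6, chevE7, chevE8]) (C : ChevData.{u} D)
    (i j : ℕ) (hi : i < D.rank) (hj : j < D.rank)
    (h : (sG (F := F) hD C i)⁻¹ * sG hD C j ∈ D.borelSubgroup F) : sG (F := F) hD C i = sG hD C j := by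
  by_cases hp : D.simple i = D.simple j
  · apply Units.ext
    rw [coe_sG hD C i hi, coe_sG hD C j hj, hp]
  · exfalso
    have hn := C.nroots_eq
    have hl := C.rank_eq
    have hev := C.heven
    have hpj := C.simple_lt j hj
    have hpjge := C.half_le_simple j hj
    have hxB : xG hD (D.simple j) (1 : F) ∈ D.borelSubgroup F :=
      borel_of_posUnipotent _ (xG_mem_posUnipotent hD _ _ ((isPosRoot_iff hD _).mpr ⟨hpj, hpjge⟩))
    have h1 : (sG hD C i)⁻¹ * sG hD C j * xG hD (D.simple j) (1 : F) * ((sG hD C i)⁻¹ * sG hD C j)⁻¹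
        ∈ D.borelSubgroup F := mul_mem (mul_mem h hxB) (inv_mem h)
    have hnegj : C.T.neg (D.simple j) < D.nroots := by unfold FastDatum.neg; omega
    have e : (sG hD C i)⁻¹ * sG hD C j * xG hD (D.simple j) (1 : F) * ((sG hD C i)⁻¹ * sG hD C j)⁻¹
        = (sG hD C i)⁻¹ * (sG hD C j * xG hD (D.simple j) (1 : F) * (sG hD C j)⁻¹) * sG hD C i := by group
    rw [e, sG_conj_xG_simple hD C j hj, sG_of_lt hD C i hi, nG_inv_conj_xG hD C i _ hi hnegj] at h1
    -- the root is negative
    have hw : C.w i (C.T.neg (D.simple j)) = C.T.neg (C.w i (D.simple j)) :=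
      C.spec.refl_neg i (hl ▸ hi) _ (hn ▸ hpj)
    have hpos := C.spec.refl_pos i (hl ▸ hi) (D.simple j) (hn ▸ hpjge) (hn ▸ hpj)
      (by rw [← C.hsimple i hi]; exact fun h => hp h.symm)
    have hwlt := C.w_lt i (D.simple j) hi hpj
    rw [hw] at h1
    refine xG_neg_not_mem_borel hD _ ?_ ?_ _ ?_ h1
    · unfold FastDatum.neg; omega
    · have := hpos.1
      unfold FastDatum.neg
      change C.T.nroots / 2 ≤ C.w i (D.simple j) at this
      omega
    · exact mul_ne_zero (C.eta_ne_zero i _) (mul_ne_zero (C.eta_ne_zero j _) one_ne_zero)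

/-- `n_p B n_p ≠ B`. -/
theorem sG_mul_mul_not_mem (hD : D ∈ [chevG2, chevB2, chevD4, chevF4, chevE6, chevE7, chevE8])
    (C : ChevData.{u} D) (i : ℕ) (hi : i < D.rank) :
    ∃ b ∈ D.borelSubgroup F, sG (F := F) hD C i * b * sG hD C i ∉ D.borelSubgroup F := by
  have hn := C.nroots_eq
  have hev := C.heven
  have hp := C.simple_lt i hi
  have hpge := C.half_le_simple i hi
  refine ⟨xG hD (D.simple i) 1,
    borel_of_posUnipotent _ (xG_mem_posUnipotent hD _ _ ((isPosRoot_iff hD _).mpr ⟨hp, hpge⟩)), ?_⟩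
  intro hmem
  have hsq : sG (F := F) hD C i * sG hD C i ∈ D.borelSubgroup F := borel_of_diagonal _ (sG_sq_mem hD C i)
  have e : sG hD C i * xG hD (D.simple i) (1 : F) * (sG hD C i)⁻¹
      = sG hD C i * xG hD (D.simple i) (1 : F) * sG hD C i * (sG hD C i * sG hD C i)⁻¹ := by group
  have h1 : sG hD C i * xG hD (D.simple i) (1 : F) * (sG hD C i)⁻¹ ∈ D.borelSubgroup F := by
    rw [e]; exact mul_mem hmem (inv_mem hsq)
  rw [sG_conj_xG_simple hD C i hi] at h1
  refine xG_neg_not_mem_borel hD _ ?_ ?_ _ ?_ h1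
  · unfold FastDatum.neg; omega
  · unfold FastDatum.neg; omega
  · exact mul_ne_zero (C.eta_ne_zero i _) one_ne_zero

end Cfsg.Agent.Lib.Helper18
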