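/-
helper18: multiplicativity of h_r in the parameter, and the conjugation of h_s(t) by n_p (p fundamental).
-/
import Cfsg.Agent.Lib.Helper18.BN6

set_option autoImplicit false

namespace Cfsg.Agent.Lib.Helper18

open Cfsg.Lie

universe u

variable {F : Type u} [Field F] {D : ChevalleyDatum}

/-- `h_r(a b) = h_r(a) h_r(b)`. -/
theorem hMat_mul (hD : D ∈ [chevG2, chevB2, chevD4, chevF4, chevE6, chevE7, chevE8]) (r : ℕ) (hr : r < D.nroots)
    (a b : F) (ha : a ≠ 0) (hb : b ≠ 0) : D.hMat F r (a * b) = D.hMat F r a * D.hMat F r b := by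
  obtain ⟨T, hag, hchk⟩ := exists_hcert D hD
  rw [T.hMat_eq_diagonal_of_hCheckRoot D hag r hr (hchk r hr) (a * b) (mul_ne_zero ha hb),
    T.hMat_eq_diagonal_of_hCheckRoot D hag r hr (hchk r hr) a ha,
    T.hMat_eq_diagonal_of_hCheckRoot D hag r hr (hchk r hr) b hb, Matrix.diagonal_mul_diagonal]
  congr 1
  funext j
  rcases j with k | s
  · simp
  · simp [mul_zpow]

/-- `n_r(c) = h_r(c) n_r(1)`. -/
theorem nMat_eq_hMat_mul (hD : D ∈ [chevG2, chevB2, chevD4, chevF4, chevE6, chevE7, chevE8]) (r : ℕ)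
    (hr : r < D.nroots) (c : F) : D.nMat F r c = D.hMat F r c * D.nMat F r 1 := by
  have h1 : D.nMat F r 1 * D.nMat F r (-1) = 1 := nMat_one_mul_nMat_neg_one D hD r hr
  have h2 : D.nMat F r (-1) * D.nMat F r 1 = 1 := mul_eq_one_comm.mp h1
  rw [hMat_eq_nMat_mul', mul_assoc, h2, mul_one]

/-- `n_r(-t) n_r(1) = h_r(t)`. -/
theorem nMat_neg_mul_nMat_one (hD : D ∈ [chevG2, chevB2, chevD4, chevF4, chevE6, chevE7, chevE8]) (r : ℕ)
    (hr : r < D.nroots) (t : F) (ht : t ≠ 0) : D.nMat F r (-t) * D.nMat F r 1 = D.hMat F r t := by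
  have h1 : D.nMat F r 1 * D.nMat F r (-1) = 1 := nMat_one_mul_nMat_neg_one D hD r hr
  have h2 : D.nMat F r (-1) * D.nMat F r 1 = 1 := mul_eq_one_comm.mp h1
  have e : (-t : F) = t * (-1) := by ring
  rw [nMat_eq_hMat_mul hD r hr (-t), e, hMat_mul hD r hr t (-1) ht (by norm_num), hMat_eq_nMat_mul' D r (-1)]
  have : D.nMat F r (-1) * D.nMat F r (-1) * D.nMat F r 1 * D.nMat F r 1 = 1 := by
    rw [mul_assoc (D.nMat F r (-1)), h2, mul_one, h2]
  rw [mul_assoc, mul_assoc, ← mul_assoc (D.nMat F r (-1) * D.nMat F r (-1)), this, mul_one]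

/-- `n_p n_s(t) = n_{w s}(η t) n_p`. -/
theorem n_mul_nMat (C : ChevData.{u} D) (i s : ℕ) (hi : i < D.rank) (hs : s < D.nroots) (t : F) :
    D.nMat F (D.simple i) 1 * D.nMat F s t
      = D.nMat F (C.w i s) ((C.eta i s : F) * t) * D.nMat F (D.simple i) 1 := by
  have hn := C.nroots_eq
  have hl := C.rank_eq
  have hnegs : D.neg s < D.nroots := by rw [C.neg_eq s hs]; unfold FastDatum.neg; omega
  have hwneg : C.w i (D.neg s) = D.neg (C.w i s) := by
    rw [C.neg_eq s hs, C.neg_eq _ (C.w_lt i s hi hs)]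
    exact C.spec.refl_neg i (hl ▸ hi) s (hn ▸ hs)
  have hηneg : C.eta i (D.neg s) = C.eta i s := by
    rw [C.neg_eq s hs]
    exact C.spec.sign_neg i (hl ▸ hi) s (hn ▸ hs)
  rw [nMat_eq D s t, nMat_eq D (C.w i s), ← mul_assoc, ← mul_assoc, C.n_mul_x i s hi hs,
    mul_assoc (D.x F (C.w i s) _), C.n_mul_x i (D.neg s) hi hnegs, hwneg, hηneg, ← mul_assoc, mul_assoc _ _ (D.x F s t),
    C.n_mul_x i s hi hs, ← mul_assoc]
  congr 3
  rcases C.eta_cases i s with h | h <;> rw [h] <;> simp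

end Cfsg.Agent.Lib.Helper18
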