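/-
helper18: the filtration of `U` by levels (heights) of positive roots and the collecting process: every element of `U`
is a product of root elements taken in any prescribed order of the positive roots.
-/
import Cfsg.Agent.Lib.Helper18.BN4

set_option autoImplicit false

namespace Cfsg.Agent.Lib.Helper18

open Cfsg.Lie

universe u

variable {F : Type u} [Field F] {D : ChevalleyDatum}

/-- A level function on the roots: the terms of the commutator formula of two positive roots are positive roots of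
strictly larger level. -/
structure LevelData (D : ChevalleyDatum) where
  lvl : ℕ → ℕ
  maxLvl : ℕ
  hmax : ∀ r, D.IsPosRoot r → lvl r ≤ maxLvl
  hcomm : ∀ r s, D.IsPosRoot r → D.IsPosRoot s → s ≠ r → ∀ c ∈ D.commTerms r s,
    D.IsPosRoot c.1 ∧ lvl r < lvl c.1 ∧ lvl s < lvl c.1

/-- The generating set of `U_m`: root elements of positive roots of level at least `m`. -/
def UlevSet (D : ChevalleyDatum) (F : Type u) [Field F] (L : LevelData D) (m : ℕ) : Set (GL D.Idx F) :=
  {g : GL D.Idx F | ∃ (s : ℕ) (t : F), D.IsPosRoot s ∧ m ≤ L.lvl s ∧ (g : Matrix D.Idx D.Idx F) = D.x F s t}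

/-- The subgroup `U_m` generated by the root subgroups of the positive roots of level at least `m`. -/
def Ulev (D : ChevalleyDatum) (F : Type u) [Field F] (L : LevelData D) (m : ℕ) : Subgroup (GL D.Idx F) :=
  Subgroup.closure (UlevSet D F L m)

theorem xG_mem_Ulev (hD : D ∈ [chevG2, chevB2, chevD4, chevF4, chevE6, chevE7, chevE8]) (L : LevelData D)
    (m s : ℕ) (t : F) (hs : D.IsPosRoot s) (hm : m ≤ L.lvl s) : xG hD s t ∈ Ulev D F L m :=
  Subgroup.subset_closure ⟨s, t, hs, hm, rfl⟩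

theorem Ulev_anti (L : LevelData D) {m m' : ℕ} (h : m ≤ m') : Ulev D F L m' ≤ Ulev D F L m := by
  unfold Ulev
  apply Subgroup.closure_mono
  rintro g ⟨s, t, hs, hm, hg⟩
  exact ⟨s, t, hs, le_trans h hm, hg⟩

theorem Ulev_le_posUnipotent (L : LevelData D) (m : ℕ) : Ulev D F L m ≤ D.posUnipotent F := by
  unfold Ulev ChevalleyDatum.posUnipotent
  apply Subgroup.closure_mono
  rintro g ⟨s, t, hs, -, hg⟩
  exact ⟨s, t, hs, hg⟩

theorem Ulev_zero (L : LevelData D) : Ulev D F L 0 = D.posUnipotent F := by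
  apply le_antisymm (Ulev_le_posUnipotent L 0)
  unfold Ulev ChevalleyDatum.posUnipotent
  apply Subgroup.closure_mono
  rintro g ⟨s, t, hs, hg⟩
  exact ⟨s, t, hs, Nat.zero_le _, hg⟩

theorem Ulev_eq_bot (L : LevelData D) (m : ℕ) (hm : L.maxLvl < m) : Ulev D F L m = ⊥ := by
  unfold Ulev
  rw [Subgroup.closure_eq_bot_iff]
  rintro g ⟨s, t, hs, hms, -⟩
  have := L.hmax s hs
  omega

/-- The product of the root elements of a word, in the general linear group. -/
noncomputable def wordG (hD : D ∈ [chevG2, chevB2, chevD4, chevF4, chevE6, chevE7, chevE8])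
    (w : List (ℕ × F)) : GL D.Idx F := (w.map fun a => xG hD a.1 a.2).prod

theorem wordG_nil (hD : D ∈ [chevG2, chevB2, chevD4, chevF4, chevE6, chevE7, chevE8]) :
    wordG (F := F) hD [] = 1 := rfl

theorem wordG_cons (hD : D ∈ [chevG2, chevB2, chevD4, chevF4, chevE6, chevE7, chevE8]) (a : ℕ × F)
    (w : List (ℕ × F)) : wordG hD (a :: w) = xG hD a.1 a.2 * wordG hD w := by
  unfold wordG
  rw [List.map_cons, List.prod_cons]

theorem wordG_append (hD : D ∈ [chevG2, chevB2, chevD4, chevF4, chevE6, chevE7, chevE8])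
    (w w' : List (ℕ × F)) : wordG hD (w ++ w') = wordG hD w * wordG hD w' := by
  unfold wordG
  rw [List.map_append, List.prod_append]

theorem coe_wordG (hD : D ∈ [chevG2, chevB2, chevD4, chevF4, chevE6, chevE7, chevE8]) (w : List (ℕ × F)) :
    ((wordG hD w : GL D.Idx F) : Matrix D.Idx D.Idx F) = D.wordMat F w := by
  induction w with
  | nil => simp [wordG, ChevalleyDatum.wordMat]
  | cons a w ih => rw [wordG_cons, Units.val_mul, ih, coe_xG, wordMat_cons']

/-- The inverse word. -/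
def invWord (w : List (ℕ × F)) : List (ℕ × F) := w.reverse.map fun a => (a.1, -a.2)

theorem wordG_invWord (hD : D ∈ [chevG2, chevB2, chevD4, chevF4, chevE6, chevE7, chevE8]) (w : List (ℕ × F)) :
    wordG hD (invWord w) = (wordG hD w)⁻¹ := by
  induction w with
  | nil => simp [invWord, wordG]
  | cons a w ih =>
    have e : invWord (a :: w) = invWord w ++ [(a.1, -a.2)] := by
      unfold invWord
      rw [List.reverse_cons, List.map_append]
      rfl
    rw [e, wordG_append, ih, wordG_cons, wordG_cons, wordG_nil, mul_one, mul_inv_rev, xG_inv]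

theorem mem_invWord {w : List (ℕ × F)} {a : ℕ × F} (ha : a ∈ invWord w) : ∃ b ∈ w, a.1 = b.1 := by
  unfold invWord at ha
  rw [List.mem_map] at ha
  obtain ⟨b, hb, rfl⟩ := ha
  exact ⟨b, List.mem_reverse.mp hb, rfl⟩

/-- Every element of the subgroup generated by the root elements of the roots satisfying `P` is a word in them. -/
theorem exists_word_of_mem_closure (hD : D ∈ [chevG2, chevB2, chevD4, chevF4, chevE6, chevE7, chevE8])
    (P : ℕ → Prop) (g : GL D.Idx F)
    (hg : g ∈ Subgroup.closure {g : GL D.Idx F | ∃ (s : ℕ) (t : F), P s ∧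
      (g : Matrix D.Idx D.Idx F) = D.x F s t}) :
    ∃ w : List (ℕ × F), (∀ a ∈ w, P a.1) ∧ g = wordG hD w := by
  induction hg using Subgroup.closure_induction with
  | mem g hg =>
    obtain ⟨s, t, hs, hg⟩ := hg
    refine ⟨[(s, t)], ?_, ?_⟩
    · intro a ha
      rw [List.mem_singleton] at ha
      rw [ha]; exact hs
    · rw [wordG_cons, wordG_nil, mul_one]
      exact Units.ext hg
  | one => exact ⟨[], by simp, (wordG_nil hD).symm⟩
  | mul g₁ g₂ _ _ h1 h2 =>
    obtain ⟨w₁, hw₁, rfl⟩ := h1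
    obtain ⟨w₂, hw₂, rfl⟩ := h2
    refine ⟨w₁ ++ w₂, ?_, (wordG_append hD w₁ w₂).symm⟩
    intro a ha
    rcases List.mem_append.mp ha with h | h
    · exact hw₁ a h
    · exact hw₂ a h
  | inv g _ h1 =>
    obtain ⟨w, hw, rfl⟩ := h1
    refine ⟨invWord w, ?_, (wordG_invWord hD w).symm⟩
    intro a ha
    obtain ⟨b, hb, hab⟩ := mem_invWord ha
    rw [hab]; exact hw b hb

/-- A word in root elements of the roots satisfying `P` lies in the subgroup they generate. -/
theorem wordG_mem_closure (hD : D ∈ [chevG2, chevB2, chevD4, chevF4, chevE6, chevE7, chevE8])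
    (P : ℕ → Prop) (w : List (ℕ × F)) (hw : ∀ a ∈ w, P a.1) :
    wordG hD w ∈ Subgroup.closure {g : GL D.Idx F | ∃ (s : ℕ) (t : F), P s ∧
      (g : Matrix D.Idx D.Idx F) = D.x F s t} := by
  induction w with
  | nil => rw [wordG_nil]; exact one_mem _
  | cons a w ih =>
    rw [wordG_cons]
    refine mul_mem (Subgroup.subset_closure ⟨a.1, a.2, hw a List.mem_cons_self, rfl⟩)
      (ih fun b hb => hw b (List.mem_cons_of_mem _ hb))

theorem Ulev_eq_closure (L : LevelData D) (m : ℕ) :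
    Ulev D F L m = Subgroup.closure {g : GL D.Idx F | ∃ (s : ℕ) (t : F), (D.IsPosRoot s ∧ m ≤ L.lvl s) ∧
      (g : Matrix D.Idx D.Idx F) = D.x F s t} := by
  unfold Ulev UlevSet
  congr 1
  ext g
  simp only [Set.mem_setOf_eq, and_assoc]

theorem posUnipotent_eq_closure (D : ChevalleyDatum) :
    D.posUnipotent F = Subgroup.closure {g : GL D.Idx F | ∃ (s : ℕ) (t : F), D.IsPosRoot s ∧
      (g : Matrix D.Idx D.Idx F) = D.x F s t} := rfl

section Comm

variable (hD : D ∈ [chevG2, chevB2, chevD4, chevF4, chevE6, chevE7, chevE8]) (C : ChevData.{u} D)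
  (L : LevelData D)

include hD C L

/-- The commutator formula for two distinct positive roots, with the commutator in a higher level. -/
theorem comm_xG_pos (r s : ℕ) (hr : D.IsPosRoot r) (hs : D.IsPosRoot s) (hsr : s ≠ r) (m : ℕ)
    (hm : m ≤ L.lvl r ∨ m ≤ L.lvl s) (t u : F) :
    ∃ c ∈ Ulev D F L (m + 1), xG hD s u * xG hD r t = xG hD r t * xG hD s u * c := by
  have hrp := (isPosRoot_iff hD r).mp hr
  have hsp := (isPosRoot_iff hD s).mp hs
  have hn := C.nroots_eq
  have hev := C.heven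
  have hsn : s ≠ C.T.neg r := by unfold FastDatum.neg; omega
  have hcomm := C.comm F r s hrp.1 hsp.1 hsr hsn t u
  have hterms : ∀ a ∈ D.commWord F r s t u, D.IsPosRoot a.1 ∧ m + 1 ≤ L.lvl a.1 := by
    intro a ha
    unfold ChevalleyDatum.commWord at ha
    rw [List.mem_map] at ha
    obtain ⟨c, hc, rfl⟩ := ha
    obtain ⟨h1, h2, h3⟩ := L.hcomm r s hr hs hsr c hc
    refine ⟨h1, ?_⟩
    show m + 1 ≤ L.lvl c.1
    rcases hm with hm | hm <;> omega
  refine ⟨wordG hD (D.commWord F r s t u), ?_, ?_⟩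
  · rw [Ulev_eq_closure]
    exact wordG_mem_closure hD _ _ hterms
  · apply Units.ext
    rw [Units.val_mul, Units.val_mul, Units.val_mul, coe_xG, coe_xG, coe_wordG, hcomm]

/-- Conjugating a generator of `U_m` by the inverse of a positive root element. -/
theorem xG_inv_conj_gen_mem_Ulev (m a : ℕ) (ha : D.IsPosRoot a) (t : F) (g : GL D.Idx F)
    (hg : g ∈ UlevSet D F L m) : (xG hD a t)⁻¹ * g * xG hD a t ∈ Ulev D F L m := by
  obtain ⟨b, v, hb, hmb, hgb⟩ := hg
  have hgb' : g = xG hD b v := Units.ext hgb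
  rw [hgb']
  by_cases hab : b = a
  · rw [hab, xG_inv, xG_mul, xG_mul]
    have e : -t + v + t = v := by ring
    rw [e, ← hab]
    exact xG_mem_Ulev hD L m b v hb hmb
  · -- x_b(v) x_a(t) = x_a(t) x_b(v) c
    obtain ⟨c, hc, hcomm⟩ := comm_xG_pos hD C L a b ha hb hab m (Or.inr hmb) t v
    have e : (xG hD a t)⁻¹ * xG hD b v * xG hD a t = xG hD b v * c := by
      rw [mul_assoc, hcomm]; group
    rw [e]
    exact mul_mem (xG_mem_Ulev hD L m b v hb hmb) (Ulev_anti L (Nat.le_succ m) hc)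

/-- `U` normalises `U_m`. -/
theorem posUnipotent_le_normalizer_Ulev (m : ℕ) :
    D.posUnipotent F ≤ Subgroup.normalizer (Ulev D F L m : Set (GL D.Idx F)) := by
  unfold ChevalleyDatum.posUnipotent
  rw [Subgroup.closure_le]
  rintro g ⟨a, t, ha, hg⟩
  have hg' : g = xG hD a t := Units.ext hg
  have hle : D.rootSubgroup F a ≤ Subgroup.normalizer (Ulev D F L m : Set (GL D.Idx F)) := by
    unfold Ulev
    rw [Subgroup.le_normalizer_closure_iff]
    intro h hh y hy
    obtain ⟨t', rfl⟩ := (mem_rootSubgroup_iff hD a h).mp hh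
    have := xG_inv_conj_gen_mem_Ulev hD C L m a ha (-t') y hy
    rw [← xG_inv, inv_inv] at this
    exact this
  exact hle ((mem_rootSubgroup_iff hD a g).mpr ⟨t, hg'⟩)

theorem conj_mem_Ulev (m : ℕ) (g y : GL D.Idx F) (hg : g ∈ D.posUnipotent F) (hy : y ∈ Ulev D F L m) :
    g * y * g⁻¹ ∈ Ulev D F L m :=
  ((posUnipotent_le_normalizer_Ulev hD C L m hg) y).mp hy

theorem inv_conj_mem_Ulev (m : ℕ) (g y : GL D.Idx F) (hg : g ∈ D.posUnipotent F) (hy : y ∈ Ulev D F L m) :
    g⁻¹ * y * g ∈ Ulev D F L m := by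
  have := conj_mem_Ulev hD C L m g⁻¹ y (inv_mem hg) hy
  rwa [inv_inv] at this

/-- The commutator `g⁻¹ y⁻¹ g y` of `g ∈ U` and `y ∈ U_m` lies in `U_{m+1}`. -/
theorem comm_mem_Ulev (m : ℕ) (g y : GL D.Idx F) (hg : g ∈ D.posUnipotent F) (hy : y ∈ Ulev D F L m) :
    g⁻¹ * y⁻¹ * g * y ∈ Ulev D F L (m + 1) := by
  -- generators against generators
  have h1 : ∀ (a : ℕ) (t : F), D.IsPosRoot a → ∀ y ∈ UlevSet D F L m,
      (xG hD a t)⁻¹ * y⁻¹ * xG hD a t * y ∈ Ulev D F L (m + 1) := by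
    intro a t ha y hy
    obtain ⟨b, v, hb, hmb, hyb⟩ := hy
    have hyb' : y = xG hD b v := Units.ext hyb
    rw [hyb']
    by_cases hab : b = a
    · rw [hab, xG_inv, xG_inv, xG_mul, xG_mul, xG_mul]
      have e : -t + -v + t + v = 0 := by ring
      rw [e, xG_zero]
      exact one_mem _
    · -- x_a(t) x_b(v) = x_b(v) x_a(t) c
      obtain ⟨c, hc, hcomm⟩ := comm_xG_pos hD C L b a hb ha (Ne.symm hab) m (Or.inl hmb) v t
      have e : (xG hD a t)⁻¹ * (xG hD b v)⁻¹ * xG hD a t * xG hD b v = c := by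
        rw [mul_assoc _ (xG hD a t), hcomm]; group
      rw [e]
      exact hc
  -- all of `U` against generators
  have h2 : ∀ y ∈ UlevSet D F L m, ∀ g ∈ D.posUnipotent F, g⁻¹ * y⁻¹ * g * y ∈ Ulev D F L (m + 1) := by
    intro y hy g hg
    have hyU : y ∈ D.posUnipotent F := Ulev_le_posUnipotent L m (Subgroup.subset_closure hy)
    unfold ChevalleyDatum.posUnipotent at hg
    induction hg using Subgroup.closure_induction with
    | mem g hg =>
      obtain ⟨a, t, ha, hga⟩ := hg
      have hga' : g = xG hD a t := Units.ext hga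
      rw [hga']
      exact h1 a t ha y hy
    | one => simp [one_mem]
    | mul g₁ g₂ hg₁ hg₂ ih1 ih2 =>
      have e : (g₁ * g₂)⁻¹ * y⁻¹ * (g₁ * g₂) * y
          = (g₂⁻¹ * (g₁⁻¹ * y⁻¹ * g₁ * y) * g₂) * (g₂⁻¹ * y⁻¹ * g₂ * y) := by group
      rw [e]
      exact mul_mem (inv_conj_mem_Ulev hD C L (m + 1) g₂ _ hg₂ ih1) ih2
    | inv g hg ih =>
      have e : g⁻¹⁻¹ * y⁻¹ * g⁻¹ * y = g * (g⁻¹ * y⁻¹ * g * y)⁻¹ * g⁻¹ := by group
      rw [e]
      exact conj_mem_Ulev hD C L (m + 1) g _ hg (inv_mem ih)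
  unfold Ulev at hy
  induction hy using Subgroup.closure_induction with
  | mem y hy => exact h2 y hy g hg
  | one => simp [one_mem]
  | mul y₁ y₂ hy₁ hy₂ ih1 ih2 =>
    have hy₂U : y₂ ∈ D.posUnipotent F := Ulev_le_posUnipotent L m hy₂
    have e : g⁻¹ * (y₁ * y₂)⁻¹ * g * (y₁ * y₂)
        = (g⁻¹ * y₂⁻¹ * g * y₂) * (y₂⁻¹ * (g⁻¹ * y₁⁻¹ * g * y₁) * y₂) := by group
    rw [e]
    exact mul_mem ih2 (inv_conj_mem_Ulev hD C L (m + 1) y₂ _ hy₂U ih1)
  | inv y hy ih =>
    have hyU : y ∈ D.posUnipotent F := Ulev_le_posUnipotent L m hy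
    have e : g⁻¹ * y⁻¹⁻¹ * g * y⁻¹ = y * (g⁻¹ * y⁻¹ * g * y)⁻¹ * y⁻¹ := by group
    rw [e]
    exact conj_mem_Ulev hD C L (m + 1) y _ hyU (inv_mem ih)

end Comm

/-- The ordered product `∏_{r ∈ l} x_r(t_r)`. -/
noncomputable def prodL (hD : D ∈ [chevG2, chevB2, chevD4, chevF4, chevE6, chevE7, chevE8]) (l : List ℕ)
    (t : ℕ → F) : GL D.Idx F := (l.map fun r => xG hD r (t r)).prod

theorem prodL_nil (hD : D ∈ [chevG2, chevB2, chevD4, chevF4, chevE6, chevE7, chevE8]) (t : ℕ → F) :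
    prodL hD [] t = 1 := rfl

theorem prodL_cons (hD : D ∈ [chevG2, chevB2, chevD4, chevF4, chevE6, chevE7, chevE8]) (a : ℕ) (l : List ℕ)
    (t : ℕ → F) : prodL hD (a :: l) t = xG hD a (t a) * prodL hD l t := by
  unfold prodL
  rw [List.map_cons, List.prod_cons]

theorem prodL_append (hD : D ∈ [chevG2, chevB2, chevD4, chevF4, chevE6, chevE7, chevE8]) (l l' : List ℕ)
    (t : ℕ → F) : prodL hD (l ++ l') t = prodL hD l t * prodL hD l' t := by
  unfold prodL
  rw [List.map_append, List.prod_append]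

theorem prodL_eq_wordG (hD : D ∈ [chevG2, chevB2, chevD4, chevF4, chevE6, chevE7, chevE8]) (l : List ℕ)
    (t : ℕ → F) : prodL hD l t = wordG hD (l.map fun r => (r, t r)) := by
  unfold prodL wordG
  rw [List.map_map]
  rfl

theorem coe_prodL (hD : D ∈ [chevG2, chevB2, chevD4, chevF4, chevE6, chevE7, chevE8]) (l : List ℕ)
    (t : ℕ → F) : ((prodL hD l t : GL D.Idx F) : Matrix D.Idx D.Idx F)
      = D.wordMat F (l.map fun r => (r, t r)) := by
  rw [prodL_eq_wordG, coe_wordG]

theorem prodL_congr (hD : D ∈ [chevG2, chevB2, chevD4, chevF4, chevE6, chevE7, chevE8]) (l : List ℕ)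
    (t t' : ℕ → F) (h : ∀ r ∈ l, t r = t' r) : prodL hD l t = prodL hD l t' := by
  unfold prodL
  congr 1
  apply List.map_congr_left
  intro r hr
  rw [h r hr]

theorem prodL_zero (hD : D ∈ [chevG2, chevB2, chevD4, chevF4, chevE6, chevE7, chevE8]) (l : List ℕ) :
    prodL (F := F) hD l (fun _ => 0) = 1 := by
  induction l with
  | nil => rfl
  | cons a l ih => rw [prodL_cons, ih, xG_zero, one_mul]

theorem prodL_mem_closure (hD : D ∈ [chevG2, chevB2, chevD4, chevF4, chevE6, chevE7, chevE8])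
    (P : ℕ → Prop) (l : List ℕ) (hl : ∀ r ∈ l, P r) (t : ℕ → F) :
    prodL hD l t ∈ Subgroup.closure {g : GL D.Idx F | ∃ (s : ℕ) (t : F), P s ∧
      (g : Matrix D.Idx D.Idx F) = D.x F s t} := by
  rw [prodL_eq_wordG]
  apply wordG_mem_closure
  intro a ha
  rw [List.mem_map] at ha
  obtain ⟨r, hr, rfl⟩ := ha
  exact hl r hr

theorem prodL_mem_posUnipotent (hD : D ∈ [chevG2, chevB2, chevD4, chevF4, chevE6, chevE7, chevE8])
    (l : List ℕ) (hl : ∀ r ∈ l, D.IsPosRoot r) (t : ℕ → F) : prodL hD l t ∈ D.posUnipotent F :=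
  prodL_mem_closure hD _ l hl t

section Collect

variable (hD : D ∈ [chevG2, chevB2, chevD4, chevF4, chevE6, chevE7, chevE8]) (C : ChevData.{u} D)
  (L : LevelData D)

include hD C L

/-- Inserting a root element of level at least `m` into an ordered product, modulo `U_{m+1}`. -/
theorem prodL_mul_xG (m : ℕ) (l : List ℕ) (hl : ∀ r ∈ l, D.IsPosRoot r) (hnd : l.Nodup) (b : ℕ) (hb : b ∈ l)
    (hmb : m ≤ L.lvl b) (t : ℕ → F) (s : F) :
    ∃ c ∈ Ulev D F L (m + 1), prodL hD l t * xG hD b s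
      = prodL hD l (Function.update t b (t b + s)) * c := by
  induction l with
  | nil => exact absurd hb (List.not_mem_nil)
  | cons a l ih =>
    have hbpos : D.IsPosRoot b := hl b hb
    have hl' : ∀ r ∈ l, D.IsPosRoot r := fun r hr => hl r (List.mem_cons_of_mem _ hr)
    rw [List.nodup_cons] at hnd
    by_cases hab : a = b
    · subst hab
      have hP : prodL hD l t ∈ D.posUnipotent F := prodL_mem_posUnipotent hD l hl' t
      have hy : xG hD a s ∈ Ulev D F L m := xG_mem_Ulev hD L m a s hbpos hmb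
      refine ⟨_, comm_mem_Ulev hD C L m (prodL hD l t) (xG hD a s) hP hy, ?_⟩
      have e1 : prodL hD l (Function.update t a (t a + s)) = prodL hD l t := by
        apply prodL_congr
        intro r hr
        rw [Function.update_of_ne]
        rintro rfl
        exact hnd.1 hr
      rw [prodL_cons, prodL_cons, e1, Function.update_self, ← xG_mul]
      group
    · have hb' : b ∈ l := by
        rcases List.mem_cons.mp hb with h | h
        · exact absurd h.symm hab
        · exact h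
      obtain ⟨c, hc, hcc⟩ := ih hl' hnd.2 hb'
      refine ⟨c, hc, ?_⟩
      rw [prodL_cons, prodL_cons, mul_assoc, hcc, Function.update_of_ne hab, mul_assoc]

/-- Multiplying an ordered product over all positive roots by a word of level at least `m`, modulo `U_{m+1}`. -/
theorem prodL_mul_wordG (m : ℕ) (l : List ℕ) (hl : ∀ r ∈ l, D.IsPosRoot r) (hnd : l.Nodup)
    (hall : ∀ r, D.IsPosRoot r → r ∈ l) (w : List (ℕ × F))
    (hw : ∀ a ∈ w, D.IsPosRoot a.1 ∧ m ≤ L.lvl a.1) (t : ℕ → F) :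
    ∃ (t' : ℕ → F), ∃ c ∈ Ulev D F L (m + 1), prodL hD l t * wordG hD w = prodL hD l t' * c := by
  induction w generalizing t with
  | nil => exact ⟨t, 1, one_mem _, by rw [wordG_nil]⟩
  | cons a w ih =>
    have ha := hw a List.mem_cons_self
    have hw' : ∀ b ∈ w, D.IsPosRoot b.1 ∧ m ≤ L.lvl b.1 := fun b hb => hw b (List.mem_cons_of_mem _ hb)
    obtain ⟨c₁, hc₁, h1⟩ := prodL_mul_xG hD C L m l hl hnd a.1 (hall a.1 ha.1) ha.2 t a.2
    obtain ⟨t', c₂, hc₂, h2⟩ := ih hw' (Function.update t a.1 (t a.1 + a.2))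
    have hW : wordG hD w ∈ D.posUnipotent F := by
      rw [posUnipotent_eq_closure]
      exact wordG_mem_closure hD _ w fun b hb => (hw' b hb).1
    refine ⟨t', c₂ * ((wordG hD w)⁻¹ * c₁ * wordG hD w),
      mul_mem hc₂ (inv_conj_mem_Ulev hD C L (m + 1) _ _ hW hc₁), ?_⟩
    rw [wordG_cons, ← mul_assoc, h1, ← mul_assoc (prodL hD l t'), ← h2]
    group

/-- Every element of `U` is an ordered product modulo `U_k`, for every `k`. -/
theorem exists_prodL_mul_Ulev (l : List ℕ) (hl : ∀ r ∈ l, D.IsPosRoot r) (hnd : l.Nodup)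
    (hall : ∀ r, D.IsPosRoot r → r ∈ l) (g : GL D.Idx F) (hg : g ∈ D.posUnipotent F) (k : ℕ) :
    ∃ (t : ℕ → F), ∃ c ∈ Ulev D F L k, g = prodL hD l t * c := by
  induction k with
  | zero =>
    refine ⟨fun _ => 0, g, ?_, ?_⟩
    · rw [Ulev_zero]; exact hg
    · rw [prodL_zero, one_mul]
  | succ k ih =>
    obtain ⟨t, c, hc, rfl⟩ := ih
    rw [Ulev_eq_closure] at hc
    obtain ⟨w, hw, rfl⟩ := exists_word_of_mem_closure hD _ c hc
    obtain ⟨t', c', hc', h⟩ := prodL_mul_wordG hD C L k l hl hnd hall w hw t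
    exact ⟨t', c', hc', h⟩

/-- Every element of `U` is an ordered product of root elements, for any ordering of the positive roots. -/
theorem exists_prodL (l : List ℕ) (hl : ∀ r ∈ l, D.IsPosRoot r) (hnd : l.Nodup)
    (hall : ∀ r, D.IsPosRoot r → r ∈ l) (g : GL D.Idx F) (hg : g ∈ D.posUnipotent F) :
    ∃ (t : ℕ → F), g = prodL hD l t := by
  obtain ⟨t, c, hc, rfl⟩ := exists_prodL_mul_Ulev hD C L l hl hnd hall g hg (L.maxLvl + 1)
  rw [Ulev_eq_bot L _ (Nat.lt_succ_self _), Subgroup.mem_bot] at hc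
  exact ⟨t, by rw [hc, mul_one]⟩

end Collect

end Cfsg.Agent.Lib.Helper18
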