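/-
helper18: uniqueness of the expression of an element of `U` as a product of root elements taken in increasing index
order (over any set of positive roots).  The coefficient of the first root is read off the column of `e_{-a}`.
-/
import Cfsg.Agent.Lib.Helper18.UFact1

set_option autoImplicit false

namespace Cfsg.Agent.Lib.Helper18

open Cfsg.Lie Cfsg.Agent.Lib.Helper17

universe u

variable {F : Type u} [Field F] {D : ChevalleyDatum}

/-- Table check: for positive roots `a < s` all the roots of the `s`-chain through `-a` are positive. -/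
def lexOK (D : ChevalleyDatum) : Bool :=
  (List.range D.nroots).all fun s => decide (s < D.nroots / 2) ||
    (D.chain.getD s #[]).toList.all fun e =>
      decide (D.nroots / 2 ≤ e.1) || decide (s + e.1 < D.nroots) ||
        e.2.toList.all fun q => decide (D.nroots / 2 ≤ q.1)

theorem lexOK_spec {D : ChevalleyDatum} (h : lexOK D = true) (s : ℕ) (hs : s < D.nroots)
    (hs2 : D.nroots / 2 ≤ s) (e : ℕ × Array (ℕ × ℤ)) (he : e ∈ (D.chain.getD s #[]).toList)
    (he1 : e.1 < D.nroots / 2) (he2 : D.nroots ≤ s + e.1) (q : ℕ × ℤ) (hq : q ∈ e.2.toList) :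
    D.nroots / 2 ≤ q.1 := by
  unfold lexOK at h
  rw [List.all_eq_true] at h
  have h1 := h s (List.mem_range.2 hs)
  rw [Bool.or_eq_true, decide_eq_true_eq, List.all_eq_true] at h1
  rcases h1 with h1 | h1
  · omega
  · have h2 := h1 e he
    rw [Bool.or_eq_true, Bool.or_eq_true, decide_eq_true_eq, decide_eq_true_eq, List.all_eq_true] at h2
    rcases h2 with (h2 | h2) | h2
    · omega
    · omega
    · have := h2 q hq
      rwa [decide_eq_true_eq] at this

/-- Table check: the coordinates of every positive coroot generate the unit ideal of `ℤ` (two of them do, with small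
coefficients). -/
def bezOK (D : ChevalleyDatum) : Bool :=
  (List.range D.nroots).all fun a => decide (a < D.nroots / 2) ||
    (List.range D.rank).any fun i => (List.range D.rank).any fun j =>
      [(-2 : ℤ), -1, 0, 1, 2].any fun m => [(-2 : ℤ), -1, 0, 1, 2].any fun m' =>
        decide (m * (D.coroot.getD a #[]).getD i 0 + m' * (D.coroot.getD a #[]).getD j 0 = 1)

theorem bezOK_spec {D : ChevalleyDatum} (h : bezOK D = true) (a : ℕ) (ha : a < D.nroots)
    (ha2 : D.nroots / 2 ≤ a) :
    ∃ i < D.rank, ∃ j < D.rank, ∃ m m' : ℤ,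
      m * (D.coroot.getD a #[]).getD i 0 + m' * (D.coroot.getD a #[]).getD j 0 = 1 := by
  unfold bezOK at h
  rw [List.all_eq_true] at h
  have h1 := h a (List.mem_range.2 ha)
  rw [Bool.or_eq_true, decide_eq_true_eq] at h1
  rcases h1 with h1 | h1
  · omega
  · rw [List.any_eq_true] at h1
    obtain ⟨i, hi, h2⟩ := h1
    rw [List.any_eq_true] at h2
    obtain ⟨j, hj, h3⟩ := h2
    rw [List.any_eq_true] at h3
    obtain ⟨m, -, h4⟩ := h3
    rw [List.any_eq_true] at h4
    obtain ⟨m', -, h5⟩ := h4
    rw [decide_eq_true_eq] at h5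
    exact ⟨i, List.mem_range.1 hi, j, List.mem_range.1 hj, m, m', h5⟩

/-- The invariant: upper unitriangular for the weight `chevWeight`, and the column of `e_{-a}` has no component on the
fundamental coroots and on the other negative roots. -/
def ColInv (D : ChevalleyDatum) (F : Type u) [Field F] (a : ℕ) (M : Matrix D.Idx D.Idx F) : Prop :=
  Depth (chevWeight D) 1 (M - 1) ∧
    ∀ (i : D.Idx) (j : Fin D.nroots), j.val + a + 1 = D.nroots →
      chevWeight D (Sum.inr j) < chevWeight D i → chevWeight D i < D.nroots / 2 + D.rank →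
      M i (Sum.inr j) = 0

theorem colInv_one (a : ℕ) : ColInv D F a 1 := by
  refine ⟨?_, ?_⟩
  · rw [sub_self]; exact Depth.zero_mat 1
  · intro i j _ hw _
    rw [Matrix.one_apply_ne]
    rintro rfl
    exact lt_irrefl _ hw

theorem colInv_mul (a : ℕ) {M M' : Matrix D.Idx D.Idx F} (hM : ColInv D F a M) (hM' : ColInv D F a M') :
    ColInv D F a (M * M') := by
  refine ⟨Depth.mul_sub_one hM.1 hM'.1, ?_⟩
  intro i j hj hw hz
  rw [Matrix.mul_apply]
  apply Finset.sum_eq_zero
  intro k _
  by_cases hk : k = Sum.inr j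
  · rw [hk, hM.2 i j hj hw hz, zero_mul]
  · by_cases hk1 : chevWeight D k ≤ chevWeight D (Sum.inr j)
    · have h0 := hM'.1 k (Sum.inr j) (by omega)
      rw [Matrix.sub_apply, Matrix.one_apply_ne hk, sub_zero] at h0
      rw [h0, mul_zero]
    · by_cases hk2 : chevWeight D k < D.nroots / 2 + D.rank
      · rw [hM'.2 k j hj (by omega) hk2, mul_zero]
      · have hik : i ≠ k := by
          rintro rfl
          omega
        have h0 := hM.1 i k (by omega)
        rw [Matrix.sub_apply, Matrix.one_apply_ne hik, sub_zero] at h0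
        rw [h0, zero_mul]

theorem negIdx_eq_sub (hD : D ∈ [chevG2, chevB2, chevD4, chevF4, chevE6, chevE7, chevE8]) (r : ℕ)
    (hr : r < D.nroots) : D.negIdx.getD r 0 = D.nroots - 1 - r := by
  obtain ⟨T, hag, -⟩ := exists_hcert D hD
  rw [T.neg_eq D hag r hr, ← T.nroots_eq D hag]
  rfl

theorem nroots_even (hD : D ∈ [chevG2, chevB2, chevD4, chevF4, chevE6, chevE7, chevE8]) :
    D.nroots % 2 = 0 := by
  obtain ⟨C⟩ := nonempty_chevData.{0} D hD
  rw [← C.nroots_eq]
  exact C.heven

/-- The root element of a positive root `s > a` satisfies the invariant for `a`. -/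
theorem colInv_x (hD : D ∈ [chevG2, chevB2, chevD4, chevF4, chevE6, chevE7, chevE8]) (hlex : lexOK D = true)
    (a s : ℕ) (ha : D.IsPosRoot a) (hs : D.IsPosRoot s) (has : a < s) (t : F) :
    ColInv D F a (D.x F s t) := by
  have hpos := posOK_of_mem D hD
  have hev := nroots_even hD
  obtain ⟨ha2, -, -⟩ := posOK_spec hpos a ha
  obtain ⟨hs2, hsn, -⟩ := posOK_spec hpos s hs
  have hx : D.x F s t = D.xMat F ⟨s, hs.1⟩ t := by
    unfold ChevalleyDatum.x
    rw [dif_pos hs.1]
  rw [hx]
  refine ⟨xMat_sub_one_depth hpos ⟨s, hs.1⟩ hs t, ?_⟩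
  intro i j hj hw hz
  have hjlt : j.val < D.nroots / 2 := by omega
  have hwj : chevWeight D (Sum.inr j) = j.val := by
    show (if j.val < D.nroots / 2 then j.val else j.val + D.rank) = _
    rw [if_pos hjlt]
  have hjs : j ≠ ⟨s, hs.1⟩ := by
    apply Fin.ne_of_val_ne
    show j.val ≠ s
    omega
  have hjn : ¬ (j.val = D.negIdx.getD s 0) := by
    rw [negIdx_eq_sub hD s hs.1]
    have := hs.1
    omega
  have hjn' : ¬ (j.val = (D.negIdx[s]?).getD 0) := by simpa using hjn
  rcases i with i | u
  · simp [ChevalleyDatum.xMat, hjs, hjn']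
  · have hwu : chevWeight D (Sum.inr u) = (if u.val < D.nroots / 2 then u.val else u.val + D.rank) := rfl
    have hult : u.val < D.nroots / 2 := by
      by_contra hcon
      rw [hwu, if_neg hcon] at hz
      omega
    rw [hwu, if_pos hult, hwj] at hw
    have huj : u ≠ j := by
      rintro rfl
      exact lt_irrefl _ hw
    have hnil : D.chainCoeff s j.val u.val = [] := by
      rw [List.eq_nil_iff_forall_not_mem]
      intro km hkm
      obtain ⟨e, he, hes, q, hq, hqu, -⟩ := mem_chainCoeff' D s j.val u.val km hkm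
      have := lexOK_spec hlex s hs.1 hs2 e he (by omega) (by omega) q.1 (List.fst_mem_of_mem_zipIdx hq)
      omega
    simp [ChevalleyDatum.xMat, hjs, hjn', huj, hnil]

theorem colInv_wordMat (hD : D ∈ [chevG2, chevB2, chevD4, chevF4, chevE6, chevE7, chevE8])
    (hlex : lexOK D = true) (a : ℕ) (ha : D.IsPosRoot a) (w : List (ℕ × F))
    (hw : ∀ b ∈ w, D.IsPosRoot b.1 ∧ a < b.1) : ColInv D F a (D.wordMat F w) := by
  induction w with
  | nil => rw [wordMat_nil']; exact colInv_one a
  | cons b w ih =>
    rw [wordMat_cons']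
    exact colInv_mul a (colInv_x hD hlex a b.1 ha (hw b List.mem_cons_self).1 (hw b List.mem_cons_self).2 b.2)
      (ih fun c hc => hw c (List.mem_cons_of_mem _ hc))

/-- The entry of `x_a(c)` in the row of `h_{p_i}` and the column of `e_{-a}`. -/
theorem x_apply_inl_neg (hD : D ∈ [chevG2, chevB2, chevD4, chevF4, chevE6, chevE7, chevE8]) (a : ℕ)
    (ha : D.IsPosRoot a) (c : F) (i : Fin D.rank) (j : Fin D.nroots) (hj : j.val + a + 1 = D.nroots) :
    D.x F a c (Sum.inl i) (Sum.inr j) = (((D.coroot.getD a #[]).getD i.val 0 : ℤ) : F) * c := by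
  have hpos := posOK_of_mem D hD
  have hev := nroots_even hD
  obtain ⟨ha2, -, -⟩ := posOK_spec hpos a ha
  have hx : D.x F a c = D.xMat F ⟨a, ha.1⟩ c := by
    unfold ChevalleyDatum.x
    rw [dif_pos ha.1]
  rw [hx]
  have hja : j ≠ ⟨a, ha.1⟩ := by
    apply Fin.ne_of_val_ne
    show j.val ≠ a
    omega
  have hjn : j.val = D.negIdx.getD a 0 := by
    rw [negIdx_eq_sub hD a ha.1]
    have := ha.1
    omega
  have hjn' : j.val = (D.negIdx[a]?).getD 0 := by simpa using hjn
  simp [ChevalleyDatum.xMat, hja, ← hjn']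

/-- A root element `x_a(c)` which is a word in root elements of positive roots `s > a` is trivial. -/
theorem eq_zero_of_xG_eq_wordG (hD : D ∈ [chevG2, chevB2, chevD4, chevF4, chevE6, chevE7, chevE8])
    (hlex : lexOK D = true) (hbez : bezOK D = true) (a : ℕ) (ha : D.IsPosRoot a) (c : F)
    (w : List (ℕ × F)) (hw : ∀ b ∈ w, D.IsPosRoot b.1 ∧ a < b.1) (h : xG hD a c = wordG hD w) : c = 0 := by
  have hpos := posOK_of_mem D hD
  have hev := nroots_even hD
  obtain ⟨ha2, -, -⟩ := posOK_spec hpos a ha
  have hinv := colInv_wordMat hD hlex a ha w hw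
  rw [← coe_wordG hD, ← h, coe_xG] at hinv
  have hjlt : D.nroots - 1 - a < D.nroots := by have := ha.1; omega
  have key : ∀ i : Fin D.rank, (((D.coroot.getD a #[]).getD i.val 0 : ℤ) : F) * c = 0 := by
    intro i
    rw [← x_apply_inl_neg hD a ha c i ⟨D.nroots - 1 - a, hjlt⟩ (by have := ha.1; simp only; omega)]
    apply hinv.2 (Sum.inl i) ⟨D.nroots - 1 - a, hjlt⟩ (by have := ha.1; simp only; omega)
    · show (if D.nroots - 1 - a < D.nroots / 2 then D.nroots - 1 - a else D.nroots - 1 - a + D.rank)
        < D.nroots / 2 + i.val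
      have := ha.1
      rw [if_pos (by omega)]
      omega
    · show D.nroots / 2 + i.val < _
      have := i.isLt
      omega
  obtain ⟨i, hi, j, hj, m, m', hmm⟩ := bezOK_spec hbez a ha.1 ha2
  have h1 := key ⟨i, hi⟩
  have h2 := key ⟨j, hj⟩
  simp only at h1 h2
  have h3 : ((m * (D.coroot.getD a #[]).getD i 0 + m' * (D.coroot.getD a #[]).getD j 0 : ℤ) : F) * c = 0 := by
    push_cast
    rw [add_mul, mul_assoc, mul_assoc, h1, h2, mul_zero, mul_zero, add_zero]
  rw [hmm] at h3
  simpa using h3

/-- Uniqueness of the coefficients of an ordered product over an increasing list of positive roots. -/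
theorem prodL_injective (hD : D ∈ [chevG2, chevB2, chevD4, chevF4, chevE6, chevE7, chevE8])
    (hlex : lexOK D = true) (hbez : bezOK D = true) (l : List ℕ) (hl : ∀ r ∈ l, D.IsPosRoot r)
    (hsorted : l.Pairwise (· < ·)) (t t' : ℕ → F) (h : prodL hD l t = prodL hD l t') :
    ∀ r ∈ l, t r = t' r := by
  induction l with
  | nil => intro r hr; exact absurd hr (List.not_mem_nil)
  | cons a l ih =>
    rw [List.pairwise_cons] at hsorted
    have hl' : ∀ r ∈ l, D.IsPosRoot r := fun r hr => hl r (List.mem_cons_of_mem _ hr)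
    have ha := hl a List.mem_cons_self
    rw [prodL_cons, prodL_cons] at h
    have hP : ∀ t'' : ℕ → F, prodL hD l t'' ∈ Subgroup.closure {g : GL D.Idx F | ∃ (s : ℕ) (t : F),
        (D.IsPosRoot s ∧ a < s) ∧ (g : Matrix D.Idx D.Idx F) = D.x F s t} :=
      fun t'' => prodL_mem_closure hD _ l (fun r hr => ⟨hl' r hr, hsorted.1 r hr⟩) t''
    have e : xG hD a (t a - t' a) = prodL hD l t' * (prodL hD l t)⁻¹ := by
      have e1 : xG hD a (t a - t' a) = (xG hD a (t' a))⁻¹ * xG hD a (t a) := by
        rw [xG_inv, xG_mul]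
        congr 1
        ring
      rw [e1, eq_mul_inv_iff_mul_eq, mul_assoc, h, ← mul_assoc, inv_mul_cancel, one_mul]
    obtain ⟨w, hw, hw2⟩ := exists_word_of_mem_closure hD _ _ (mul_mem (hP t') (inv_mem (hP t)))
    have h0 := eq_zero_of_xG_eq_wordG hD hlex hbez a ha (t a - t' a) w hw (e.trans hw2)
    have hta : t a = t' a := sub_eq_zero.mp h0
    rw [hta] at h
    have h' := mul_left_cancel h
    intro r hr
    rcases List.mem_cons.mp hr with rfl | hr'
    · exact hta
    · exact ih hl' hsorted.2 h' r hr'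

end Cfsg.Agent.Lib.Helper18
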