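/-
helper18: the level (height) check on the packed tables, and the level data it yields.
-/
import Cfsg.Agent.Lib.Helper18.UFact2

set_option autoImplicit false

namespace Cfsg.Agent.Lib.Helper18

open Cfsg.Lie

/-- The level of a root, read from a packed table with five bits per root. -/
def lvlF (tab : ℕ) (r : ℕ) : ℕ := (tab >>> (5 * r)) % 32

theorem lvlF_le (tab r : ℕ) : lvlF tab r ≤ 31 := by
  unfold lvlF
  omega

namespace FastDatum

variable (T : FastDatum)

/-- Table check: the terms of the commutator formula of two distinct positive roots are positive roots of strictly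
larger level. -/
def lvlOK (tab : ℕ) : Bool :=
  (List.range (T.nroots / 2)).all fun r0 => (List.range (T.nroots / 2)).all fun s0 =>
    r0 == s0 || (T.commTermsFast (r0 + T.nroots / 2) (s0 + T.nroots / 2)).all fun c =>
      decide (T.nroots / 2 ≤ c.1) && decide (c.1 < T.nroots) &&
        decide (lvlF tab (r0 + T.nroots / 2) < lvlF tab c.1) &&
        decide (lvlF tab (s0 + T.nroots / 2) < lvlF tab c.1)

theorem lvlOK_spec (tab : ℕ) (h : T.lvlOK tab = true) (hev : T.nroots % 2 = 0) (r s : ℕ)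
    (hr : T.nroots / 2 ≤ r) (hr2 : r < T.nroots)
    (hs : T.nroots / 2 ≤ s) (hs2 : s < T.nroots) (hsr : s ≠ r) (c : ℕ × ℤ × ℕ × ℕ)
    (hc : c ∈ T.commTermsF r s) :
    T.nroots / 2 ≤ c.1 ∧ c.1 < T.nroots ∧ lvlF tab r < lvlF tab c.1 ∧ lvlF tab s < lvlF tab c.1 := by
  unfold lvlOK at h
  rw [List.all_eq_true] at h
  have hk2 : T.nroots = 2 * (T.nroots / 2) := by omega
  have e1 : r - T.nroots / 2 + T.nroots / 2 = r := Nat.sub_add_cancel hr
  have e2 : s - T.nroots / 2 + T.nroots / 2 = s := Nat.sub_add_cancel hs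
  have b1 : r - T.nroots / 2 < T.nroots / 2 := by
    generalize T.nroots / 2 = k at *
    omega
  have b2 : s - T.nroots / 2 < T.nroots / 2 := by
    generalize T.nroots / 2 = k at *
    omega
  have h1 := h (r - T.nroots / 2) (List.mem_range.2 b1)
  rw [List.all_eq_true] at h1
  have h2 := h1 (s - T.nroots / 2) (List.mem_range.2 b2)
  rw [e1, e2, Bool.or_eq_true, beq_iff_eq, T.commTermsFast_eq, List.all_eq_true] at h2
  rcases h2 with h2 | h2
  · exfalso
    apply hsr
    rw [← e1, ← e2, h2]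
  · have h3 := h2 c hc
    simp only [Bool.and_eq_true, decide_eq_true_eq] at h3
    exact ⟨h3.1.1.1, h3.1.1.2, h3.1.2, h3.2⟩

end FastDatum

/-- The level data given by a packed height table passing the check. -/
def levelData_of_lvlOK {D : ChevalleyDatum} (hD : D ∈ [chevG2, chevB2, chevD4, chevF4, chevE6, chevE7, chevE8])
    (C : ChevData.{0} D) (tab : ℕ) (h : C.T.lvlOK tab = true) : LevelData D where
  lvl := lvlF tab
  maxLvl := 31
  hmax := fun r _ => lvlF_le tab r
  hcomm := by
    intro r s hr hs hsr c hc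
    have hrp := (isPosRoot_iff hD r).mp hr
    have hsp := (isPosRoot_iff hD s).mp hs
    have hn := C.nroots_eq
    rw [← C.T.commTermsF_eq D C.hag C.hin r s hrp.1 hsp.1] at hc
    obtain ⟨h1, h2, h3, h4⟩ := C.T.lvlOK_spec tab h C.heven r s (hn ▸ hrp.2) (hn ▸ hrp.1) (hn ▸ hsp.2) (hn ▸ hsp.1)
      hsr c hc
    exact ⟨(isPosRoot_iff hD c.1).mpr ⟨hn ▸ h2, hn ▸ h1⟩, h3, h4⟩

end Cfsg.Agent.Lib.Helper18
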