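/-
helper18: the height tables of the seven root systems and the table checks behind the factorisation of `U`.
Generated by tools/gen_ufact.py.
-/
import Cfsg.Agent.Lib.Helper18.UFactData

set_option autoImplicit false

namespace Cfsg.Agent.Lib.Helper18

open Cfsg.Lie

/-- The heights of the roots of type G2, five bits per root. -/
def htTab_G2 : ℕ := 0x290620842110c85

set_option maxRecDepth 1000000 in
theorem lvlOK_G2 : fastG2.lvlOK htTab_G2 = true := by decide +kernel

set_option maxRecDepth 1000000 in
theorem lexOK_G2 : lexOK chevG2 = true := by decide +kernel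

set_option maxRecDepth 1000000 in
theorem bezOK_G2 : bezOK chevG2 = true := by decide +kernel

/-- The level data of type G2. -/
def levelData_G2 : LevelData chevG2 :=
  levelData_of_lvlOK (by simp) chevData_G2.{0} htTab_G2 lvlOK_G2

/-- The heights of the roots of type B2, five bits per root. -/
def htTab_B2 : ℕ := 0x1882108443

set_option maxRecDepth 1000000 in
theorem lvlOK_B2 : fastB2.lvlOK htTab_B2 = true := by decide +kernel

set_option maxRecDepth 1000000 in
theorem lexOK_B2 : lexOK chevB2 = true := by decide +kernel

set_option maxRecDepth 1000000 in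
theorem bezOK_B2 : bezOK chevB2 = true := by decide +kernel

/-- The level data of type B2. -/
def levelData_B2 : LevelData chevB2 :=
  levelData_of_lvlOK (by simp) chevData_B2.{0} htTab_B2 lvlOK_B2

/-- The heights of the roots of type D4, five bits per root. -/
def htTab_D4 : ℕ := 0x2906310462104210842210c2218c85

set_option maxRecDepth 1000000 in
theorem lvlOK_D4 : fastD4.lvlOK htTab_D4 = true := by decide +kernel

set_option maxRecDepth 1000000 in
theorem lexOK_D4 : lexOK chevD4 = true := by decide +kernel

set_option maxRecDepth 1000000 in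
theorem bezOK_D4 : bezOK chevD4 = true := by decide +kernel

/-- The level data of type D4. -/
def levelData_D4 : LevelData chevD4 :=
  levelData_of_lvlOK (by simp) chevData_D4.{0} htTab_D4 lvlOK_D4

/-- The heights of the roots of type F4, five bits per root. -/
def htTab_F4 : ℕ := 0x5a928398a7314841882520c62088210844110c6428443210a6394c74254b

set_option maxRecDepth 1000000 in
theorem lvlOK_F4 : fastF4.lvlOK htTab_F4 = true := by decide +kernel

set_option maxRecDepth 1000000 in
theorem lexOK_F4 : lexOK chevF4 = true := by decide +kernel

set_option maxRecDepth 1000000 in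
theorem bezOK_F4 : bezOK chevF4 = true := by decide +kernel

/-- The level data of type F4. -/
def levelData_F4 : LevelData chevF4 :=
  levelData_of_lvlOK (by simp) chevData_F4.{0} htTab_F4 lvlOK_F4

/-- The heights of the roots of type E6, five bits per root. -/
def htTab_E6 : ℕ := 0x5a9283a0e63148520c41398a520c831048310462088210844110c221902219064294c708864290a631d074254b

set_option maxRecDepth 1000000 in
theorem lvlOK_E6 : fastE6.lvlOK htTab_E6 = true := by decide +kernel

set_option maxRecDepth 1000000 in
theorem lexOK_E6 : lexOK chevE6 = true := by decide +kernel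

set_option maxRecDepth 1000000 in
theorem bezOK_E6 : bezOK chevE6 = true := by decide +kernel

/-- The level data of type E6. -/
def levelData_E6 : LevelData chevE6 :=
  levelData_of_lvlOK (by simp) chevData_E6.{0} htTab_E6 lvlOK_E6

/-- The heights of the roots of type E7, five bits per root. -/
def htTab_E7 : ℕ := 0x2307b9ac5b58b52d494a0ea4a10731cc5218a41882941ce6298a419483104a4188241882310441084220886110c8110c850886428c85314c73a12110c85310a6398e8425474252a5a96c6ad8d73e11

set_option maxRecDepth 1000000 in
theorem lvlOK_E7 : fastE7.lvlOK htTab_E7 = true := by decide +kernel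

set_option maxRecDepth 1000000 in
theorem lexOK_E7 : lexOK chevE7 = true := by decide +kernel

set_option maxRecDepth 1000000 in
theorem bezOK_E7 : bezOK chevE7 = true := by decide +kernel

/-- The level data of type E7. -/
def levelData_E7 : LevelData chevE7 :=
  levelData_of_lvlOK (by simp) chevData_E7.{0} htTab_E7 lvlOK_E7

/-- The heights of the roots of type E8, five bits per root. -/
def htTab_E8 : ℕ := 0xef37ace2f7b5693946d5a4e5184e5183e307b9ee6b58b83dcd7358c5a9ac5ad495250762d4a4a1283990731487314831056a4a50741cc5398a4198a41882629062094831048310462088210844110c2219022190a110c8530443214c3214c7298e83a12952c22190a6390a63a0c7425095296c3a12a4a96b6354b631ae6b9f05b1ad73dcf845f08ca708ca74ada329d2b6bdf19d6f9d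

set_option maxRecDepth 1000000 in
theorem lvlOK_E8 : fastE8.lvlOK htTab_E8 = true := by decide +kernel

set_option maxRecDepth 1000000 in
theorem lexOK_E8 : lexOK chevE8 = true := by decide +kernel

set_option maxRecDepth 1000000 in
theorem bezOK_E8 : bezOK chevE8 = true := by decide +kernel

/-- The level data of type E8. -/
def levelData_E8 : LevelData chevE8 :=
  levelData_of_lvlOK (by simp) chevData_E8.{0} htTab_E8 lvlOK_E8

theorem nonempty_levelData (D : ChevalleyDatum)
    (hD : D ∈ [chevG2, chevB2, chevD4, chevF4, chevE6, chevE7, chevE8]) : Nonempty (LevelData D) := by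
  simp only [List.mem_cons, List.not_mem_nil, or_false] at hD
  rcases hD with rfl | rfl | rfl | rfl | rfl | rfl | rfl
  · exact ⟨levelData_G2⟩
  · exact ⟨levelData_B2⟩
  · exact ⟨levelData_D4⟩
  · exact ⟨levelData_F4⟩
  · exact ⟨levelData_E6⟩
  · exact ⟨levelData_E7⟩
  · exact ⟨levelData_E8⟩

theorem lexOK_of_mem (D : ChevalleyDatum)
    (hD : D ∈ [chevG2, chevB2, chevD4, chevF4, chevE6, chevE7, chevE8]) : lexOK D = true := by
  simp only [List.mem_cons, List.not_mem_nil, or_false] at hD
  rcases hD with rfl | rfl | rfl | rfl | rfl | rfl | rfl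
  · exact lexOK_G2
  · exact lexOK_B2
  · exact lexOK_D4
  · exact lexOK_F4
  · exact lexOK_E6
  · exact lexOK_E7
  · exact lexOK_E8

theorem bezOK_of_mem (D : ChevalleyDatum)
    (hD : D ∈ [chevG2, chevB2, chevD4, chevF4, chevE6, chevE7, chevE8]) : bezOK D = true := by
  simp only [List.mem_cons, List.not_mem_nil, or_false] at hD
  rcases hD with rfl | rfl | rfl | rfl | rfl | rfl | rfl
  · exact bezOK_G2
  · exact bezOK_B2
  · exact bezOK_D4
  · exact bezOK_F4
  · exact bezOK_E6
  · exact bezOK_E7
  · exact bezOK_E8

end Cfsg.Agent.Lib.Helper18
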