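/-
helper18: the matrices n_r(c) are block monomial: they preserve the Cartan part and permute the root vectors up to
scalars.
-/
import Cfsg.Agent.Lib.Helper18.NForm

set_option autoImplicit false

namespace Cfsg.Agent.Lib.Helper18

open Cfsg.Lie

namespace FastDatum

variable (T : FastDatum)

/-- The column of `n_r(X0)` at the coroot vector `h_{p_i}`, computed by the engine. -/
def nColH (r i : ℕ) : MVec :=
  normM (T.applyWordM (T.nWordM r) [(Sum.inl i, (1, 0, 0, 0, 0))])

/-- The check that `n_r` maps the Cartan part to itself. -/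
def nCheckH (r : ℕ) : Bool :=
  (List.range T.rank).all fun i0 => forceNat i0 fun i => (T.nColH r i).all fun e => e.1.isLeft

end FastDatum

section Sound

variable {F : Type*} [Field F]

/-- Block monomial matrices. -/
def BMono (D : ChevalleyDatum) (M : Matrix D.Idx D.Idx F) : Prop :=
  (∀ (s : Fin D.nroots) (i : Fin D.rank), M (Sum.inr s) (Sum.inl i) = 0) ∧
    (∀ s : Fin D.nroots, ∃ s' : Fin D.nroots, ∃ a : F, ∀ j, M j (Sum.inr s) = if j = Sum.inr s' then a else 0)

theorem BMono.mul {D : ChevalleyDatum} {M N : Matrix D.Idx D.Idx F} (hM : BMono D M) (hN : BMono D N) :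
    BMono D (M * N) := by
  constructor
  · intro s i
    rw [Matrix.mul_apply, Fintype.sum_sum_type]
    have h1 : ∀ k : Fin D.rank, M (Sum.inr s) (Sum.inl k) * N (Sum.inl k) (Sum.inl i) = 0 := by
      intro k; rw [hM.1 s k, zero_mul]
    have h2 : ∀ u : Fin D.nroots, M (Sum.inr s) (Sum.inr u) * N (Sum.inr u) (Sum.inl i) = 0 := by
      intro u; rw [hN.1 u i, mul_zero]
    simp [h1, h2]
  · intro s
    obtain ⟨s', a, hs'⟩ := hN.2 s
    obtain ⟨s'', b, hs''⟩ := hM.2 s'
    refine ⟨s'', b * a, ?_⟩
    intro j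
    rw [Matrix.mul_apply]
    have : ∀ k, M j k * N k (Sum.inr s) = if k = Sum.inr s' then M j (Sum.inr s') * a else 0 := by
      intro k
      rw [hs' k]
      split_ifs with hk
      · rw [hk]
      · rw [mul_zero]
    simp only [this, Finset.sum_ite_eq', Finset.mem_univ, if_true]
    rw [hs'' j]
    split_ifs <;> simp

theorem BMono.diagonal {D : ChevalleyDatum} (d : D.Idx → F) : BMono D (Matrix.diagonal d) := by
  constructor
  · intro s i
    rw [Matrix.diagonal_apply_ne]
    simp
  · intro s
    refine ⟨s, d (Sum.inr s), ?_⟩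
    intro j
    by_cases hj : j = Sum.inr s
    · subst hj; simp
    · rw [Matrix.diagonal_apply_ne _ hj, if_neg hj]

theorem BMono.one {D : ChevalleyDatum} : BMono D (1 : Matrix D.Idx D.Idx F) := by
  rw [← Matrix.diagonal_one]
  exact BMono.diagonal _

namespace FastDatum

variable (T : FastDatum)

/-- The column of `n_r(c)` at a coroot vector is the value of the computed symbolic column. -/
theorem nMat_mulVec_single_inl (D : ChevalleyDatum) (h : T.agree D = true) (r : ℕ) (hr : r < D.nroots)
    (c : F) (hc : c ≠ 0) (i : Fin D.rank) :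
    (D.nMat F r c).mulVec (Pi.single (Sum.inl i) 1) = evMVec D (rhoInv c) (T.nColH r i) := by
  unfold ChevalleyDatum.nMat
  rw [← T.evWordM_nWordM D h r hr c]
  unfold nColH
  rw [evMVec_normM D _ (rhoInv_mul c hc), T.evMVec_applyWordM D h _ (rhoInv_mul c hc)]
  congr 1
  exact (FastDatum.evMVec_unit D (rhoInv c) (Sum.inl i)).symm

theorem nMat_inr_inl (D : ChevalleyDatum) (h : T.agree D = true) (r : ℕ) (hr : r < D.nroots)
    (hchk : T.nCheckH r = true) (c : F) (hc : c ≠ 0) (s : Fin D.nroots) (i : Fin D.rank) :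
    D.nMat F r c (Sum.inr s) (Sum.inl i) = 0 := by
  have h1 := congrFun (T.nMat_mulVec_single_inl D h r hr c hc i) (Sum.inr s)
  rw [Matrix.mulVec_single_one] at h1
  simp only [Matrix.col_apply] at h1
  rw [h1]
  unfold nCheckH at hchk
  rw [List.all_eq_true] at hchk
  have h2 := hchk i.1 (List.mem_range.mpr (by rw [T.rank_eq D h]; exact i.2))
  rw [forceNat_eq, List.all_eq_true] at h2
  unfold evMVec
  apply List.sum_eq_zero
  intro x hx
  rw [List.mem_map] at hx
  obtain ⟨e, he, rfl⟩ := hx
  have h3 := h2 e he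
  rw [if_neg]
  intro h4
  rw [h4] at h3
  simp [code] at h3

/-- The form of the root columns, extracted from the check. -/
theorem nColR_form (r : ℕ) (hchk : T.nCheckRoots r = true) (s : ℕ) (hs : s < T.nroots) :
    ∃ s' m, s' < T.nroots ∧ T.nColR r s = [(Sum.inr s', m)] := by
  unfold nCheckRoots at hchk
  rw [List.all_eq_true] at hchk
  have h0 := hchk s (List.mem_range.mpr hs)
  rw [forceNat_eq] at h0
  cases hcol1 : T.nColR r s with
  | nil => simp [hcol1] at h0
  | cons e l =>
    cases l with
    | cons e' l' => simp [hcol1] at h0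
    | nil =>
      obtain ⟨c1, m⟩ := e
      rcases c1 with k1 | s'
      · simp [hcol1] at h0
      · simp only [hcol1, Bool.and_eq_true, decide_eq_true_eq] at h0
        exact ⟨s', m, h0.1.1.1, rfl⟩

theorem nMat_col_inr (D : ChevalleyDatum) (h : T.agree D = true) (r : ℕ) (hr : r < D.nroots)
    (hchk : T.nCheckRoots r = true) (c : F) (hc : c ≠ 0) (s : Fin D.nroots) :
    ∃ s' : Fin D.nroots, ∃ a : F, ∀ j, D.nMat F r c j (Sum.inr s) = if j = Sum.inr s' then a else 0 := by
  have hn := T.nroots_eq D h
  obtain ⟨s', m, hs', hcol⟩ := T.nColR_form r hchk s.1 (by rw [hn]; exact s.2)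
  have hs'D : s' < D.nroots := by rw [← hn]; exact hs'
  refine ⟨⟨s', hs'D⟩, evM (rhoInv c) m, ?_⟩
  intro j
  have h1 := congrFun (T.nMat_mulVec_single D h r hr c hc s) j
  rw [Matrix.mulVec_single_one] at h1
  simp only [Matrix.col_apply] at h1
  rw [h1, hcol, FastDatum.evMVec_single_inr D _ s' hs'D]
  simp only [Pi.smul_apply, smul_eq_mul, Pi.single_apply]
  split_ifs <;> simp

theorem bMono_nMat (D : ChevalleyDatum) (h : T.agree D = true) (r : ℕ) (hr : r < D.nroots)
    (hchk : T.nCheckRoots r = true) (hchk' : T.nCheckH r = true) (c : F) (hc : c ≠ 0) :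
    BMono D (D.nMat F r c) :=
  ⟨fun s i => T.nMat_inr_inl D h r hr hchk' c hc s i, fun s => T.nMat_col_inr D h r hr hchk c hc s⟩

end FastDatum

end Sound

end Cfsg.Agent.Lib.Helper18
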