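/-
helper18: n_r preserves the Cartan part, for the roots 0..7 of type B2 (kernel computation).
-/
import Cfsg.Agent.Lib.Helper18.FastTB2
import Cfsg.Agent.Lib.Helper18.NMono

set_option autoImplicit false

namespace Cfsg.Agent.Lib.Helper18

open Cfsg.Lie

set_option maxRecDepth 1000000 in
theorem nCheckH_B2_0 : allRange 0 8 (fun r => fastB2.nCheckH r) = true := by decide +kernel

end Cfsg.Agent.Lib.Helper18
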