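/-
helper18: n_r preserves the Cartan part, for all roots of type D4.
-/
import Cfsg.Agent.Lib.Helper18.NChkHD4

set_option autoImplicit false

namespace Cfsg.Agent.Lib.Helper18

open Cfsg.Lie

theorem nCheckH_D4 (r : ℕ) (hr : r < 24) : fastD4.nCheckH r = true := by
  exact of_allRange nCheckH_D4_0 r (by omega) (by omega)

end Cfsg.Agent.Lib.Helper18
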