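/-
helper18: for each of the seven tabulated data, the packed tables agree with the datum, every h_r(t) has been checked
to be diagonal and every n_r(t) to be block monomial.
-/
import Cfsg.Agent.Lib.Helper18.HAll
import Cfsg.Agent.Lib.Helper18.NChkHAllG2
import Cfsg.Agent.Lib.Helper18.NChkHAllB2
import Cfsg.Agent.Lib.Helper18.NChkHAllD4
import Cfsg.Agent.Lib.Helper18.NChkHAllF4
import Cfsg.Agent.Lib.Helper18.NChkHAllE6
import Cfsg.Agent.Lib.Helper18.NChkHAllE7
import Cfsg.Agent.Lib.Helper18.NChkHAllE8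

set_option autoImplicit false

namespace Cfsg.Agent.Lib.Helper18

open Cfsg.Lie

/-- The packed tables of a tabulated datum, with the checks on all `h_r` and `n_r`. -/
theorem exists_ncert (D : ChevalleyDatum)
    (hD : D ∈ [chevG2, chevB2, chevD4, chevF4, chevE6, chevE7, chevE8]) :
    ∃ T : FastDatum, T.agree D = true ∧ (∀ r < D.nroots, T.hCheckRoot r = true) ∧
      ∀ r < D.nroots, T.nCheckH r = true := by
  simp only [List.mem_cons, List.not_mem_nil, or_false] at hD
  rcases hD with rfl | rfl | rfl | rfl | rfl | rfl | rfl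
  · exact ⟨fastG2, agree_G2, fun r hr => hCheckRoot_G2 r hr, fun r hr => nCheckH_G2 r hr⟩
  · exact ⟨fastB2, agree_B2, fun r hr => hCheckRoot_B2 r hr, fun r hr => nCheckH_B2 r hr⟩
  · exact ⟨fastD4, agree_D4, fun r hr => hCheckRoot_D4 r hr, fun r hr => nCheckH_D4 r hr⟩
  · exact ⟨fastF4, agree_F4, fun r hr => hCheckRoot_F4 r hr, fun r hr => nCheckH_F4 r hr⟩
  · exact ⟨fastE6, agree_E6, fun r hr => hCheckRoot_E6 r hr, fun r hr => nCheckH_E6 r hr⟩
  · exact ⟨fastE7, agree_E7, fun r hr => hCheckRoot_E7 r hr, fun r hr => nCheckH_E7 r hr⟩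
  · exact ⟨fastE8, agree_E8, fun r hr => hCheckRoot_E8 r hr, fun r hr => nCheckH_E8 r hr⟩

end Cfsg.Agent.Lib.Helper18
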