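/-
helper18: a general criterion for `x_r(t) - 1` to have depth one for a weight, and the weight that puts all of the
Cartan part on one level: elements of U act trivially on (h ⊕ n⁺)/n⁺.
-/
import Cfsg.Agent.Lib.Helper18.Tri

set_option autoImplicit false

namespace Cfsg.Agent.Lib.Helper18

open Cfsg Cfsg.Lie Matrix Cfsg.Agent.Lib.Helper17

variable {F : Type*} [Field F]

/-- General criterion: `x_r(t) - 1` has depth one for the weight `w`. -/
theorem xMat_sub_one_depth_gen {D : ChevalleyDatum} (w : D.Idx → ℕ) (r : Fin D.nroots) (t : F)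
    (h1 : ∀ i : Fin D.rank, w (Sum.inl i) < w (Sum.inr r))
    (h2 : ∀ s : Fin D.nroots, s.val = D.negIdx.getD r.val 0 →
      (∀ i : Fin D.rank, w (Sum.inr s) < w (Sum.inl i)) ∧ w (Sum.inr s) < w (Sum.inr r))
    (h3 : ∀ s u : Fin D.nroots, D.chainCoeff r.val s.val u.val ≠ [] → w (Sum.inr s) < w (Sum.inr u)) :
    Depth w 1 (D.xMat F r t - 1) := by
  intro i j hij
  rw [Matrix.sub_apply, sub_eq_zero]
  rcases j with j | s
  · -- column h_j
    rcases i with i | u
    · show (if i = j then (1 : F) else 0) = (1 : Matrix D.Idx D.Idx F) (Sum.inl i) (Sum.inl j)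
      by_cases hij'' : i = j
      · subst hij''; rw [if_pos rfl, Matrix.one_apply_eq]
      · rw [if_neg hij'', Matrix.one_apply_ne (by simpa using hij'')]
    · show (if u = r then - (((D.cartanSR.getD j.val #[]).getD r.val 0 : ℤ) : F) * t else 0)
        = (1 : Matrix D.Idx D.Idx F) (Sum.inr u) (Sum.inl j)
      rw [Matrix.one_apply_ne (by simp)]
      rw [if_neg]
      rintro rfl
      have := h1 j
      omega
  · -- column e_s
    by_cases hsr : s = r
    · subst hsr
      rcases i with i | u
      · show (D.xMat F s t) (Sum.inl i) (Sum.inr s) = _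
        rw [Matrix.one_apply_ne (by simp)]
        simp [ChevalleyDatum.xMat]
      · show (D.xMat F s t) (Sum.inr u) (Sum.inr s) = _
        by_cases hus : u = s
        · subst hus
          rw [Matrix.one_apply_eq]
          simp [ChevalleyDatum.xMat]
        · rw [Matrix.one_apply_ne (by simpa using hus)]
          simp [ChevalleyDatum.xMat, hus]
    · by_cases hsn : s.val = D.negIdx.getD r.val 0
      · obtain ⟨h2a, h2b⟩ := h2 s hsn
        rcases i with i | u
        · exfalso
          have := h2a i
          omega
        · by_cases hus : u = s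
          · subst hus
            rw [Matrix.one_apply_eq]
            simp [ChevalleyDatum.xMat, hsr, hsn]
          · rw [Matrix.one_apply_ne (by simpa using hus)]
            have hur : u ≠ r := by
              rintro rfl
              omega
            simp [ChevalleyDatum.xMat, hsr, hsn, hus, hur]
      · have hsn' : ¬ (s.val = (D.negIdx[r.val]?).getD 0) := by simpa using hsn
        rcases i with i | u
        · rw [Matrix.one_apply_ne (by simp)]
          simp [ChevalleyDatum.xMat, hsr, hsn']
        · have hnil : D.chainCoeff r.val s.val u.val = [] := by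
            by_contra hne
            have := h3 s u hne
            omega
          by_cases hus' : u = s
          · subst hus'
            rw [Matrix.one_apply_eq]
            simp [ChevalleyDatum.xMat, hsr, hsn', hnil]
          · rw [Matrix.one_apply_ne (by simpa using hus')]
            simp [ChevalleyDatum.xMat, hsr, hsn', hnil, hus']

/-- The weight with all of the Cartan part on one level. -/
def chevWeight2 (D : ChevalleyDatum) : D.Idx → ℕ
  | Sum.inl _ => D.nroots / 2
  | Sum.inr s => if s.val < D.nroots / 2 then s.val else s.val + 1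

theorem chevWeight2_lt (D : ChevalleyDatum) (i : D.Idx) : chevWeight2 D i < D.nroots + 1 := by
  rcases i with i | s
  · show D.nroots / 2 < _
    omega
  · have := s.isLt
    show (if s.val < D.nroots / 2 then s.val else s.val + 1) < _
    split_ifs <;> omega

theorem chevWeight2_inl (D : ChevalleyDatum) (i : Fin D.rank) :
    chevWeight2 D (Sum.inl i) = D.nroots / 2 := rfl

theorem chevWeight2_inr (D : ChevalleyDatum) (s : Fin D.nroots) :
    chevWeight2 D (Sum.inr s) = if s.val < D.nroots / 2 then s.val else s.val + 1 := rfl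

theorem xMat_sub_one_depth2 {D : ChevalleyDatum} (hOK : posOK D = true) (r : Fin D.nroots)
    (hr : D.IsPosRoot r.val) (t : F) : Depth (chevWeight2 D) 1 (D.xMat F r t - 1) := by
  obtain ⟨h1, h2, h3⟩ := posOK_spec hOK r.val hr
  apply xMat_sub_one_depth_gen
  · intro i
    rw [chevWeight2_inl, chevWeight2_inr, if_neg (by omega)]
    omega
  · intro s hs
    constructor
    · intro i
      rw [chevWeight2_inl, chevWeight2_inr, if_pos (by omega)]
      omega
    · rw [chevWeight2_inr, chevWeight2_inr, if_pos (by omega), if_neg (by omega)]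
      omega
  · intro s u hne
    obtain ⟨km, hkm⟩ := List.exists_mem_of_ne_nil _ hne
    obtain ⟨e, he, hes, q, hq, hqu, -⟩ := mem_chainCoeff' D r.val s.val u.val km hkm
    have := h3 e he q.1 (List.fst_mem_of_mem_zipIdx hq)
    rw [chevWeight2_inr, chevWeight2_inr]
    split_ifs <;> omega

/-- The unitriangular group for the weight `chevWeight2`. -/
def chevUT2 (D : ChevalleyDatum) (F : Type*) [Field F] : Subgroup (GL D.Idx F) :=
  UT (chevWeight2 D) (D.nroots + 1) (chevWeight2_lt D) 1 le_rfl F

theorem posUnipotent_le_chevUT2 {D : ChevalleyDatum} (hOK : posOK D = true) :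
    D.posUnipotent F ≤ chevUT2 D F := by
  unfold ChevalleyDatum.posUnipotent
  rw [Subgroup.closure_le]
  rintro g ⟨r, t, hr, hg⟩
  show Depth (chevWeight2 D) 1 ((g : Matrix D.Idx D.Idx F) - 1)
  rw [hg]
  unfold ChevalleyDatum.x
  rw [dif_pos hr.1]
  exact xMat_sub_one_depth2 hOK ⟨r, hr.1⟩ hr t

/-- An element of `U` is the identity on the Cartan block and has unit diagonal. -/
theorem posUnipotent_entries (D : ChevalleyDatum)
    (hD : D ∈ [chevG2, chevB2, chevD4, chevF4, chevE6, chevE7, chevE8]) (g : GL D.Idx F)
    (hg : g ∈ D.posUnipotent F) :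
    (∀ k i : Fin D.rank, (g : Matrix D.Idx D.Idx F) (Sum.inl k) (Sum.inl i) = if k = i then 1 else 0) ∧
      (∀ s : Fin D.nroots, (g : Matrix D.Idx D.Idx F) (Sum.inr s) (Sum.inr s) = 1) := by
  have h1 : Depth (chevWeight2 D) 1 ((g : Matrix D.Idx D.Idx F) - 1) :=
    posUnipotent_le_chevUT2 (posOK_of_mem D hD) hg
  constructor
  · intro k i
    have := h1 (Sum.inl k) (Sum.inl i) (by rw [chevWeight2_inl, chevWeight2_inl]; omega)
    rw [Matrix.sub_apply, sub_eq_zero] at this
    rw [this, Matrix.one_apply]
    simp
  · intro s
    have := h1 (Sum.inr s) (Sum.inr s) (by omega)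
    rw [Matrix.sub_apply, sub_eq_zero] at this
    rw [this, Matrix.one_apply_eq]

end Cfsg.Agent.Lib.Helper18
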