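/-
helper18: the action of integer matrices on tuples of elements of a commutative group by exponents,
`(c ^ X)_j = ∏_i c_i ^ X_ij`, and the count of solutions of `c ^ M = 1` through a diagonalisation `M = P S Q`.
-/
import Mathlib

set_option autoImplicit false

namespace Cfsg.Agent.Lib.Helper18

open Finset

variable {G : Type*} [CommGroup G] {l : ℕ}

theorem prod_zpow_eq_zpow_sum {ι : Type*} (a : G) (f : ι → ℤ) (s : Finset ι) :
    ∏ x ∈ s, a ^ f x = a ^ ∑ x ∈ s, f x := by
  classical
  induction s using Finset.induction_on with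
  | empty => simp
  | insert i s hi ih => rw [Finset.prod_insert hi, Finset.sum_insert hi, zpow_add, ih]

/-- `(c ^ X)_j = ∏_i c_i ^ X_ij`. -/
def mpow (c : Fin l → G) (X : Matrix (Fin l) (Fin l) ℤ) : Fin l → G := fun j => ∏ i, c i ^ X i j

theorem mpow_one (c : Fin l → G) : mpow c (1 : Matrix (Fin l) (Fin l) ℤ) = c := by
  funext j
  unfold mpow
  rw [Finset.prod_eq_single j]
  · simp
  · intro i _ hij
    simp [Matrix.one_apply_ne hij]
  · intro h; exact absurd (Finset.mem_univ j) h

theorem mpow_mul (c : Fin l → G) (X Y : Matrix (Fin l) (Fin l) ℤ) : mpow (mpow c X) Y = mpow c (X * Y) := by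
  funext k
  unfold mpow
  have h1 : ∀ j, (∏ i, c i ^ X i j) ^ Y j k = ∏ i, c i ^ (X i j * Y j k) := by
    intro j
    rw [← Finset.prod_zpow]
    apply Finset.prod_congr rfl
    intro i _
    rw [zpow_mul]
  simp only [h1]
  rw [Finset.prod_comm]
  apply Finset.prod_congr rfl
  intro i _
  rw [Matrix.mul_apply, prod_zpow_eq_zpow_sum]

theorem one_mpow (X : Matrix (Fin l) (Fin l) ℤ) : mpow (1 : Fin l → G) X = 1 := by
  funext j
  simp [mpow]

theorem mpow_mul_left (c c' : Fin l → G) (X : Matrix (Fin l) (Fin l) ℤ) :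
    mpow (c * c') X = mpow c X * mpow c' X := by
  funext j
  simp [mpow, mul_zpow, Finset.prod_mul_distrib]

/-- `c ↦ c ^ X` as a homomorphism. -/
def mpowHom (X : Matrix (Fin l) (Fin l) ℤ) : (Fin l → G) →* (Fin l → G) where
  toFun c := mpow c X
  map_one' := one_mpow X
  map_mul' c c' := mpow_mul_left c c' X

theorem mpowHom_apply (X : Matrix (Fin l) (Fin l) ℤ) (c : Fin l → G) : mpowHom X c = mpow c X := rfl

/-- `c ↦ c ^ P` is an automorphism when `P` is invertible over the integers. -/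
def mpowEquiv (P P' : Matrix (Fin l) (Fin l) ℤ) (h1 : P * P' = 1) (h2 : P' * P = 1) :
    (Fin l → G) ≃* (Fin l → G) where
  toFun c := mpow c P
  invFun c := mpow c P'
  left_inv c := by
    show mpow (mpow c P) P' = c
    rw [mpow_mul, h1, mpow_one]
  right_inv c := by
    show mpow (mpow c P') P = c
    rw [mpow_mul, h2, mpow_one]
  map_mul' c c' := mpow_mul_left c c' P

/-- If `M = P * S * Q` with `P`, `Q` invertible over the integers, the kernels of `c ↦ c ^ M` and of `c ↦ c ^ S` are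
in bijection. -/
theorem card_ker_mpow_eq (M P P' S Q Q' : Matrix (Fin l) (Fin l) ℤ) (hM : M = P * S * Q)
    (hP1 : P * P' = 1) (hP2 : P' * P = 1) (hQ1 : Q * Q' = 1) :
    Nat.card (mpowHom (G := G) M).ker = Nat.card (mpowHom (G := G) S).ker := by
  apply Nat.card_congr
  refine ⟨fun c => ⟨mpow c.1 P, ?_⟩, fun c => ⟨mpow c.1 P', ?_⟩, ?_, ?_⟩
  · have hc := c.2
    rw [MonoidHom.mem_ker, mpowHom_apply] at hc ⊢
    have : mpow (mpow (mpow c.1 P) S) Q = 1 := by rw [mpow_mul, mpow_mul, ← mul_assoc, ← hM, hc]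
    have h2 : mpow (mpow (mpow (mpow c.1 P) S) Q) Q' = mpow 1 Q' := by rw [this]
    rw [mpow_mul _ Q Q', hQ1, mpow_one, one_mpow] at h2
    exact h2
  · have hc := c.2
    rw [MonoidHom.mem_ker, mpowHom_apply] at hc ⊢
    rw [hM, ← mpow_mul, ← mpow_mul, mpow_mul c.1 P' P, hP2, mpow_one, hc, one_mpow]
  · intro c
    apply Subtype.ext
    show mpow (mpow c.1 P) P' = c.1
    rw [mpow_mul, hP1, mpow_one]
  · intro c
    apply Subtype.ext
    show mpow (mpow c.1 P') P = c.1
    rw [mpow_mul, hP2, mpow_one]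

end Cfsg.Agent.Lib.Helper18
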