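/-
helper18: the homomorphism (Fˣ)^l → GL, c ↦ diag(1; ∏_i c_i^{A_is}), whose range is the diagonal subgroup H; its
kernel in terms of the exponent action of the Cartan matrix.
-/
import Cfsg.Agent.S1034
import Cfsg.Agent.Lib.Helper18.MPow

set_option autoImplicit false

namespace Cfsg.Agent.Lib.Helper18

open Cfsg Cfsg.Lie

variable {F : Type*} [Field F]

/-- Extension of a tuple of units to a function on the naturals. -/
def extC (l : ℕ) (c : Fin l → Fˣ) : ℕ → F := fun i => if h : i < l then ((c ⟨i, h⟩ : Fˣ) : F) else 1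

theorem extC_ne_zero (l : ℕ) (c : Fin l → Fˣ) (i : ℕ) : extC l c i ≠ 0 := by
  unfold extC
  split_ifs
  · exact Units.ne_zero _
  · exact one_ne_zero

theorem extC_of_lt (l : ℕ) (c : Fin l → Fˣ) (i : ℕ) (h : i < l) : extC l c i = ((c ⟨i, h⟩ : Fˣ) : F) := by
  unfold extC
  rw [dif_pos h]

theorem extC_mul (l : ℕ) (c c' : Fin l → Fˣ) : extC l (c * c') = fun i => extC l c i * extC l c' i := by
  funext i
  unfold extC
  split_ifs
  · simp
  · simp

theorem extC_one (l : ℕ) : extC l (1 : Fin l → Fˣ) = fun _ => (1 : F) := by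
  funext i
  unfold extC
  split_ifs <;> simp

theorem extC_inv (l : ℕ) (c : Fin l → Fˣ) : extC l c⁻¹ = fun i => (extC l c i)⁻¹ := by
  funext i
  unfold extC
  split_ifs
  · simp
  · simp

theorem torusFun_congr (D : ChevalleyDatum) (c c' : ℕ → F) (h : ∀ i < D.rank, c i = c' i) :
    torusFun D c = torusFun D c' := by
  funext j
  rcases j with k | s
  · rfl
  · simp only [torusFun, Sum.elim_inr]
    congr 1
    apply List.map_congr_left
    intro i hi
    rw [h i (List.mem_range.mp hi)]

/-- The character `χ_s` on tuples of units. -/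
def chiU (D : ChevalleyDatum) (c : Fin D.rank → Fˣ) (s : ℕ) : Fˣ := ∏ i : Fin D.rank, c i ^ D.cartan i s

theorem list_prod_range_eq {M : Type*} [CommMonoid M] (l : ℕ) (f : ℕ → M) :
    ((List.range l).map f).prod = ∏ i : Fin l, f i := by
  induction l with
  | zero => simp
  | succ l ih =>
    rw [List.range_succ, List.map_append, List.prod_append, ih, Fin.prod_univ_castSucc]
    simp

theorem list_sum_range_eq {M : Type*} [AddCommMonoid M] (l : ℕ) (f : ℕ → M) :
    ((List.range l).map f).sum = ∑ i : Fin l, f i := by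
  induction l with
  | zero => simp
  | succ l ih =>
    rw [List.range_succ, List.map_append, List.sum_append, ih, Fin.sum_univ_castSucc]
    simp

theorem coe_chiU (D : ChevalleyDatum) (c : Fin D.rank → Fˣ) (s : Fin D.nroots) :
    ((chiU D c s : Fˣ) : F) = torusFun D (extC D.rank c) (Sum.inr s) := by
  simp only [torusFun, Sum.elim_inr, chiU]
  rw [list_prod_range_eq, Units.coe_prod]
  apply Finset.prod_congr rfl
  intro i _
  rw [extC_of_lt D.rank c i i.2, Units.val_zpow_eq_zpow_val]

/-- The torus homomorphism. -/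
noncomputable def torusHom (D : ChevalleyDatum) (F : Type*) [Field F] : (Fin D.rank → Fˣ) →* GL D.Idx F where
  toFun c := ⟨Matrix.diagonal (torusFun D (extC D.rank c)), Matrix.diagonal (torusFun D (extC D.rank c⁻¹)),
    by
      rw [Matrix.diagonal_mul_diagonal, extC_inv, torusFun_inv, ← Matrix.diagonal_one]
      congr 1
      funext j
      exact mul_inv_cancel₀ (torusFun_ne_zero D _ (fun i _ => extC_ne_zero _ c i) j),
    by
      rw [Matrix.diagonal_mul_diagonal, extC_inv, torusFun_inv, ← Matrix.diagonal_one]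
      congr 1
      funext j
      exact inv_mul_cancel₀ (torusFun_ne_zero D _ (fun i _ => extC_ne_zero _ c i) j)⟩
  map_one' := by
    apply Units.ext
    show Matrix.diagonal (torusFun D (extC D.rank 1)) = 1
    rw [extC_one, torusFun_one, ← Matrix.diagonal_one]
  map_mul' c c' := by
    apply Units.ext
    show Matrix.diagonal (torusFun D (extC D.rank (c * c')))
      = Matrix.diagonal (torusFun D (extC D.rank c)) * Matrix.diagonal (torusFun D (extC D.rank c'))
    rw [extC_mul, torusFun_mul, Matrix.diagonal_mul_diagonal]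

theorem coe_torusHom (D : ChevalleyDatum) (c : Fin D.rank → Fˣ) :
    ((torusHom D F c : GL D.Idx F) : Matrix D.Idx D.Idx F) = Matrix.diagonal (torusFun D (extC D.rank c)) := rfl

theorem simple_lt' (D : ChevalleyDatum)
    (hD : D ∈ [chevG2, chevB2, chevD4, chevF4, chevE6, chevE7, chevE8]) (i : ℕ) (hi : i < D.rank) :
    D.simple i < D.nroots := by
  simp only [List.mem_cons, List.not_mem_nil, or_false] at hD
  rcases hD with rfl | rfl | rfl | rfl | rfl | rfl | rfl
  · have : ∀ i < chevG2.rank, chevG2.simple i < chevG2.nroots := by decide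
    exact this i hi
  · have : ∀ i < chevB2.rank, chevB2.simple i < chevB2.nroots := by decide
    exact this i hi
  · have : ∀ i < chevD4.rank, chevD4.simple i < chevD4.nroots := by decide
    exact this i hi
  · have : ∀ i < chevF4.rank, chevF4.simple i < chevF4.nroots := by decide
    exact this i hi
  · have : ∀ i < chevE6.rank, chevE6.simple i < chevE6.nroots := by decide
    exact this i hi
  · have : ∀ i < chevE7.rank, chevE7.simple i < chevE7.nroots := by decide
    exact this i hi
  · have : ∀ i < chevE8.rank, chevE8.simple i < chevE8.nroots := by decide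
    exact this i hi

/-- `h_{p_i}(c)` is the matrix of a unit. -/
theorem exists_unit_hMat_simple (D : ChevalleyDatum)
    (hD : D ∈ [chevG2, chevB2, chevD4, chevF4, chevE6, chevE7, chevE8]) (i : ℕ) (hi : i < D.rank) (c : F)
    (hc : c ≠ 0) : ∃ g : GL D.Idx F, (g : Matrix D.Idx D.Idx F) = D.hMat F (D.simple i) c := by
  rw [Cfsg.Agent.S1033.result D hD i hi c hc]
  have hne : ∀ j : D.Idx, Sum.elim (fun _ => (1 : F)) (fun s : Fin D.nroots => c ^ (D.cartan i s)) j ≠ 0 := by
    intro j
    rcases j with k | s
    · exact one_ne_zero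
    · exact zpow_ne_zero _ hc
  refine ⟨⟨Matrix.diagonal _, Matrix.diagonal (fun j => (Sum.elim (fun _ => (1 : F))
    (fun s : Fin D.nroots => c ^ (D.cartan i s)) j)⁻¹), ?_, ?_⟩, rfl⟩
  · rw [Matrix.diagonal_mul_diagonal, ← Matrix.diagonal_one]
    congr 1
    funext j
    exact mul_inv_cancel₀ (hne j)
  · rw [Matrix.diagonal_mul_diagonal, ← Matrix.diagonal_one]
    congr 1
    funext j
    exact inv_mul_cancel₀ (hne j)

/-- Products of the `h_{p_i}(c_i)` lie in `H`. -/
theorem exists_mem_diagonal_prod (D : ChevalleyDatum)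
    (hD : D ∈ [chevG2, chevB2, chevD4, chevF4, chevE6, chevE7, chevE8]) (c : ℕ → F) (L : List ℕ)
    (hL : ∀ i ∈ L, i < D.rank) (hc : ∀ i ∈ L, c i ≠ 0) :
    ∃ g : GL D.Idx F, g ∈ D.diagonalSubgroup F ∧
      (g : Matrix D.Idx D.Idx F) = (L.map fun i => D.hMat F (D.simple i) (c i)).prod := by
  induction L with
  | nil => exact ⟨1, one_mem _, by simp⟩
  | cons a L ih =>
    obtain ⟨g, hg, hgm⟩ := ih (fun i hi => hL i (List.mem_cons_of_mem _ hi))
      (fun i hi => hc i (List.mem_cons_of_mem _ hi))
    obtain ⟨g', hgm'⟩ := exists_unit_hMat_simple (F := F) D hD a (hL a List.mem_cons_self) (c a)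
      (hc a List.mem_cons_self)
    have hg' : g' ∈ D.diagonalSubgroup F :=
      Subgroup.subset_closure ⟨D.simple a, c a, simple_lt' D hD a (hL a List.mem_cons_self),
        hc a List.mem_cons_self, hgm'⟩
    refine ⟨g' * g, mul_mem hg' hg, ?_⟩
    rw [Units.val_mul, hgm, hgm', List.map_cons, List.prod_cons]

/-- The range of the torus homomorphism is `H`. -/
theorem range_torusHom (D : ChevalleyDatum)
    (hD : D ∈ [chevG2, chevB2, chevD4, chevF4, chevE6, chevE7, chevE8]) :
    (torusHom D F).range = D.diagonalSubgroup F := by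
  apply le_antisymm
  · rintro _ ⟨c, rfl⟩
    have hc : ∀ i < D.rank, extC D.rank c i ≠ 0 := fun i _ => extC_ne_zero _ c i
    obtain ⟨g, hg, hgm⟩ := exists_mem_diagonal_prod (F := F) D hD (extC D.rank c) (List.range D.rank)
      (fun i hi => List.mem_range.mp hi) (fun i hi => hc i (List.mem_range.mp hi))
    have h1 := wordMat_torusWord D (fun i hi c hc => Cfsg.Agent.S1033.result D hD i hi c hc)
      (extC D.rank c) hc
    unfold torusWord at h1
    rw [wordMat_flatMap] at h1
    have : torusHom D F c = g := by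
      apply Units.ext
      rw [coe_torusHom, hgm, ← h1]
      rfl
    rw [this]
    exact hg
  · intro h hh
    obtain ⟨c, hc, hhc⟩ := Cfsg.Agent.S1034.mem_diagonalSubgroup_torus D hD h hh
    refine ⟨fun i => Units.mk0 (c i) (hc i i.2), ?_⟩
    apply Units.ext
    rw [coe_torusHom, hhc]
    congr 1
    apply torusFun_congr
    intro i hi
    rw [extC_of_lt _ _ i hi]
    rfl

/-- Membership in the kernel of the torus homomorphism. -/
theorem mem_ker_torusHom (D : ChevalleyDatum) (c : Fin D.rank → Fˣ) :
    c ∈ (torusHom D F).ker ↔ ∀ s : Fin D.nroots, chiU D c s = 1 := by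
  rw [MonoidHom.mem_ker]
  constructor
  · intro h s
    have h1 := congrArg (fun g : GL D.Idx F => (g : Matrix D.Idx D.Idx F) (Sum.inr s) (Sum.inr s)) h
    simp only [coe_torusHom, Matrix.diagonal_apply_eq, Units.val_one, Matrix.one_apply_eq] at h1
    apply Units.ext
    rw [coe_chiU, h1]
    rfl
  · intro h
    apply Units.ext
    rw [coe_torusHom, Units.val_one, ← Matrix.diagonal_one]
    congr 1
    funext j
    rcases j with k | s
    · rfl
    · rw [← coe_chiU, h s]
      rfl

/-- The Cartan matrix `(A_{p_i, p_j})`. -/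
def cartanMat (D : ChevalleyDatum) : Matrix (Fin D.rank) (Fin D.rank) ℤ :=
  Matrix.of fun i j => D.cartan i (D.simple j)

/-- The table fact: the Cartan integers `A_{p_i, s}` are the combinations of the `A_{p_i, p_j}` with the
coefficients `m s` of the root `s` on the fundamental roots. -/
def RootComb (D : ChevalleyDatum) (m : ℕ → ℕ → ℤ) : Prop :=
  ∀ s < D.nroots, ∀ i < D.rank,
    D.cartan i s = ((List.range D.rank).map fun j => m s j * D.cartan i (D.simple j)).sum

theorem chiU_eq_of_rootCombOK (D : ChevalleyDatum) (m : ℕ → ℕ → ℤ) (h : RootComb D m)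
    (c : Fin D.rank → Fˣ) (s : Fin D.nroots) :
    chiU D c s = ∏ j : Fin D.rank, (mpow c (cartanMat D) j) ^ (m s j) := by
  have h1 := h s s.2
  unfold chiU mpow
  have h2 : ∀ j : Fin D.rank, (∏ i : Fin D.rank, c i ^ cartanMat D i j) ^ (m s j)
      = ∏ i : Fin D.rank, c i ^ (m s j * D.cartan i (D.simple j)) := by
    intro j
    rw [← Finset.prod_zpow]
    apply Finset.prod_congr rfl
    intro i _
    rw [← zpow_mul, mul_comm]
    rfl
  simp only [h2]
  rw [Finset.prod_comm]
  apply Finset.prod_congr rfl
  intro i _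
  rw [prod_zpow_eq_zpow_sum]
  congr 1
  have h3 := h1 i i.2
  rw [h3, list_sum_range_eq]

/-- The kernel of the torus homomorphism is the kernel of the exponent action of the Cartan matrix. -/
theorem ker_torusHom (D : ChevalleyDatum) (m : ℕ → ℕ → ℤ) (h : RootComb D m)
    (hs : ∀ j : Fin D.rank, D.simple j < D.nroots) :
    (torusHom D F).ker = (mpowHom (G := Fˣ) (cartanMat D)).ker := by
  ext c
  rw [mem_ker_torusHom, MonoidHom.mem_ker, mpowHom_apply]
  constructor
  · intro hc
    funext j
    have := hc ⟨D.simple j, hs j⟩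
    unfold chiU at this
    exact this
  · intro hc s
    rw [chiU_eq_of_rootCombOK D m h c s, hc]
    simp

end Cfsg.Agent.Lib.Helper18
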