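/-
helper18: Smith normal forms of the Cartan matrices of the seven tabulated data (certificates checked by the kernel),
and the coefficients of the roots on the fundamental roots.
-/
import Cfsg.Agent.Lib.Helper18.TorusHom
import Cfsg.Agent.Lib.Helper18.FastTG2
import Cfsg.Agent.Lib.Helper18.FastTB2
import Cfsg.Agent.Lib.Helper18.FastTD4
import Cfsg.Agent.Lib.Helper18.FastTF4
import Cfsg.Agent.Lib.Helper18.FastTE6
import Cfsg.Agent.Lib.Helper18.FastTE7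
import Cfsg.Agent.Lib.Helper18.FastTE8

set_option autoImplicit false

namespace Cfsg.Agent.Lib.Helper18

open Cfsg Cfsg.Lie

/-- The matrix with the given list of rows. -/
def matOfList (l : ℕ) (rows : List (List ℤ)) : Matrix (Fin l) (Fin l) ℤ :=
  Matrix.of fun i j => (rows.getD i []).getD j 0

/-- The diagonal matrix with the given list of natural diagonal entries. -/
def diagOfList (l : ℕ) (ds : List ℕ) : Matrix (Fin l) (Fin l) ℤ :=
  Matrix.diagonal fun j => ((ds.getD j 0 : ℕ) : ℤ)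

/-- A certificate of a diagonalisation `M = P S Q` over the integers. -/
def SNFCert (l : ℕ) (M : Matrix (Fin l) (Fin l) ℤ) (P P' Q Q' : List (List ℤ)) (ds : List ℕ) : Prop :=
  M = matOfList l P * diagOfList l ds * matOfList l Q ∧ matOfList l P * matOfList l P' = 1 ∧
    matOfList l P' * matOfList l P = 1 ∧ matOfList l Q * matOfList l Q' = 1

instance (l : ℕ) (M : Matrix (Fin l) (Fin l) ℤ) (P P' Q Q' : List (List ℤ)) (ds : List ℕ) :
    Decidable (SNFCert l M P P' Q Q' ds) := by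
  unfold SNFCert
  infer_instance

/-- Coefficients given by a list of rows. -/
def coeffOfList (rows : List (List ℤ)) : ℕ → ℕ → ℤ := fun s j => (rows.getD s []).getD j 0

/-- The check of `RootComb` on the packed tables. -/
def rootCombOKF (T : FastDatum) (ps : List ℕ) (m : ℕ → ℕ → ℤ) : Bool :=
  (List.range T.nroots).all fun s0 => forceNat s0 fun s =>
    (List.range T.rank).all fun i =>
      decide (T.cartan i s = ((List.range T.rank).map fun j => m s j * T.cartan i (ps.getD j 0)).sum)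

theorem rootComb_of_rootCombOKF (D : ChevalleyDatum) (T : FastDatum) (hag : T.agree D = true) (ps : List ℕ)
    (m : ℕ → ℕ → ℤ) (hps : ∀ j < D.rank, D.simple j = ps.getD j 0 ∧ D.simple j < D.nroots)
    (h : rootCombOKF T ps m = true) : RootComb D m := by
  have hn := T.nroots_eq D hag
  have hl := T.rank_eq D hag
  intro s hs i hi
  unfold rootCombOKF at h
  rw [List.all_eq_true] at h
  have h1 := h s (List.mem_range.mpr (by omega))
  rw [forceNat_eq, List.all_eq_true] at h1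
  have h2 := h1 i (List.mem_range.mpr (by omega))
  rw [decide_eq_true_eq] at h2
  rw [T.cartan_eq D hag i hi s hs, h2, hl]
  congr 1
  apply List.map_congr_left
  intro j hj
  have hj' := List.mem_range.mp hj
  obtain ⟨e1, e2⟩ := hps j hj'
  rw [T.cartan_eq D hag i hi _ e2, e1]

def snfP_G2 : List (List ℤ) := [[2, 1], [-1, 0]]
def snfP'_G2 : List (List ℤ) := [[0, -1], [1, 2]]
def snfQ_G2 : List (List ℤ) := [[1, -2], [0, 1]]
def snfQ'_G2 : List (List ℤ) := [[1, 2], [0, 1]]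
def snfD_G2 : List ℕ := [1, 1]
/-- The coefficients of the roots on the fundamental roots. -/
def rootCoeffs_G2 : ℕ → ℕ → ℤ := coeffOfList [[-3, -2], [-3, -1], [-2, -1], [-1, -1], [-1, 0], [0, -1], [0, 1], [1, 0], [1, 1], [2, 1], [3, 1], [3, 2]]

set_option maxRecDepth 1000000 in
theorem snfCert_G2 : SNFCert chevG2.rank (cartanMat chevG2) snfP_G2 snfP'_G2 snfQ_G2 snfQ'_G2 snfD_G2 := by
  decide +kernel

set_option maxRecDepth 1000000 in
theorem rootCombOKF_G2 : rootCombOKF fastG2 [7, 6] rootCoeffs_G2 = true := by decide +kernel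

theorem simpleList_G2 : ∀ j < chevG2.rank, chevG2.simple j = ([7, 6] : List ℕ).getD j 0 ∧
    chevG2.simple j < chevG2.nroots := by decide

theorem rootComb_G2 : RootComb chevG2 rootCoeffs_G2 :=
  rootComb_of_rootCombOKF chevG2 fastG2 agree_G2 _ _ simpleList_G2 rootCombOKF_G2

def snfP_B2 : List (List ℤ) := [[2, 1], [-1, 0]]
def snfP'_B2 : List (List ℤ) := [[0, -1], [1, 2]]
def snfQ_B2 : List (List ℤ) := [[1, -2], [0, 1]]
def snfQ'_B2 : List (List ℤ) := [[1, 2], [0, 1]]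
def snfD_B2 : List ℕ := [1, 2]
/-- The coefficients of the roots on the fundamental roots. -/
def rootCoeffs_B2 : ℕ → ℕ → ℤ := coeffOfList [[-2, -1], [-1, -1], [-1, 0], [0, -1], [0, 1], [1, 0], [1, 1], [2, 1]]

set_option maxRecDepth 1000000 in
theorem snfCert_B2 : SNFCert chevB2.rank (cartanMat chevB2) snfP_B2 snfP'_B2 snfQ_B2 snfQ'_B2 snfD_B2 := by
  decide +kernel

set_option maxRecDepth 1000000 in
theorem rootCombOKF_B2 : rootCombOKF fastB2 [5, 4] rootCoeffs_B2 = true := by decide +kernel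

theorem simpleList_B2 : ∀ j < chevB2.rank, chevB2.simple j = ([5, 4] : List ℕ).getD j 0 ∧
    chevB2.simple j < chevB2.nroots := by decide

theorem rootComb_B2 : RootComb chevB2 rootCoeffs_B2 :=
  rootComb_of_rootCombOKF chevB2 fastB2 agree_B2 _ _ simpleList_B2 rootCombOKF_B2

def snfP_D4 : List (List ℤ) := [[-1, 0, 0, 0], [2, -1, 0, 0], [-1, 2, -1, 0], [-1, 0, 1, 1]]
def snfP'_D4 : List (List ℤ) := [[-1, 0, 0, 0], [-2, -1, 0, 0], [-3, -2, -1, 0], [2, 2, 1, 1]]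
def snfQ_D4 : List (List ℤ) := [[-2, 1, 0, 0], [-3, 0, 1, 1], [-2, 0, 0, 1], [1, 0, 0, 0]]
def snfQ'_D4 : List (List ℤ) := [[0, 0, 0, 1], [1, 0, 0, 2], [0, 1, -1, 1], [0, 0, 1, 2]]
def snfD_D4 : List ℕ := [1, 1, 2, 2]
/-- The coefficients of the roots on the fundamental roots (equal to those of the coroots, the type being simply
laced). -/
def rootCoeffs_D4 : ℕ → ℕ → ℤ := fastD4.coroot

set_option maxRecDepth 1000000 in
theorem snfCert_D4 : SNFCert chevD4.rank (cartanMat chevD4) snfP_D4 snfP'_D4 snfQ_D4 snfQ'_D4 snfD_D4 := by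
  decide +kernel

set_option maxRecDepth 1000000 in
theorem rootCombOKF_D4 : rootCombOKF fastD4 [18, 14, 13, 12] rootCoeffs_D4 = true := by decide +kernel

theorem simpleList_D4 : ∀ j < chevD4.rank, chevD4.simple j = ([18, 14, 13, 12] : List ℕ).getD j 0 ∧
    chevD4.simple j < chevD4.nroots := by decide

theorem rootComb_D4 : RootComb chevD4 rootCoeffs_D4 :=
  rootComb_of_rootCombOKF chevD4 fastD4 agree_D4 _ _ simpleList_D4 rootCombOKF_D4

def snfP_F4 : List (List ℤ) := [[-1, 0, 0, 0], [2, 0, -1, 0], [-1, -1, 0, 0], [0, 2, 2, -1]]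
def snfP'_F4 : List (List ℤ) := [[-1, 0, 0, 0], [1, 0, -1, 0], [-2, -1, 0, 0], [-2, -2, -2, -1]]
def snfQ_F4 : List (List ℤ) := [[-2, 1, 0, 0], [2, 0, -2, 1], [-3, 0, 2, 0], [-2, 0, 1, 0]]
def snfQ'_F4 : List (List ℤ) := [[0, 0, 1, -2], [1, 0, 2, -4], [0, 0, 2, -3], [0, 1, 2, -2]]
def snfD_F4 : List ℕ := [1, 1, 1, 1]
/-- The coefficients of the roots on the fundamental roots. -/
def rootCoeffs_F4 : ℕ → ℕ → ℤ := coeffOfList [[-2, -4, -3, -2], [-2, -4, -3, -1], [-2, -4, -2, -1], [-2, -3, -2, -1], [-2, -2, -2, -1], [-2, -2, -1, -1], [-2, -2, -1, 0], [-1, -3, -2, -1], [-1, -2, -2, -1], [-1, -2, -1, -1], [-1, -2, -1, 0], [-1, -1, -1, -1], [-1, -1, -1, 0], [-1, -1, 0, 0], [-1, 0, 0, 0], [0, -2, -2, -1], [0, -2, -1, -1], [0, -2, -1, 0], [0, -1, -1, -1], [0, -1, -1, 0], [0, -1, 0, 0], [0, 0, -1, -1], [0, 0, -1, 0], [0, 0, 0, -1], [0, 0, 0, 1], [0, 0, 1, 0], [0, 0, 1, 1], [0, 1, 0, 0], [0, 1, 1, 0],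 [0, 1, 1, 1], [0, 2, 1, 0], [0, 2, 1, 1], [0, 2, 2, 1], [1, 0, 0, 0], [1, 1, 0, 0], [1, 1, 1, 0], [1, 1, 1, 1], [1, 2, 1, 0], [1, 2, 1, 1], [1, 2, 2, 1], [1, 3, 2, 1], [2, 2, 1, 0], [2, 2, 1, 1], [2, 2, 2, 1], [2, 3, 2, 1], [2, 4, 2, 1], [2, 4, 3, 1], [2, 4, 3, 2]]

set_option maxRecDepth 1000000 in
theorem snfCert_F4 : SNFCert chevF4.rank (cartanMat chevF4) snfP_F4 snfP'_F4 snfQ_F4 snfQ'_F4 snfD_F4 := by
  decide +kernel

set_option maxRecDepth 1000000 in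
theorem rootCombOKF_F4 : rootCombOKF fastF4 [33, 27, 25, 24] rootCoeffs_F4 = true := by decide +kernel

theorem simpleList_F4 : ∀ j < chevF4.rank, chevF4.simple j = ([33, 27, 25, 24] : List ℕ).getD j 0 ∧
    chevF4.simple j < chevF4.nroots := by decide

theorem rootComb_F4 : RootComb chevF4 rootCoeffs_F4 :=
  rootComb_of_rootCombOKF chevF4 fastF4 agree_F4 _ _ simpleList_F4 rootCombOKF_F4

def snfP_E6 : List (List ℤ) := [[-1, 0, 0, 0, 0, 0], [0, -1, 0, 0, 0, 0], [2, -1, 0, 0, -1, 0], [-1, 2, -1, 0, 0, 0], [0, -1, 2, -1, 0, 0], [0, 0, -1, 2, 4, -1]]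
def snfP'_E6 : List (List ℤ) := [[-1, 0, 0, 0, 0, 0], [0, -1, 0, 0, 0, 0], [1, -2, 0, -1, 0, 0], [2, -3, 0, -2, -1, 0], [-2, 1, -1, 0, 0, 0], [-5, 0, -4, -3, -2, -1]]
def snfQ_E6 : List (List ℤ) := [[-2, 0, 1, 0, 0, 0], [0, -2, 0, 1, 0, 0], [2, -3, 0, 0, 1, 0], [4, -4, 0, 0, 0, 1], [-3, 2, 0, 0, 0, 0], [-2, 1, 0, 0, 0, 0]]
def snfQ'_E6 : List (List ℤ) := [[0, 0, 0, 0, 1, -2], [0, 0, 0, 0, 2, -3], [1, 0, 0, 0, 2, -4], [0, 1, 0, 0, 4, -6], [0, 0, 1, 0, 4, -5], [0, 0, 0, 1, 4, -4]]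
def snfD_E6 : List ℕ := [1, 1, 1, 1, 1, 3]
/-- The coefficients of the roots on the fundamental roots (equal to those of the coroots, the type being simply
laced). -/
def rootCoeffs_E6 : ℕ → ℕ → ℤ := fastE6.coroot

set_option maxRecDepth 1000000 in
theorem snfCert_E6 : SNFCert chevE6.rank (cartanMat chevE6) snfP_E6 snfP'_E6 snfQ_E6 snfQ'_E6 snfD_E6 := by
  decide +kernel

set_option maxRecDepth 1000000 in
theorem rootCombOKF_E6 : rootCombOKF fastE6 [56, 46, 42, 39, 37, 36] rootCoeffs_E6 = true := by decide +kernel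

theorem simpleList_E6 : ∀ j < chevE6.rank, chevE6.simple j = ([56, 46, 42, 39, 37, 36] : List ℕ).getD j 0 ∧
    chevE6.simple j < chevE6.nroots := by decide

theorem rootComb_E6 : RootComb chevE6 rootCoeffs_E6 :=
  rootComb_of_rootCombOKF chevE6 fastE6 agree_E6 _ _ simpleList_E6 rootCombOKF_E6

def snfP_E7 : List (List ℤ) := [[-1, 0, 0, 0, 0, 0, 0], [0, -1, 0, 0, 0, 0, 0], [2, -1, 0, 0, 0, -1, 0], [-1, 2, -1, 0, 0, 0, 0], [0, -1, 2, -1, 0, 0, 0], [0, 0, -1, 2, -1, 0, 0], [0, 0, 0, -1, 2, 4, -1]]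
def snfP'_E7 : List (List ℤ) := [[-1, 0, 0, 0, 0, 0, 0], [0, -1, 0, 0, 0, 0, 0], [1, -2, 0, -1, 0, 0, 0], [2, -3, 0, -2, -1, 0, 0], [3, -4, 0, -3, -2, -1, 0], [-2, 1, -1, 0, 0, 0, 0], [-4, -1, -4, -4, -3, -2, -1]]
def snfQ_E7 : List (List ℤ) := [[-2, 0, 1, 0, 0, 0, 0], [0, -2, 0, 1, 0, 0, 0], [2, -3, 0, 0, 1, 0, 0], [4, -4, 0, 0, 0, 1, 0], [6, -5, 0, 0, 0, 0, 1], [-3, 2, 0, 0, 0, 0, 0], [-2, 1, 0, 0, 0, 0, 0]]
def snfQ'_E7 : List (List ℤ) := [[0, 0, 0, 0, 0, 1, -2], [0, 0, 0, 0, 0, 2, -3], [1, 0, 0, 0, 0, 2, -4], [0, 1, 0, 0, 0, 4, -6], [0, 0, 1, 0, 0, 4, -5], [0, 0, 0, 1, 0, 4, -4], [0, 0, 0, 0, 1, 4, -3]]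
def snfD_E7 : List ℕ := [1, 1, 1, 1, 1, 1, 2]
/-- The coefficients of the roots on the fundamental roots (equal to those of the coroots, the type being simply
laced). -/
def rootCoeffs_E7 : ℕ → ℕ → ℤ := fastE7.coroot

set_option maxRecDepth 1000000 in
theorem snfCert_E7 : SNFCert chevE7.rank (cartanMat chevE7) snfP_E7 snfP'_E7 snfQ_E7 snfQ'_E7 snfD_E7 := by
  decide +kernel

set_option maxRecDepth 1000000 in
theorem rootCombOKF_E7 : rootCombOKF fastE7 [93, 78, 73, 69, 66, 64, 63] rootCoeffs_E7 = true := by decide +kernel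

theorem simpleList_E7 : ∀ j < chevE7.rank, chevE7.simple j = ([93, 78, 73, 69, 66, 64, 63] : List ℕ).getD j 0 ∧
    chevE7.simple j < chevE7.nroots := by decide

theorem rootComb_E7 : RootComb chevE7 rootCoeffs_E7 :=
  rootComb_of_rootCombOKF chevE7 fastE7 agree_E7 _ _ simpleList_E7 rootCombOKF_E7

def snfP_E8 : List (List ℤ) := [[-1, 0, 0, 0, 0, 0, 0, 0], [0, -1, 0, 0, 0, 0, 0, 0], [2, -1, 0, 0, 0, 0, -1, 0], [-1, 2, -1, 0, 0, 0, 0, 0], [0, -1, 2, -1, 0, 0, 0, 0], [0, 0, -1, 2, -1, 0, 0, 0], [0, 0, 0, -1, 2, -1, 0, 0], [0, 0, 0, 0, -1, 2, 4, -1]]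
def snfP'_E8 : List (List ℤ) := [[-1, 0, 0, 0, 0, 0, 0, 0], [0, -1, 0, 0, 0, 0, 0, 0], [1, -2, 0, -1, 0, 0, 0, 0], [2, -3, 0, -2, -1, 0, 0, 0], [3, -4, 0, -3, -2, -1, 0, 0], [4, -5, 0, -4, -3, -2, -1, 0], [-2, 1, -1, 0, 0, 0, 0, 0], [-3, -2, -4, -5, -4, -3, -2, -1]]
def snfQ_E8 : List (List ℤ) := [[-2, 0, 1, 0, 0, 0, 0, 0], [0, -2, 0, 1, 0, 0, 0, 0], [2, -3, 0, 0, 1, 0, 0, 0], [4, -4, 0, 0, 0, 1, 0, 0], [6, -5, 0, 0, 0, 0, 1, 0], [8, -6, 0, 0, 0, 0, 0, 1], [-3, 2, 0, 0, 0, 0, 0, 0], [-2, 1, 0, 0, 0, 0, 0, 0]]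
def snfQ'_E8 : List (List ℤ) := [[0, 0, 0, 0, 0, 0, 1, -2], [0, 0, 0, 0, 0, 0, 2, -3], [1, 0, 0, 0, 0, 0, 2, -4], [0, 1, 0, 0, 0, 0, 4, -6], [0, 0, 1, 0, 0, 0, 4, -5], [0, 0, 0, 1, 0, 0, 4, -4], [0, 0, 0, 0, 1, 0, 4, -3], [0, 0, 0, 0, 0, 1, 4, -2]]
def snfD_E8 : List ℕ := [1, 1, 1, 1, 1, 1, 1, 1]
/-- The coefficients of the roots on the fundamental roots (equal to those of the coroots, the type being simply
laced). -/
def rootCoeffs_E8 : ℕ → ℕ → ℤ := fastE8.coroot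

set_option maxRecDepth 1000000 in
theorem snfCert_E8 : SNFCert chevE8.rank (cartanMat chevE8) snfP_E8 snfP'_E8 snfQ_E8 snfQ'_E8 snfD_E8 := by
  decide +kernel

set_option maxRecDepth 1000000 in
theorem rootCombOKF_E8 : rootCombOKF fastE8 [162, 141, 135, 130, 126, 123, 121, 120] rootCoeffs_E8 = true := by decide +kernel

theorem simpleList_E8 : ∀ j < chevE8.rank, chevE8.simple j = ([162, 141, 135, 130, 126, 123, 121, 120] : List ℕ).getD j 0 ∧
    chevE8.simple j < chevE8.nroots := by decide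

theorem rootComb_E8 : RootComb chevE8 rootCoeffs_E8 :=
  rootComb_of_rootCombOKF chevE8 fastE8 agree_E8 _ _ simpleList_E8 rootCombOKF_E8

end Cfsg.Agent.Lib.Helper18
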