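/-
helper18: the Bruhat normal form `g = b n u` with `u` in the subgroup generated by the positive root subgroups which
`n` conjugates into `V`: existence and uniqueness.
-/
import Cfsg.Agent.Lib.Helper18.UFactTabs
import Cfsg.Agent.S1042
import Cfsg.Agent.S1037
import Cfsg.Agent.Lib.Helper6.BNBruhat

set_option autoImplicit false

namespace Cfsg.Agent.Lib.Helper18

open Cfsg.Lie Cfsg.Agent.Lib.Helper6

universe u

variable {F : Type u} [Field F] {D : ChevalleyDatum}

/-- Conjugating a root element by an element of `N` gives a root element, of a root depending only on `n` and `r`. -/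
theorem exists_conj_xG (hD : D ∈ [chevG2, chevB2, chevD4, chevF4, chevE6, chevE7, chevE8])
    (C : ChevData.{u} D) (n : GL D.Idx F) (hn : n ∈ D.monomialSubgroup F) (r : ℕ) (hr : r < D.nroots) :
    ∃ r' < D.nroots, ∀ t : F, ∃ t' : F, n * xG hD r t * n⁻¹ = xG hD r' t' := by
  obtain ⟨ws, h, hws, hh, rfl⟩ := isWordH_of_mem_monomial hD C n hn
  refine ⟨wordRootF C.tabs ws r, wordRootF_lt C ws hws r hr, ?_⟩
  intro t
  obtain ⟨t', ht'⟩ := Cfsg.Agent.S1036.conj_root_elem D hD h hh (xG hD r t) r hr t rfl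
  have e1 : h * xG hD r t * h⁻¹ = xG hD r t' := Units.ext ht'
  refine ⟨(wordSignF C.tabs ws r : F) * t', ?_⟩
  have e2 : nW hD C ws * h * xG hD r t * (nW hD C ws * h)⁻¹
      = nW hD C ws * (h * xG hD r t * h⁻¹) * (nW hD C ws)⁻¹ := by group
  rw [e2, e1, nW_conj_xG hD C ws hws r hr]

/-- The conjugate of a root subgroup by an element of `N` lies in `V` or in `U`. -/
theorem map_conj_rootSubgroup_le (hD : D ∈ [chevG2, chevB2, chevD4, chevF4, chevE6, chevE7, chevE8])
    (C : ChevData.{u} D) (n : GL D.Idx F) (hn : n ∈ D.monomialSubgroup F) (r : ℕ) (hr : r < D.nroots) :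
    (D.rootSubgroup F r).map (MulAut.conj n).toMonoidHom ≤ D.negUnipotent F ∨
      (D.rootSubgroup F r).map (MulAut.conj n).toMonoidHom ≤ D.posUnipotent F := by
  obtain ⟨r', hr', hconj⟩ := exists_conj_xG hD C n hn r hr
  have key : ∀ (K : Subgroup (GL D.Idx F)), (∀ t' : F, xG hD r' t' ∈ K) →
      (D.rootSubgroup F r).map (MulAut.conj n).toMonoidHom ≤ K := by
    intro K hK
    rw [Subgroup.map_le_iff_le_comap]
    intro g hg
    obtain ⟨t, rfl⟩ := (mem_rootSubgroup_iff hD r g).mp hg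
    rw [Subgroup.mem_comap]
    obtain ⟨t', ht'⟩ := hconj t
    show n * xG hD r t * n⁻¹ ∈ K
    rw [ht']
    exact hK t'
  by_cases hlt : r' < D.nroots / 2
  · left
    apply key
    intro t'
    exact Subgroup.subset_closure ⟨r', t', isNegRoot_of_lt D (signOK_of_mem D hD) r' hr' hlt, rfl⟩
  · right
    apply key
    intro t'
    exact xG_mem_posUnipotent hD r' t' ((isPosRoot_iff hD r').mpr ⟨hr', by omega⟩)

/-- The generating set of `U_n^-`. -/
def UnegSet (D : ChevalleyDatum) (F : Type u) [Field F] (n : GL D.Idx F) : Set (GL D.Idx F) :=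
  {x : GL D.Idx F | ∃ (r : ℕ) (t : F), D.IsPosRoot r ∧
    (D.rootSubgroup F r).map (MulAut.conj n).toMonoidHom ≤ D.negUnipotent F ∧
    (x : Matrix D.Idx D.Idx F) = D.x F r t}

theorem closure_UnegSet_le (D : ChevalleyDatum) (n : GL D.Idx F) :
    Subgroup.closure (UnegSet D F n) ≤ D.posUnipotent F := by
  unfold ChevalleyDatum.posUnipotent
  apply Subgroup.closure_mono
  rintro g ⟨r, t, hr, -, hg⟩
  exact ⟨r, t, hr, hg⟩

/-- `n U_n^- n⁻¹ ≤ V`. -/
theorem conj_mem_negUnipotent (hD : D ∈ [chevG2, chevB2, chevD4, chevF4, chevE6, chevE7, chevE8])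
    (n u : GL D.Idx F) (hu : u ∈ Subgroup.closure (UnegSet D F n)) : n * u * n⁻¹ ∈ D.negUnipotent F := by
  have hle : Subgroup.closure (UnegSet D F n) ≤ (D.negUnipotent F).comap (MulAut.conj n).toMonoidHom := by
    rw [Subgroup.closure_le]
    rintro x ⟨r, t, -, hle, hx⟩
    have hx' : x = xG hD r t := Units.ext hx
    have h1 : x ∈ D.rootSubgroup F r := (mem_rootSubgroup_iff hD r x).mpr ⟨t, hx'⟩
    exact hle (Subgroup.mem_map_of_mem _ h1)
  exact hle hu

/-- Conjugating an ordered product over roots whose root subgroups `n` conjugates into `U`. -/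
theorem conj_prodL_mem_posUnipotent (hD : D ∈ [chevG2, chevB2, chevD4, chevF4, chevE6, chevE7, chevE8])
    (n : GL D.Idx F) (l : List ℕ)
    (hl : ∀ r ∈ l, (D.rootSubgroup F r).map (MulAut.conj n).toMonoidHom ≤ D.posUnipotent F) (t : ℕ → F) :
    n * prodL hD l t * n⁻¹ ∈ D.posUnipotent F := by
  induction l with
  | nil => simp [prodL_nil, one_mem]
  | cons a l ih =>
    rw [prodL_cons]
    have e : n * (xG hD a (t a) * prodL hD l t) * n⁻¹ = (n * xG hD a (t a) * n⁻¹) * (n * prodL hD l t * n⁻¹) := by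
      group
    rw [e]
    refine mul_mem ?_ (ih fun r hr => hl r (List.mem_cons_of_mem _ hr))
    apply hl a List.mem_cons_self
    exact Subgroup.mem_map_of_mem _ ((mem_rootSubgroup_iff hD a _).mpr ⟨t a, rfl⟩)

/-- Every element of `U` is `u₊ u₋` with `n u₊ n⁻¹ ∈ U` and `u₋ ∈ U_n^-`. -/
theorem exists_split (hD : D ∈ [chevG2, chevB2, chevD4, chevF4, chevE6, chevE7, chevE8])
    (C : ChevData.{u} D) (L : LevelData D) (n : GL D.Idx F) (hn : n ∈ D.monomialSubgroup F)
    (g : GL D.Idx F) (hg : g ∈ D.posUnipotent F) :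
    ∃ u₁ u₂ : GL D.Idx F, n * u₁ * n⁻¹ ∈ D.posUnipotent F ∧ u₂ ∈ Subgroup.closure (UnegSet D F n) ∧
      g = u₁ * u₂ := by
  classical
  let p : ℕ → Bool := fun r =>
    decide ((D.rootSubgroup F r).map (MulAut.conj n).toMonoidHom ≤ D.negUnipotent F)
  have hmem : ∀ r, r ∈ D.posRoots ↔ D.IsPosRoot r := by
    intro r
    unfold ChevalleyDatum.posRoots
    rw [List.mem_filter, List.mem_range, decide_eq_true_eq]
    exact ⟨fun h => h.2, fun h => ⟨h.1, h⟩⟩
  have hnd : D.posRoots.Nodup := by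
    unfold ChevalleyDatum.posRoots
    exact List.Nodup.filter _ List.nodup_range
  have hperm : List.Perm ((D.posRoots.filter fun r => !p r) ++ D.posRoots.filter p) D.posRoots :=
    (List.perm_append_comm.trans (List.filter_append_perm p D.posRoots))
  have hl : ∀ r ∈ (D.posRoots.filter fun r => !p r) ++ D.posRoots.filter p, D.IsPosRoot r :=
    fun r hr => (hmem r).mp (hperm.mem_iff.mp hr)
  obtain ⟨t, ht⟩ := exists_prodL hD C L _ hl (hperm.nodup_iff.mpr hnd)
    (fun r hr => hperm.mem_iff.mpr ((hmem r).mpr hr)) g hg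
  rw [prodL_append] at ht
  refine ⟨_, _, ?_, ?_, ht⟩
  · apply conj_prodL_mem_posUnipotent hD n
    intro r hr
    rw [List.mem_filter] at hr
    have hr2 : ¬ ((D.rootSubgroup F r).map (MulAut.conj n).toMonoidHom ≤ D.negUnipotent F) := by
      have h := hr.2
      simp only [p, Bool.not_eq_true'] at h
      exact of_decide_eq_false h
    have hrpos := (hmem r).mp hr.1
    rcases map_conj_rootSubgroup_le hD C n hn r hrpos.1 with h | h
    · exact absurd h hr2
    · exact h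
  · have h1 := prodL_mem_closure hD (fun r => D.IsPosRoot r ∧
      (D.rootSubgroup F r).map (MulAut.conj n).toMonoidHom ≤ D.negUnipotent F) (D.posRoots.filter p)
      (fun r hr => by
        rw [List.mem_filter] at hr
        exact ⟨(hmem r).mp hr.1, of_decide_eq_true hr.2⟩) t
    have e : {g : GL D.Idx F | ∃ (s : ℕ) (t : F), (D.IsPosRoot s ∧
        (D.rootSubgroup F s).map (MulAut.conj n).toMonoidHom ≤ D.negUnipotent F) ∧
        (g : Matrix D.Idx D.Idx F) = D.x F s t} = UnegSet D F n := by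
      ext x
      unfold UnegSet
      simp only [Set.mem_ofPred_eq, and_assoc]
    rw [e] at h1
    exact h1

/-- Existence of the Bruhat normal form. -/
theorem exists_bruhat_form (hD : D ∈ [chevG2, chevB2, chevD4, chevF4, chevE6, chevE7, chevE8])
    (C : ChevData.{u} D) (L : LevelData D) (g : GL D.Idx F) (hg : g ∈ D.group F) :
    ∃ b ∈ D.borelSubgroup F, ∃ n ∈ D.monomialSubgroup F, ∃ u ∈ Subgroup.closure (UnegSet D F n),
      g = b * n * u := by
  obtain ⟨P, hPB, hPN, -⟩ := Cfsg.Agent.S1042.exists_bnPair (F := F) D hD C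
  obtain ⟨n, hn, x, hx, y, hy, hxy⟩ := bruhat_exists P ⟨g, hg⟩
  rw [hPN, Subgroup.mem_subgroupOf] at hn
  rw [hPB, Subgroup.mem_subgroupOf] at hx hy
  have hg' : g = (x : GL D.Idx F) * n * y := by
    have := congrArg Subtype.val hxy
    simpa using this
  obtain ⟨u, hu, h, hh, huh⟩ := (mem_borel_iff D hD _).mp hy
  -- `y = u h = h (h⁻¹ u h)`
  have hu' : h⁻¹ * u * h ∈ D.posUnipotent F := by
    have := ((Cfsg.Agent.S1036.result D hD).1 (inv_mem hh) u).mp hu
    rwa [inv_inv] at this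
  -- `n h n⁻¹ ∈ H`
  have hnh : (n : GL D.Idx F) * h * (n : GL D.Idx F)⁻¹ ∈ D.diagonalSubgroup F := by
    obtain ⟨ws, h₀, hws, hh₀, hnw⟩ := isWordH_of_mem_monomial hD C _ hn
    have e : (n : GL D.Idx F) * h * (n : GL D.Idx F)⁻¹
        = nW hD C ws * (h₀ * h * h₀⁻¹) * (nW hD C ws)⁻¹ := by
      rw [hnw]; group
    rw [e]
    exact nW_conj_H hD C ws _ (mul_mem (mul_mem hh₀ hh) (inv_mem hh₀))
  obtain ⟨u₁, u₂, hu₁, hu₂, hsplit⟩ := exists_split hD C L (n : GL D.Idx F) hn _ hu'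
  refine ⟨(x : GL D.Idx F) * ((n : GL D.Idx F) * h * (n : GL D.Idx F)⁻¹)
    * ((n : GL D.Idx F) * u₁ * (n : GL D.Idx F)⁻¹), ?_, n, hn, u₂, hu₂, ?_⟩
  · exact mul_mem (mul_mem hx (borel_of_diagonal _ hnh)) (borel_of_posUnipotent _ hu₁)
  · have e : (y : GL D.Idx F) = h * (u₁ * u₂) := by
      rw [← hsplit, ← huh]; group
    rw [hg', e]
    group

/-- Uniqueness of the Bruhat normal form. -/
theorem bruhat_form_unique (hD : D ∈ [chevG2, chevB2, chevD4, chevF4, chevE6, chevE7, chevE8])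
    (C : ChevData.{u} D) (b b' n n' u u' : GL D.Idx F) (hb : b ∈ D.borelSubgroup F)
    (hb' : b' ∈ D.borelSubgroup F) (hn : n ∈ D.monomialSubgroup F) (hn' : n' ∈ D.monomialSubgroup F)
    (hu : u ∈ Subgroup.closure (UnegSet D F n)) (hu' : u' ∈ Subgroup.closure (UnegSet D F n'))
    (h : b * n * u = b' * n' * u') :
    n⁻¹ * n' ∈ D.diagonalSubgroup F ∧ (n = n' → b = b' ∧ u = u') := by
  obtain ⟨hBG, hNG, -⟩ := Cfsg.Agent.S1043.result (F := F) D hD
  have hBN : D.borelSubgroup F ⊓ D.monomialSubgroup F = D.diagonalSubgroup F :=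
    (Cfsg.Agent.S1040.result D hD).2
  have huB : u ∈ D.borelSubgroup F := borel_of_posUnipotent _ (closure_UnegSet_le D n hu)
  have huB' : u' ∈ D.borelSubgroup F := borel_of_posUnipotent _ (closure_UnegSet_le D n' hu')
  constructor
  · obtain ⟨P, hPB, hPN, -⟩ := Cfsg.Agent.S1042.exists_bnPair (F := F) D hD C
    have hnP : (⟨n, hNG hn⟩ : ↥(D.group F)) ∈ P.N := by
      rw [hPN, Subgroup.mem_subgroupOf]; exact hn
    have hnP' : (⟨n', hNG hn'⟩ : ↥(D.group F)) ∈ P.N := by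
      rw [hPN, Subgroup.mem_subgroupOf]; exact hn'
    have hx : b'⁻¹ * b ∈ D.borelSubgroup F := mul_mem (inv_mem hb') hb
    have hy : u * u'⁻¹ ∈ D.borelSubgroup F := mul_mem huB (inv_mem huB')
    have hdc : InDC P (⟨n, hNG hn⟩ : ↥(D.group F)) ⟨n', hNG hn'⟩ := by
      refine ⟨⟨b'⁻¹ * b, hBG hx⟩, ?_, ⟨u * u'⁻¹, hBG hy⟩, ?_, ?_⟩
      · rw [hPB, Subgroup.mem_subgroupOf]; exact hx
      · rw [hPB, Subgroup.mem_subgroupOf]; exact hy
      · apply Subtype.ext
        show n' = b'⁻¹ * b * n * (u * u'⁻¹)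
        have e : b'⁻¹ * b * n * (u * u'⁻¹) = b'⁻¹ * (b * n * u) * u'⁻¹ := by group
        rw [e, h]; group
    have hrel := bruhat_unique P hnP hnP' hdc
    unfold Cfsg.Agent.Lib.Helper6.Rel at hrel
    rw [hPB, Subgroup.mem_subgroupOf] at hrel
    rw [← hBN]
    have hrel' : n⁻¹ * n' ∈ D.borelSubgroup F := by simpa using hrel
    exact Subgroup.mem_inf.mpr ⟨hrel', mul_mem (inv_mem hn) hn'⟩
  · rintro rfl
    have h1 : n * (u * u'⁻¹) * n⁻¹ ∈ D.negUnipotent F :=
      conj_mem_negUnipotent hD n _ (mul_mem hu (inv_mem hu'))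
    have h2 : n * (u * u'⁻¹) * n⁻¹ = b⁻¹ * b' := by
      have e : n * (u * u'⁻¹) * n⁻¹ = b⁻¹ * (b * n * u) * u'⁻¹ * n⁻¹ := by group
      rw [e, h]; group
    have h3 : n * (u * u'⁻¹) * n⁻¹ ∈ D.borelSubgroup F ⊓ D.negUnipotent F := by
      refine Subgroup.mem_inf.mpr ⟨?_, h1⟩
      rw [h2]
      exact mul_mem (inv_mem hb) hb'
    rw [(Cfsg.Agent.S1037.result D hD).1, Subgroup.mem_bot] at h3
    have h4 : u * u'⁻¹ = 1 := by
      have : u * u'⁻¹ = n⁻¹ * (n * (u * u'⁻¹) * n⁻¹) * n := by group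
      rw [this, h3]; group
    have h5 : u = u' := mul_inv_eq_one.mp h4
    refine ⟨?_, h5⟩
    rw [h5] at h
    exact mul_right_cancel (mul_right_cancel h)

end Cfsg.Agent.Lib.Helper18
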