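/-
helper18: towards the order formula.  Distinct roots have distinct root subgroups; an element of `N` which conjugates
every positive root subgroup into `U` lies in `H`; the double coset `B n B` equals `B n P` with `P` the set of ordered
products over the positive roots made negative by `n`.
-/
import Cfsg.Agent.Lib.Helper18.Bruhat1
import Cfsg.Agent.Lib.Helper6.BNParabolic

set_option autoImplicit false

namespace Cfsg.Agent.Lib.Helper18

open Cfsg.Lie Cfsg.Agent.Lib.Helper17 Cfsg.Agent.Lib.Helper6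

universe u

variable {F : Type u} [Field F] {D : ChevalleyDatum}

/-- Table check: the coordinates of every coroot generate the unit ideal of `ℤ`. -/
def bezOK2 (D : ChevalleyDatum) : Bool :=
  (List.range D.nroots).all fun a =>
    (List.range D.rank).any fun i => (List.range D.rank).any fun j =>
      [(-2 : ℤ), -1, 0, 1, 2].any fun m => [(-2 : ℤ), -1, 0, 1, 2].any fun m' =>
        decide (m * (D.coroot.getD a #[]).getD i 0 + m' * (D.coroot.getD a #[]).getD j 0 = 1)

theorem bezOK2_spec {D : ChevalleyDatum} (h : bezOK2 D = true) (a : ℕ) (ha : a < D.nroots) :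
    ∃ i < D.rank, ∃ j < D.rank, ∃ m m' : ℤ,
      m * (D.coroot.getD a #[]).getD i 0 + m' * (D.coroot.getD a #[]).getD j 0 = 1 := by
  unfold bezOK2 at h
  rw [List.all_eq_true] at h
  have h1 := h a (List.mem_range.2 ha)
  rw [List.any_eq_true] at h1
  obtain ⟨i, hi, h2⟩ := h1
  rw [List.any_eq_true] at h2
  obtain ⟨j, hj, h3⟩ := h2
  rw [List.any_eq_true] at h3
  obtain ⟨m, -, h4⟩ := h3
  rw [List.any_eq_true] at h4
  obtain ⟨m', -, h5⟩ := h4
  rw [decide_eq_true_eq] at h5
  exact ⟨i, List.mem_range.1 hi, j, List.mem_range.1 hj, m, m', h5⟩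

set_option maxRecDepth 1000000 in
theorem bezOK2_G2 : bezOK2 chevG2 = true := by decide +kernel

set_option maxRecDepth 1000000 in
theorem bezOK2_B2 : bezOK2 chevB2 = true := by decide +kernel

set_option maxRecDepth 1000000 in
theorem bezOK2_D4 : bezOK2 chevD4 = true := by decide +kernel

set_option maxRecDepth 1000000 in
theorem bezOK2_F4 : bezOK2 chevF4 = true := by decide +kernel

set_option maxRecDepth 1000000 in
theorem bezOK2_E6 : bezOK2 chevE6 = true := by decide +kernel

set_option maxRecDepth 1000000 in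
theorem bezOK2_E7 : bezOK2 chevE7 = true := by decide +kernel

set_option maxRecDepth 1000000 in
theorem bezOK2_E8 : bezOK2 chevE8 = true := by decide +kernel

theorem bezOK2_of_mem (D : ChevalleyDatum)
    (hD : D ∈ [chevG2, chevB2, chevD4, chevF4, chevE6, chevE7, chevE8]) : bezOK2 D = true := by
  simp only [List.mem_cons, List.not_mem_nil, or_false] at hD
  rcases hD with rfl | rfl | rfl | rfl | rfl | rfl | rfl
  · exact bezOK2_G2
  · exact bezOK2_B2
  · exact bezOK2_D4
  · exact bezOK2_F4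
  · exact bezOK2_E6
  · exact bezOK2_E7
  · exact bezOK2_E8

/-- The entry of `x_a(c)` in the row of `h_{p_i}` and the column of `e_{-a}`, for any root `a`. -/
theorem x_apply_inl_neg' (hD : D ∈ [chevG2, chevB2, chevD4, chevF4, chevE6, chevE7, chevE8]) (a : ℕ)
    (ha : a < D.nroots) (c : F) (i : Fin D.rank) (j : Fin D.nroots) (hj : j.val + a + 1 = D.nroots) :
    D.x F a c (Sum.inl i) (Sum.inr j) = (((D.coroot.getD a #[]).getD i.val 0 : ℤ) : F) * c := by
  have hev := nroots_even hD
  have hx : D.x F a c = D.xMat F ⟨a, ha⟩ c := by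
    unfold ChevalleyDatum.x
    rw [dif_pos ha]
  rw [hx]
  have hja : j ≠ ⟨a, ha⟩ := by
    apply Fin.ne_of_val_ne
    show j.val ≠ a
    omega
  have hjn : j.val = D.negIdx.getD a 0 := by
    rw [negIdx_eq_sub hD a ha]
    omega
  have hjn' : j.val = (D.negIdx[a]?).getD 0 := by simpa using hjn
  simp [ChevalleyDatum.xMat, hja, ← hjn']

/-- The entries of `x_b(c)`, `b ≠ a`, in the rows of the `h_{p_i}` and the column of `e_{-a}` vanish. -/
theorem x_apply_inl_neg_of_ne (hD : D ∈ [chevG2, chevB2, chevD4, chevF4, chevE6, chevE7, chevE8]) (a b : ℕ)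
    (_ha : a < D.nroots) (hb : b < D.nroots) (hab : b ≠ a) (c : F) (i : Fin D.rank) (j : Fin D.nroots)
    (hj : j.val + a + 1 = D.nroots) : D.x F b c (Sum.inl i) (Sum.inr j) = 0 := by
  have hx : D.x F b c = D.xMat F ⟨b, hb⟩ c := by
    unfold ChevalleyDatum.x
    rw [dif_pos hb]
  rw [hx]
  have hjn : ¬ (j.val = D.negIdx.getD b 0) := by
    rw [negIdx_eq_sub hD b hb]
    omega
  have hjn' : ¬ (j.val = (D.negIdx[b]?).getD 0) := by simpa using hjn
  by_cases hjb : j = ⟨b, hb⟩
  · simp [ChevalleyDatum.xMat, hjb]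
  · simp [ChevalleyDatum.xMat, hjb, hjn']

/-- Distinct roots have distinct root subgroups. -/
theorem xG_inj_root (hD : D ∈ [chevG2, chevB2, chevD4, chevF4, chevE6, chevE7, chevE8]) (a b : ℕ)
    (ha : a < D.nroots) (hb : b < D.nroots) (t t' : F) (ht : t ≠ 0) (h : xG hD a t = xG hD b t') : b = a := by
  by_contra hab
  have hjlt : D.nroots - 1 - a < D.nroots := by omega
  have hj : (⟨D.nroots - 1 - a, hjlt⟩ : Fin D.nroots).val + a + 1 = D.nroots := by simp only; omega
  have hm : D.x F a t = D.x F b t' := congrArg Units.val h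
  have key : ∀ i : Fin D.rank, (((D.coroot.getD a #[]).getD i.val 0 : ℤ) : F) * t = 0 := by
    intro i
    rw [← x_apply_inl_neg' hD a ha t i _ hj, hm, x_apply_inl_neg_of_ne hD a b ha hb hab t' i _ hj]
  obtain ⟨i, hi, j, hj', m, m', hmm⟩ := bezOK2_spec (bezOK2_of_mem D hD) a ha
  have h1 := key ⟨i, hi⟩
  have h2 := key ⟨j, hj'⟩
  simp only at h1 h2
  have h3 : ((m * (D.coroot.getD a #[]).getD i 0 + m' * (D.coroot.getD a #[]).getD j 0 : ℤ) : F) * t = 0 := by
    push_cast
    rw [add_mul, mul_assoc, mul_assoc, h1, h2, mul_zero, mul_zero, add_zero]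
  rw [hmm] at h3
  apply ht
  simpa using h3

/-- The conjugate of a nontrivial root element by a word times an element of `H`. -/
theorem word_conj_xG (hD : D ∈ [chevG2, chevB2, chevD4, chevF4, chevE6, chevE7, chevE8])
    (C : ChevData.{u} D) (ws : List ℕ) (hws : ∀ i ∈ ws, i < D.rank) (h : GL D.Idx F)
    (hh : h ∈ D.diagonalSubgroup F) (r : ℕ) (hr : r < D.nroots) (t : F) :
    ∃ t' : F, (t ≠ 0 → t' ≠ 0) ∧
      nW hD C ws * h * xG hD r t * (nW hD C ws * h)⁻¹ = xG hD (wordRootF C.tabs ws r) t' := by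
  obtain ⟨t₁, ht₁⟩ := Cfsg.Agent.S1036.conj_root_elem D hD h hh (xG hD r t) r hr t rfl
  have e1 : h * xG hD r t * h⁻¹ = xG hD r t₁ := Units.ext ht₁
  have e2 : nW hD C ws * h * xG hD r t * (nW hD C ws * h)⁻¹
      = nW hD C ws * (h * xG hD r t * h⁻¹) * (nW hD C ws)⁻¹ := by group
  refine ⟨(wordSignF C.tabs ws r : F) * t₁, ?_, ?_⟩
  · intro ht hzero
    have h3 : nW hD C ws * h * xG hD r t * (nW hD C ws * h)⁻¹ = 1 := by
      rw [e2, e1, nW_conj_xG hD C ws hws r hr, hzero, xG_zero]
    have h4 : xG hD r t = 1 := by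
      have : xG hD r t = (nW hD C ws * h)⁻¹ * (nW hD C ws * h * xG hD r t * (nW hD C ws * h)⁻¹)
          * (nW hD C ws * h) := by group
      rw [this, h3]; group
    have h5 : D.x F r t = 1 := by
      have := congrArg Units.val h4
      simpa using this
    exact ht ((Cfsg.Agent.S1024.result D hD r hr t).mp h5)
  · rw [e2, e1, nW_conj_xG hD C ws hws r hr]

/-- Two expressions of the same element of `N` as a word times an element of `H` induce the same permutation of the
roots. -/
theorem wordRootF_eq_of_eq (hD : D ∈ [chevG2, chevB2, chevD4, chevF4, chevE6, chevE7, chevE8])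
    (C : ChevData.{u} D) (ws ws' : List ℕ) (hws : ∀ i ∈ ws, i < D.rank) (hws' : ∀ i ∈ ws', i < D.rank)
    (h h' : GL D.Idx F) (hh : h ∈ D.diagonalSubgroup F) (hh' : h' ∈ D.diagonalSubgroup F)
    (e : nW hD C ws * h = nW hD C ws' * h') (r : ℕ) (hr : r < D.nroots) :
    wordRootF C.tabs ws' r = wordRootF C.tabs ws r := by
  obtain ⟨t₁, ht₁, h1⟩ := word_conj_xG hD C ws hws h hh r hr (1 : F)
  obtain ⟨t₂, -, h2⟩ := word_conj_xG hD C ws' hws' h' hh' r hr (1 : F)
  rw [e, h2] at h1
  exact xG_inj_root hD _ _ (wordRootF_lt C ws hws r hr) (wordRootF_lt C ws' hws' r hr) t₁ t₂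
    (ht₁ one_ne_zero) h1.symm

/-- An element of `N` (a word times an element of `H`) which sends every positive root to a positive root lies in
`H`. -/
theorem mem_diagonal_of_pos (hD : D ∈ [chevG2, chevB2, chevD4, chevF4, chevE6, chevE7, chevE8])
    (C : ChevData.{u} D) (ws : List ℕ) (hws : ∀ i ∈ ws, i < D.rank)
    (hpos : ∀ r, D.IsPosRoot r → D.nroots / 2 ≤ wordRootF C.tabs ws r) :
    nW (F := F) hD C ws ∈ D.diagonalSubgroup F := by
  obtain ⟨hBG, hNG, -⟩ := Cfsg.Agent.S1043.result (F := F) D hD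
  have hBN : D.borelSubgroup F ⊓ D.monomialSubgroup F = D.diagonalSubgroup F :=
    (Cfsg.Agent.S1040.result D hD).2
  obtain ⟨P, hPB, hPN, -⟩ := Cfsg.Agent.S1042.exists_bnPair (F := F) D hD C
  have hnN : nW (F := F) hD C ws ∈ D.monomialSubgroup F := nW_mem_monomial hD C ws
  -- `n U n⁻¹ ≤ U`
  have hU : ∀ u ∈ D.posUnipotent F, nW hD C ws * u * (nW hD C ws)⁻¹ ∈ D.posUnipotent F := by
    intro u hu
    have hle : D.posUnipotent F ≤ (D.posUnipotent F).comap (MulAut.conj (nW (F := F) hD C ws)).toMonoidHom := by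
      unfold ChevalleyDatum.posUnipotent
      rw [Subgroup.closure_le]
      rintro g ⟨r, t, hr, hg⟩
      have hg' : g = xG hD r t := Units.ext hg
      rw [SetLike.mem_coe, Subgroup.mem_comap]
      show nW hD C ws * g * (nW hD C ws)⁻¹ ∈ _
      rw [hg', nW_conj_xG hD C ws hws r hr.1]
      exact Subgroup.subset_closure ⟨_, _, (isPosRoot_iff hD _).mpr
        ⟨wordRootF_lt C ws hws r hr.1, hpos r hr⟩, rfl⟩
    exact hle hu
  have hB : ∀ b ∈ D.borelSubgroup F, nW hD C ws * b * (nW hD C ws)⁻¹ ∈ D.borelSubgroup F := by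
    intro b hb
    obtain ⟨u, hu, h, hh, rfl⟩ := (mem_borel_iff D hD b).mp hb
    have e : nW hD C ws * (u * h) * (nW hD C ws)⁻¹
        = (nW hD C ws * u * (nW hD C ws)⁻¹) * (nW hD C ws * h * (nW hD C ws)⁻¹) := by group
    rw [e]
    exact mul_mem (borel_of_posUnipotent _ (hU u hu)) (borel_of_diagonal _ (nW_conj_H hD C ws h hh))
  have hmem : (⟨nW hD C ws, hNG hnN⟩ : ↥(D.group F)) ∈ P.B := by
    apply mem_of_conj_le_N P (le_refl P.B)
    · rw [hPN, Subgroup.mem_subgroupOf]; exact hnN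
    · intro b hb
      rw [hPB, Subgroup.mem_subgroupOf] at hb ⊢
      exact hB _ hb
  rw [hPB, Subgroup.mem_subgroupOf] at hmem
  rw [← hBN]
  exact Subgroup.mem_inf.mpr ⟨hmem, hnN⟩

end Cfsg.Agent.Lib.Helper18
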