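/-
helper18: the cell `B n_w B = B n_w P_w`, with `P_w` the ordered products over the positive roots which `w` makes
negative, with unique expression; the kernel of the action of `N` on the roots.
-/
import Cfsg.Agent.Lib.Helper18.Order1

set_option autoImplicit false

namespace Cfsg.Agent.Lib.Helper18

open Cfsg.Lie Cfsg.Agent.Lib.Helper17 Cfsg.Agent.Lib.Helper6

universe u

variable {F : Type u} [Field F] {D : ChevalleyDatum}

theorem mem_posRoots' (D : ChevalleyDatum) (r : ℕ) : r ∈ D.posRoots ↔ D.IsPosRoot r := by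
  unfold ChevalleyDatum.posRoots
  rw [List.mem_filter, List.mem_range, decide_eq_true_eq]
  exact ⟨fun h => h.2, fun h => ⟨h.1, h⟩⟩

theorem posRoots_sorted' (D : ChevalleyDatum) : D.posRoots.Pairwise (· < ·) := by
  unfold ChevalleyDatum.posRoots
  exact List.Pairwise.filter _ List.pairwise_lt_range

theorem posRoots_nodup' (D : ChevalleyDatum) : D.posRoots.Nodup :=
  (posRoots_sorted' D).imp (fun h => Nat.ne_of_lt h)

/-- The positive roots made negative by the word `ws`. -/
def negList (C : ChevData.{u} D) (ws : List ℕ) : List ℕ :=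
  D.posRoots.filter fun r => decide (wordRootF C.tabs ws r < D.nroots / 2)

/-- The positive roots kept positive by the word `ws`. -/
def posList (C : ChevData.{u} D) (ws : List ℕ) : List ℕ :=
  D.posRoots.filter fun r => !decide (wordRootF C.tabs ws r < D.nroots / 2)

theorem mem_negList (C : ChevData.{u} D) (ws : List ℕ) (r : ℕ) :
    r ∈ negList C ws ↔ D.IsPosRoot r ∧ wordRootF C.tabs ws r < D.nroots / 2 := by
  unfold negList
  rw [List.mem_filter, mem_posRoots', decide_eq_true_eq]

theorem mem_posList (C : ChevData.{u} D) (ws : List ℕ) (r : ℕ) :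
    r ∈ posList C ws ↔ D.IsPosRoot r ∧ ¬ wordRootF C.tabs ws r < D.nroots / 2 := by
  unfold posList
  rw [List.mem_filter, mem_posRoots', Bool.not_eq_true', decide_eq_false_iff_not]

theorem negList_sorted (C : ChevData.{u} D) (ws : List ℕ) : (negList C ws).Pairwise (· < ·) :=
  List.Pairwise.filter _ (posRoots_sorted' D)

theorem posList_append_negList_perm (C : ChevData.{u} D) (ws : List ℕ) :
    List.Perm (posList C ws ++ negList C ws) D.posRoots :=
  List.perm_append_comm.trans (List.filter_append_perm _ D.posRoots)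

section Cell

variable (hD : D ∈ [chevG2, chevB2, chevD4, chevF4, chevE6, chevE7, chevE8]) (C : ChevData.{u} D)

include hD C

/-- Conjugating an ordered product over roots made negative lands in `V`. -/
theorem conj_word_mem_negUnipotent (ws : List ℕ) (hws : ∀ i ∈ ws, i < D.rank) (w : List (ℕ × F))
    (hw : ∀ a ∈ w, a.1 ∈ negList C ws) :
    nW hD C ws * wordG hD w * (nW hD C ws)⁻¹ ∈ D.negUnipotent F := by
  induction w with
  | nil => simp [wordG_nil, one_mem]
  | cons a w ih =>
    rw [wordG_cons]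
    have e : nW hD C ws * (xG hD a.1 a.2 * wordG hD w) * (nW hD C ws)⁻¹
        = (nW hD C ws * xG hD a.1 a.2 * (nW hD C ws)⁻¹) * (nW hD C ws * wordG hD w * (nW hD C ws)⁻¹) := by
      group
    rw [e]
    refine mul_mem ?_ (ih fun b hb => hw b (List.mem_cons_of_mem _ hb))
    have ha := (mem_negList C ws a.1).mp (hw a List.mem_cons_self)
    rw [nW_conj_xG hD C ws hws a.1 ha.1.1]
    exact Subgroup.subset_closure ⟨_, _, isNegRoot_of_lt D (signOK_of_mem D hD) _
      (wordRootF_lt C ws hws a.1 ha.1.1) ha.2, rfl⟩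

/-- Conjugating an ordered product over roots kept positive lands in `U`. -/
theorem conj_prodL_posList_mem (ws : List ℕ) (hws : ∀ i ∈ ws, i < D.rank) (l : List ℕ)
    (hl : ∀ r ∈ l, r ∈ posList C ws) (t : ℕ → F) :
    nW hD C ws * prodL hD l t * (nW hD C ws)⁻¹ ∈ D.posUnipotent F := by
  induction l with
  | nil => simp [prodL_nil, one_mem]
  | cons a l ih =>
    rw [prodL_cons]
    have e : nW hD C ws * (xG hD a (t a) * prodL hD l t) * (nW hD C ws)⁻¹
        = (nW hD C ws * xG hD a (t a) * (nW hD C ws)⁻¹) * (nW hD C ws * prodL hD l t * (nW hD C ws)⁻¹) := by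
      group
    rw [e]
    refine mul_mem ?_ (ih fun b hb => hl b (List.mem_cons_of_mem _ hb))
    have ha := (mem_posList C ws a).mp (hl a List.mem_cons_self)
    rw [nW_conj_xG hD C ws hws a ha.1.1]
    exact xG_mem_posUnipotent hD _ _ ((isPosRoot_iff hD _).mpr
      ⟨wordRootF_lt C ws hws a ha.1.1, by omega⟩)

/-- Every element of `B n_w B` is `b n_w u` with `u` an ordered product over the roots made negative by `w`. -/
theorem exists_cell_form (L : LevelData D) (ws : List ℕ) (hws : ∀ i ∈ ws, i < D.rank) (x y : GL D.Idx F)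
    (hx : x ∈ D.borelSubgroup F) (hy : y ∈ D.borelSubgroup F) :
    ∃ b ∈ D.borelSubgroup F, ∃ t : ℕ → F, x * nW hD C ws * y = b * nW hD C ws * prodL hD (negList C ws) t := by
  obtain ⟨u, hu, h, hh, huh⟩ := (mem_borel_iff D hD _).mp hy
  have hu' : h⁻¹ * u * h ∈ D.posUnipotent F := by
    have := ((Cfsg.Agent.S1036.result D hD).1 (inv_mem hh) u).mp hu
    rwa [inv_inv] at this
  have hnh : nW hD C ws * h * (nW hD C ws)⁻¹ ∈ D.diagonalSubgroup F := nW_conj_H hD C ws h hh
  have hperm := posList_append_negList_perm C ws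
  have hl : ∀ r ∈ posList C ws ++ negList C ws, D.IsPosRoot r :=
    fun r hr => (mem_posRoots' D r).mp (hperm.mem_iff.mp hr)
  obtain ⟨t, ht⟩ := exists_prodL hD C L _ hl (hperm.nodup_iff.mpr (posRoots_nodup' D))
    (fun r hr => hperm.mem_iff.mpr ((mem_posRoots' D r).mpr hr)) _ hu'
  rw [prodL_append] at ht
  refine ⟨x * (nW hD C ws * h * (nW hD C ws)⁻¹)
    * (nW hD C ws * prodL hD (posList C ws) t * (nW hD C ws)⁻¹), ?_, t, ?_⟩
  · exact mul_mem (mul_mem hx (borel_of_diagonal _ hnh))
      (borel_of_posUnipotent _ (conj_prodL_posList_mem hD C ws hws _ (fun r hr => hr) t))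
  · have e : y = h * (prodL hD (posList C ws) t * prodL hD (negList C ws) t) := by
      rw [← ht, ← huh]; group
    rw [e]
    group

/-- Uniqueness in the cell. -/
theorem cell_form_unique (ws : List ℕ) (hws : ∀ i ∈ ws, i < D.rank) (b b' : GL D.Idx F)
    (hb : b ∈ D.borelSubgroup F) (hb' : b' ∈ D.borelSubgroup F) (t t' : ℕ → F)
    (h : b * nW hD C ws * prodL hD (negList C ws) t = b' * nW hD C ws * prodL hD (negList C ws) t') :
    b = b' ∧ ∀ r ∈ negList C ws, t r = t' r := by
  have hmem : ∀ r ∈ negList C ws, D.IsPosRoot r := fun r hr => ((mem_negList C ws r).mp hr).1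
  set n := nW (F := F) hD C ws with hn
  set u := prodL hD (negList C ws) t with hu
  set u' := prodL hD (negList C ws) t' with hu'
  have h1 : n * (u * u'⁻¹) * n⁻¹ ∈ D.negUnipotent F := by
    have e1 : u * u'⁻¹ = wordG hD ((negList C ws).map (fun r => (r, t r))
        ++ invWord ((negList C ws).map fun r => (r, t' r))) := by
      rw [wordG_append, wordG_invWord, ← prodL_eq_wordG, ← prodL_eq_wordG]
    rw [e1]
    apply conj_word_mem_negUnipotent hD C ws hws
    intro a ha
    rcases List.mem_append.mp ha with ha | ha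
    · rw [List.mem_map] at ha
      obtain ⟨r, hr, rfl⟩ := ha
      exact hr
    · obtain ⟨c, hc, hac⟩ := mem_invWord ha
      rw [List.mem_map] at hc
      obtain ⟨r, hr, rfl⟩ := hc
      rw [hac]
      exact hr
  have h2 : n * (u * u'⁻¹) * n⁻¹ = b⁻¹ * b' := by
    have e : n * (u * u'⁻¹) * n⁻¹ = b⁻¹ * (b * n * u) * u'⁻¹ * n⁻¹ := by group
    rw [e, h]; group
  have h3 : n * (u * u'⁻¹) * n⁻¹ ∈ D.borelSubgroup F ⊓ D.negUnipotent F := by
    refine Subgroup.mem_inf.mpr ⟨?_, h1⟩
    rw [h2]
    exact mul_mem (inv_mem hb) hb'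
  rw [(Cfsg.Agent.S1037.result D hD).1, Subgroup.mem_bot] at h3
  have h4 : u * u'⁻¹ = 1 := by
    have : u * u'⁻¹ = n⁻¹ * (n * (u * u'⁻¹) * n⁻¹) * n := by group
    rw [this, h3]; group
  have h5 : u = u' := mul_inv_eq_one.mp h4
  constructor
  · rw [h5] at h
    exact mul_right_cancel (mul_right_cancel h)
  · exact prodL_injective hD (lexOK_of_mem D hD) (bezOK_of_mem D hD) (negList C ws) hmem
      (negList_sorted C ws) t t' h5

/-- An element of `N` which conjugates every positive root element to a positive root element lies in `H`. -/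
theorem mem_diagonal_of_conj_pos (m : GL D.Idx F) (hm : m ∈ D.monomialSubgroup F)
    (hpos : ∀ r, D.IsPosRoot r → ∃ (r' : ℕ) (t' : F), D.IsPosRoot r' ∧ m * xG hD r 1 * m⁻¹ = xG hD r' t') :
    m ∈ D.diagonalSubgroup F := by
  obtain ⟨ws, h, hws, hh, rfl⟩ := isWordH_of_mem_monomial hD C m hm
  refine mul_mem (mem_diagonal_of_pos hD C ws hws ?_) hh
  intro r hr
  obtain ⟨r', t', hr', h1⟩ := hpos r hr
  obtain ⟨t₁, ht₁, h2⟩ := word_conj_xG hD C ws hws h hh r hr.1 (1 : F)
  rw [h2] at h1
  have := xG_inj_root hD _ _ (wordRootF_lt C ws hws r hr.1) hr'.1 t₁ t' (ht₁ one_ne_zero) h1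
  rw [← this]
  exact ((isPosRoot_iff hD r').mp hr').2

end Cell

end Cfsg.Agent.Lib.Helper18
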