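/-
helper18: the Weyl group as a group of permutations of the root indices, and the formula
`|G| = |B| ∑_{w ∈ W} q^{N(w)}`.
-/
import Cfsg.Agent.Lib.Helper18.Order2

set_option autoImplicit false

namespace Cfsg.Agent.Lib.Helper18

open Cfsg.Lie Cfsg.Agent.Lib.Helper17 Cfsg.Agent.Lib.Helper6

universe u

variable {F : Type u} [Field F] {D : ChevalleyDatum}

/-- The reflection in the `i`-th fundamental root as a permutation of the root indices. -/
def sigma (C : ChevData.{u} D) (i : Fin D.rank) : Equiv.Perm (Fin D.nroots) :=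
  Function.Involutive.toPerm (fun r => ⟨C.w i.val r.val, C.w_lt i.val r.val i.isLt r.isLt⟩)
    (fun r => Fin.ext (C.w_w i.val r.val i.isLt r.isLt))

theorem sigma_apply (C : ChevData.{u} D) (i : Fin D.rank) (r : Fin D.nroots) :
    (sigma C i r).val = C.w i.val r.val := rfl

theorem sigma_mul_self (C : ChevData.{u} D) (i : Fin D.rank) : sigma C i * sigma C i = 1 := by
  ext r
  rw [Equiv.Perm.mul_apply, sigma_apply, sigma_apply, Equiv.Perm.one_apply]
  exact C.w_w i.val r.val i.isLt r.isLt

theorem sigma_inv (C : ChevData.{u} D) (i : Fin D.rank) : (sigma C i)⁻¹ = sigma C i :=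
  inv_eq_of_mul_eq_one_left (sigma_mul_self C i)

/-- The permutation of a word of fundamental reflections (the last letter acts first). -/
def wordPerm (C : ChevData.{u} D) (ws : List ℕ) : Equiv.Perm (Fin D.nroots) :=
  (ws.map fun i => if h : i < D.rank then sigma C ⟨i, h⟩ else 1).prod

theorem wordPerm_nil (C : ChevData.{u} D) : wordPerm C [] = 1 := rfl

theorem wordPerm_cons (C : ChevData.{u} D) (i : ℕ) (hi : i < D.rank) (ws : List ℕ) :
    wordPerm C (i :: ws) = sigma C ⟨i, hi⟩ * wordPerm C ws := by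
  unfold wordPerm
  rw [List.map_cons, List.prod_cons, dif_pos hi]

theorem wordPerm_append (C : ChevData.{u} D) (ws ws' : List ℕ) :
    wordPerm C (ws ++ ws') = wordPerm C ws * wordPerm C ws' := by
  unfold wordPerm
  rw [List.map_append, List.prod_append]

theorem wordPerm_apply (C : ChevData.{u} D) (ws : List ℕ) (hws : ∀ i ∈ ws, i < D.rank) (r : Fin D.nroots) :
    (wordPerm C ws r).val = wordRootF C.tabs ws r.val := by
  induction ws with
  | nil => rfl
  | cons i ws ih =>
    rw [wordPerm_cons C i (hws i List.mem_cons_self), Equiv.Perm.mul_apply, sigma_apply,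
      ih fun j hj => hws j (List.mem_cons_of_mem _ hj), wordRootF_cons]
    rfl

theorem wordPerm_reverse (C : ChevData.{u} D) (ws : List ℕ) (hws : ∀ i ∈ ws, i < D.rank) :
    wordPerm C ws.reverse = (wordPerm C ws)⁻¹ := by
  induction ws with
  | nil => simp [wordPerm_nil]
  | cons i ws ih =>
    have hi := hws i List.mem_cons_self
    rw [List.reverse_cons, wordPerm_append, ih fun j hj => hws j (List.mem_cons_of_mem _ hj),
      wordPerm_cons C i hi, wordPerm_cons C i hi, wordPerm_nil, mul_one, mul_inv_rev, sigma_inv]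

/-- The Weyl group, as a group of permutations of the root indices. -/
def Wgrp (C : ChevData.{u} D) : Subgroup (Equiv.Perm (Fin D.nroots)) :=
  Subgroup.closure (Set.range (sigma C))

theorem wordPerm_mem (C : ChevData.{u} D) (ws : List ℕ) (hws : ∀ i ∈ ws, i < D.rank) :
    wordPerm C ws ∈ Wgrp C := by
  induction ws with
  | nil => exact one_mem _
  | cons i ws ih =>
    rw [wordPerm_cons C i (hws i List.mem_cons_self)]
    exact mul_mem (Subgroup.subset_closure ⟨_, rfl⟩) (ih fun j hj => hws j (List.mem_cons_of_mem _ hj))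

theorem exists_word_of_mem_Wgrp (C : ChevData.{u} D) (w : Equiv.Perm (Fin D.nroots)) (hw : w ∈ Wgrp C) :
    ∃ ws : List ℕ, (∀ i ∈ ws, i < D.rank) ∧ wordPerm C ws = w := by
  unfold Wgrp at hw
  induction hw using Subgroup.closure_induction with
  | mem w hw =>
    obtain ⟨i, rfl⟩ := hw
    refine ⟨[i.val], ?_, ?_⟩
    · intro j hj
      rw [List.mem_singleton] at hj
      rw [hj]; exact i.isLt
    · rw [wordPerm_cons C i.val i.isLt, wordPerm_nil, mul_one]
  | one => exact ⟨[], by simp, rfl⟩
  | mul w₁ w₂ _ _ h1 h2 =>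
    obtain ⟨ws₁, hws₁, rfl⟩ := h1
    obtain ⟨ws₂, hws₂, rfl⟩ := h2
    refine ⟨ws₁ ++ ws₂, ?_, wordPerm_append C ws₁ ws₂⟩
    intro i hi
    rcases List.mem_append.mp hi with h | h
    · exact hws₁ i h
    · exact hws₂ i h
  | inv w _ h1 =>
    obtain ⟨ws, hws, rfl⟩ := h1
    exact ⟨ws.reverse, fun i hi => hws i (List.mem_reverse.mp hi), wordPerm_reverse C ws hws⟩

/-- The number of positive roots made negative by a permutation of the root indices. -/
def invCount (D : ChevalleyDatum) (w : Equiv.Perm (Fin D.nroots)) : ℕ :=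
  (Finset.univ.filter fun r : Fin D.nroots => D.nroots / 2 ≤ r.val ∧ (w r).val < D.nroots / 2).card

theorem length_negList (hD : D ∈ [chevG2, chevB2, chevD4, chevF4, chevE6, chevE7, chevE8])
    (C : ChevData.{u} D) (ws : List ℕ) (hws : ∀ i ∈ ws, i < D.rank) :
    (negList C ws).length = invCount D (wordPerm C ws) := by
  have hnd : (negList C ws).Nodup := (negList_sorted C ws).imp (fun h => Nat.ne_of_lt h)
  rw [← List.toFinset_card_of_nodup hnd]
  unfold invCount
  rw [← Finset.card_map ⟨Fin.val, Fin.val_injective⟩]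
  congr 1
  ext r
  rw [List.mem_toFinset, mem_negList, Finset.mem_map]
  constructor
  · rintro ⟨hr, hlt⟩
    have hp := (isPosRoot_iff hD r).mp hr
    refine ⟨⟨r, hp.1⟩, ?_, rfl⟩
    rw [Finset.mem_filter]
    refine ⟨Finset.mem_univ _, hp.2, ?_⟩
    rw [wordPerm_apply C ws hws]
    exact hlt
  · rintro ⟨r', hr', rfl⟩
    rw [Finset.mem_filter] at hr'
    refine ⟨(isPosRoot_iff hD _).mpr ⟨r'.isLt, hr'.2.1⟩, ?_⟩
    have := hr'.2.2
    rwa [wordPerm_apply C ws hws] at this

end Cfsg.Agent.Lib.Helper18
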