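/-
helper18: the bijection `∐_{w ∈ W} B × F^{N(w)} → G`, `(w, b, t) ↦ b n_w ∏ x_r(t_r)`, and the formula
`|G| = |B| ∑_{w ∈ W} q^{N(w)}`.
-/
import Cfsg.Agent.Lib.Helper18.Order3

set_option autoImplicit false

namespace Cfsg.Agent.Lib.Helper18

open Cfsg.Lie Cfsg.Agent.Lib.Helper17 Cfsg.Agent.Lib.Helper6

universe u

variable {F : Type u} [Field F] {D : ChevalleyDatum}

/-- The elements of the Weyl group, as a finset. -/
noncomputable def WF (C : ChevData.{u} D) : Finset (Equiv.Perm (Fin D.nroots)) := by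
  classical exact Finset.univ.filter fun w => w ∈ Wgrp C

theorem mem_WF (C : ChevData.{u} D) (w : Equiv.Perm (Fin D.nroots)) : w ∈ WF C ↔ w ∈ Wgrp C := by
  unfold WF
  simp only [Finset.mem_filter, Finset.mem_univ, true_and]

/-- A chosen word for each element of the Weyl group. -/
noncomputable def wd (C : ChevData.{u} D) (w : ↥(WF C)) : List ℕ :=
  Classical.choose (exists_word_of_mem_Wgrp C w.1 ((mem_WF C w.1).mp w.2))

theorem wd_lt (C : ChevData.{u} D) (w : ↥(WF C)) : ∀ i ∈ wd C w, i < D.rank :=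
  (Classical.choose_spec (exists_word_of_mem_Wgrp C w.1 ((mem_WF C w.1).mp w.2))).1

theorem wordPerm_wd (C : ChevData.{u} D) (w : ↥(WF C)) : wordPerm C (wd C w) = w.1 :=
  (Classical.choose_spec (exists_word_of_mem_Wgrp C w.1 ((mem_WF C w.1).mp w.2))).2

/-- A family of coefficients indexed by the members of a list, extended by zero. -/
noncomputable def extL (l : List ℕ) (t : {r // r ∈ l} → F) : ℕ → F :=
  fun r => if h : r ∈ l then t ⟨r, h⟩ else 0

theorem extL_of_mem (l : List ℕ) (t : {r // r ∈ l} → F) (r : ℕ) (h : r ∈ l) : extL l t r = t ⟨r, h⟩ := by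
  unfold extL
  rw [dif_pos h]

section Main

variable (hD : D ∈ [chevG2, chevB2, chevD4, chevF4, chevE6, chevE7, chevE8]) (C : ChevData.{u} D)

include hD C

/-- Two double coset representatives in `N` of the same element differ by an element of `H`. -/
theorem inv_mul_mem_diagonal_of_eq (b b' n n' u u' : GL D.Idx F) (hb : b ∈ D.borelSubgroup F)
    (hb' : b' ∈ D.borelSubgroup F) (hn : n ∈ D.monomialSubgroup F) (hn' : n' ∈ D.monomialSubgroup F)
    (hu : u ∈ D.borelSubgroup F) (hu' : u' ∈ D.borelSubgroup F) (h : b * n * u = b' * n' * u') :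
    n⁻¹ * n' ∈ D.diagonalSubgroup F := by
  obtain ⟨hBG, hNG, -⟩ := Cfsg.Agent.S1043.result (F := F) D hD
  have hBN : D.borelSubgroup F ⊓ D.monomialSubgroup F = D.diagonalSubgroup F :=
    (Cfsg.Agent.S1040.result D hD).2
  obtain ⟨P, hPB, hPN, -⟩ := Cfsg.Agent.S1042.exists_bnPair (F := F) D hD C
  have hnP : (⟨n, hNG hn⟩ : ↥(D.group F)) ∈ P.N := by
    rw [hPN, Subgroup.mem_subgroupOf]; exact hn
  have hnP' : (⟨n', hNG hn'⟩ : ↥(D.group F)) ∈ P.N := by
    rw [hPN, Subgroup.mem_subgroupOf]; exact hn'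
  have hx : b'⁻¹ * b ∈ D.borelSubgroup F := mul_mem (inv_mem hb') hb
  have hy : u * u'⁻¹ ∈ D.borelSubgroup F := mul_mem hu (inv_mem hu')
  have hdc : InDC P (⟨n, hNG hn⟩ : ↥(D.group F)) ⟨n', hNG hn'⟩ := by
    refine ⟨⟨b'⁻¹ * b, hBG hx⟩, ?_, ⟨u * u'⁻¹, hBG hy⟩, ?_, ?_⟩
    · rw [hPB, Subgroup.mem_subgroupOf]; exact hx
    · rw [hPB, Subgroup.mem_subgroupOf]; exact hy
    · apply Subtype.ext
      show n' = b'⁻¹ * b * n * (u * u'⁻¹)
      have e : b'⁻¹ * b * n * (u * u'⁻¹) = b'⁻¹ * (b * n * u) * u'⁻¹ := by group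
      rw [e, h]; group
  have hrel := bruhat_unique P hnP hnP' hdc
  unfold Cfsg.Agent.Lib.Helper6.Rel at hrel
  rw [hPB, Subgroup.mem_subgroupOf] at hrel
  rw [← hBN]
  have hrel' : n⁻¹ * n' ∈ D.borelSubgroup F := by simpa using hrel
  exact Subgroup.mem_inf.mpr ⟨hrel', mul_mem (inv_mem hn) hn'⟩

/-- Two words with the same permutation give the same element of `N` modulo `H`. -/
theorem nW_inv_mul_nW_mem (ws ws' : List ℕ) (hws : ∀ i ∈ ws, i < D.rank) (hws' : ∀ i ∈ ws', i < D.rank)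
    (hperm : wordPerm C ws = wordPerm C ws') :
    (nW (F := F) hD C ws)⁻¹ * nW hD C ws' ∈ D.diagonalSubgroup F := by
  apply mem_diagonal_of_conj_pos hD C _ (mul_mem (inv_mem (nW_mem_monomial (F := F) hD C ws))
    (nW_mem_monomial (F := F) hD C ws'))
  intro r hr
  obtain ⟨ε, -, hε⟩ := nW_inv_conj_xG (F := F) hD C ws hws (wordRootF C.tabs ws' r)
    (wordRootF_lt C ws' hws' r hr.1)
  refine ⟨r, (ε : F) * ((wordSignF C.tabs ws' r : F) * 1), hr, ?_⟩
  have e : (nW (F := F) hD C ws)⁻¹ * nW hD C ws' * xG hD r 1 * ((nW hD C ws)⁻¹ * nW hD C ws')⁻¹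
      = (nW hD C ws)⁻¹ * (nW hD C ws' * xG hD r 1 * (nW hD C ws')⁻¹) * nW hD C ws := by group
  rw [e, nW_conj_xG hD C ws' hws' r hr.1, hε]
  congr 1
  -- the root: `ws.reverse (ws' r) = r`
  have h1 : wordRootF C.tabs ws.reverse (wordRootF C.tabs ws' r)
      = (wordPerm C ws.reverse (wordPerm C ws' ⟨r, hr.1⟩)).val := by
    rw [wordPerm_apply C ws.reverse (fun i hi => hws i (List.mem_reverse.mp hi)), wordPerm_apply C ws' hws']
  rw [h1, wordPerm_reverse C ws hws, ← hperm]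
  simp

/-- The parametrisation of the group by the cells. -/
noncomputable def cellMap :
    (Σ w : ↥(WF C), ↥(D.borelSubgroup F) × ({r // r ∈ negList C (wd C w)} → F)) → ↥(D.group F) :=
  fun a => ⟨(a.2.1 : GL D.Idx F) * nW hD C (wd C a.1) * prodL hD (negList C (wd C a.1)) (extL _ a.2.2), by
    obtain ⟨hBG, hNG, -⟩ := Cfsg.Agent.S1043.result (F := F) D hD
    refine mul_mem (mul_mem (hBG a.2.1.2) (hNG (nW_mem_monomial hD C _))) (hBG ?_)
    exact borel_of_posUnipotent _ (prodL_mem_posUnipotent hD _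
      (fun r hr => ((mem_negList C _ r).mp hr).1) _)⟩

theorem cellMap_injective : Function.Injective (cellMap (F := F) hD C) := by
  rintro ⟨w, b, t⟩ ⟨w', b', t'⟩ h
  have h0 : (b : GL D.Idx F) * nW hD C (wd C w) * prodL hD (negList C (wd C w)) (extL _ t)
      = (b' : GL D.Idx F) * nW hD C (wd C w') * prodL hD (negList C (wd C w')) (extL _ t') :=
    congrArg Subtype.val h
  have hu : ∀ (w : ↥(WF C)) (t : {r // r ∈ negList C (wd C w)} → F),
      prodL hD (negList C (wd C w)) (extL _ t) ∈ D.borelSubgroup F := fun w t =>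
    borel_of_posUnipotent _ (prodL_mem_posUnipotent hD _ (fun r hr => ((mem_negList C _ r).mp hr).1) _)
  have h1 := inv_mul_mem_diagonal_of_eq hD C _ _ _ _ _ _ b.2 b'.2 (nW_mem_monomial hD C _)
    (nW_mem_monomial hD C _) (hu w t) (hu w' t') h0
  -- the permutations agree
  have hww : w = w' := by
    apply Subtype.ext
    rw [← wordPerm_wd C w, ← wordPerm_wd C w']
    ext r
    rw [wordPerm_apply C _ (wd_lt C w), wordPerm_apply C _ (wd_lt C w')]
    have e : nW (F := F) hD C (wd C w) * ((nW hD C (wd C w))⁻¹ * nW hD C (wd C w')) = nW hD C (wd C w') * 1 := by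
      group
    exact (wordRootF_eq_of_eq hD C _ _ (wd_lt C w) (wd_lt C w') _ 1 h1 (one_mem _) e r.val r.isLt).symm
  subst hww
  obtain ⟨hb, ht⟩ := cell_form_unique hD C (wd C w) (wd_lt C w) _ _ b.2 b'.2 _ _ h0
  have hbb : b = b' := Subtype.ext hb
  have htt : t = t' := by
    funext r
    have := ht r.1 r.2
    rwa [extL_of_mem _ _ _ r.2, extL_of_mem _ _ _ r.2] at this
  rw [hbb, htt]

theorem cellMap_surjective (L : LevelData D) : Function.Surjective (cellMap (F := F) hD C) := by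
  rintro ⟨g, hg⟩
  obtain ⟨P, hPB, hPN, -⟩ := Cfsg.Agent.S1042.exists_bnPair (F := F) D hD C
  obtain ⟨n, hn, x, hx, y, hy, hxy⟩ := bruhat_exists P ⟨g, hg⟩
  rw [hPN, Subgroup.mem_subgroupOf] at hn
  rw [hPB, Subgroup.mem_subgroupOf] at hx hy
  have hg' : g = (x : GL D.Idx F) * n * y := by
    have := congrArg Subtype.val hxy
    simpa using this
  obtain ⟨ws, h, hws, hh, hnw⟩ := isWordH_of_mem_monomial hD C _ hn
  have hwW : wordPerm C ws ∈ WF C := (mem_WF C _).mpr (wordPerm_mem C ws hws)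
  let w : ↥(WF C) := ⟨wordPerm C ws, hwW⟩
  have hm := nW_inv_mul_nW_mem (F := F) hD C (wd C w) ws (wd_lt C w) hws (wordPerm_wd C w)
  -- `g = x n_w (m h y)`
  have hy' : (nW hD C (wd C w))⁻¹ * nW hD C ws * h * (y : GL D.Idx F) ∈ D.borelSubgroup F :=
    mul_mem (mul_mem (borel_of_diagonal _ hm) (borel_of_diagonal _ hh)) hy
  obtain ⟨b, hb, t, hbt⟩ := exists_cell_form hD C L (wd C w) (wd_lt C w) (x : GL D.Idx F) _ hx hy'
  refine ⟨⟨w, ⟨b, hb⟩, fun r => t r.1⟩, ?_⟩
  apply Subtype.ext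
  show b * nW hD C (wd C w) * prodL hD (negList C (wd C w)) (extL _ fun r => t r.1) = g
  have e1 : prodL hD (negList C (wd C w)) (extL _ fun r : {r // r ∈ negList C (wd C w)} => t r.1)
      = prodL hD (negList C (wd C w)) t := by
    apply prodL_congr
    intro r hr
    rw [extL_of_mem _ _ _ hr]
  rw [e1, ← hbt, hg', hnw]
  group

/-- `|G| = |B| ∑_{w ∈ W} q^{N(w)}`. -/
theorem card_group_eq [Fintype F] (L : LevelData D) :
    Nat.card ↥(D.group F) = Nat.card ↥(D.borelSubgroup F) * ∑ w ∈ WF C, Fintype.card F ^ invCount D w := by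
  rw [← Nat.card_congr (Equiv.ofBijective (cellMap (F := F) hD C)
    ⟨cellMap_injective hD C, cellMap_surjective hD C L⟩), Nat.card_sigma, Finset.mul_sum,
    ← Finset.sum_coe_sort (WF C)]
  apply Finset.sum_congr rfl
  intro w _
  rw [Nat.card_prod, Nat.card_fun, Nat.card_eq_fintype_card (α := F)]
  congr 2
  rw [Nat.card_eq_fintype_card, Fintype.card_of_subtype (negList C (wd C w)).toFinset (by simp),
    List.toFinset_card_of_nodup ((negList_sorted C _).imp (fun h => Nat.ne_of_lt h)),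
    length_negList hD C _ (wd_lt C w), wordPerm_wd]

end Main

end Cfsg.Agent.Lib.Helper18
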