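/-
helper18: polynomials with natural coefficients as lists (lowest degree first), to compare the Poincaré sum of a Weyl
group with the product of the geometric sums `1 + q + ⋯ + q^{d - 1}`.
-/
import Mathlib

set_option autoImplicit false

namespace Cfsg.Agent.Lib.Helper18

/-- The value at `q` of the polynomial with the coefficients `l`, lowest degree first. -/
def evalL (l : List ℕ) (q : ℕ) : ℕ := l.foldr (fun a acc => a + q * acc) 0

theorem evalL_nil (q : ℕ) : evalL [] q = 0 := rfl

theorem evalL_cons (a : ℕ) (l : List ℕ) (q : ℕ) : evalL (a :: l) q = a + q * evalL l q := rfl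

/-- The sum of two polynomials. -/
def addL : List ℕ → List ℕ → List ℕ
  | [], m => m
  | a :: l, [] => a :: l
  | a :: l, b :: m => (a + b) :: addL l m

theorem evalL_addL (l m : List ℕ) (q : ℕ) : evalL (addL l m) q = evalL l q + evalL m q := by
  induction l generalizing m with
  | nil => simp [addL, evalL_nil]
  | cons a l ih =>
    cases m with
    | nil => simp [addL, evalL_nil]
    | cons b m =>
      simp only [addL, evalL_cons, ih]
      ring

/-- A multiple of a polynomial. -/
def smulL (c : ℕ) (l : List ℕ) : List ℕ := l.map fun a => c * a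

theorem evalL_smulL (c : ℕ) (l : List ℕ) (q : ℕ) : evalL (smulL c l) q = c * evalL l q := by
  induction l with
  | nil => simp [smulL, evalL_nil]
  | cons a l ih =>
    have : smulL c (a :: l) = (c * a) :: smulL c l := rfl
    rw [this, evalL_cons, evalL_cons, ih]
    ring

/-- The product of two polynomials. -/
def mulL : List ℕ → List ℕ → List ℕ
  | [], _ => []
  | a :: l, m => addL (smulL a m) (0 :: mulL l m)

theorem evalL_mulL (l m : List ℕ) (q : ℕ) : evalL (mulL l m) q = evalL l q * evalL m q := by
  induction l with
  | nil => simp [mulL, evalL_nil]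
  | cons a l ih =>
    simp only [mulL, evalL_addL, evalL_smulL, evalL_cons, ih]
    ring

/-- The monomial `q ^ c`. -/
def monoL (c : ℕ) : List ℕ := List.replicate c 0 ++ [1]

theorem evalL_monoL (c q : ℕ) : evalL (monoL c) q = q ^ c := by
  induction c with
  | zero => simp [monoL, evalL_cons, evalL_nil]
  | succ c ih =>
    have : monoL (c + 1) = 0 :: monoL c := by
      unfold monoL
      rw [List.replicate_succ, List.cons_append]
    rw [this, evalL_cons, ih, pow_succ]
    ring

/-- The polynomial `∑ q ^ c` over the exponents `c` of a list. -/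
def polyOfCounts (cs : List ℕ) : List ℕ := cs.foldr (fun c acc => addL (monoL c) acc) []

theorem evalL_polyOfCounts (cs : List ℕ) (q : ℕ) :
    evalL (polyOfCounts cs) q = (cs.map fun c => q ^ c).sum := by
  induction cs with
  | nil => simp [polyOfCounts, evalL_nil]
  | cons c cs ih =>
    have : polyOfCounts (c :: cs) = addL (monoL c) (polyOfCounts cs) := rfl
    rw [this, evalL_addL, evalL_monoL, ih, List.map_cons, List.sum_cons]

/-- The geometric sum `1 + q + ⋯ + q ^ (d - 1)`. -/
def geomL (d : ℕ) : List ℕ := List.replicate d 1

theorem evalL_geomL (d q : ℕ) (hq : 1 ≤ q) : (q - 1) * evalL (geomL d) q + 1 = q ^ d := by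
  induction d with
  | zero => simp [geomL, evalL_nil]
  | succ d ih =>
    have : geomL (d + 1) = 1 :: geomL d := by
      unfold geomL
      rw [List.replicate_succ]
    rw [this, evalL_cons, pow_succ, ← ih]
    obtain ⟨k, rfl⟩ : ∃ k, q = k + 1 := ⟨q - 1, by omega⟩
    simp only [Nat.add_sub_cancel]
    ring

theorem evalL_geomL' (d q : ℕ) (hq : 1 ≤ q) : (q - 1) * evalL (geomL d) q = q ^ d - 1 := by
  rw [← evalL_geomL d q hq, Nat.add_sub_cancel]

/-- The product of a list of polynomials. -/
def prodLL (ls : List (List ℕ)) : List ℕ := ls.foldr mulL [1]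

theorem evalL_prodLL (ls : List (List ℕ)) (q : ℕ) :
    evalL (prodLL ls) q = (ls.map fun l => evalL l q).prod := by
  induction ls with
  | nil => simp [prodLL, evalL_cons, evalL_nil]
  | cons l ls ih =>
    have : prodLL (l :: ls) = mulL l (prodLL ls) := rfl
    rw [this, evalL_mulL, ih, List.map_cons, List.prod_cons]

/-- The product of the numbers `q ^ d - 1` over the degrees `d`, from the product of the geometric sums. -/
theorem prod_geomL (ds : List ℕ) (q : ℕ) (hq : 1 ≤ q) :
    (q - 1) ^ ds.length * evalL (prodLL (ds.map geomL)) q = (ds.map fun d => q ^ d - 1).prod := by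
  rw [evalL_prodLL, List.map_map]
  induction ds with
  | nil => simp
  | cons d ds ih =>
    rw [List.map_cons, List.map_cons, List.prod_cons, List.prod_cons, List.length_cons, pow_succ, ← ih,
      Function.comp_apply, ← evalL_geomL' d q hq]
    ring

end Cfsg.Agent.Lib.Helper18
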