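/-
helper18: parabolic subgroups of the Weyl group (as permutation groups of the root indices) and the additivity of the
number of inversions on a product `u v`, `u` a distinguished coset representative and `v` in the parabolic subgroup.
-/
import Cfsg.Agent.Lib.Helper18.Order4

set_option autoImplicit false

namespace Cfsg.Agent.Lib.Helper18

open Cfsg.Lie

universe u

variable {D : ChevalleyDatum}

namespace ChevData

variable (C : ChevData.{u} D)

theorem w_pos (i s : ℕ) (hi : i < D.rank) (hs : D.nroots / 2 ≤ s) (hs2 : s < D.nroots) (hne : s ≠ D.simple i) :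
    D.nroots / 2 ≤ C.w i s := by
  have hn := C.nroots_eq
  have hl := C.rank_eq
  have h := (C.spec.refl_pos i (hl ▸ hi) s (hn ▸ hs) (hn ▸ hs2) (C.hsimple i hi ▸ hne)).1
  rw [hn] at h
  exact h

theorem w_negIdx (i s : ℕ) (hi : i < D.rank) (hs : s < D.nroots) :
    C.w i (D.nroots - 1 - s) = D.nroots - 1 - C.w i s := by
  have hn := C.nroots_eq
  have hl := C.rank_eq
  have h := C.spec.refl_neg i (hl ▸ hi) s (hn ▸ hs)
  unfold FastDatum.neg at h
  rw [hn] at h
  exact h

end ChevData

/-- The index of the opposite root. -/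
def negF (D : ChevalleyDatum) (r : Fin D.nroots) : Fin D.nroots := ⟨D.nroots - 1 - r.val, by have := r.isLt; omega⟩

theorem negF_val (r : Fin D.nroots) : (negF D r).val = D.nroots - 1 - r.val := rfl

theorem negF_negF (r : Fin D.nroots) : negF D (negF D r) = r := by
  apply Fin.ext
  rw [negF_val, negF_val]
  have := r.isLt
  omega

theorem sigma_negF (C : ChevData.{u} D) (i : Fin D.rank) (r : Fin D.nroots) :
    sigma C i (negF D r) = negF D (sigma C i r) := by
  apply Fin.ext
  rw [sigma_apply, negF_val, negF_val, sigma_apply]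
  exact C.w_negIdx i.val r.val i.isLt r.isLt

/-- The reflections of the fundamental roots with index in `J`. -/
def genSet (C : ChevData.{u} D) (J : List ℕ) : Set (Equiv.Perm (Fin D.nroots)) :=
  {w | ∃ j ∈ J, ∃ h : j < D.rank, w = sigma C ⟨j, h⟩}

/-- The parabolic subgroup `W_J`. -/
def WJ (C : ChevData.{u} D) (J : List ℕ) : Subgroup (Equiv.Perm (Fin D.nroots)) :=
  Subgroup.closure (genSet C J)

theorem wordPerm_mem_WJ (C : ChevData.{u} D) (J : List ℕ) (ws : List ℕ)
    (hws : ∀ i ∈ ws, i ∈ J ∧ i < D.rank) : wordPerm C ws ∈ WJ C J := by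
  induction ws with
  | nil => exact one_mem _
  | cons i ws ih =>
    have hi := hws i List.mem_cons_self
    rw [wordPerm_cons C i hi.2]
    exact mul_mem (Subgroup.subset_closure ⟨i, hi.1, hi.2, rfl⟩)
      (ih fun j hj => hws j (List.mem_cons_of_mem _ hj))

theorem exists_word_of_mem_WJ (C : ChevData.{u} D) (J : List ℕ) (w : Equiv.Perm (Fin D.nroots))
    (hw : w ∈ WJ C J) : ∃ ws : List ℕ, (∀ i ∈ ws, i ∈ J ∧ i < D.rank) ∧ wordPerm C ws = w := by
  unfold WJ at hw
  induction hw using Subgroup.closure_induction with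
  | mem w hw =>
    obtain ⟨j, hj, hjr, rfl⟩ := hw
    refine ⟨[j], ?_, ?_⟩
    · intro i hi
      rw [List.mem_singleton] at hi
      rw [hi]; exact ⟨hj, hjr⟩
    · rw [wordPerm_cons C j hjr, wordPerm_nil, mul_one]
  | one => exact ⟨[], by simp, rfl⟩
  | mul w₁ w₂ _ _ h1 h2 =>
    obtain ⟨ws₁, hws₁, rfl⟩ := h1
    obtain ⟨ws₂, hws₂, rfl⟩ := h2
    refine ⟨ws₁ ++ ws₂, ?_, wordPerm_append C ws₁ ws₂⟩
    intro i hi
    rcases List.mem_append.mp hi with h | h
    · exact hws₁ i h
    · exact hws₂ i h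
  | inv w _ h1 =>
    obtain ⟨ws, hws, rfl⟩ := h1
    exact ⟨ws.reverse, fun i hi => hws i (List.mem_reverse.mp hi),
      wordPerm_reverse C ws fun i hi => (hws i hi).2⟩

theorem WJ_mono (C : ChevData.{u} D) {J J' : List ℕ} (h : ∀ j ∈ J', j ∈ J) : WJ C J' ≤ WJ C J := by
  apply Subgroup.closure_mono
  rintro w ⟨j, hj, hjr, rfl⟩
  exact ⟨j, h j hj, hjr, rfl⟩

theorem WJ_range (C : ChevData.{u} D) : WJ C (List.range D.rank) = Wgrp C := by
  unfold WJ Wgrp
  congr 1
  ext w
  constructor
  · rintro ⟨j, -, hjr, rfl⟩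
    exact ⟨⟨j, hjr⟩, rfl⟩
  · rintro ⟨i, rfl⟩
    exact ⟨i.val, List.mem_range.mpr i.isLt, i.isLt, rfl⟩

theorem WJ_nil (C : ChevData.{u} D) : WJ C [] = ⊥ := by
  unfold WJ
  rw [Subgroup.closure_eq_bot_iff]
  rintro w ⟨j, hj, -⟩
  exact absurd hj (List.not_mem_nil)

theorem mem_WJ_negF (C : ChevData.{u} D) (J : List ℕ) (w : Equiv.Perm (Fin D.nroots)) (hw : w ∈ WJ C J)
    (r : Fin D.nroots) : w (negF D r) = negF D (w r) := by
  obtain ⟨ws, hws, rfl⟩ := exists_word_of_mem_WJ C J w hw
  induction ws with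
  | nil => rfl
  | cons i ws ih =>
    have hi := hws i List.mem_cons_self
    rw [wordPerm_cons C i hi.2, Equiv.Perm.mul_apply, Equiv.Perm.mul_apply,
      ih (fun j hj => hws j (List.mem_cons_of_mem _ hj))
        (wordPerm_mem_WJ C J ws fun j hj => hws j (List.mem_cons_of_mem _ hj)), sigma_negF]

section Additivity

variable (hD : D ∈ [chevG2, chevB2, chevD4, chevF4, chevE6, chevE7, chevE8]) (C : ChevData.{u} D)
  (M : Fin D.nroots → Bool) (J' : List ℕ)
  (hM1 : ∀ j ∈ J', ∀ h : j < D.rank, ∀ r, M (sigma C ⟨j, h⟩ r) = M r)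
  (hM2 : ∀ j ∈ J', j < D.rank → ∀ r : Fin D.nroots, r.val = D.simple j → M r = true)

include hM1 in
theorem mem_WJ_mask (v : Equiv.Perm (Fin D.nroots)) (hv : v ∈ WJ C J') (r : Fin D.nroots) : M (v r) = M r := by
  obtain ⟨ws, hws, rfl⟩ := exists_word_of_mem_WJ C J' v hv
  induction ws with
  | nil => rfl
  | cons i ws ih =>
    have hi := hws i List.mem_cons_self
    rw [wordPerm_cons C i hi.2, Equiv.Perm.mul_apply, hM1 i hi.1 hi.2,
      ih (fun j hj => hws j (List.mem_cons_of_mem _ hj))
        (wordPerm_mem_WJ C J' ws fun j hj => hws j (List.mem_cons_of_mem _ hj))]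

include hM1 hM2 in
theorem mem_WJ_pos (v : Equiv.Perm (Fin D.nroots)) (hv : v ∈ WJ C J') (r : Fin D.nroots)
    (hr : D.nroots / 2 ≤ r.val) (hMr : M r = false) : D.nroots / 2 ≤ (v r).val := by
  obtain ⟨ws, hws, rfl⟩ := exists_word_of_mem_WJ C J' v hv
  induction ws with
  | nil => exact hr
  | cons i ws ih =>
    have hi := hws i List.mem_cons_self
    have hws' : ∀ j ∈ ws, j ∈ J' ∧ j < D.rank := fun j hj => hws j (List.mem_cons_of_mem _ hj)
    have hmem := wordPerm_mem_WJ C J' ws hws'
    have h1 := ih hws' hmem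
    have h2 : M (wordPerm C ws r) = false := by rw [mem_WJ_mask C M J' hM1 _ hmem r, hMr]
    rw [wordPerm_cons C i hi.2, Equiv.Perm.mul_apply, sigma_apply]
    apply C.w_pos i _ hi.2 h1 (wordPerm C ws r).isLt
    intro hcon
    have := hM2 i hi.1 hi.2 _ hcon
    rw [h2] at this
    exact Bool.false_ne_true this

include hD hM1 hM2 in
/-- Additivity of the number of inversions. -/
theorem invCount_mul (hM3 : ∀ r, M (negF D r) = M r) (J : List ℕ) (u v : Equiv.Perm (Fin D.nroots))
    (hu : u ∈ WJ C J) (hu4 : ∀ r : Fin D.nroots, D.nroots / 2 ≤ r.val → M r = true → D.nroots / 2 ≤ (u r).val)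
    (hv : v ∈ WJ C J') : invCount D (u * v) = invCount D u + invCount D v := by
  have hev := nroots_even hD
  -- split the positive roots according to the mask
  have split : ∀ w : Equiv.Perm (Fin D.nroots), invCount D w
      = (Finset.univ.filter fun r : Fin D.nroots =>
          (D.nroots / 2 ≤ r.val ∧ M r = true) ∧ (w r).val < D.nroots / 2).card
        + (Finset.univ.filter fun r : Fin D.nroots =>
          (D.nroots / 2 ≤ r.val ∧ M r = false) ∧ (w r).val < D.nroots / 2).card := by
    intro w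
    unfold invCount
    rw [← Finset.card_union_of_disjoint]
    · congr 1
      ext r
      simp only [Finset.mem_filter, Finset.mem_univ, true_and, Finset.mem_union]
      cases M r <;> simp
    · rw [Finset.disjoint_filter]
      rintro r - ⟨⟨-, h1⟩, -⟩ ⟨⟨-, h2⟩, -⟩
      rw [h1] at h2
      exact Bool.noConfusion h2
  have negpos : ∀ r : Fin D.nroots, r.val < D.nroots / 2 → D.nroots / 2 ≤ (negF D r).val := by
    intro r hr
    rw [negF_val]
    have := r.isLt
    omega
  have posneg : ∀ r : Fin D.nroots, D.nroots / 2 ≤ r.val → (negF D r).val < D.nroots / 2 := by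
    intro r hr
    rw [negF_val]
    have := r.isLt
    omega
  -- the three vanishing or equal parts
  have hA : (Finset.univ.filter fun r : Fin D.nroots =>
        (D.nroots / 2 ≤ r.val ∧ M r = true) ∧ ((u * v) r).val < D.nroots / 2)
      = Finset.univ.filter fun r : Fin D.nroots =>
        (D.nroots / 2 ≤ r.val ∧ M r = true) ∧ (v r).val < D.nroots / 2 := by
    ext r
    simp only [Finset.mem_filter, Finset.mem_univ, true_and]
    rw [Equiv.Perm.mul_apply]
    constructor
    · rintro ⟨⟨hr, hMr⟩, hneg⟩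
      refine ⟨⟨hr, hMr⟩, ?_⟩
      by_contra hcon
      have h1 : M (v r) = true := by rw [mem_WJ_mask C M J' hM1 v hv r, hMr]
      have := hu4 (v r) (by omega) h1
      omega
    · rintro ⟨⟨hr, hMr⟩, hneg⟩
      refine ⟨⟨hr, hMr⟩, ?_⟩
      have h1 : M (negF D (v r)) = true := by rw [hM3, mem_WJ_mask C M J' hM1 v hv r, hMr]
      have h2 := hu4 (negF D (v r)) (negpos _ hneg) h1
      have h3 : u (v r) = negF D (u (negF D (v r))) := by
        rw [mem_WJ_negF C J u hu, negF_negF]
      rw [h3]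
      exact posneg _ h2
  have hB : (Finset.univ.filter fun r : Fin D.nroots =>
        (D.nroots / 2 ≤ r.val ∧ M r = false) ∧ ((u * v) r).val < D.nroots / 2).card
      = (Finset.univ.filter fun r : Fin D.nroots =>
        (D.nroots / 2 ≤ r.val ∧ M r = false) ∧ (u r).val < D.nroots / 2).card := by
    apply Finset.card_nbij' (fun r => v r) (fun s => v⁻¹ s)
    · intro r hr
      simp only [Finset.coe_filter, Finset.mem_univ, true_and, Set.mem_ofPred_eq] at hr ⊢
      rw [Equiv.Perm.mul_apply] at hr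
      refine ⟨⟨mem_WJ_pos C M J' hM1 hM2 v hv r hr.1.1 hr.1.2, ?_⟩, hr.2⟩
      rw [mem_WJ_mask C M J' hM1 v hv r, hr.1.2]
    · intro s hs
      simp only [Finset.coe_filter, Finset.mem_univ, true_and, Set.mem_ofPred_eq] at hs ⊢
      rw [Equiv.Perm.mul_apply]
      refine ⟨⟨mem_WJ_pos C M J' hM1 hM2 v⁻¹ (inv_mem hv) s hs.1.1 hs.1.2, ?_⟩, ?_⟩
      · rw [mem_WJ_mask C M J' hM1 v⁻¹ (inv_mem hv) s, hs.1.2]
      · have e : v (v⁻¹ s) = s := by simp
        rw [e]
        exact hs.2
    · intro r _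
      simp
    · intro s _
      simp
  have hCv : (Finset.univ.filter fun r : Fin D.nroots =>
        (D.nroots / 2 ≤ r.val ∧ M r = false) ∧ (v r).val < D.nroots / 2) = ∅ := by
    rw [Finset.filter_eq_empty_iff]
    rintro r - ⟨⟨hr, hMr⟩, hneg⟩
    have := mem_WJ_pos C M J' hM1 hM2 v hv r hr hMr
    omega
  have hCu : (Finset.univ.filter fun r : Fin D.nroots =>
        (D.nroots / 2 ≤ r.val ∧ M r = true) ∧ (u r).val < D.nroots / 2) = ∅ := by
    rw [Finset.filter_eq_empty_iff]
    rintro r - ⟨⟨hr, hMr⟩, hneg⟩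
    have := hu4 r hr hMr
    omega
  rw [split (u * v), split u, split v, hA, hB, hCv, hCu, Finset.card_empty]
  omega

end Additivity

end Cfsg.Agent.Lib.Helper18
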