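/-
helper18: the Poincaré sum `∑_{w ∈ W_J} q^{N(w)}` factorises along a system of distinguished coset representatives of
a parabolic subgroup `W_{J'}`.
-/
import Cfsg.Agent.Lib.Helper18.WeylSum1

set_option autoImplicit false

namespace Cfsg.Agent.Lib.Helper18

open Cfsg.Lie

universe u

variable {D : ChevalleyDatum}

/-- The elements of `W_J`, as a finset. -/
noncomputable def WJF (C : ChevData.{u} D) (J : List ℕ) : Finset (Equiv.Perm (Fin D.nroots)) := by
  classical exact Finset.univ.filter fun w => w ∈ WJ C J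

theorem mem_WJF (C : ChevData.{u} D) (J : List ℕ) (w : Equiv.Perm (Fin D.nroots)) :
    w ∈ WJF C J ↔ w ∈ WJ C J := by
  unfold WJF
  simp only [Finset.mem_filter, Finset.mem_univ, true_and]

/-- The Poincaré sum of `W_J`. -/
noncomputable def wsum (C : ChevData.{u} D) (J : List ℕ) (q : ℕ) : ℕ :=
  ∑ w ∈ WJF C J, q ^ invCount D w

theorem invCount_one (D : ChevalleyDatum) : invCount D 1 = 0 := by
  unfold invCount
  rw [Finset.card_eq_zero, Finset.filter_eq_empty_iff]
  rintro r - ⟨h1, h2⟩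
  rw [Equiv.Perm.one_apply] at h2
  omega

theorem wsum_nil (C : ChevData.{u} D) (q : ℕ) : wsum C [] q = 1 := by
  have h : WJF C [] = {1} := by
    ext w
    rw [mem_WJF, WJ_nil, Subgroup.mem_bot, Finset.mem_singleton]
  unfold wsum
  rw [h, Finset.sum_singleton, invCount_one, pow_zero]

theorem wsum_range (C : ChevData.{u} D) (q : ℕ) :
    wsum C (List.range D.rank) q = ∑ w ∈ WF C, q ^ invCount D w := by
  have h : WJF C (List.range D.rank) = WF C := by
    ext w
    rw [mem_WJF, mem_WF, WJ_range]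
  unfold wsum
  rw [h]

/-- Factorisation of the Poincaré sum. -/
theorem wsum_decomp (C : ChevData.{u} D) (J J' : List ℕ) (hJ : ∀ j ∈ J', j ∈ J)
    (us : List (Equiv.Perm (Fin D.nroots))) (hus : ∀ u ∈ us, u ∈ WJ C J) (h1 : (1 : Equiv.Perm (Fin D.nroots)) ∈ us)
    (hclos : ∀ u ∈ us, ∀ j ∈ J, ∀ h : j < D.rank, ∃ u' ∈ us, ∃ v ∈ WJ C J', sigma C ⟨j, h⟩ * u = u' * v)
    (hsep : ∀ u ∈ us, ∀ u' ∈ us, ∀ v ∈ WJ C J', u = u' * v → u = u') (hnd : us.Nodup)
    (hadd : ∀ u ∈ us, ∀ v ∈ WJ C J', invCount D (u * v) = invCount D u + invCount D v) (q : ℕ) :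
    wsum C J q = (us.map fun u => q ^ invCount D u).sum * wsum C J' q := by
  classical
  -- every element of `W_J` is `u v`
  have hex : ∀ w ∈ WJ C J, ∃ u ∈ us, ∃ v ∈ WJ C J', w = u * v := by
    intro w hw
    obtain ⟨ws, hws, rfl⟩ := exists_word_of_mem_WJ C J w hw
    induction ws with
    | nil => exact ⟨1, h1, 1, one_mem _, by rw [wordPerm_nil, mul_one]⟩
    | cons i ws ih =>
      have hi := hws i List.mem_cons_self
      have hws' : ∀ j ∈ ws, j ∈ J ∧ j < D.rank := fun j hj => hws j (List.mem_cons_of_mem _ hj)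
      obtain ⟨u, hu, v, hv, huv⟩ := ih hws' (wordPerm_mem_WJ C J ws hws')
      obtain ⟨u', hu', v', hv', h2⟩ := hclos u hu i hi.1 hi.2
      refine ⟨u', hu', v' * v, mul_mem hv' hv, ?_⟩
      rw [wordPerm_cons C i hi.2, huv, ← mul_assoc, h2, mul_assoc]
  have hLe := WJ_mono C hJ
  unfold wsum
  rw [← List.sum_toFinset _ hnd, Finset.sum_mul_sum, ← Finset.sum_product']
  symm
  apply Finset.sum_bij (fun (p : Equiv.Perm (Fin D.nroots) × Equiv.Perm (Fin D.nroots)) _ => p.1 * p.2)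
  · rintro ⟨u, v⟩ hp
    rw [Finset.mem_product, List.mem_toFinset, mem_WJF] at hp
    rw [mem_WJF]
    exact mul_mem (hus u hp.1) (hLe hp.2)
  · rintro ⟨u, v⟩ hp ⟨u', v'⟩ hp' heq
    rw [Finset.mem_product, List.mem_toFinset, mem_WJF] at hp hp'
    simp only at heq
    have e : u = u' * (v' * v⁻¹) := by
      rw [← mul_assoc, ← heq]; group
    have huu := hsep u hp.1 u' hp'.1 _ (mul_mem hp'.2 (inv_mem hp.2)) e
    subst huu
    have hvv : v = v' := mul_left_cancel heq
    rw [hvv]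
  · intro w hw
    rw [mem_WJF] at hw
    obtain ⟨u, hu, v, hv, rfl⟩ := hex w hw
    exact ⟨(u, v), by rw [Finset.mem_product, List.mem_toFinset, mem_WJF]; exact ⟨hu, hv⟩, rfl⟩
  · rintro ⟨u, v⟩ hp
    rw [Finset.mem_product, List.mem_toFinset, mem_WJF] at hp
    simp only
    rw [hadd u hp.1 v hp.2, pow_add]

end Cfsg.Agent.Lib.Helper18
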