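/-
helper18: a checkable certificate for one step `W_J ⊃ W_{J'}` of the factorisation of the Poincaré sum: the distinguished
coset representatives as words, their permutations as packed tables, the closure under left multiplication by the
generators, a root `θ` fixed by `W_{J'}` separating the cosets, and the mask of the root subsystem of `J'`.
-/
import Cfsg.Agent.Lib.Helper18.WeylSum2

set_option autoImplicit false

namespace Cfsg.Agent.Lib.Helper18

open Cfsg.Lie

universe u

variable {D : ChevalleyDatum}

/-- Entry of a packed permutation table (eight bits per entry). -/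
def ptab (tab r : ℕ) : ℕ := (tab >>> (8 * r)) % 256

/-- Bit of a packed mask. -/
def mbit (mask r : ℕ) : Bool := (mask >>> r) % 2 == 1

/-- The number of positive roots made negative by a packed permutation table. -/
def cntTab (n tab : ℕ) : ℕ :=
  ((List.range n).filter fun r => decide (n / 2 ≤ r) && decide (ptab tab r < n / 2)).length

/-- The certificate of one step. -/
structure LevelCert where
  J : List ℕ
  J' : List ℕ
  theta : ℕ
  mask : ℕ
  words : List (List ℕ)
  ptabs : List ℕ
  cert : List (List (ℕ × ℕ))

namespace LevelCert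

variable (L : LevelCert)

def chkShape (rank : ℕ) : Bool :=
  L.J'.all (fun j => decide (j ∈ L.J)) && L.J.all (fun j => decide (j < rank)) &&
    decide (L.ptabs.length = L.words.length) && decide (L.words.head? = some [])

def chkWords (tabs : List ℕ) (n : ℕ) : Bool :=
  (List.range L.words.length).all fun k =>
    (L.words.getD k []).all (fun i => decide (i ∈ L.J)) &&
      (List.range n).all fun r => wordRootF tabs (L.words.getD k []) r == ptab (L.ptabs.getD k 0) r

def chkClos (tabs : List ℕ) (n : ℕ) : Bool :=
  (List.range L.words.length).all fun k => (List.range L.J.length).all fun idx =>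
    decide (((L.cert.getD k []).getD idx (0, 0)).1 < L.words.length) &&
    (if ((L.cert.getD k []).getD idx (0, 0)).2 = 0 then
      (List.range n).all fun r =>
        tabRoot (tabs.getD (L.J.getD idx 0) 0) (ptab (L.ptabs.getD k 0) r)
          == ptab (L.ptabs.getD ((L.cert.getD k []).getD idx (0, 0)).1 0) r
    else
      decide (((L.cert.getD k []).getD idx (0, 0)).2 - 1 ∈ L.J') &&
      (List.range n).all fun r =>
        tabRoot (tabs.getD (L.J.getD idx 0) 0) (ptab (L.ptabs.getD k 0) r)
          == ptab (L.ptabs.getD ((L.cert.getD k []).getD idx (0, 0)).1 0)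
              (tabRoot (tabs.getD (((L.cert.getD k []).getD idx (0, 0)).2 - 1) 0) r))

def chkKey (tabs : List ℕ) (n : ℕ) : Bool :=
  decide (L.theta < n) && L.J'.all (fun j => tabRoot (tabs.getD j 0) L.theta == L.theta) &&
    decide ((L.ptabs.map fun tab => ptab tab L.theta).Nodup)

def chkMask (tabs simples : List ℕ) (n : ℕ) : Bool :=
  L.J'.all (fun j => mbit L.mask (simples.getD j 0) &&
    (List.range n).all fun r => mbit L.mask (tabRoot (tabs.getD j 0) r) == mbit L.mask r) &&
  (List.range n).all fun r => mbit L.mask (n - 1 - r) == mbit L.mask r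

def chkPos (n : ℕ) : Bool :=
  L.ptabs.all fun tab => (List.range n).all fun r =>
    !(decide (n / 2 ≤ r) && mbit L.mask r) || decide (n / 2 ≤ ptab tab r)

/-- The full check. -/
def ok (tabs simples : List ℕ) (n rank : ℕ) : Bool :=
  L.chkShape rank && L.chkWords tabs n && L.chkClos tabs n && L.chkKey tabs n && L.chkMask tabs simples n &&
    L.chkPos n

end LevelCert

section Level

variable (hD : D ∈ [chevG2, chevB2, chevD4, chevF4, chevE6, chevE7, chevE8]) (C : ChevData.{u} D)
  (L : LevelCert) (hOK : L.ok C.tabs C.simples D.nroots D.rank = true)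

include hOK

theorem level_shape : (∀ j ∈ L.J', j ∈ L.J) ∧ (∀ j ∈ L.J, j < D.rank) ∧ L.ptabs.length = L.words.length ∧
    L.words.head? = some [] := by
  unfold LevelCert.ok at hOK
  simp only [Bool.and_eq_true] at hOK
  have h := hOK.1.1.1.1.1
  unfold LevelCert.chkShape at h
  simp only [Bool.and_eq_true, List.all_eq_true, decide_eq_true_eq] at h
  exact ⟨h.1.1.1, h.1.1.2, h.1.2, h.2⟩

theorem level_words (k : ℕ) (hk : k < L.words.length) :
    (∀ i ∈ L.words.getD k [], i ∈ L.J) ∧
      ∀ r < D.nroots, wordRootF C.tabs (L.words.getD k []) r = ptab (L.ptabs.getD k 0) r := by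
  unfold LevelCert.ok at hOK
  simp only [Bool.and_eq_true] at hOK
  have h := hOK.1.1.1.1.2
  unfold LevelCert.chkWords at h
  rw [List.all_eq_true] at h
  have h1 := h k (List.mem_range.mpr hk)
  simp only [Bool.and_eq_true, List.all_eq_true, decide_eq_true_eq, beq_iff_eq, List.mem_range] at h1
  exact h1

theorem level_clos (k : ℕ) (hk : k < L.words.length) (idx : ℕ) (hidx : idx < L.J.length) :
    ((L.cert.getD k []).getD idx (0, 0)).1 < L.words.length ∧
    ((((L.cert.getD k []).getD idx (0, 0)).2 = 0 ∧ ∀ r < D.nroots,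
        tabRoot (C.tabs.getD (L.J.getD idx 0) 0) (ptab (L.ptabs.getD k 0) r)
          = ptab (L.ptabs.getD ((L.cert.getD k []).getD idx (0, 0)).1 0) r) ∨
     (((L.cert.getD k []).getD idx (0, 0)).2 - 1 ∈ L.J' ∧ ∀ r < D.nroots,
        tabRoot (C.tabs.getD (L.J.getD idx 0) 0) (ptab (L.ptabs.getD k 0) r)
          = ptab (L.ptabs.getD ((L.cert.getD k []).getD idx (0, 0)).1 0)
              (tabRoot (C.tabs.getD (((L.cert.getD k []).getD idx (0, 0)).2 - 1) 0) r))) := by
  unfold LevelCert.ok at hOK
  simp only [Bool.and_eq_true] at hOK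
  have h := hOK.1.1.1.2
  unfold LevelCert.chkClos at h
  rw [List.all_eq_true] at h
  have h1 := h k (List.mem_range.mpr hk)
  rw [List.all_eq_true] at h1
  have h2 := h1 idx (List.mem_range.mpr hidx)
  rw [Bool.and_eq_true, decide_eq_true_eq] at h2
  refine ⟨h2.1, ?_⟩
  have h3 := h2.2
  split_ifs at h3 with he
  · left
    simp only [List.all_eq_true, beq_iff_eq, List.mem_range] at h3
    exact ⟨he, h3⟩
  · right
    simp only [Bool.and_eq_true, List.all_eq_true, beq_iff_eq, List.mem_range, decide_eq_true_eq] at h3
    exact h3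

theorem level_key : L.theta < D.nroots ∧ (∀ j ∈ L.J', tabRoot (C.tabs.getD j 0) L.theta = L.theta) ∧
    (L.ptabs.map fun tab => ptab tab L.theta).Nodup := by
  unfold LevelCert.ok at hOK
  simp only [Bool.and_eq_true] at hOK
  have h := hOK.1.1.2
  unfold LevelCert.chkKey at h
  simp only [Bool.and_eq_true, List.all_eq_true, decide_eq_true_eq, beq_iff_eq] at h
  exact ⟨h.1.1, h.1.2, h.2⟩

theorem level_mask : (∀ j ∈ L.J', mbit L.mask (C.simples.getD j 0) = true ∧
      ∀ r < D.nroots, mbit L.mask (tabRoot (C.tabs.getD j 0) r) = mbit L.mask r) ∧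
    ∀ r < D.nroots, mbit L.mask (D.nroots - 1 - r) = mbit L.mask r := by
  unfold LevelCert.ok at hOK
  simp only [Bool.and_eq_true] at hOK
  have h := hOK.1.2
  unfold LevelCert.chkMask at h
  simp only [Bool.and_eq_true, List.all_eq_true, beq_iff_eq, List.mem_range] at h
  exact h

theorem level_pos (tab : ℕ) (ht : tab ∈ L.ptabs) (r : ℕ) (hr : r < D.nroots) (hr2 : D.nroots / 2 ≤ r)
    (hm : mbit L.mask r = true) : D.nroots / 2 ≤ ptab tab r := by
  unfold LevelCert.ok at hOK
  simp only [Bool.and_eq_true] at hOK
  have h := hOK.2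
  unfold LevelCert.chkPos at h
  rw [List.all_eq_true] at h
  have h1 := h tab ht
  rw [List.all_eq_true] at h1
  have h2 := h1 r (List.mem_range.mpr hr)
  simp only [Bool.or_eq_true, Bool.not_eq_true', Bool.and_eq_false_iff, decide_eq_false_iff_not,
    decide_eq_true_eq] at h2
  rcases h2 with (h2 | h2) | h2
  · exact absurd hr2 h2
  · rw [hm] at h2
    exact Bool.noConfusion h2
  · exact h2

end Level

end Cfsg.Agent.Lib.Helper18
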