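/-
helper18: a certificate passing the check gives the factorisation of the Poincaré sum for its step.
-/
import Cfsg.Agent.Lib.Helper18.WeylSum3

set_option autoImplicit false

namespace Cfsg.Agent.Lib.Helper18

open Cfsg.Lie

universe u

variable {D : ChevalleyDatum}

theorem map_getD_range {α β : Type*} (l : List α) (d : α) (f : α → β) :
    (List.range l.length).map (fun k => f (l.getD k d)) = l.map f := by
  apply List.ext_getElem
  · simp
  · intro i h1 h2
    simp only [List.getElem_map, List.getElem_range]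
    rw [List.getD_eq_getElem]

theorem invCount_eq_cntTab (w : Equiv.Perm (Fin D.nroots)) (tab : ℕ)
    (h : ∀ r : Fin D.nroots, (w r).val = ptab tab r.val) : invCount D w = cntTab D.nroots tab := by
  unfold invCount cntTab
  have hnd : ((List.range D.nroots).filter fun r =>
      decide (D.nroots / 2 ≤ r) && decide (ptab tab r < D.nroots / 2)).Nodup :=
    List.Nodup.filter _ List.nodup_range
  rw [← List.toFinset_card_of_nodup hnd, ← Finset.card_map ⟨Fin.val, Fin.val_injective⟩]
  congr 1
  ext r
  simp only [Finset.mem_map, Finset.mem_filter, Finset.mem_univ, true_and, Function.Embedding.coeFn_mk,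
    List.mem_toFinset, List.mem_filter, List.mem_range, Bool.and_eq_true, decide_eq_true_eq]
  constructor
  · rintro ⟨r', ⟨h1, h2⟩, rfl⟩
    rw [h r'] at h2
    exact ⟨r'.isLt, h1, h2⟩
  · rintro ⟨hr, h1, h2⟩
    refine ⟨⟨r, hr⟩, ⟨h1, ?_⟩, rfl⟩
    rw [h ⟨r, hr⟩]
    exact h2

section Level

variable (hD : D ∈ [chevG2, chevB2, chevD4, chevF4, chevE6, chevE7, chevE8]) (C : ChevData.{u} D)
  (L : LevelCert) (hOK : L.ok C.tabs C.simples D.nroots D.rank = true)

/-- The permutation of the `k`-th representative. -/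
def repPerm (C : ChevData.{u} D) (L : LevelCert) (k : ℕ) : Equiv.Perm (Fin D.nroots) :=
  wordPerm C (L.words.getD k [])

include hOK

theorem rep_word (k : ℕ) (hk : k < L.words.length) : ∀ i ∈ L.words.getD k [], i ∈ L.J ∧ i < D.rank := by
  intro i hi
  have h1 := (level_words C L hOK k hk).1 i hi
  exact ⟨h1, (level_shape C L hOK).2.1 i h1⟩

theorem rep_apply (k : ℕ) (hk : k < L.words.length) (r : Fin D.nroots) :
    (repPerm C L k r).val = ptab (L.ptabs.getD k 0) r.val := by
  unfold repPerm
  rw [wordPerm_apply C _ (fun i hi => (rep_word C L hOK k hk i hi).2)]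
  exact (level_words C L hOK k hk).2 r.val r.isLt

theorem rep_mem (k : ℕ) (hk : k < L.words.length) : repPerm C L k ∈ WJ C L.J :=
  wordPerm_mem_WJ C L.J _ (rep_word C L hOK k hk)

theorem rep_zero : 0 < L.words.length ∧ repPerm C L 0 = 1 := by
  have h := (level_shape C L hOK).2.2.2
  cases hw : L.words with
  | nil => rw [hw] at h; simp at h
  | cons a l =>
    rw [hw] at h
    simp only [List.head?_cons, Option.some.injEq] at h
    refine ⟨by simp, ?_⟩
    unfold repPerm
    rw [hw, h]
    rfl

theorem mem_WJ_theta (v : Equiv.Perm (Fin D.nroots)) (hv : v ∈ WJ C L.J') :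
    (v ⟨L.theta, (level_key C L hOK).1⟩).val = L.theta := by
  obtain ⟨ws, hws, rfl⟩ := exists_word_of_mem_WJ C L.J' v hv
  induction ws with
  | nil => rfl
  | cons i ws ih =>
    have hi := hws i List.mem_cons_self
    have hws' : ∀ j ∈ ws, j ∈ L.J' ∧ j < D.rank := fun j hj => hws j (List.mem_cons_of_mem _ hj)
    rw [wordPerm_cons C i hi.2, Equiv.Perm.mul_apply, sigma_apply, ih hws' (wordPerm_mem_WJ C L.J' ws hws')]
    exact (level_key C L hOK).2.1 i hi.1

theorem rep_key_inj (k k' : ℕ) (hk : k < L.words.length) (hk' : k' < L.words.length)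
    (h : ptab (L.ptabs.getD k 0) L.theta = ptab (L.ptabs.getD k' 0) L.theta) : k = k' := by
  have hlen := (level_shape C L hOK).2.2.1
  have hnd := (level_key C L hOK).2.2
  have hk1 : k < (L.ptabs.map fun tab => ptab tab L.theta).length := by rw [List.length_map, hlen]; exact hk
  have hk1' : k' < (L.ptabs.map fun tab => ptab tab L.theta).length := by
    rw [List.length_map, hlen]; exact hk'
  apply (List.Nodup.getElem_inj_iff hnd (hi := hk1) (hj := hk1')).mp
  rw [List.getElem_map, List.getElem_map]
  rw [List.getD_eq_getElem _ _ (by rw [hlen]; exact hk), List.getD_eq_getElem _ _ (by rw [hlen]; exact hk')] at h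
  exact h

theorem rep_inj (k k' : ℕ) (hk : k < L.words.length) (hk' : k' < L.words.length)
    (v : Equiv.Perm (Fin D.nroots)) (hv : v ∈ WJ C L.J') (h : repPerm C L k = repPerm C L k' * v) : k = k' := by
  apply rep_key_inj C L hOK k k' hk hk'
  have hθ := (level_key C L hOK).1
  rw [← rep_apply C L hOK k hk ⟨L.theta, hθ⟩, ← rep_apply C L hOK k' hk' ⟨L.theta, hθ⟩, h,
    Equiv.Perm.mul_apply]
  congr 2
  exact Fin.ext (mem_WJ_theta C L hOK v hv)

include hD in
/-- The factorisation of the Poincaré sum given by a certificate. -/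
theorem wsum_level (q : ℕ) :
    wsum C L.J q = (L.ptabs.map fun tab => q ^ cntTab D.nroots tab).sum * wsum C L.J' q := by
  obtain ⟨hJ, hJr, hlen, -⟩ := level_shape C L hOK
  have hm := level_mask C L hOK
  have key := wsum_decomp C L.J L.J' hJ ((List.range L.words.length).map (repPerm C L)) ?_ ?_ ?_ ?_ ?_ ?_ q
  · rw [key, List.map_map]
    congr 2
    rw [← map_getD_range L.ptabs 0 (fun tab => q ^ cntTab D.nroots tab), hlen]
    apply List.map_congr_left
    intro k hk
    rw [List.mem_range] at hk
    show q ^ invCount D (repPerm C L k) = _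
    rw [invCount_eq_cntTab _ _ (rep_apply C L hOK k hk)]
  · -- membership
    intro u hu
    rw [List.mem_map] at hu
    obtain ⟨k, hk, rfl⟩ := hu
    exact rep_mem C L hOK k (List.mem_range.mp hk)
  · -- the identity
    obtain ⟨h0, h1⟩ := rep_zero C L hOK
    rw [List.mem_map]
    exact ⟨0, List.mem_range.mpr h0, h1⟩
  · -- closure
    intro u hu j hj hjr
    rw [List.mem_map] at hu
    obtain ⟨k, hk, rfl⟩ := hu
    rw [List.mem_range] at hk
    obtain ⟨idx, hidx, hidxj⟩ := List.mem_iff_getElem.mp hj
    have hjd : L.J.getD idx 0 = j := by rw [List.getD_eq_getElem _ _ hidx]; exact hidxj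
    obtain ⟨hk', hcases⟩ := level_clos C L hOK k hk idx hidx
    rw [hjd] at hcases
    refine ⟨repPerm C L ((L.cert.getD k []).getD idx (0, 0)).1, ?_, ?_⟩
    · rw [List.mem_map]
      exact ⟨_, List.mem_range.mpr hk', rfl⟩
    · rcases hcases with ⟨-, h1⟩ | ⟨hj', h1⟩
      · refine ⟨1, one_mem _, ?_⟩
        rw [mul_one]
        ext r
        rw [Equiv.Perm.mul_apply, sigma_apply, rep_apply C L hOK k hk, rep_apply C L hOK _ hk']
        exact h1 r.val r.isLt
      · have hj'r : ((L.cert.getD k []).getD idx (0, 0)).2 - 1 < D.rank := hJr _ (hJ _ hj')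
        refine ⟨sigma C ⟨_, hj'r⟩, Subgroup.subset_closure ⟨_, hj', hj'r, rfl⟩, ?_⟩
        ext r
        rw [Equiv.Perm.mul_apply, Equiv.Perm.mul_apply, sigma_apply, rep_apply C L hOK k hk,
          rep_apply C L hOK _ hk', sigma_apply]
        exact h1 r.val r.isLt
  · -- separation
    intro u hu u' hu' v hv huv
    rw [List.mem_map] at hu hu'
    obtain ⟨k, hk, rfl⟩ := hu
    obtain ⟨k', hk', rfl⟩ := hu'
    rw [List.mem_range] at hk hk'
    rw [rep_inj C L hOK k k' hk hk' v hv huv]
  · -- no repetition
    apply List.Nodup.map_on _ List.nodup_range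
    intro k hk k' hk' h
    rw [List.mem_range] at hk hk'
    exact rep_inj C L hOK k k' hk hk' 1 (one_mem _) (by rw [mul_one]; exact h)
  · -- additivity
    intro u hu v hv
    rw [List.mem_map] at hu
    obtain ⟨k, hk, rfl⟩ := hu
    rw [List.mem_range] at hk
    apply invCount_mul hD C (fun r => mbit L.mask r.val) L.J' ?_ ?_ ?_ L.J _ v (rep_mem C L hOK k hk) ?_ hv
    · intro j hj hjr r
      show mbit L.mask (sigma C ⟨j, hjr⟩ r).val = mbit L.mask r.val
      rw [sigma_apply]
      exact (hm.1 j hj).2 r.val r.isLt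
    · intro j hj hjr r hr
      show mbit L.mask r.val = true
      rw [hr, C.hsimple j hjr]
      exact (hm.1 j hj).1
    · intro r
      show mbit L.mask (negF D r).val = mbit L.mask r.val
      rw [negF_val]
      exact hm.2 r.val r.isLt
    · intro r hr hMr
      rw [rep_apply C L hOK k hk]
      have hmem : L.ptabs.getD k 0 ∈ L.ptabs := by
        rw [List.getD_eq_getElem _ _ (by rw [hlen]; exact hk)]
        exact List.getElem_mem _
      exact level_pos C L hOK _ hmem r.val r.isLt hr hMr

end Level

end Cfsg.Agent.Lib.Helper18
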