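/-
helper18: `|B| = |U| |H|`, and the order formula `d |G| = q^N ∏ (q^{d_i} - 1)` from the factorisation of the Poincaré
sum of the Weyl group.
-/
import Cfsg.Agent.Lib.Helper18.Order4
import Cfsg.Agent.Lib.Helper18.WeylSum4
import Cfsg.Agent.Lib.Helper18.PolyL
import Cfsg.Agent.S1027
import Cfsg.Agent.S1036

set_option autoImplicit false

namespace Cfsg.Agent.Lib.Helper18

open Cfsg.Lie

universe u

variable {F : Type u} [Field F] {D : ChevalleyDatum}

/-- `|B| = |U| |H|`. -/
theorem card_borel (hD : D ∈ [chevG2, chevB2, chevD4, chevF4, chevE6, chevE7, chevE8]) :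
    Nat.card ↥(D.borelSubgroup F) = Nat.card ↥(D.posUnipotent F) * Nat.card ↥(D.diagonalSubgroup F) := by
  have hdisj : Disjoint (D.posUnipotent F) (D.diagonalSubgroup F) :=
    disjoint_iff.mpr (Cfsg.Agent.S1036.result D hD).2
  let f : ↥(D.posUnipotent F) × ↥(D.diagonalSubgroup F) → ↥(D.borelSubgroup F) := fun p =>
    ⟨(p.1 : GL D.Idx F) * p.2, (mem_borel_iff D hD _).mpr ⟨p.1, p.1.2, p.2, p.2.2, rfl⟩⟩
  have hf : Function.Bijective f := by
    constructor
    · intro p p' h
      exact Subgroup.mul_injective_of_disjoint hdisj (congrArg Subtype.val h)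
    · rintro ⟨g, hg⟩
      obtain ⟨u, hu, h, hh, rfl⟩ := (mem_borel_iff D hD g).mp hg
      exact ⟨(⟨u, hu⟩, ⟨h, hh⟩), rfl⟩
  rw [← Nat.card_congr (Equiv.ofBijective f hf), Nat.card_prod]

/-- The sum over the representatives of a step, as the value of a polynomial. -/
theorem level_sum_eq (L : LevelCert) (n : ℕ) (cs : List ℕ) (h : L.ptabs.map (cntTab n) = cs) (q : ℕ) :
    (L.ptabs.map fun tab => q ^ cntTab n tab).sum = evalL (polyOfCounts cs) q := by
  rw [evalL_polyOfCounts, ← h, List.map_map]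
  rfl

/-- The order formula, from the factorisation of the Poincaré sum and the order of `H`. -/
theorem order_formula [Fintype F] (hD : D ∈ [chevG2, chevB2, chevD4, chevF4, chevE6, chevE7, chevE8])
    (C : ChevData.{u} D) (d : ℕ)
    (hd : d * Nat.card ↥(D.diagonalSubgroup F) = (Fintype.card F - 1) ^ D.rank)
    (ds : List ℕ) (hlen : ds.length = D.rank)
    (hW : ∀ q, wsum C (List.range D.rank) q = evalL (prodLL (ds.map geomL)) q) :
    d * Nat.card ↥(D.group F) =
      Fintype.card F ^ (D.nroots / 2) * (ds.map fun e => Fintype.card F ^ e - 1).prod := by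
  obtain ⟨L⟩ := nonempty_levelData D hD
  have hq : 1 ≤ Fintype.card F := Fintype.card_pos
  rw [card_group_eq hD C L, card_borel hD, Cfsg.Agent.S1027.card_posUnipotent D hD, ← wsum_range, hW,
    ← prod_geomL ds _ hq, hlen, ← hd]
  ring

end Cfsg.Agent.Lib.Helper18
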