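/-
helper18: the homomorphism `N → W` (permutations of the root indices) with kernel `H`, and the identification of `W`
with the group presented by a Coxeter matrix whose relations hold in `W` and whose group has the order of `W`.
-/
import Cfsg.Agent.Lib.Helper18.Order5

set_option autoImplicit false

namespace Cfsg.Agent.Lib.Helper18

open Cfsg.Lie Cfsg.Agent.Lib.Helper17 Cfsg.Agent.Lib.Helper6

universe u

variable {F : Type u} [Field F] {D : ChevalleyDatum}

section

variable (hD : D ∈ [chevG2, chevB2, chevD4, chevF4, chevE6, chevE7, chevE8]) (C : ChevData.{u} D)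

include hD in
theorem wordPerm_eq_of_eq (ws ws' : List ℕ) (hws : ∀ i ∈ ws, i < D.rank) (hws' : ∀ i ∈ ws', i < D.rank)
    (h h' : GL D.Idx F) (hh : h ∈ D.diagonalSubgroup F) (hh' : h' ∈ D.diagonalSubgroup F)
    (e : nW hD C ws * h = nW hD C ws' * h') : wordPerm C ws = wordPerm C ws' := by
  ext r
  rw [wordPerm_apply C ws hws, wordPerm_apply C ws' hws']
  exact (wordRootF_eq_of_eq hD C ws ws' hws hws' h h' hh hh' e r.val r.isLt).symm

/-- The permutation of the roots induced by an element of `N`. -/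
noncomputable def permOfN (n : ↥(D.monomialSubgroup F)) : Equiv.Perm (Fin D.nroots) :=
  wordPerm C (Classical.choose (isWordH_of_mem_monomial hD C n.1 n.2))

theorem permOfN_eq (n : ↥(D.monomialSubgroup F)) (ws : List ℕ) (hws : ∀ i ∈ ws, i < D.rank) (h : GL D.Idx F)
    (hh : h ∈ D.diagonalSubgroup F) (e : (n : GL D.Idx F) = nW hD C ws * h) :
    permOfN hD C n = wordPerm C ws := by
  obtain ⟨h0, hws0, hh0, e0⟩ := Classical.choose_spec (isWordH_of_mem_monomial hD C n.1 n.2)
  unfold permOfN
  exact wordPerm_eq_of_eq hD C _ _ hws0 hws h0 h hh0 hh (by rw [← e0, ← e])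

/-- The homomorphism `N → Sym(Φ)`. -/
noncomputable def permHom : ↥(D.monomialSubgroup F) →* Equiv.Perm (Fin D.nroots) where
  toFun := permOfN hD C
  map_one' := by
    rw [permOfN_eq hD C 1 [] (by simp) 1 (one_mem _) (by rw [nW_nil]; simp), wordPerm_nil]
  map_mul' := by
    intro a b
    obtain ⟨ws₁, h₁, hws₁, hh₁, e₁⟩ := isWordH_of_mem_monomial hD C a.1 a.2
    obtain ⟨ws₂, h₂, hws₂, hh₂, e₂⟩ := isWordH_of_mem_monomial hD C b.1 b.2
    rw [permOfN_eq hD C a ws₁ hws₁ h₁ hh₁ e₁, permOfN_eq hD C b ws₂ hws₂ h₂ hh₂ e₂, ← wordPerm_append]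
    apply permOfN_eq hD C (a * b) (ws₁ ++ ws₂)
      (fun i hi => (List.mem_append.mp hi).elim (hws₁ i) (hws₂ i))
      ((nW hD C ws₂)⁻¹ * h₁ * nW hD C ws₂ * h₂) (mul_mem (nW_inv_conj_H hD C ws₂ h₁ hh₁) hh₂)
    rw [Subgroup.coe_mul, e₁, e₂, nW_append]
    group

theorem permHom_apply (n : ↥(D.monomialSubgroup F)) (ws : List ℕ) (hws : ∀ i ∈ ws, i < D.rank)
    (h : GL D.Idx F) (hh : h ∈ D.diagonalSubgroup F) (e : (n : GL D.Idx F) = nW hD C ws * h) :
    permHom hD C n = wordPerm C ws := permOfN_eq hD C n ws hws h hh e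

theorem permHom_mem (n : ↥(D.monomialSubgroup F)) : permHom hD C n ∈ Wgrp C := by
  obtain ⟨ws, h, hws, hh, e⟩ := isWordH_of_mem_monomial hD C n.1 n.2
  rw [permHom_apply hD C n ws hws h hh e]
  exact wordPerm_mem C ws hws

theorem permHom_ker :
    (permHom (F := F) hD C).ker = (D.diagonalSubgroup F).subgroupOf (D.monomialSubgroup F) := by
  ext n
  rw [MonoidHom.mem_ker, Subgroup.mem_subgroupOf]
  obtain ⟨ws, h, hws, hh, e⟩ := isWordH_of_mem_monomial hD C n.1 n.2
  rw [permHom_apply hD C n ws hws h hh e]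
  constructor
  · intro h1
    have h2 := nW_inv_mul_nW_mem (F := F) hD C ws [] hws (by simp) (by rw [h1, wordPerm_nil])
    rw [nW_nil, mul_one] at h2
    rw [e]
    exact mul_mem (by simpa using inv_mem h2) hh
  · intro h1
    have e' : (n : GL D.Idx F) = nW hD C [] * (n : GL D.Idx F) := by rw [nW_nil, one_mul]
    have := wordPerm_eq_of_eq hD C ws [] hws (by simp) h n.1 hh h1 (by rw [← e, ← e'])
    rw [this, wordPerm_nil]

end

/-- The order of `W` is the value at `1` of its Poincaré sum. -/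
theorem card_Wgrp (C : ChevData.{u} D) : Nat.card ↥(Wgrp C) = wsum C (List.range D.rank) 1 := by
  classical
  rw [wsum_range]
  simp only [one_pow, Finset.sum_const, smul_eq_mul, mul_one]
  rw [← Nat.card_congr (Equiv.subtypeEquivRight (fun w => mem_WF C w)), Nat.card_eq_fintype_card,
    Fintype.card_coe]

/-- `N / H` is the group presented by the Coxeter matrix `M`, if the relations of `M` hold in `W` and `|W(M)| = |W|`. -/
theorem exists_coxeter_hom (hD : D ∈ [chevG2, chevB2, chevD4, chevF4, chevE6, chevE7, chevE8])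
    (C : ChevData.{u} D) (M : CoxeterMatrix (Fin D.rank))
    (hrel : ∀ i j : Fin D.rank, (sigma C i * sigma C j) ^ M.M i j = 1)
    (hcard : Nat.card M.Group = Nat.card ↥(Wgrp C)) :
    ∃ φ : ↥(D.monomialSubgroup F) →* M.Group, Function.Surjective φ ∧
      φ.ker = (D.diagonalSubgroup F).subgroupOf (D.monomialSubgroup F) ∧
      ∀ (i : Fin D.rank) (g : ↥(D.monomialSubgroup F)),
        ((g : GL D.Idx F) : Matrix D.Idx D.Idx F) = D.nMat F (D.simple i) 1 → φ g = M.simple i := by
  classical
  let ψ : M.Group →* Equiv.Perm (Fin D.nroots) := M.toCoxeterSystem.lift ⟨sigma C, hrel⟩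
  have hψs : ∀ i, ψ (M.simple i) = sigma C i := fun i => by
    rw [← CoxeterMatrix.toCoxeterSystem_simple]
    exact CoxeterSystem.lift_apply_simple _ _ _
  have hrange : ψ.range = Wgrp C := by
    unfold Wgrp
    rw [MonoidHom.range_eq_map, ← M.toCoxeterSystem.subgroup_closure_range_simple, MonoidHom.map_closure]
    congr 1
    ext w
    constructor
    · rintro ⟨_, ⟨i, rfl⟩, rfl⟩
      exact ⟨i, by rw [CoxeterMatrix.toCoxeterSystem_simple, hψs]⟩
    · rintro ⟨i, rfl⟩
      exact ⟨_, ⟨i, rfl⟩, by rw [CoxeterMatrix.toCoxeterSystem_simple, hψs]⟩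
  have hfin : Finite M.Group := by
    apply Nat.finite_of_card_ne_zero
    rw [hcard]
    exact Nat.card_pos.ne'
  have hinj : Function.Injective ψ := by
    have hb : Function.Bijective ψ.rangeRestrict := by
      rw [Nat.bijective_iff_surjective_and_card]
      exact ⟨ψ.rangeRestrict_surjective, by rw [hcard, hrange]⟩
    intro a b hab
    apply hb.1
    exact Subtype.ext hab
  let ψ' : M.Group ≃* ψ.range := MonoidHom.ofInjective hinj
  let π' : ↥(D.monomialSubgroup F) →* ψ.range :=
    (permHom hD C).codRestrict ψ.range (fun n => by rw [hrange]; exact permHom_mem hD C n)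
  refine ⟨ψ'.symm.toMonoidHom.comp π', ?_, ?_, ?_⟩
  · -- surjective
    intro x
    have hx : ψ x ∈ Wgrp C := by rw [← hrange]; exact ⟨x, rfl⟩
    obtain ⟨ws, hws, hw⟩ := exists_word_of_mem_Wgrp C _ hx
    refine ⟨⟨nW hD C ws, nW_mem_monomial hD C ws⟩, ?_⟩
    show ψ'.symm (π' _) = x
    rw [MulEquiv.symm_apply_eq]
    apply Subtype.ext
    show permHom hD C _ = ψ x
    rw [permHom_apply hD C _ ws hws 1 (one_mem _) (by simp), hw]
  · -- kernel
    rw [← permHom_ker hD C]
    ext n
    rw [MonoidHom.mem_ker, MonoidHom.mem_ker]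
    show ψ'.symm (π' n) = 1 ↔ _
    rw [MulEquiv.symm_apply_eq, map_one]
    constructor
    · intro h
      exact congrArg Subtype.val h
    · intro h
      exact Subtype.ext h
  · -- the fundamental reflections
    intro i g hg
    show ψ'.symm (π' g) = M.simple i
    rw [MulEquiv.symm_apply_eq]
    apply Subtype.ext
    show permHom hD C g = ψ (M.simple i)
    rw [hψs]
    have e : (g : GL D.Idx F) = nW hD C [(i : ℕ)] * 1 := by
      rw [mul_one, nW_cons, nW_nil, mul_one]
      apply Units.ext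
      rw [hg, coe_sG hD C i i.isLt]
    rw [permHom_apply hD C g [(i : ℕ)] (by simp) 1 (one_mem _) e, wordPerm_cons C i i.isLt, wordPerm_nil,
      mul_one]

end Cfsg.Agent.Lib.Helper18
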