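/-
helper18: the relations of a Coxeter matrix in the Weyl group of permutations of the root indices, checked on the tables.
-/
import Cfsg.Agent.Lib.Helper18.Cox1

set_option autoImplicit false

namespace Cfsg.Agent.Lib.Helper18

open Cfsg.Lie

universe u

variable {D : ChevalleyDatum}

/-- The alternating word `i j i j …` with `k` pairs. -/
def altW (i j : ℕ) : ℕ → List ℕ
  | 0 => []
  | k + 1 => i :: j :: altW i j k

theorem altW_lt (i j n : ℕ) (hi : i < n) (hj : j < n) (k : ℕ) : ∀ x ∈ altW i j k, x < n := by
  induction k with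
  | zero => intro x hx; simp [altW] at hx
  | succ k ih =>
    intro x hx
    simp only [altW, List.mem_cons] at hx
    rcases hx with rfl | rfl | hx
    · exact hi
    · exact hj
    · exact ih x hx

theorem wordPerm_altW (C : ChevData.{u} D) (i j : Fin D.rank) (k : ℕ) :
    wordPerm C (altW i j k) = (sigma C i * sigma C j) ^ k := by
  induction k with
  | zero => rw [altW, wordPerm_nil, pow_zero]
  | succ k ih =>
    rw [altW, wordPerm_cons C i i.isLt, wordPerm_cons C j j.isLt, ih, pow_succ', mul_assoc]

/-- The check of the relations `(s_i s_j)^{m_ij} = 1` on the tables. -/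
def coxRelOK (tabs : List ℕ) (n rank : ℕ) (m : ℕ → ℕ → ℕ) : Bool :=
  (List.range rank).all fun i => (List.range rank).all fun j => (List.range n).all fun r =>
    wordRootF tabs (altW i j (m i j)) r == r

theorem rel_of_coxRelOK (C : ChevData.{u} D) (m : ℕ → ℕ → ℕ)
    (h : coxRelOK C.tabs D.nroots D.rank m = true) (i j : Fin D.rank) :
    (sigma C i * sigma C j) ^ m i j = 1 := by
  rw [← wordPerm_altW]
  ext r
  rw [wordPerm_apply C _ (altW_lt i j D.rank i.isLt j.isLt _), Equiv.Perm.one_apply]
  unfold coxRelOK at h
  simp only [List.all_eq_true, List.mem_range, beq_iff_eq] at h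
  exact h i i.isLt j j.isLt r r.isLt

end Cfsg.Agent.Lib.Helper18
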