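/-
helper18: signed permutation matrices on the Chevalley basis given by a permutation of the fundamental coroots and a
packed table for the root vectors; the relation `P x_s(t) = x_{s'}(η t) P` checked column by column (as for `n_p`).
-/
import Cfsg.Agent.Lib.Helper18.NX

set_option autoImplicit false

namespace Cfsg.Agent.Lib.Helper18

open Cfsg.Lie

namespace FastDatum

variable (T : FastDatum)

/-- The columns of the signed permutation matrix: `h_i ↦ h_{hp i}`, `e_s ↦ ± e_{s'}` read from the packed table. -/
def gCol (hp : List ℕ) (tab : ℕ) (c : Code) : MVec :=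
  match c with
  | Sum.inl i => if i < T.rank then [(Sum.inl (hp.getD i 0), ((1, 0, 0, 0, 0) : Mono4))] else []
  | Sum.inr s => if s < T.nroots then decCol (unpackL 1024 tab s) else []

/-- The check of the relation on one column. -/
def gxCol (hp : List ℕ) (tab s s' : ℕ) (η : ℤ) (j : Code) : Bool :=
  (T.trivAt s j && T.trivCol s' (T.gCol hp tab j)) ||
  (normM (applyTab (T.gCol hp tab) (normQ (T.applyXM s (1, 0, 0, 1, 0) [(j, (1, 0, 0, 0, 0))]))
    ++ negM (T.applyXM s' (η, 0, 0, 1, 0) (T.gCol hp tab j)))).isEmpty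

/-- The complete check for the matrix given by `hp`, `tab`. -/
def gxCheck (hp : List ℕ) (tab : ℕ) : Bool :=
  T.tabValid tab && (List.range T.rank).all (fun i => decide (hp.getD i 0 < T.rank)) &&
    (List.range T.nroots).all fun s0 => forceNat s0 fun s =>
      forceNat (tabRoot tab s) fun s' =>
        decide (s' < T.nroots) && T.allCodesF.all fun j => T.gxCol hp tab s s' (tabSign tab s) j

/-- The check that the matrices given by `(hp, tab)` and `(hp', tab')` are inverse to each other. -/
def ginvCheck (hp : List ℕ) (tab : ℕ) (hp' : List ℕ) (tab' : ℕ) : Bool :=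
  T.allCodesF.all fun j =>
    decide (normM (applyTab (T.gCol hp tab) (T.gCol hp' tab' j)) = [(j, ((1, 0, 0, 0, 0) : Mono4))])

end FastDatum

section Sound

variable {F : Type*} [Field F]

namespace FastDatum

variable (T : FastDatum)

/-- The signed permutation matrix. -/
def gMat (F : Type*) [Field F] (D : ChevalleyDatum) (hp : List ℕ) (tab : ℕ) : Matrix D.Idx D.Idx F :=
  Matrix.of fun i j => evMVec D (fun _ => (1 : F)) (T.gCol hp tab (code D j)) i

theorem evMVec_decCol_indep (D : ChevalleyDatum) (ρ ρ' : ℕ → F) (e : ℕ) :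
    evMVec D ρ (decCol e) = evMVec D ρ' (decCol e) := by
  unfold decCol
  split_ifs
  · rfl
  all_goals
    funext i
    rw [evMVec_single_apply, evMVec_single_apply]
    simp [evM]

theorem evMVec_gCol_indep (D : ChevalleyDatum) (ρ ρ' : ℕ → F) (hp : List ℕ) (tab : ℕ) (c : Code) :
    evMVec D ρ (T.gCol hp tab c) = evMVec D ρ' (T.gCol hp tab c) := by
  rcases c with i | s
  · show evMVec D ρ (if i < T.rank then _ else []) = evMVec D ρ' (if i < T.rank then _ else [])
    split_ifs
    · funext k
      rw [evMVec_single_apply, evMVec_single_apply]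
      simp [evM]
    · rfl
  · show evMVec D ρ (if s < T.nroots then _ else []) = evMVec D ρ' (if s < T.nroots then _ else [])
    split_ifs
    · exact evMVec_decCol_indep D ρ ρ' _
    · rfl

theorem evMVec_gCol (D : ChevalleyDatum) (ρ : ℕ → F) (hp : List ℕ) (tab : ℕ) (k : D.Idx) :
    evMVec D ρ (T.gCol hp tab (code D k)) = (T.gMat F D hp tab).mulVec (Pi.single k 1) := by
  rw [Matrix.mulVec_single_one, T.evMVec_gCol_indep D ρ (fun _ => 1)]
  rfl

theorem gCol_of_not_code (D : ChevalleyDatum) (h : T.agree D = true) (hp : List ℕ) (tab : ℕ) (c : Code)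
    (hc : ∀ k : D.Idx, c ≠ code D k) : T.gCol hp tab c = [] := by
  have h1 := (T.code_cases D h c).not.mp (by simpa using hc)
  rcases c with i | s
  · simp only at h1
    show (if i < T.rank then _ else _) = _
    rw [if_neg h1]
  · simp only at h1
    show (if s < T.nroots then _ else _) = _
    rw [if_neg h1]

/-- Soundness of the column check. -/
theorem gx_col_of_gxCol (D : ChevalleyDatum) (h : T.agree D = true) (hp : List ℕ) (tab : ℕ)
    (s s' : ℕ) (η : ℤ) (j : D.Idx)
    (hchk : T.gxCol hp tab s s' η (code D j) = true) (t : F) :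
    (T.gMat F D hp tab * D.x F s t).mulVec (Pi.single j 1)
      = (D.x F s' ((η : F) * t) * T.gMat F D hp tab).mulVec (Pi.single j 1) := by
  have hρ := rhoT_mul t
  rw [← Matrix.mulVec_mulVec, ← Matrix.mulVec_mulVec]
  have hcolj := T.evMVec_gCol D (rhoT t) hp tab j
  unfold gxCol at hchk
  rw [Bool.or_eq_true] at hchk
  rcases hchk with hchk | hchk
  · -- trivial column
    rw [Bool.and_eq_true] at hchk
    obtain ⟨ht1, ht2⟩ := hchk
    rw [T.x_mulVec_single_of_trivAt D h s j ht1 t, ← hcolj]
    unfold trivCol at ht2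
    split at ht2
    · rename_i e heq
      rw [heq]
      by_cases hc : ∃ k : D.Idx, e.1 = code D k
      · obtain ⟨k, hk⟩ := hc
        have he : e = (code D k, e.2) := by rw [← hk]
        rw [he, evMVec_single_of_code, Matrix.mulVec_smul]
        rw [hk] at ht2
        rw [T.x_mulVec_single_of_trivAt D h s' k ht2]
      · simp only [not_exists] at hc
        have he : e = (e.1, e.2) := rfl
        rw [he, evMVec_single_of_not_code D _ e.1 e.2 hc]
        simp
    · exact absurd ht2 (by simp)
  · rw [List.isEmpty_iff] at hchk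
    have h1 : evMVec D (rhoT t) (applyTab (T.gCol hp tab)
          (normQ (T.applyXM s (1, 0, 0, 1, 0) [(code D j, (1, 0, 0, 0, 0))]))
        ++ negM (T.applyXM s' (η, 0, 0, 1, 0) (T.gCol hp tab (code D j)))) = 0 := by
      rw [← evMVec_normM D _ hρ, hchk]
      rfl
    rw [evMVec_append, evMVec_negM,
      evMVec_applyTab D (rhoT t) (T.gMat F D hp tab) _ (fun k => T.evMVec_gCol D (rhoT t) hp tab k)
        (fun c hc => T.gCol_of_not_code D h hp tab c hc),
      evMVec_normQ D _ hρ, T.evMVec_applyXM D h, T.evMVec_applyXM D h, FastDatum.evMVec_unit,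
      hcolj, evM_rhoT_X2, evM_rhoT_X2] at h1
    simp only [Int.cast_one, one_mul] at h1
    exact add_neg_eq_zero.mp h1

/-- Soundness of the complete check. -/
theorem gx_of_gxCheck (D : ChevalleyDatum) (h : T.agree D = true) (hp : List ℕ) (tab : ℕ)
    (hchk : T.gxCheck hp tab = true) (s : ℕ) (hs : s < D.nroots) :
    tabRoot tab s < D.nroots ∧ ∀ t : F,
      T.gMat F D hp tab * D.x F s t
        = D.x F (tabRoot tab s) (((tabSign tab s : ℤ) : F) * t) * T.gMat F D hp tab := by
  have hn := T.nroots_eq D h
  unfold gxCheck at hchk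
  simp only [Bool.and_eq_true] at hchk
  obtain ⟨⟨hv, -⟩, hall⟩ := hchk
  rw [List.all_eq_true] at hall
  have h1 := hall s (List.mem_range.mpr (by omega))
  rw [forceNat_eq, forceNat_eq, Bool.and_eq_true, decide_eq_true_eq] at h1
  obtain ⟨hs', h2⟩ := h1
  refine ⟨by omega, ?_⟩
  intro t
  rw [List.all_eq_true] at h2
  have hcols : ∀ j : D.Idx, (T.gMat F D hp tab * D.x F s t).mulVec (Pi.single j 1)
      = (D.x F (tabRoot tab s) (((tabSign tab s : ℤ) : F) * t) * T.gMat F D hp tab).mulVec (Pi.single j 1) := by
    intro j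
    apply T.gx_col_of_gxCol D h hp tab
    apply h2
    rw [T.allCodesF_eq D h]
    exact mem_allCodes D j
  ext i j
  have := congrFun (hcols j) i
  rw [Matrix.mulVec_single_one, Matrix.mulVec_single_one] at this
  exact this

/-- Soundness of the check of the inverse. -/
theorem gMat_mul_of_ginvCheck (D : ChevalleyDatum) (h : T.agree D = true) (hp : List ℕ) (tab : ℕ)
    (hp' : List ℕ) (tab' : ℕ) (hchk : T.ginvCheck hp tab hp' tab' = true) :
    T.gMat F D hp tab * T.gMat F D hp' tab' = 1 := by
  have hρ : (fun _ : ℕ => (1 : F)) 0 * (fun _ : ℕ => (1 : F)) 1 = 1 := by simp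
  unfold ginvCheck at hchk
  rw [List.all_eq_true] at hchk
  have hcols : ∀ j : D.Idx, (T.gMat F D hp tab * T.gMat F D hp' tab').mulVec (Pi.single j 1)
      = (1 : Matrix D.Idx D.Idx F).mulVec (Pi.single j 1) := by
    intro j
    have h1 := hchk (code D j) (by rw [T.allCodesF_eq D h]; exact mem_allCodes D j)
    rw [decide_eq_true_eq] at h1
    rw [← Matrix.mulVec_mulVec, ← T.evMVec_gCol D (fun _ => 1) hp' tab' j,
      ← evMVec_applyTab D (fun _ => (1 : F)) (T.gMat F D hp tab) _
        (fun k => T.evMVec_gCol D (fun _ => 1) hp tab k) (fun c hc => T.gCol_of_not_code D h hp tab c hc),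
      ← evMVec_normM D _ hρ, h1, FastDatum.evMVec_unit, Matrix.one_mulVec]
  ext i j
  have := congrFun (hcols j) i
  rw [Matrix.mulVec_single_one, Matrix.mulVec_single_one] at this
  exact this

end FastDatum

end Sound

end Cfsg.Agent.Lib.Helper18
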