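/-
helper18: the Chevalley group is perfect when every root element is a product of commutators; a certificate (for each
root r a pair of roots a, b with r = a + b whose commutator formula starts with x_r(± t u) or x_r(± 2 t u), the other
terms having been treated before) gives this through the commutator formula.
-/
import Cfsg.Agent.Lib.Helper18.BN4

set_option autoImplicit false

namespace Cfsg.Agent.Lib.Helper18

open Cfsg.Lie

universe u

open scoped commutatorElement

variable {F : Type u} [Field F] {D : ChevalleyDatum}

/-- The image in the general linear group of the commutator subgroup of the Chevalley group. -/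
def commImage (D : ChevalleyDatum) (F : Type u) [Field F] : Subgroup (GL D.Idx F) :=
  (commutator ↥(D.group F)).map (D.group F).subtype

theorem commutator_mem_commImage (g₁ g₂ : GL D.Idx F) (h₁ : g₁ ∈ D.group F) (h₂ : g₂ ∈ D.group F) :
    g₁ * g₂ * g₁⁻¹ * g₂⁻¹ ∈ commImage D F := by
  refine ⟨⁅(⟨g₁, h₁⟩ : ↥(D.group F)), ⟨g₂, h₂⟩⁆, ?_, rfl⟩
  rw [SetLike.mem_coe, commutator_def]
  exact Subgroup.commutator_mem_commutator (Subgroup.mem_top _) (Subgroup.mem_top _)

theorem xG_mem_group (hD : D ∈ [chevG2, chevB2, chevD4, chevF4, chevE6, chevE7, chevE8]) (r : ℕ) (t : F) :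
    xG hD r t ∈ D.group F := by
  obtain ⟨g, hg, hgm⟩ := Cfsg.Agent.S1043.exists_unit_x (F := F) D hD r t
  have : g = xG hD r t := Units.ext hgm
  rw [← this]
  exact hg

/-- If every root element is a product of commutators, the group is perfect. -/
theorem commutator_eq_top_of_forall (hD : D ∈ [chevG2, chevB2, chevD4, chevF4, chevE6, chevE7, chevE8])
    (h : ∀ r < D.nroots, ∀ t : F, xG hD r t ∈ commImage D F) : commutator ↥(D.group F) = ⊤ := by
  rw [eq_top_iff]
  intro g _
  have h1 : D.group F ≤ commImage D F := by
    unfold ChevalleyDatum.group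
    rw [Subgroup.closure_le]
    rintro x ⟨r, t, hx⟩
    have : x = xG hD r.1 t := by
      apply Units.ext
      rw [hx, coe_xG]
      unfold ChevalleyDatum.x
      rw [dif_pos r.2]
    rw [this]
    exact h r.1 r.2 t
  obtain ⟨g', hg', hgg⟩ := h1 g.2
  have : g' = g := Subtype.ext hgg
  rw [← this]
  exact hg'

/-- A word all of whose root elements are products of commutators is a product of commutators. -/
theorem exists_mem_commImage_wordMat (hD : D ∈ [chevG2, chevB2, chevD4, chevF4, chevE6, chevE7, chevE8])
    (L : List (ℕ × F)) (hL : ∀ a ∈ L, ∀ t : F, xG hD a.1 t ∈ commImage D F) :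
    ∃ g ∈ commImage D F, (g : Matrix D.Idx D.Idx F) = D.wordMat F L := by
  induction L with
  | nil => exact ⟨1, one_mem _, by simp [ChevalleyDatum.wordMat]⟩
  | cons a L ih =>
    obtain ⟨g, hg, hgm⟩ := ih fun b hb => hL b (List.mem_cons_of_mem _ hb)
    refine ⟨xG hD a.1 a.2 * g, mul_mem (hL a List.mem_cons_self a.2) hg, ?_⟩
    rw [Units.val_mul, hgm, coe_xG, wordMat_cons']

/-- The entry of the certificate for the root `r`: `a + 256 b + 65536 depth`. -/
def perfEntry (cert r : ℕ) : ℕ := (cert >>> (24 * r)) % 16777216

namespace FastDatum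

variable (T : FastDatum)

/-- The check of the certificate. -/
def perfOK (cert : ℕ) (twoOK : Bool) : Bool :=
  (List.range T.nroots).all fun r0 => forceNat r0 fun r => forceNat (perfEntry cert r) fun e =>
    decide (e % 256 < T.nroots) && decide (e / 256 % 256 < T.nroots) && decide (e / 256 % 256 ≠ e % 256) &&
    decide (e / 256 % 256 ≠ T.neg (e % 256)) &&
    match T.commTermsFast (e % 256) (e / 256 % 256) with
    | [] => false
    | c :: rest => decide (c.1 = r) && decide (c.2.2.1 = 1) && decide (c.2.2.2 = 1) &&
        (decide (c.2.1 = 1) || decide (c.2.1 = -1) || (twoOK && (decide (c.2.1 = 2) || decide (c.2.1 = -2)))) &&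
        rest.all fun k => decide (k.1 < T.nroots) && decide (perfEntry cert k.1 / 65536 < e / 65536)

end FastDatum

/-- Soundness of the certificate. -/
theorem xG_mem_commImage_of_perfOK (hD : D ∈ [chevG2, chevB2, chevD4, chevF4, chevE6, chevE7, chevE8])
    (C : ChevData.{u} D) (cert : ℕ) (twoOK : Bool) (hchk : C.T.perfOK cert twoOK = true)
    (h2 : twoOK = true → (2 : F) ≠ 0) : ∀ r < D.nroots, ∀ t : F, xG hD r t ∈ commImage D F := by
  have hn := C.nroots_eq
  unfold FastDatum.perfOK at hchk
  rw [List.all_eq_true] at hchk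
  have main : ∀ d r, perfEntry cert r / 65536 = d → r < D.nroots → ∀ t : F, xG hD r t ∈ commImage D F := by
    intro d
    induction d using Nat.strong_induction_on with
    | _ d ih =>
      intro r hd hr t'
      have h0 := hchk r (List.mem_range.mpr (hn ▸ hr))
      rw [forceNat_eq, forceNat_eq] at h0
      set e := perfEntry cert r with he
      set a := e % 256 with ha_def
      set b := e / 256 % 256 with hb_def
      rw [Bool.and_eq_true, Bool.and_eq_true, Bool.and_eq_true, Bool.and_eq_true] at h0
      obtain ⟨⟨⟨⟨ha, hb⟩, hba⟩, hbn⟩, hmatch⟩ := h0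
      rw [decide_eq_true_eq] at ha hb hba hbn
      rw [hn] at ha hb
      have hcomm := C.comm F a b ha hb hba hbn
      have hterms : C.T.commTermsFast a b = D.commTerms a b := by
        rw [C.T.commTermsFast_eq]; exact C.T.commTermsF_eq D C.hag C.hin a b ha hb
      cases hL : C.T.commTermsFast a b with
      | nil => rw [hL] at hmatch; exact absurd hmatch (by simp)
      | cons c rest =>
        rw [hL] at hmatch
        simp only [Bool.and_eq_true, Bool.or_eq_true, decide_eq_true_eq, List.all_eq_true] at hmatch
        obtain ⟨⟨⟨⟨hc1, hci⟩, hcj⟩, hcC⟩, hrest⟩ := hmatch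
        -- the coefficient is a unit
        have hCne : ((c.2.1 : ℤ) : F) ≠ 0 := by
          rcases hcC with (h | h) | ⟨htwo, h | h⟩
          · rw [h]; simp
          · rw [h]; simp
          · rw [h]; push_cast; exact h2 htwo
          · rw [h]; push_cast; exact neg_ne_zero.mpr (h2 htwo)
        -- the rest of the word is a product of commutators
        have hrestmem : ∀ x ∈ rest.map (fun k : ℕ × ℤ × ℕ × ℕ =>
            (k.1, (k.2.1 : F) * (-(-(t' / (c.2.1 : F)))) ^ k.2.2.1 * (1 : F) ^ k.2.2.2)),
            ∀ t : F, xG hD x.1 t ∈ commImage D F := by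
          intro x hx t
          rw [List.mem_map] at hx
          obtain ⟨k, hk, rfl⟩ := hx
          have := hrest k hk
          exact ih _ (hd ▸ this.2) k.1 rfl (hn ▸ this.1) t
        obtain ⟨R, hR, hRm⟩ := exists_mem_commImage_wordMat hD _ hrestmem
        -- the commutator formula
        have hf := hcomm (-(t' / (c.2.1 : F))) 1
        unfold ChevalleyDatum.commWord at hf
        rw [← hterms, hL, List.map_cons, wordMat_cons', ← hRm] at hf
        simp only [hc1, hci, hcj, pow_one, mul_one, neg_neg] at hf
        rw [mul_div_cancel₀ _ hCne] at hf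
        have hf' : xG hD b 1 * xG hD a (-(t' / (c.2.1 : F)))
            = xG hD a (-(t' / (c.2.1 : F))) * xG hD b 1 * (xG hD r t' * R) := by
          apply Units.ext
          simp only [Units.val_mul, coe_xG]
          exact hf
        have e0 : xG hD r t' = (xG hD a (-(t' / (c.2.1 : F))) * xG hD b 1)⁻¹
            * (xG hD b 1 * xG hD a (-(t' / (c.2.1 : F)))) * R⁻¹ := by
          rw [hf']
          group
        have e2 : (xG hD a (-(t' / (c.2.1 : F))) * xG hD b 1)⁻¹ * (xG hD b 1 * xG hD a (-(t' / (c.2.1 : F))))
            = (xG hD b 1)⁻¹ * (xG hD a (-(t' / (c.2.1 : F))))⁻¹ * (xG hD b 1)⁻¹⁻¹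
              * (xG hD a (-(t' / (c.2.1 : F))))⁻¹⁻¹ := by group
        rw [e0, e2]
        exact mul_mem (commutator_mem_commImage _ _ (inv_mem (xG_mem_group hD b 1))
          (inv_mem (xG_mem_group hD a _))) (inv_mem hR)
  intro r hr t
  exact main _ r rfl hr t

end Cfsg.Agent.Lib.Helper18
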