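/-
helper18: the automorphism of the Chevalley group induced by a signed permutation matrix of the Chevalley basis passing
the checks of `GX` (graph automorphisms for the types with one root length).
-/
import Cfsg.Agent.Lib.Helper18.GX
import Cfsg.Agent.Lib.Helper18.Perfect

set_option autoImplicit false

namespace Cfsg.Agent.Lib.Helper18

open Cfsg.Lie

universe u

/-- The data of a signed permutation matrix and of its inverse. -/
structure GraphData where
  hp : List ℕ
  tab : ℕ
  hp' : List ℕ
  tab' : ℕ

/-- The checks: the relations `P x_s(t) = x_{s'}(± t) P` for the matrix and its inverse, and the two are inverse. -/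
def GraphData.ok (g : GraphData) (T : FastDatum) : Bool :=
  T.gxCheck g.hp g.tab && T.gxCheck g.hp' g.tab' && T.ginvCheck g.hp g.tab g.hp' g.tab'

variable {F : Type u} [Field F] {D : ChevalleyDatum}

section

variable (hD : D ∈ [chevG2, chevB2, chevD4, chevF4, chevE6, chevE7, chevE8]) (C : ChevData.{u} D)
  (g : GraphData) (hok : g.ok C.T = true)

/-- The matrix as an element of the general linear group. -/
noncomputable def gP : GL D.Idx F :=
  ⟨C.T.gMat F D g.hp g.tab, C.T.gMat F D g.hp' g.tab',
    C.T.gMat_mul_of_ginvCheck D C.hag g.hp g.tab g.hp' g.tab' (by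
      unfold GraphData.ok at hok
      simp only [Bool.and_eq_true] at hok
      exact hok.2),
    mul_eq_one_comm.mp (C.T.gMat_mul_of_ginvCheck D C.hag g.hp g.tab g.hp' g.tab' (by
      unfold GraphData.ok at hok
      simp only [Bool.and_eq_true] at hok
      exact hok.2))⟩

include hD in
theorem gP_conj_xG (s : ℕ) (hs : s < D.nroots) (t : F) :
    gP C g hok * xG hD s t * (gP C g hok)⁻¹ = xG hD (tabRoot g.tab s) (((tabSign g.tab s : ℤ) : F) * t) := by
  have h1 : C.T.gxCheck g.hp g.tab = true := by
    unfold GraphData.ok at hok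
    simp only [Bool.and_eq_true] at hok
    exact hok.1.1
  have h2 := (C.T.gx_of_gxCheck (F := F) D C.hag g.hp g.tab h1 s hs).2 t
  rw [mul_inv_eq_iff_eq_mul]
  apply Units.ext
  simp only [Units.val_mul, coe_xG]
  exact h2

include hD in
theorem gP_inv_conj_xG (s : ℕ) (hs : s < D.nroots) (t : F) :
    (gP C g hok)⁻¹ * xG hD s t * gP C g hok
      = xG hD (tabRoot g.tab' s) (((tabSign g.tab' s : ℤ) : F) * t) := by
  have h1 : C.T.gxCheck g.hp' g.tab' = true := by
    unfold GraphData.ok at hok
    simp only [Bool.and_eq_true] at hok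
    exact hok.1.2
  have h2 := (C.T.gx_of_gxCheck (F := F) D C.hag g.hp' g.tab' h1 s hs).2 t
  rw [← eq_mul_inv_iff_mul_eq]
  apply Units.ext
  simp only [Units.val_mul, coe_xG, inv_inv]
  exact h2

include C hok in
theorem tabRoot_lt (s : ℕ) (hs : s < D.nroots) : tabRoot g.tab s < D.nroots := by
  have h1 : C.T.gxCheck g.hp g.tab = true := by
    unfold GraphData.ok at hok
    simp only [Bool.and_eq_true] at hok
    exact hok.1.1
  exact (C.T.gx_of_gxCheck (F := ℚ) D C.hag g.hp g.tab h1 s hs).1

include hD in
theorem gP_conj_mem (x : GL D.Idx F) (hx : x ∈ D.group F) :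
    gP C g hok * x * (gP C g hok)⁻¹ ∈ D.group F := by
  unfold ChevalleyDatum.group at hx
  induction hx using Subgroup.closure_induction with
  | mem y hy =>
    obtain ⟨r, t, hy⟩ := hy
    have : y = xG hD r.1 t := by
      apply Units.ext
      rw [hy, coe_xG]
      unfold ChevalleyDatum.x
      rw [dif_pos r.2]
    rw [this, gP_conj_xG hD C g hok r.1 r.2]
    exact xG_mem_group hD _ _
  | one => simp
  | mul y z _ _ hy hz =>
    have : gP C g hok * (y * z) * (gP C g hok)⁻¹
        = (gP C g hok * y * (gP C g hok)⁻¹) * (gP C g hok * z * (gP C g hok)⁻¹) := by group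
    rw [this]
    exact mul_mem hy hz
  | inv y _ hy =>
    have : gP C g hok * y⁻¹ * (gP C g hok)⁻¹ = (gP C g hok * y * (gP C g hok)⁻¹)⁻¹ := by group
    rw [this]
    exact inv_mem hy

include hD in
theorem gP_inv_conj_mem (x : GL D.Idx F) (hx : x ∈ D.group F) :
    (gP C g hok)⁻¹ * x * gP C g hok ∈ D.group F := by
  unfold ChevalleyDatum.group at hx
  induction hx using Subgroup.closure_induction with
  | mem y hy =>
    obtain ⟨r, t, hy⟩ := hy
    have : y = xG hD r.1 t := by
      apply Units.ext
      rw [hy, coe_xG]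
      unfold ChevalleyDatum.x
      rw [dif_pos r.2]
    rw [this, gP_inv_conj_xG hD C g hok r.1 r.2]
    exact xG_mem_group hD _ _
  | one => simp
  | mul y z _ _ hy hz =>
    have : (gP C g hok)⁻¹ * (y * z) * gP C g hok
        = ((gP C g hok)⁻¹ * y * gP C g hok) * ((gP C g hok)⁻¹ * z * gP C g hok) := by group
    rw [this]
    exact mul_mem hy hz
  | inv y _ hy =>
    have : (gP C g hok)⁻¹ * y⁻¹ * gP C g hok = ((gP C g hok)⁻¹ * y * gP C g hok)⁻¹ := by group
    rw [this]
    exact inv_mem hy

include hD in
/-- The automorphism of the Chevalley group. -/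
noncomputable def graphAut : ↥(D.group F) ≃* ↥(D.group F) where
  toFun x := ⟨gP C g hok * x.1 * (gP C g hok)⁻¹, gP_conj_mem hD C g hok x.1 x.2⟩
  invFun x := ⟨(gP C g hok)⁻¹ * x.1 * gP C g hok, gP_inv_conj_mem hD C g hok x.1 x.2⟩
  left_inv x := by
    apply Subtype.ext
    simp only
    group
  right_inv x := by
    apply Subtype.ext
    simp only
    group
  map_mul' x y := by
    apply Subtype.ext
    simp only [Subgroup.coe_mul]
    group

theorem graphAut_apply (x : ↥(D.group F)) :
    ((graphAut hD C g hok x : ↥(D.group F)) : GL D.Idx F) = gP C g hok * x.1 * (gP C g hok)⁻¹ := rfl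

/-- The image of a root element. -/
theorem graphAut_root (x : ↥(D.group F)) (s : ℕ) (hs : s < D.nroots) (t : F)
    (hx : ((x : GL D.Idx F) : Matrix D.Idx D.Idx F) = D.x F s t) :
    (((graphAut hD C g hok x : ↥(D.group F)) : GL D.Idx F) : Matrix D.Idx D.Idx F)
      = D.x F (tabRoot g.tab s) (((tabSign g.tab s : ℤ) : F) * t) := by
  rw [graphAut_apply, eq_xG hD x.1 s t hx, gP_conj_xG hD C g hok s hs, coe_xG]

end

end Cfsg.Agent.Lib.Helper18
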