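/-
helper18: the signed permutation matrices of the graph automorphisms of D4 (the five non-trivial symmetries) and E6.
Generated from tools/graphaut.json.
-/
import Cfsg.Agent.Lib.Helper18.GAut
import Cfsg.Agent.Lib.Helper18.ChevDataAll

set_option autoImplicit false

namespace Cfsg.Agent.Lib.Helper18

open Cfsg.Lie

/-- The graph automorphism of type E6 with the permutation `[5, 1, 4, 3, 2, 0]` of the nodes. -/
def graphData_E6_514320 : GraphData where
  hp := [5, 1, 4, 3, 2, 0]
  tab := 0x2408e230861c48a2106f2006b1947a1745413c4a224831b07f1a0621f4661805e1e45a14c4c1d85914075158720803c07c420ec1c118410e01b0d0320b0170c02a054260440b120450f8370602f0a4120940e020230300601002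
  hp' := [5, 1, 4, 3, 2, 0]
  tab' := 0x2408e230861c48a2106f2006b1947a1745413c4a224831b07f1a0621f4661805e1e45a14c4c1d85914075158720803c07c420ec1c118410e01b0d0320b0170c02a054260440b120450f8370602f0a4120940e020230300601002

set_option maxRecDepth 1000000 in
theorem graphData_E6_514320_ok : graphData_E6_514320.ok fastE6 = true := by decide +kernel

/-- The graph automorphism of type D4 with the permutation `[2, 1, 3, 0]` of the nodes. -/
def graphData_D4_2130 : GraphData where
  hp := [2, 1, 3, 0]
  tab := 0xc02e0942c08c1c0ac200a41e06826030180500b04809058110180f01002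
  hp' := [3, 1, 0, 2]
  tab' := 0xc02e0a8250841a0b4290881e0981c0580c0501002c070601303c0801002

set_option maxRecDepth 1000000 in
theorem graphData_D4_2130_ok : graphData_D4_2130.ok fastD4 = true := by decide +kernel

/-- The graph automorphism of type D4 with the permutation `[3, 1, 0, 2]` of the nodes. -/
def graphData_D4_3102 : GraphData where
  hp := [3, 1, 0, 2]
  tab := 0xc02e0a8250841a0b4290881e0981c0580c0501002c070601303c0801002
  hp' := [2, 1, 3, 0]
  tab' := 0xc02e0942c08c1c0ac200a41e06826030180500b04809058110180f01002

set_option maxRecDepth 1000000 in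
theorem graphData_D4_3102_ok : graphData_D4_3102.ok fastD4 = true := by decide +kernel

/-- The graph automorphism of type D4 with the permutation `[2, 1, 0, 3]` of the nodes. -/
def graphData_D4_2103 : GraphData where
  hp := [2, 1, 0, 3]
  tab := 0xc02e0b02508c1c0ac290801e0981a0600c0501202c090581103c0601002
  hp' := [2, 1, 0, 3]
  tab' := 0xc02e0b02508c1c0ac290801e0981a0600c0501202c090581103c0601002

set_option maxRecDepth 1000000 in
theorem graphData_D4_2103_ok : graphData_D4_2103.ok fastD4 = true := by decide +kernel

/-- The graph automorphism of type D4 with the permutation `[3, 1, 2, 0]` of the nodes. -/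
def graphData_D4_3120 : GraphData where
  hp := [3, 1, 2, 0]
  tab := 0xc02e0942a0841a0b4220a41e07026030160500b04007060130200f01002
  hp' := [3, 1, 2, 0]
  tab' := 0xc02e0942a0841a0b4220a41e07026030160500b04007060130200f01002

set_option maxRecDepth 1000000 in
theorem graphData_D4_3120_ok : graphData_D4_3120.ok fastD4 = true := by decide +kernel

/-- The graph automorphism of type D4 with the permutation `[0, 1, 3, 2]` of the nodes. -/
def graphData_D4_0132 : GraphData where
  hp := [0, 1, 3, 2]
  tab := 0xc02e0a82c0a026090200881e0681c05818050100480e0300a0180801002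
  hp' := [0, 1, 3, 2]
  tab' := 0xc02e0a82c0a026090200881e0681c05818050100480e0300a0180801002

set_option maxRecDepth 1000000 in
theorem graphData_D4_0132_ok : graphData_D4_0132.ok fastD4 = true := by decide +kernel

end Cfsg.Agent.Lib.Helper18
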