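/-
helper18: the twisting automorphism `σ = (graph automorphism) ∘ (field automorphism)` of the general linear group, its
action on root elements, and the table checks on the graph datum used for the twisted groups.
-/
import Cfsg.Agent.Lib.Helper18.GAutData
import Cfsg.Agent.Lib.Helper18.Order4
import Cfsg.Agent.S1080

set_option autoImplicit false

namespace Cfsg.Agent.Lib.Helper18

open Cfsg.Lie

universe u

variable {K : Type u} [Field K] {D : ChevalleyDatum}

/-- The permutation of the roots of a graph datum. -/
def GraphData.rho (g : GraphData) (s : ℕ) : ℕ := tabRoot g.tab s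

/-- The signs of a graph datum. -/
def GraphData.gam (g : GraphData) (s : ℕ) : ℤ := tabSign g.tab s

theorem GraphData.gam_cases (g : GraphData) (s : ℕ) : g.gam s = 1 ∨ g.gam s = -1 := tabSign_cases _ _

/-- The table checks on a graph datum of order `m`: the permutation of the roots preserves the range, the positive
roots and negation, has order dividing `m`; the signs are invariant under negation, have product one along the
`m` iterates, are one on the fixed roots; a root not fixed commutes with its image. -/
def GraphData.twOK (g : GraphData) (T : FastDatum) (m : ℕ) : Bool :=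
  (List.range T.nroots).all fun s =>
    forceNat (g.rho s) fun s' =>
      decide (s' < T.nroots) && (decide (T.nroots / 2 ≤ s) == decide (T.nroots / 2 ≤ s'))
      && (g.rho (T.neg s) == T.neg s') && (g.gam (T.neg s) == g.gam s)
      && (g.rho^[m] s == s)
      && (((List.range m).map fun i => g.gam (g.rho^[i] s)).prod == 1)
      && (s' != s || g.gam s == 1)
      && (s' == s || (T.commTermsF s s' == [] && s' != T.neg s))

theorem GraphData.twOK_spec (g : GraphData) (T : FastDatum) (m : ℕ) (h : g.twOK T m = true) (s : ℕ)
    (hs : s < T.nroots) :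
    g.rho s < T.nroots ∧ (T.nroots / 2 ≤ s ↔ T.nroots / 2 ≤ g.rho s) ∧ g.rho (T.neg s) = T.neg (g.rho s)
      ∧ g.gam (T.neg s) = g.gam s ∧ g.rho^[m] s = s
      ∧ ((List.range m).map fun i => g.gam (g.rho^[i] s)).prod = 1
      ∧ (g.rho s = s → g.gam s = 1)
      ∧ (g.rho s ≠ s → T.commTermsF s (g.rho s) = [] ∧ g.rho s ≠ T.neg s) := by
  unfold GraphData.twOK at h
  rw [List.all_eq_true] at h
  have h1 := h s (List.mem_range.mpr hs)
  rw [forceNat_eq] at h1
  simp only [Bool.and_eq_true, decide_eq_true_eq, beq_iff_eq, Bool.or_eq_true, bne_iff_ne, ne_eq,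
    decide_eq_decide] at h1
  obtain ⟨⟨⟨⟨⟨⟨⟨a1, a2⟩, a3⟩, a4⟩, a5⟩, a6⟩, a7⟩, a8⟩ := h1
  refine ⟨a1, a2, a3, a4, a5, a6, ?_, ?_⟩
  · intro e
    rcases a7 with a7 | a7
    · exact absurd e a7
    · exact a7
  · intro e
    rcases a8 with a8 | a8
    · exact absurd a8 e
    · exact a8

section

variable (hD : D ∈ [chevG2, chevB2, chevD4, chevF4, chevE6, chevE7, chevE8]) (C : ChevData.{u} D)
  (g : GraphData) (hok : g.ok C.T = true) (φ : K ≃+* K)

/-- The twisting automorphism of the general linear group: apply `φ` to the entries, then conjugate by the signed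
permutation matrix of the graph datum. -/
noncomputable def sig : GL D.Idx K ≃* GL D.Idx K :=
  (Cfsg.Agent.S1080.glMap D φ).trans (MulAut.conj (gP C g hok))

theorem sig_apply (x : GL D.Idx K) :
    sig C g hok φ x = gP C g hok * Cfsg.Agent.S1080.glMap D φ x * (gP C g hok)⁻¹ := rfl

include hD in
theorem glMap_xG (s : ℕ) (t : K) : Cfsg.Agent.S1080.glMap D φ (xG hD s t) = xG hD s (φ t) := by
  apply Units.ext
  rw [Cfsg.Agent.S1080.glMap_coe, coe_xG, coe_xG]
  unfold ChevalleyDatum.x
  split_ifs with h
  · exact Cfsg.Agent.S1080.xMat_map D φ ⟨s, h⟩ t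
  · ext i j
    simp [Matrix.one_apply]

include hD in
/-- The image of a root element under the twisting automorphism. -/
theorem sig_xG (s : ℕ) (hs : s < D.nroots) (t : K) :
    sig C g hok φ (xG hD s t) = xG hD (g.rho s) (((g.gam s : ℤ) : K) * φ t) := by
  rw [sig_apply, glMap_xG hD φ, gP_conj_xG hD C g hok s hs]
  rfl

end

end Cfsg.Agent.Lib.Helper18
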