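/-
helper18: the twisting automorphism preserves `U`, `V`, `H`, `N`, `B`, the Chevalley group and the subgroups `U_n^-`.
-/
import Cfsg.Agent.Lib.Helper18.Tw1
import Cfsg.Agent.Lib.Helper18.Bruhat1
import Cfsg.Agent.Lib.Helper18.HMul

set_option autoImplicit false

namespace Cfsg.Agent.Lib.Helper18

open Cfsg.Lie Cfsg.Agent.Lib.Helper17

universe u

variable {K : Type u} [Field K] {D : ChevalleyDatum}

/-- The image of a word under the twisting automorphism. -/
def GraphData.mapWord (g : GraphData) (φ : K ≃+* K) (w : List (ℕ × K)) : List (ℕ × K) :=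
  w.map fun a => (g.rho a.1, ((g.gam a.1 : ℤ) : K) * φ a.2)

section

variable (hD : D ∈ [chevG2, chevB2, chevD4, chevF4, chevE6, chevE7, chevE8]) (C : ChevData.{u} D)
  (g : GraphData) (hok : g.ok C.T = true) (φ : K ≃+* K) (m : ℕ) (hTw : g.twOK C.T m = true)

include hD in
theorem sig_wordG (w : List (ℕ × K)) (hw : ∀ a ∈ w, a.1 < D.nroots) :
    sig C g hok φ (wordG hD w) = wordG hD (g.mapWord φ w) := by
  induction w with
  | nil => simp [wordG_nil, GraphData.mapWord]
  | cons a w ih =>
    rw [wordG_cons, map_mul, sig_xG hD C g hok φ a.1 (hw a List.mem_cons_self),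
      ih fun b hb => hw b (List.mem_cons_of_mem _ hb)]
    unfold GraphData.mapWord
    rw [List.map_cons, wordG_cons]

include hTw in
theorem rho_lt (s : ℕ) (hs : s < D.nroots) : g.rho s < D.nroots := by
  have := (g.twOK_spec C.T m hTw s (C.nroots_eq ▸ hs)).1
  rwa [C.nroots_eq] at this

include hTw in
theorem rho_neg (s : ℕ) (hs : s < D.nroots) : g.rho (D.neg s) = D.neg (g.rho s) := by
  rw [C.neg_eq s hs, C.neg_eq _ (rho_lt C g m hTw s hs)]
  exact (g.twOK_spec C.T m hTw s (C.nroots_eq ▸ hs)).2.2.1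

include hTw in
theorem gam_neg (s : ℕ) (hs : s < D.nroots) : g.gam (D.neg s) = g.gam s := by
  rw [C.neg_eq s hs]
  exact (g.twOK_spec C.T m hTw s (C.nroots_eq ▸ hs)).2.2.2.1

include hD hTw in
theorem rho_pos (s : ℕ) (hs : D.IsPosRoot s) : D.IsPosRoot (g.rho s) := by
  rw [isPosRoot_iff hD] at hs ⊢
  have h := g.twOK_spec C.T m hTw s (C.nroots_eq ▸ hs.1)
  rw [C.nroots_eq] at h
  exact ⟨h.1, h.2.1.mp hs.2⟩

include hD hTw in
theorem rho_negRoot (s : ℕ) (hs : D.IsNegRoot s) : D.IsNegRoot (g.rho s) := by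
  have hs1 := hs.1
  have hlt : s < D.nroots / 2 := (negOK_spec (negOK_of_mem D hD) s hs).1
  have h := g.twOK_spec C.T m hTw s (C.nroots_eq ▸ hs1)
  rw [C.nroots_eq] at h
  apply isNegRoot_of_lt D (signOK_of_mem D hD) _ h.1
  by_contra hge
  have := h.2.1.mpr (by omega)
  omega

include hD hTw in
/-- `σ(U) ≤ U`. -/
theorem sig_mem_posUnipotent (x : GL D.Idx K) (hx : x ∈ D.posUnipotent K) :
    sig C g hok φ x ∈ D.posUnipotent K := by
  have hle : D.posUnipotent K ≤ (D.posUnipotent K).comap (sig C g hok φ).toMonoidHom := by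
    unfold ChevalleyDatum.posUnipotent
    rw [Subgroup.closure_le]
    rintro y ⟨r, t, hr, hy⟩
    have : y = xG hD r t := Units.ext hy
    show sig C g hok φ y ∈ D.posUnipotent K
    rw [this, sig_xG hD C g hok φ r hr.1]
    exact xG_mem_posUnipotent hD _ _ (rho_pos hD C g m hTw r hr)
  exact hle hx

include hD hTw in
/-- `σ(V) ≤ V`. -/
theorem sig_mem_negUnipotent (x : GL D.Idx K) (hx : x ∈ D.negUnipotent K) :
    sig C g hok φ x ∈ D.negUnipotent K := by
  have hle : D.negUnipotent K ≤ (D.negUnipotent K).comap (sig C g hok φ).toMonoidHom := by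
    unfold ChevalleyDatum.negUnipotent
    rw [Subgroup.closure_le]
    rintro y ⟨r, t, hr, hy⟩
    have : y = xG hD r t := Units.ext hy
    show sig C g hok φ y ∈ D.negUnipotent K
    rw [this, sig_xG hD C g hok φ r hr.1]
    exact Subgroup.subset_closure ⟨_, _, rho_negRoot hD C g m hTw r hr, rfl⟩
  exact hle hx

include hD in
/-- `σ(G) ≤ G`. -/
theorem sig_mem_group (x : GL D.Idx K) (hx : x ∈ D.group K) : sig C g hok φ x ∈ D.group K := by
  have hle : D.group K ≤ (D.group K).comap (sig C g hok φ).toMonoidHom := by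
    unfold ChevalleyDatum.group
    rw [Subgroup.closure_le]
    rintro y ⟨r, t, hy⟩
    have : y = xG hD r.1 t := by
      apply Units.ext
      rw [hy, coe_xG]
      unfold ChevalleyDatum.x
      rw [dif_pos r.2]
    show sig C g hok φ y ∈ D.group K
    rw [this, sig_xG hD C g hok φ r.1 r.2]
    exact xG_mem_group hD _ _
  exact hle hx

include hD hTw in
/-- The image of `h_r(t)`. -/
theorem sig_hMat (r : ℕ) (hr : r < D.nroots) (t : K) (ht : t ≠ 0) (h : GL D.Idx K)
    (hh : (h : Matrix D.Idx D.Idx K) = D.hMat K r t) :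
    ((sig C g hok φ h : GL D.Idx K) : Matrix D.Idx D.Idx K) = D.hMat K (g.rho r) (φ t) := by
  have hnr : D.neg r < D.nroots := neg_lt_nroots D hD r hr
  have e : h = wordG hD (D.hWord r t) := by
    apply Units.ext
    rw [hh, coe_wordG]
    rfl
  rw [e, sig_wordG hD C g hok φ _ (by
    intro a ha
    unfold ChevalleyDatum.hWord ChevalleyDatum.nWord at ha
    simp only [List.cons_append, List.nil_append, List.mem_cons, List.not_mem_nil, or_false] at ha
    rcases ha with rfl | rfl | rfl | rfl | rfl | rfl <;> assumption), coe_wordG]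
  have hφt : φ t ≠ 0 := by simpa using ht
  unfold GraphData.mapWord ChevalleyDatum.hWord ChevalleyDatum.nWord
  simp only [List.cons_append, List.nil_append, List.map_cons, List.map_nil, rho_neg C g m hTw r hr,
    gam_neg C g m hTw r hr, map_neg, map_inv₀, map_one]
  rcases g.gam_cases r with h1 | h1
  · rw [h1]
    simp only [Int.cast_one, one_mul]
    rfl
  · rw [h1]
    rw [← nMat_neg_mul_nMat_one hD (g.rho r) (rho_lt C g m hTw r hr) (φ t) hφt]
    unfold ChevalleyDatum.nMat ChevalleyDatum.nWord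
    rw [← wordMat_append]
    simp only [Int.cast_neg, Int.cast_one, neg_mul, one_mul, neg_neg, List.cons_append, List.nil_append,
      inv_one, inv_neg]

include hD hTw in
/-- `σ(H) ≤ H`. -/
theorem sig_mem_diagonal (x : GL D.Idx K) (hx : x ∈ D.diagonalSubgroup K) :
    sig C g hok φ x ∈ D.diagonalSubgroup K := by
  have hle : D.diagonalSubgroup K ≤ (D.diagonalSubgroup K).comap (sig C g hok φ).toMonoidHom := by
    unfold ChevalleyDatum.diagonalSubgroup
    rw [Subgroup.closure_le]
    rintro y ⟨r, t, hr, ht, hy⟩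
    show sig C g hok φ y ∈ Subgroup.closure {x : GL D.Idx K | ∃ (r : ℕ) (t : K), r < D.nroots ∧ t ≠ 0 ∧
      (x : Matrix D.Idx D.Idx K) = D.hMat K r t}
    exact Subgroup.subset_closure ⟨g.rho r, φ t, rho_lt C g m hTw r hr, by simpa using ht,
      sig_hMat hD C g hok φ m hTw r hr t ht y hy⟩
  exact hle hx

include hD hTw in
/-- `σ(N) ≤ N`. -/
theorem sig_mem_monomial (x : GL D.Idx K) (hx : x ∈ D.monomialSubgroup K) :
    sig C g hok φ x ∈ D.monomialSubgroup K := by
  have hle : D.monomialSubgroup K ≤ (D.monomialSubgroup K).comap (sig C g hok φ).toMonoidHom := by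
    unfold ChevalleyDatum.monomialSubgroup
    apply sup_le
    · intro y hy
      exact Subgroup.mem_sup_left (sig_mem_diagonal hD C g hok φ m hTw y hy)
    · rw [Subgroup.closure_le]
      rintro y ⟨r, hr, hy⟩
      show sig C g hok φ y ∈ D.diagonalSubgroup K ⊔ Subgroup.closure {x : GL D.Idx K | ∃ r : ℕ, r < D.nroots ∧
        (x : Matrix D.Idx D.Idx K) = D.nMat K r 1}
      apply Subgroup.mem_sup_right
      have hnr : D.neg r < D.nroots := neg_lt_nroots D hD r hr
      have e : y = wordG hD (D.nWord r (1 : K)) := by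
        apply Units.ext
        rw [hy, coe_wordG]
        rfl
      have hs := rho_lt C g m hTw r hr
      rw [e, sig_wordG hD C g hok φ _ (by
        intro a ha
        unfold ChevalleyDatum.nWord at ha
        simp only [List.mem_cons, List.not_mem_nil, or_false] at ha
        rcases ha with rfl | rfl | rfl <;> assumption)]
      unfold GraphData.mapWord ChevalleyDatum.nWord
      simp only [List.map_cons, List.map_nil, rho_neg C g m hTw r hr,
        gam_neg C g m hTw r hr, map_neg, map_inv₀, map_one]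
      rcases g.gam_cases r with h1 | h1
      · rw [h1]
        apply Subgroup.subset_closure
        refine ⟨g.rho r, hs, ?_⟩
        rw [coe_wordG]
        simp only [Int.cast_one, one_mul]
        rfl
      · rw [h1]
        have : wordG hD [(g.rho r, (((-1 : ℤ) : K)) * 1), (D.neg (g.rho r), (((-1 : ℤ) : K)) * -(1 : K)⁻¹),
            (g.rho r, (((-1 : ℤ) : K)) * 1)] = (nG hD (g.rho r) hs)⁻¹ := by
          apply Units.ext
          rw [coe_wordG, coe_nG_inv]
          unfold ChevalleyDatum.nMat ChevalleyDatum.nWord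
          simp
        rw [this]
        exact inv_mem (Subgroup.subset_closure ⟨g.rho r, hs, rfl⟩)
  exact hle hx

include hD hTw in
/-- `σ(B) ≤ B`. -/
theorem sig_mem_borel (x : GL D.Idx K) (hx : x ∈ D.borelSubgroup K) :
    sig C g hok φ x ∈ D.borelSubgroup K := by
  have hle : D.borelSubgroup K ≤ (D.borelSubgroup K).comap (sig C g hok φ).toMonoidHom := by
    unfold ChevalleyDatum.borelSubgroup
    apply sup_le
    · intro y hy
      exact Subgroup.mem_sup_left (sig_mem_posUnipotent hD C g hok φ m hTw y hy)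
    · intro y hy
      exact Subgroup.mem_sup_right (sig_mem_diagonal hD C g hok φ m hTw y hy)
  exact hle hx

include hD hTw in
/-- `σ(U_n^-) ≤ U_{σ n}^-`. -/
theorem sig_mem_Uneg (n x : GL D.Idx K) (hx : x ∈ Subgroup.closure (UnegSet D K n)) :
    sig C g hok φ x ∈ Subgroup.closure (UnegSet D K (sig C g hok φ n)) := by
  have hle : Subgroup.closure (UnegSet D K n)
      ≤ (Subgroup.closure (UnegSet D K (sig C g hok φ n))).comap (sig C g hok φ).toMonoidHom := by
    rw [Subgroup.closure_le]
    rintro y ⟨r, t, hr, hle, hy⟩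
    have hy' : y = xG hD r t := Units.ext hy
    show sig C g hok φ y ∈ Subgroup.closure (UnegSet D K (sig C g hok φ n))
    rw [hy', sig_xG hD C g hok φ r hr.1]
    apply Subgroup.subset_closure
    refine ⟨g.rho r, _, rho_pos hD C g m hTw r hr, ?_, rfl⟩
    rintro z ⟨z₀, hz₀, rfl⟩
    obtain ⟨t', rfl⟩ := (mem_rootSubgroup_iff hD _ _).mp hz₀
    have hγ : ((g.gam r : ℤ) : K) * ((g.gam r : ℤ) : K) = 1 := by
      rcases g.gam_cases r with h1 | h1 <;> rw [h1] <;> simp
    have e : xG hD (g.rho r) t' = sig C g hok φ (xG hD r (φ.symm (((g.gam r : ℤ) : K) * t'))) := by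
      rw [sig_xG hD C g hok φ r hr.1, RingEquiv.apply_symm_apply, ← mul_assoc, hγ, one_mul]
    show sig C g hok φ n * xG hD (g.rho r) t' * (sig C g hok φ n)⁻¹ ∈ D.negUnipotent K
    rw [e, ← map_inv, ← map_mul, ← map_mul]
    apply sig_mem_negUnipotent hD C g hok φ m hTw
    apply hle
    exact Subgroup.mem_map_of_mem _ ((mem_rootSubgroup_iff hD r _).mpr ⟨_, rfl⟩)
  exact hle hx

end

end Cfsg.Agent.Lib.Helper18
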