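/-
helper18: the elements of `U` fixed by the twisting automorphism: with the positive roots listed class by class, an
ordered product is fixed iff its coefficients satisfy `t_{ρ r} = γ_r φ(t_r)`.
-/
import Cfsg.Agent.Lib.Helper18.Tw2
import Cfsg.Agent.S1027

set_option autoImplicit false

namespace Cfsg.Agent.Lib.Helper18

open Cfsg.Lie Cfsg.Agent.Lib.Helper17

universe u

variable {K : Type u} [Field K] {D : ChevalleyDatum}

/-- The class of a root: the list of its images under the powers of the permutation. -/
def GraphData.orb (g : GraphData) (m : ℕ) (s : ℕ) : List ℕ :=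
  if g.rho s = s then [s] else (List.range m).map fun i => g.rho^[i] s

/-- The positive roots listed class by class. -/
def GraphData.clsList (g : GraphData) (m : ℕ) (reps : List ℕ) : List ℕ := reps.flatMap (g.orb m)

/-- The check that the classes of the representatives list every positive root exactly once. -/
def GraphData.repsOK (g : GraphData) (T : FastDatum) (m : ℕ) (reps : List ℕ) : Bool :=
  (g.clsList m reps).all (fun r => decide (T.nroots / 2 ≤ r) && decide (r < T.nroots))
    && decide (g.clsList m reps).Nodup
    && (List.range' (T.nroots / 2) (T.nroots / 2)).all fun r => (g.clsList m reps).contains r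

/-- The coefficients of the image of an ordered product. -/
def twT (g : GraphData) (φ : K ≃+* K) (m : ℕ) (t : ℕ → K) : ℕ → K :=
  fun r => ((g.gam (g.rho^[m - 1] r) : ℤ) : K) * φ (t (g.rho^[m - 1] r))

section

variable (hD : D ∈ [chevG2, chevB2, chevD4, chevF4, chevE6, chevE7, chevE8]) (C : ChevData.{u} D)
  (g : GraphData) (hok : g.ok C.T = true) (φ : K ≃+* K) (m : ℕ) (hTw : g.twOK C.T m = true)

include hD hTw in
/-- A root element commutes with the root elements of the image root, when different. -/
theorem xG_comm_rho (s : ℕ) (hs : s < D.nroots) (hne : g.rho s ≠ s) (a b : K) :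
    xG hD (g.rho s) b * xG hD s a = xG hD s a * xG hD (g.rho s) b := by
  have h := g.twOK_spec C.T m hTw s (C.nroots_eq ▸ hs)
  have h8 := h.2.2.2.2.2.2.2 hne
  have hs' := rho_lt C g m hTw s hs
  have hcomm := C.comm K s (g.rho s) hs hs' hne h8.2 a b
  have hterms : D.commTerms s (g.rho s) = [] := by
    rw [← C.T.commTermsF_eq D C.hag C.hin s (g.rho s) hs hs']
    exact h8.1
  apply Units.ext
  rw [Units.val_mul, Units.val_mul, coe_xG, coe_xG, hcomm]
  unfold ChevalleyDatum.commWord
  rw [hterms]
  simp [ChevalleyDatum.wordMat]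

include hTw in
theorem rho_iterate_m (s : ℕ) (hs : s < D.nroots) : g.rho^[m] s = s :=
  (g.twOK_spec C.T m hTw s (C.nroots_eq ▸ hs)).2.2.2.2.1

include hTw in
theorem rho_iterate_lt (s : ℕ) (hs : s < D.nroots) (i : ℕ) : g.rho^[i] s < D.nroots := by
  induction i with
  | zero => exact hs
  | succ i ih =>
    rw [Function.iterate_succ_apply']
    exact rho_lt C g m hTw _ ih

include hD hTw in
/-- The image of the ordered product over a class. -/
theorem sig_prodL_orb (hm : m = 2 ∨ m = 3) (s : ℕ) (hs : s < D.nroots) (t : ℕ → K) :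
    sig C g hok φ (prodL hD (g.orb m s) t) = prodL hD (g.orb m s) (twT g φ m t) := by
  unfold GraphData.orb
  by_cases hfix : g.rho s = s
  · rw [if_pos hfix]
    simp only [prodL_cons, prodL_nil, mul_one]
    rw [sig_xG hD C g hok φ s hs, hfix]
    unfold twT
    rw [Function.iterate_fixed hfix]
  · rw [if_neg hfix]
    have hm' := rho_iterate_m C g m hTw s hs
    rcases hm with rfl | rfl
    · -- m = 2
      have h2 : g.rho (g.rho s) = s := hm'
      simp only [List.range_succ, List.range_zero, List.nil_append, List.cons_append, List.map_cons,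
        List.map_nil, Function.iterate_zero, id_eq, Function.iterate_succ, Function.comp_apply,
        prodL_cons, prodL_nil, mul_one, map_mul]
      rw [sig_xG hD C g hok φ s hs, sig_xG hD C g hok φ _ (rho_lt C g 2 hTw s hs), h2]
      have e1 : twT g φ 2 t s = ((g.gam (g.rho s) : ℤ) : K) * φ (t (g.rho s)) := rfl
      have e2 : twT g φ 2 t (g.rho s) = ((g.gam s : ℤ) : K) * φ (t s) := by
        show ((g.gam (g.rho (g.rho s)) : ℤ) : K) * φ (t (g.rho (g.rho s))) = _
        rw [h2]
      rw [e1, e2]
      exact xG_comm_rho hD C g 2 hTw s hs hfix _ _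
    · -- m = 3
      have h3 : g.rho (g.rho (g.rho s)) = s := hm'
      have hs1 := rho_lt C g 3 hTw s hs
      have hs2 := rho_lt C g 3 hTw _ hs1
      have hfix2 : g.rho (g.rho (g.rho s)) ≠ g.rho (g.rho s) := by
        rw [h3]
        intro e
        apply hfix
        have := congrArg g.rho e
        rw [h3] at this
        exact this
      simp only [List.range_succ, List.range_zero, List.nil_append, List.cons_append, List.map_cons,
        List.map_nil, Function.iterate_zero, id_eq, Function.iterate_succ, Function.comp_apply,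
        prodL_cons, prodL_nil, mul_one, map_mul]
      rw [sig_xG hD C g hok φ s hs, sig_xG hD C g hok φ _ hs1, sig_xG hD C g hok φ _ hs2, h3]
      have e0 : twT g φ 3 t s = ((g.gam (g.rho (g.rho s)) : ℤ) : K) * φ (t (g.rho (g.rho s))) := rfl
      have e1 : twT g φ 3 t (g.rho s) = ((g.gam s : ℤ) : K) * φ (t s) := by
        show ((g.gam (g.rho (g.rho (g.rho s))) : ℤ) : K) * φ (t (g.rho (g.rho (g.rho s)))) = _
        rw [h3]
      have e2 : twT g φ 3 t (g.rho (g.rho s)) = ((g.gam (g.rho s) : ℤ) : K) * φ (t (g.rho s)) := by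
        show ((g.gam (g.rho (g.rho (g.rho (g.rho s)))) : ℤ) : K) * φ (t (g.rho (g.rho (g.rho (g.rho s))))) = _
        rw [h3]
      rw [e0, e1, e2]
      -- `x_s` commutes with `x_{ρ s}` and with `x_{ρ² s}`
      have c1 := xG_comm_rho (K := K) hD C g 3 hTw s hs hfix
      have c2 := xG_comm_rho (K := K) hD C g 3 hTw _ hs2 hfix2
      rw [h3] at c2
      rw [← c2, ← mul_assoc, c1, mul_assoc]

include hD hTw in
/-- The image of an ordered product over a list of classes. -/
theorem sig_prodL_cls (hm : m = 2 ∨ m = 3) (reps : List ℕ) (hreps : ∀ s ∈ reps, s < D.nroots) (t : ℕ → K) :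
    sig C g hok φ (prodL hD (g.clsList m reps) t) = prodL hD (g.clsList m reps) (twT g φ m t) := by
  induction reps with
  | nil => simp [GraphData.clsList, prodL_nil]
  | cons s reps ih =>
    have e : g.clsList m (s :: reps) = g.orb m s ++ g.clsList m reps := by
      unfold GraphData.clsList
      rw [List.flatMap_cons]
    rw [e, prodL_append, prodL_append, map_mul, sig_prodL_orb hD C g hok φ m hTw hm s
      (hreps s List.mem_cons_self), ih fun s' hs' => hreps s' (List.mem_cons_of_mem _ hs')]

end

section Fin

variable [Fintype K] (hD : D ∈ [chevG2, chevB2, chevD4, chevF4, chevE6, chevE7, chevE8])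

include hD in
/-- Over a finite field the coefficients of an ordered product are unique, for any ordering of the positive roots. -/
theorem prodL_injective_of_fintype (l : List ℕ) (hl : ∀ r ∈ l, D.IsPosRoot r) (hnd : l.Nodup)
    (hall : ∀ r, D.IsPosRoot r → r ∈ l) (t t' : ℕ → K) (h : prodL hD l t = prodL hD l t') :
    ∀ r ∈ l, t r = t' r := by
  obtain ⟨C⟩ := nonempty_chevData.{u} D hD
  obtain ⟨L⟩ := nonempty_levelData D hD
  let f : ({r // D.IsPosRoot r} → K) → ↥(D.posUnipotent K) := fun t =>
    ⟨prodL hD l (Cfsg.Agent.S1027.ext D t), prodL_mem_posUnipotent hD l hl _⟩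
  have hsurj : Function.Surjective f := by
    rintro ⟨x, hx⟩
    obtain ⟨t0, ht0⟩ := exists_prodL hD C L l hl hnd hall x hx
    refine ⟨fun r => t0 r.1, ?_⟩
    apply Subtype.ext
    show prodL hD l (Cfsg.Agent.S1027.ext D fun r => t0 r.1) = x
    rw [ht0]
    apply prodL_congr
    intro r hr
    unfold Cfsg.Agent.S1027.ext
    rw [dif_pos (hl r hr)]
  have := Cfsg.Agent.S1027.finite_posRoot D hD
  have hcard : Nat.card ({r // D.IsPosRoot r} → K) ≤ Nat.card ↥(D.posUnipotent K) := by
    rw [Nat.card_fun, Cfsg.Agent.S1027.card_posRoot D hD, Nat.card_eq_fintype_card,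
      Cfsg.Agent.S1027.card_posUnipotent D hD]
  have hbij := hsurj.bijective_of_nat_card_le hcard
  intro r hr
  have hpos := hl r hr
  have e : f (fun r => t r.1) = f (fun r => t' r.1) := by
    apply Subtype.ext
    show prodL hD l (Cfsg.Agent.S1027.ext D fun r => t r.1) = prodL hD l (Cfsg.Agent.S1027.ext D fun r => t' r.1)
    have e1 : ∀ t'' : ℕ → K, prodL hD l (Cfsg.Agent.S1027.ext D fun r => t'' r.1) = prodL hD l t'' := by
      intro t''
      apply prodL_congr
      intro r hr
      unfold Cfsg.Agent.S1027.ext
      rw [dif_pos (hl r hr)]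
    rw [e1, e1, h]
  exact congrFun (hbij.1 e) ⟨r, hpos⟩

end Fin

end Cfsg.Agent.Lib.Helper18
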