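/-
helper18: irreducibility of the (B,N)-pair of a Chevalley group: the Dynkin diagram is connected, and for adjacent
fundamental roots p_i, p_j the commutator of n_{p_i} and n_{p_j} is not in B (the word (i j i j) sends p_i or p_j to a
negative root). Adjacency and connectivity are Boolean checks on the packed tables.
-/
import Cfsg.Agent.Lib.Helper18.BN6

set_option autoImplicit false

namespace Cfsg.Agent.Lib.Helper18

open Cfsg.Lie

universe u

namespace FastDatum

variable (T : FastDatum)

/-- The word `(i j i j)` sends `p_i` or `p_j` to a negative root. -/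
def negIm (tabs simples : List ℕ) (i j : ℕ) : Bool :=
  decide (wordRootF tabs [i, j, i, j] (simples.getD i 0) < T.nroots / 2) ||
    decide (wordRootF tabs [i, j, i, j] (simples.getD j 0) < T.nroots / 2)

/-- Adjacency in the Dynkin diagram, as non-commutation of the reflections. -/
def adjF (tabs simples : List ℕ) (i j : ℕ) : Bool := T.negIm tabs simples i j && T.negIm tabs simples j i

/-- The nodes in the order `ord` exhaust the diagram, and each is adjacent to an earlier one. -/
def dynkinOK (tabs simples ord : List ℕ) : Bool :=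
  ((List.range T.rank).all fun i => ord.contains i) && (ord.all fun i => decide (i < T.rank)) &&
  (List.range ord.length).all fun k =>
    k == 0 || (List.range k).any fun j => T.adjF tabs simples (ord.getD j 0) (ord.getD k 0)

/-- Connectivity: a property of the nodes which holds somewhere and fails somewhere changes along an edge. -/
theorem exists_adj_of_dynkinOK (tabs simples ord : List ℕ) (h : T.dynkinOK tabs simples ord = true)
    (f : ℕ → Prop) (h1 : ∃ i < T.rank, f i) (h2 : ∃ j < T.rank, ¬ f j) :
    ∃ i j, i < T.rank ∧ j < T.rank ∧ T.adjF tabs simples i j = true ∧ f i ∧ ¬ f j := by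
  classical
  unfold dynkinOK at h
  simp only [Bool.and_eq_true, List.all_eq_true, List.mem_range, List.contains_iff_mem, decide_eq_true_eq,
    Bool.or_eq_true, beq_iff_eq, List.any_eq_true] at h
  obtain ⟨⟨hall, hlt⟩, hadj⟩ := h
  by_contra hcon
  push_neg at hcon
  -- adjacency is symmetric
  have hsymm : ∀ i j, T.adjF tabs simples i j = true → T.adjF tabs simples j i = true := by
    intro i j hij
    unfold adjF at hij ⊢
    rw [Bool.and_eq_true] at hij ⊢
    exact ⟨hij.2, hij.1⟩
  have hconst : ∀ k, k < ord.length → (f (ord.getD k 0) ↔ f (ord.getD 0 0)) := by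
    intro k
    induction k using Nat.strong_induction_on with
    | _ k ih =>
      intro hk
      rcases hadj k hk with h0 | ⟨j, hj, hjk⟩
      · rw [h0]
      · have ihj := ih j hj (by omega)
        have hjr : ord.getD j 0 < T.rank := hlt _ (by rw [List.getD_eq_getElem _ _ (by omega)]; exact List.getElem_mem _)
        have hkr : ord.getD k 0 < T.rank := hlt _ (by rw [List.getD_eq_getElem _ _ hk]; exact List.getElem_mem _)
        constructor
        · intro hfk
          by_contra hf0
          have hfj : ¬ f (ord.getD j 0) := fun h => hf0 (ihj.mp h)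
          exact hfj (hcon _ _ hkr hjr (hsymm _ _ hjk) hfk)
        · intro hf0
          have hfj : f (ord.getD j 0) := ihj.mpr hf0
          exact hcon _ _ hjr hkr hjk hfj
  have hconst' : ∀ i < T.rank, (f i ↔ f (ord.getD 0 0)) := by
    intro i hi
    have := hall i hi
    obtain ⟨k, hk, hki⟩ := List.getElem_of_mem this
    have := hconst k hk
    rw [List.getD_eq_getElem _ _ hk, hki] at this
    exact this
  obtain ⟨i, hi, hfi⟩ := h1
  obtain ⟨j, hj, hfj⟩ := h2
  exact hfj ((hconst' j hj).mpr ((hconst' i hi).mp hfi))

end FastDatum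

variable {F : Type u} [Field F] {D : ChevalleyDatum}

/-- A word which sends a positive root to a negative root is not in `B`. -/
theorem nW_not_mem_borel (hD : D ∈ [chevG2, chevB2, chevD4, chevF4, chevE6, chevE7, chevE8]) (C : ChevData.{u} D)
    (ws : List ℕ) (hws : ∀ i ∈ ws, i < D.rank) (r : ℕ) (hr : r < D.nroots) (hpos : D.nroots / 2 ≤ r)
    (hneg : wordRootF C.tabs ws r < D.nroots / 2) : nW (F := F) hD C ws ∉ D.borelSubgroup F := by
  intro hmem
  have hx : xG hD r (1 : F) ∈ D.borelSubgroup F :=
    borel_of_posUnipotent _ (xG_mem_posUnipotent hD _ _ ((isPosRoot_iff hD _).mpr ⟨hr, hpos⟩))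
  have h1 : nW hD C ws * xG hD r (1 : F) * (nW hD C ws)⁻¹ ∈ D.borelSubgroup F :=
    mul_mem (mul_mem hmem hx) (inv_mem hmem)
  rw [nW_conj_xG hD C ws hws r hr] at h1
  refine xG_neg_not_mem_borel hD _ (wordRootF_lt C ws hws r hr) hneg _ ?_ h1
  rcases wordSignF_cases C.tabs ws r with h | h <;> rw [h] <;> simp

/-- For adjacent nodes the commutator of `n_{p_i}` and `n_{p_j}` is not in `B`. -/
theorem sG_comm_not_mem_borel (hD : D ∈ [chevG2, chevB2, chevD4, chevF4, chevE6, chevE7, chevE8])
    (C : ChevData.{u} D) (i j : ℕ) (hi : i < D.rank) (hj : j < D.rank)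
    (hadj : C.T.negIm C.tabs C.simples i j = true) :
    sG (F := F) hD C i * sG hD C j * (sG hD C i)⁻¹ * (sG hD C j)⁻¹ ∉ D.borelSubgroup F := by
  intro hmem
  have hn := C.nroots_eq
  have hH : sG (F := F) hD C j * (sG hD C i * sG hD C i) * (sG hD C j)⁻¹ * (sG hD C j * sG hD C j)
      ∈ D.borelSubgroup F :=
    borel_of_diagonal _ (mul_mem (sG_conj_H hD C j _ (sG_sq_mem hD C i)) (sG_sq_mem hD C j))
  have e : nW (F := F) hD C [i, j, i, j] = sG hD C i * sG hD C j * (sG hD C i)⁻¹ * (sG hD C j)⁻¹
      * (sG hD C j * (sG hD C i * sG hD C i) * (sG hD C j)⁻¹ * (sG hD C j * sG hD C j)) := by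
    simp only [nW_cons, nW_nil]
    group
  have hw : nW (F := F) hD C [i, j, i, j] ∈ D.borelSubgroup F := by
    rw [e]; exact mul_mem hmem hH
  have hws : ∀ k ∈ [i, j, i, j], k < D.rank := by
    intro k hk
    simp only [List.mem_cons, List.not_mem_nil, or_false] at hk
    rcases hk with rfl | rfl | rfl | rfl <;> assumption
  unfold FastDatum.negIm at hadj
  rw [Bool.or_eq_true, decide_eq_true_eq, decide_eq_true_eq, hn, ← C.hsimple i hi, ← C.hsimple j hj] at hadj
  rcases hadj with h | h
  · exact nW_not_mem_borel hD C _ hws _ (C.simple_lt i hi) (C.half_le_simple i hi) h hw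
  · exact nW_not_mem_borel hD C _ hws _ (C.simple_lt j hj) (C.half_le_simple j hj) h hw

end Cfsg.Agent.Lib.Helper18
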