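/-
helper18: simplicity of the Chevalley groups from the (B,N)-pair (S1042), perfectness, solvability of B (S1050),
triviality of the core of B (S1051) and the simplicity criterion for groups with a (B,N)-pair (S0319, helper6).
-/
import Cfsg.Agent.Lib.Helper18.Irred
import Cfsg.Agent.Lib.Helper18.Perfect
import Cfsg.Agent.S1042
import Cfsg.Agent.S1050
import Cfsg.Agent.S1051
import Cfsg.Agent.S0319

set_option autoImplicit false

namespace Cfsg.Agent.Lib.Helper18

open Cfsg.Lie

universe u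

theorem dynkinOK_G2 : fastG2.dynkinOK wTabs_G2 simples_G2 [0, 1] = true := by decide +kernel

theorem dynkinOK_B2 : fastB2.dynkinOK wTabs_B2 simples_B2 [0, 1] = true := by decide +kernel

theorem dynkinOK_D4 : fastD4.dynkinOK wTabs_D4 simples_D4 [0, 1, 2, 3] = true := by decide +kernel

theorem dynkinOK_F4 : fastF4.dynkinOK wTabs_F4 simples_F4 [0, 1, 2, 3] = true := by decide +kernel

theorem dynkinOK_E6 : fastE6.dynkinOK wTabs_E6 simples_E6 [0, 2, 3, 1, 4, 5] = true := by decide +kernel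

theorem dynkinOK_E7 : fastE7.dynkinOK wTabs_E7 simples_E7 [0, 2, 3, 1, 4, 5, 6] = true := by decide +kernel

theorem dynkinOK_E8 : fastE8.dynkinOK wTabs_E8 simples_E8 [0, 2, 3, 1, 4, 5, 6, 7] = true := by decide +kernel

variable {F : Type u} [Field F] {D : ChevalleyDatum}

/-- The Chevalley group is simple and not commutative when it is perfect (and the Dynkin diagram is connected). -/
theorem chev_simple (hD : D ∈ [chevG2, chevB2, chevD4, chevF4, chevE6, chevE7, chevE8]) (C : ChevData.{u} D)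
    (ord : List ℕ) (hdyn : C.T.dynkinOK C.tabs C.simples ord = true)
    (hperf : commutator ↥(D.group F) = ⊤) :
    IsSimpleGroup ↥(D.group F) ∧ ¬ IsMulCommutative ↥(D.group F) := by
  obtain ⟨hBG, hNG, hsup⟩ := Cfsg.Agent.S1043.result (F := F) D hD
  have hl := C.rank_eq
  -- the group is not trivial
  have hrank : 0 < D.rank := by
    simp only [List.mem_cons, List.not_mem_nil, or_false] at hD
    rcases hD with rfl | rfl | rfl | rfl | rfl | rfl | rfl <;> decide
  have hp := C.simple_lt 0 hrank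
  have hx1 : xG hD (D.simple 0) (1 : F) ≠ 1 := by
    intro h
    have h2 : D.x F (D.simple 0) 1 = 1 := by
      have := congrArg (fun g : GL D.Idx F => (g : Matrix D.Idx D.Idx F)) h
      simpa using this
    exact one_ne_zero ((Cfsg.Agent.S1024.result D hD _ hp (1 : F)).mp h2)
  haveI : Nontrivial ↥(D.group F) :=
    ⟨⟨⟨xG hD (D.simple 0) 1, xG_mem_group hD _ _⟩, 1, fun h => hx1 (congrArg Subtype.val h)⟩⟩
  obtain ⟨P, hPB, hPN, hPS⟩ := Cfsg.Agent.S1042.exists_bnPair (F := F) D hD C
  -- irreducibility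
  have hirr : P.Irreducible := by
    intro J hJ hJne hJc
    have hsS : ∀ i < D.rank, (⟨sG hD C i, hNG (sG_mem_monomial hD C i)⟩ : ↥(D.group F)) ∈ P.S := by
      intro i hi
      rw [hPS]
      exact ⟨i, hi, coe_sG hD C i hi⟩
    have hSs : ∀ s ∈ P.S, ∃ i < D.rank, s = ⟨sG hD C i, hNG (sG_mem_monomial hD C i)⟩ := by
      intro s hs
      rw [hPS] at hs
      obtain ⟨i, hi, hsi⟩ := hs
      exact ⟨i, hi, Subtype.ext (Units.ext (by rw [hsi, coe_sG hD C i hi]))⟩
    have h1 : ∃ i < C.T.rank, (⟨sG hD C i, hNG (sG_mem_monomial hD C i)⟩ : ↥(D.group F)) ∈ J := by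
      obtain ⟨s, hs⟩ := hJne
      obtain ⟨i, hi, rfl⟩ := hSs s (hJ hs)
      exact ⟨i, hl ▸ hi, hs⟩
    have h2 : ∃ j < C.T.rank, ¬ (⟨sG hD C j, hNG (sG_mem_monomial hD C j)⟩ : ↥(D.group F)) ∈ J := by
      obtain ⟨s, hs, hsJ⟩ := hJc
      obtain ⟨j, hj, rfl⟩ := hSs s hs
      exact ⟨j, hl ▸ hj, hsJ⟩
    obtain ⟨i, j, hi, hj, hadj, hfi, hfj⟩ := C.T.exists_adj_of_dynkinOK C.tabs C.simples ord hdyn
      (fun i => (⟨sG hD C i, hNG (sG_mem_monomial hD C i)⟩ : ↥(D.group F)) ∈ J) h1 h2
    rw [hl] at hi hj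
    refine ⟨_, hfi, _, ⟨hsS j hj, hfj⟩, ?_⟩
    rw [hPB, Subgroup.mem_subgroupOf]
    unfold FastDatum.adjF at hadj
    rw [Bool.and_eq_true] at hadj
    exact sG_comm_not_mem_borel hD C i j hi hj hadj.1
  -- solvability of B
  have hsolv : Group.IsSolvable ↥P.B := by
    rw [hPB]
    have := Cfsg.Agent.S1050.result (F := F) D hD
    exact Group.isSolvable_of_isSolvable_injective (f := (Subgroup.subgroupOfEquivOfLe hBG).toMonoidHom)
      (Subgroup.subgroupOfEquivOfLe hBG).injective
  -- the core of B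
  have hcore : P.B.normalCore = ⊥ := by
    rw [hPB]
    exact Cfsg.Agent.S1051.result D hD
  have hsimple := Cfsg.Agent.S0319.result P hirr hsolv hperf hcore
  refine ⟨hsimple, ?_⟩
  intro hcomm
  have hcen : Subgroup.center ↥(D.group F) = ⊤ := by
    rw [eq_top_iff]
    intro g _
    rw [Subgroup.mem_center_iff]
    intro z
    exact hcomm.is_comm.comm z g
  have : commutator ↥(D.group F) = ⊥ := by
    rw [commutator_def, Subgroup.commutator_top_right_eq_bot_iff_le_center, hcen]
  rw [hperf] at this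
  exact top_ne_bot this

end Cfsg.Agent.Lib.Helper18
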