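/-
helper18: subgroups containing `N` and some root subgroups: closure under the Weyl group and under commutators with a
single term.
-/
import Cfsg.Agent.Lib.Helper18.BN2

set_option autoImplicit false

namespace Cfsg.Agent.Lib.Helper18

open Cfsg.Lie

universe u

variable {F : Type u} [Field F] {D : ChevalleyDatum}

section

variable (hD : D ∈ [chevG2, chevB2, chevD4, chevF4, chevE6, chevE7, chevE8]) (C : ChevData.{u} D)
  (M : Subgroup (GL D.Idx F)) (hN : D.monomialSubgroup F ≤ M)

include hN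

/-- If `X_r ≤ M` then `X_{w(r)} ≤ M`. -/
theorem xG_word_mem (r : ℕ) (hr : r < D.nroots) (hM : ∀ t : F, xG hD r t ∈ M) (ws : List ℕ)
    (hws : ∀ i ∈ ws, i < D.rank) (t : F) : xG hD (wordRootF C.tabs ws r) t ∈ M := by
  have hs := wordSignF_cases C.tabs ws r
  have e := nW_conj_xG hD C ws hws r hr ((wordSignF C.tabs ws r : F) * t)
  have e2 : (wordSignF C.tabs ws r : F) * ((wordSignF C.tabs ws r : F) * t) = t := by
    rcases hs with h | h <;> rw [h] <;> simp
  rw [e2] at e
  rw [← e]
  exact mul_mem (mul_mem (hN (nW_mem_monomial hD C ws)) (hM _)) (inv_mem (hN (nW_mem_monomial hD C ws)))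

/-- If `X_r ≤ M` and `w(r) = r'` then `X_{r'} ≤ M`. -/
theorem xG_word_mem' (r r' : ℕ) (hr : r < D.nroots) (hM : ∀ t : F, xG hD r t ∈ M) (ws : List ℕ)
    (hws : ∀ i ∈ ws, i < D.rank) (e : wordRootF C.tabs ws r = r') (t : F) : xG hD r' t ∈ M := by
  rw [← e]
  exact xG_word_mem hD C M hN r hr hM ws hws t

include C in
/-- If `M` contains the fundamental root subgroups, it contains the group. -/
theorem group_le_of_simples (h : ∀ k < D.rank, ∀ t : F, xG hD (D.simple k) t ∈ M) : D.group F ≤ M := by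
  unfold ChevalleyDatum.group
  rw [Subgroup.closure_le]
  rintro x ⟨r, t, hx⟩
  have : x = xG hD r.1 t := by
    apply Units.ext
    rw [hx, coe_xG]
    unfold ChevalleyDatum.x
    rw [dif_pos r.2]
  rw [this]
  obtain ⟨ws, j, hws, hj, e⟩ := C.hword r.1 r.2
  rw [← C.hsimple j hj] at e
  exact xG_word_mem' hD C M hN _ _ (C.simple_lt j hj) (h j hj) ws hws e t

omit hN in
/-- A commutator formula with a single term `x_β(c (-t) u)`, `c` invertible, puts `X_β` in `M`. -/
theorem xG_comm_mem (r s β : ℕ) (c : ℤ) (hr : r < D.nroots) (hs : s < D.nroots) (hsr : s ≠ r)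
    (hsn : s ≠ C.T.neg r) (hterms : D.commTerms r s = [(β, c, 1, 1)]) (hc : (c : F) ≠ 0)
    (hMr : ∀ t : F, xG hD r t ∈ M) (hMs : ∀ t : F, xG hD s t ∈ M) (t : F) : xG hD β t ∈ M := by
  have hcomm := C.comm F r s hr hs hsr hsn (-(t / (c : F))) 1
  have hw : D.wordMat F (D.commWord F r s (-(t / (c : F))) 1) = D.x F β t := by
    unfold ChevalleyDatum.commWord ChevalleyDatum.wordMat
    rw [hterms]
    simp only [List.map_cons, List.map_nil, List.prod_cons, List.prod_nil, mul_one, pow_one, neg_neg]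
    congr 1
    field_simp
  rw [hw] at hcomm
  have e : xG hD β t = (xG hD r (-(t / (c : F))) * xG hD s 1)⁻¹ * (xG hD s 1 * xG hD r (-(t / (c : F)))) := by
    rw [eq_inv_mul_iff_mul_eq]
    apply Units.ext
    simp only [Units.val_mul, coe_xG]
    exact hcomm.symm
  rw [e]
  exact mul_mem (inv_mem (mul_mem (hMr _) (hMs _))) (mul_mem (hMs _) (hMr _))

end

end Cfsg.Agent.Lib.Helper18
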