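/-
helper18: the Chevalley group is generated by the root elements of the fundamental roots and of their negatives; an
automorphism acting on them as a graph automorphism `graphAut` is equal to it.  Enumeration of the symmetries of a
Dynkin diagram given by a table of bonds.
-/
import Cfsg.Agent.Lib.Helper18.GAut
import Cfsg.Agent.Lib.Helper18.Gen1
import Cfsg.Agent.Lib.Helper18.NConj
import Cfsg.Prelude.Def_ChevAutomorphisms

set_option autoImplicit false

namespace Cfsg.Agent.Lib.Helper18

open Cfsg.Lie

universe u

variable {F : Type u} [Field F] {D : ChevalleyDatum}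

section Gen

variable (hD : D ∈ [chevG2, chevB2, chevD4, chevF4, chevE6, chevE7, chevE8]) (C : ChevData.{u} D)
  (M : Subgroup (GL D.Idx F))

/-- `n_{p_i}(1) = x_{p_i}(1) x_{-p_i}(-1) x_{p_i}(1)`. -/
theorem sG_eq (i : ℕ) (hi : i < D.rank) :
    sG (F := F) hD C i = xG hD (D.simple i) 1 * xG hD (D.neg (D.simple i)) (-1) * xG hD (D.simple i) 1 := by
  apply Units.ext
  rw [coe_sG hD C i hi]
  simp only [Units.val_mul, coe_xG]
  unfold ChevalleyDatum.nMat ChevalleyDatum.nWord ChevalleyDatum.wordMat
  simp [mul_assoc]

include C in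
/-- A subgroup containing the root elements of the fundamental roots and of their negatives contains the group. -/
theorem group_le_of_pm_simples
    (h : ∀ k < D.rank, ∀ t : F, xG hD (D.simple k) t ∈ M ∧ xG hD (D.neg (D.simple k)) t ∈ M) :
    D.group F ≤ M := by
  have hs : ∀ i < D.rank, sG (F := F) hD C i ∈ M := by
    intro i hi
    rw [sG_eq hD C i hi]
    exact mul_mem (mul_mem (h i hi 1).1 (h i hi (-1)).2) (h i hi 1).1
  have hw : ∀ ws : List ℕ, (∀ i ∈ ws, i < D.rank) → nW (F := F) hD C ws ∈ M := by
    intro ws hws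
    induction ws with
    | nil => rw [nW_nil]; exact one_mem _
    | cons a ws ih =>
      rw [nW_cons]
      exact mul_mem (hs a (hws a List.mem_cons_self)) (ih fun i hi => hws i (List.mem_cons_of_mem _ hi))
  unfold ChevalleyDatum.group
  rw [Subgroup.closure_le]
  rintro x ⟨r, t, hx⟩
  have : x = xG hD r.1 t := by
    apply Units.ext
    rw [hx, coe_xG]
    unfold ChevalleyDatum.x
    rw [dif_pos r.2]
  rw [this]
  obtain ⟨ws, j, hws, hj, e⟩ := C.hword r.1 r.2
  rw [← C.hsimple j hj] at e
  have hsg := wordSignF_cases C.tabs ws (D.simple j)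
  have e1 := nW_conj_xG hD C ws hws (D.simple j) (C.simple_lt j hj)
    ((wordSignF C.tabs ws (D.simple j) : F) * t)
  have e2 : (wordSignF C.tabs ws (D.simple j) : F) * ((wordSignF C.tabs ws (D.simple j) : F) * t) = t := by
    rcases hsg with h' | h' <;> rw [h'] <;> simp
  rw [e2, e] at e1
  rw [← e1]
  exact mul_mem (mul_mem (hw ws hws) (h j hj _).1) (inv_mem (hw ws hws))

end Gen

section Unique

variable (hD : D ∈ [chevG2, chevB2, chevD4, chevF4, chevE6, chevE7, chevE8]) (C : ChevData.{u} D)
  (g : GraphData) (hok : g.ok C.T = true)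

include C in
/-- Two automorphisms agreeing on the root elements of the fundamental roots and of their negatives are equal. -/
theorem aut_ext (φ ψ : ↥(D.group F) ≃* ↥(D.group F))
    (h : ∀ (x : ↥(D.group F)) (i : ℕ) (t : F), i < D.rank →
      (x.1 = xG hD (D.simple i) t ∨ x.1 = xG hD (D.neg (D.simple i)) t) → φ x = ψ x) (x : ↥(D.group F)) :
    φ x = ψ x := by
  let E : Subgroup ↥(D.group F) := (φ.toMonoidHom.eqLocus ψ.toMonoidHom)
  have hle : D.group F ≤ E.map (D.group F).subtype := by
    apply group_le_of_pm_simples hD C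
    intro k hk t
    constructor
    · refine ⟨⟨xG hD (D.simple k) t, xG_mem_group hD _ _⟩, ?_, rfl⟩
      exact h _ k t hk (Or.inl rfl)
    · refine ⟨⟨xG hD (D.neg (D.simple k)) t, xG_mem_group hD _ _⟩, ?_, rfl⟩
      exact h _ k t hk (Or.inr rfl)
  obtain ⟨y, hy, hyx⟩ := hle x.2
  have : y = x := Subtype.ext hyx
  rw [← this]
  exact hy

end Unique

/-! ### Symmetries of a diagram given by a table of bonds -/

/-- All lists of length `k` with entries below `n`. -/
def allLists (n : ℕ) : ℕ → List (List ℕ)
  | 0 => [[]]
  | k + 1 => (List.range n).flatMap fun a => (allLists n k).map (a :: ·)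

theorem mem_allLists (n : ℕ) : ∀ (k : ℕ) (l : List ℕ), l.length = k → (∀ a ∈ l, a < n) → l ∈ allLists n k
  | 0, l, hl, _ => by
    rw [List.length_eq_zero_iff] at hl
    rw [hl]
    simp [allLists]
  | k + 1, l, hl, h => by
    cases l with
    | nil => simp at hl
    | cons a l =>
      simp only [allLists, List.mem_flatMap, List.mem_range, List.mem_map]
      refine ⟨a, h a List.mem_cons_self, l, ?_, rfl⟩
      exact mem_allLists n k l (by simpa using hl) (fun b hb => h b (List.mem_cons_of_mem _ hb))

/-- The list `l` is a symmetry of the table of bonds `bt`. -/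
def symOK (bt : List (List ℤ)) (n : ℕ) (l : List ℕ) : Bool :=
  decide l.Nodup && (List.range n).all fun i => (List.range n).all fun j =>
    (i == j) || ((bt.getD (l.getD i 0) []).getD (l.getD j 0) 0 == (bt.getD i []).getD j 0)

/-- All the symmetries are in the list `syms`. -/
def symsOK (bt : List (List ℤ)) (n : ℕ) (syms : List (List ℕ)) : Bool :=
  (allLists n n).all fun l => !(symOK bt n l) || decide (l ∈ syms)

/-- The table of bonds of the datum. -/
def bondsOK (D : ChevalleyDatum) (bt : List (List ℤ)) : Bool :=
  (List.range D.rank).all fun i => (List.range D.rank).all fun j =>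
    decide (D.bonds i j = (bt.getD i []).getD j 0)

theorem perm_mem_syms (D : ChevalleyDatum) (bt : List (List ℤ)) (syms : List (List ℕ))
    (hbt : bondsOK D bt = true) (hsyms : symsOK bt D.rank syms = true)
    (π : Equiv.Perm (Fin D.rank)) (hπ : D.IsDiagramSymmetry π) :
    ∃ l ∈ syms, ∀ i : Fin D.rank, (π i).val = l.getD i.val 0 := by
  unfold bondsOK at hbt
  simp only [List.all_eq_true, List.mem_range, decide_eq_true_eq] at hbt
  let l : List ℕ := List.ofFn fun i : Fin D.rank => (π i).val
  have hlen : l.length = D.rank := List.length_ofFn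
  have hget : ∀ i : Fin D.rank, l.getD i.val 0 = (π i).val := by
    intro i
    rw [List.getD_eq_getElem _ _ (by rw [hlen]; exact i.2)]
    simp [l]
  have hmem : l ∈ allLists D.rank D.rank := by
    apply mem_allLists _ _ _ hlen
    intro a ha
    rw [List.mem_ofFn] at ha
    obtain ⟨i, rfl⟩ := ha
    exact (π i).2
  have hsym : symOK bt D.rank l = true := by
    unfold symOK
    rw [Bool.and_eq_true, decide_eq_true_eq]
    constructor
    · rw [List.nodup_ofFn]
      intro i j hij
      exact π.injective (Fin.ext hij)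
    · simp only [List.all_eq_true, List.mem_range, Bool.or_eq_true, beq_iff_eq]
      intro i hi j hj
      by_cases hij : i = j
      · left; exact hij
      · right
        have h1 := hπ ⟨i, hi⟩ ⟨j, hj⟩ (fun h => hij (congrArg Fin.val h))
        have e1 := hget ⟨i, hi⟩
        have e2 := hget ⟨j, hj⟩
        simp only at e1 e2
        rw [e1, e2, ← hbt _ (π ⟨i, hi⟩).2 _ (π ⟨j, hj⟩).2, ← hbt i hi j hj]
        exact h1
  unfold symsOK at hsyms
  rw [List.all_eq_true] at hsyms
  have h2 := hsyms l hmem
  rw [hsym] at h2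
  simp only [Bool.not_true, Bool.false_or, decide_eq_true_eq] at h2
  exact ⟨l, h2, fun i => (hget i).symm⟩

end Cfsg.Agent.Lib.Helper18
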