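/-
helper18: the twisted group `G¹` attached to a configuration (generated by the fixed elements of the products of root
subgroups over the classes of fundamental roots and of their negatives), and the inclusion `U^σ ≤ G¹`.
-/
import Cfsg.Agent.Lib.Helper18.Tw3

set_option autoImplicit false

namespace Cfsg.Agent.Lib.Helper18

open Cfsg.Lie Cfsg.Agent.Lib.Helper17

universe u

variable {K : Type u} [Field K] {D : ChevalleyDatum}

/-- The configuration of a twisted group: the graph datum and its order, the classes of fundamental roots (lists of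
indices of fundamental roots) with the root heading each class, representatives of the classes of positive roots, and
for each of them a class of fundamental roots and a word (a list of indices of classes) carrying it there. -/
structure TwCfg where
  g : GraphData
  m : ℕ
  classes : List (List ℕ)
  pgens : List ℕ
  reps : List ℕ
  certs : List (ℕ × List ℕ)

namespace TwCfg

variable (cfg : TwCfg)

/-- The roots heading the generating classes. -/
def genRoots (T : FastDatum) : List ℕ := cfg.pgens ++ cfg.pgens.map T.neg

/-- The word in the fundamental reflections of a list of indices of classes. -/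
def wordOf (cw : List ℕ) : List ℕ := cw.flatMap fun c => cfg.classes.getD c []

/-- `x_r`, `x_{r'}` commute by the commutator formula. -/
def commE (T : FastDatum) (r r' : ℕ) : Bool :=
  T.commTermsF r r' == [] && r' != r && r' != T.neg r && decide (r < T.nroots) && decide (r' < T.nroots)

/-- The check of the classes of fundamental roots. -/
def classOK (T : FastDatum) (simples : List ℕ) : Bool :=
  decide (cfg.classes.length = cfg.pgens.length) &&
  (List.range cfg.classes.length).all fun k =>
    let J := cfg.classes.getD k []
    let s := cfg.pgens.getD k 0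
    J.all (fun j => decide (j < T.rank)) && decide J.Nodup && decide (s < T.nroots)
    && (J.map fun j => simples.getD j 0) == cfg.g.orb cfg.m s
    && (J.map fun j => T.neg (simples.getD j 0)) == cfg.g.orb cfg.m (T.neg s)
    && (cfg.g.orb cfg.m s).all (fun r => cfg.g.gam (cfg.g.rho^[cfg.m - 1] r) == 1)
    && (cfg.g.orb cfg.m (T.neg s)).all (fun r => cfg.g.gam (cfg.g.rho^[cfg.m - 1] r) == 1)
    && J.all fun j => J.all fun j' => j == j' ||
      (commE T (simples.getD j 0) (simples.getD j' 0) && commE T (simples.getD j 0) (T.neg (simples.getD j' 0))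
        && commE T (T.neg (simples.getD j 0)) (simples.getD j' 0)
        && commE T (T.neg (simples.getD j 0)) (T.neg (simples.getD j' 0)))

/-- The check of the certificates of the classes of positive roots. -/
def certOK (T : FastDatum) (tabs : List ℕ) : Bool :=
  decide (cfg.certs.length = cfg.reps.length) &&
  (List.range cfg.reps.length).all fun k =>
    let s := cfg.reps.getD k 0
    let s₀ := (cfg.certs.getD k (0, [])).1
    let cw := (cfg.certs.getD k (0, [])).2
    forceList (cfg.wordOf cw) fun ws =>
      cfg.pgens.contains s₀ && cw.all (fun c => decide (c < cfg.classes.length))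
      && (cfg.g.orb cfg.m s₀).map (wordRootF tabs ws) == cfg.g.orb cfg.m s
      && (cfg.g.orb cfg.m s₀).all fun r₀ =>
        decide (r₀ < T.nroots)
        && wordRootF tabs ws (cfg.g.rho^[cfg.m - 1] r₀) == cfg.g.rho^[cfg.m - 1] (wordRootF tabs ws r₀)
        && cfg.g.gam (cfg.g.rho^[cfg.m - 1] r₀) * wordSignF tabs ws (cfg.g.rho^[cfg.m - 1] r₀)
          == wordSignF tabs ws r₀ * cfg.g.gam (cfg.g.rho^[cfg.m - 1] (wordRootF tabs ws r₀))

/-- All the checks of a configuration. -/
def ok (T : FastDatum) (tabs simples : List ℕ) : Bool :=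
  cfg.g.ok T && cfg.g.twOK T cfg.m && (decide (cfg.m = 2) || decide (cfg.m = 3))
    && cfg.g.repsOK T cfg.m cfg.reps && cfg.classOK T simples && cfg.certOK T tabs

end TwCfg

section Grp

variable {G : Type*} [Group G]

/-- For pairwise commuting families, `∏ (a_i b_i a_i) = (∏ a_i)(∏ b_i)(∏ a_i)`. -/
theorem prod_triple {ι : Type*} (L : List ι) (A B : ι → G) (hnd : L.Nodup)
    (hAA : ∀ i ∈ L, ∀ j ∈ L, i ≠ j → Commute (A i) (A j))
    (hAB : ∀ i ∈ L, ∀ j ∈ L, i ≠ j → Commute (A i) (B j))
    (hBB : ∀ i ∈ L, ∀ j ∈ L, i ≠ j → Commute (B i) (B j)) :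
    (L.map fun i => A i * B i * A i).prod = (L.map A).prod * (L.map B).prod * (L.map A).prod := by
  induction L with
  | nil => simp
  | cons i L ih =>
    rw [List.nodup_cons] at hnd
    have hne : ∀ j ∈ L, i ≠ j := fun j hj e => hnd.1 (e ▸ hj)
    have ih' := ih hnd.2 (fun a ha b hb => hAA a (List.mem_cons_of_mem _ ha) b (List.mem_cons_of_mem _ hb))
      (fun a ha b hb => hAB a (List.mem_cons_of_mem _ ha) b (List.mem_cons_of_mem _ hb))
      (fun a ha b hb => hBB a (List.mem_cons_of_mem _ ha) b (List.mem_cons_of_mem _ hb))
    have c1 : Commute (A i) (L.map A).prod := Commute.list_prod_right _ _ (by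
      intro x hx
      rw [List.mem_map] at hx
      obtain ⟨j, hj, rfl⟩ := hx
      exact hAA i List.mem_cons_self j (List.mem_cons_of_mem _ hj) (hne j hj))
    have c2 : Commute (A i) (L.map B).prod := Commute.list_prod_right _ _ (by
      intro x hx
      rw [List.mem_map] at hx
      obtain ⟨j, hj, rfl⟩ := hx
      exact hAB i List.mem_cons_self j (List.mem_cons_of_mem _ hj) (hne j hj))
    have c3 : Commute (B i) (L.map A).prod := Commute.list_prod_right _ _ (by
      intro x hx
      rw [List.mem_map] at hx
      obtain ⟨j, hj, rfl⟩ := hx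
      exact (hAB j (List.mem_cons_of_mem _ hj) i List.mem_cons_self (hne j hj).symm).symm)
    have c4 : Commute (B i) (L.map B).prod := Commute.list_prod_right _ _ (by
      intro x hx
      rw [List.mem_map] at hx
      obtain ⟨j, hj, rfl⟩ := hx
      exact hBB i List.mem_cons_self j (List.mem_cons_of_mem _ hj) (hne j hj))
    simp only [List.map_cons, List.prod_cons]
    rw [ih']
    set PA := (L.map A).prod
    set PB := (L.map B).prod
    calc A i * B i * A i * (PA * PB * PA)
        = A i * B i * (A i * PA) * PB * PA := by group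
      _ = A i * B i * (PA * A i) * PB * PA := by rw [c1.eq]
      _ = A i * (B i * PA) * (A i * PB) * PA := by group
      _ = A i * (PA * B i) * (PB * A i) * PA := by rw [c3.eq, c2.eq]
      _ = A i * PA * (B i * PB) * (A i * PA) := by group

end Grp

section

variable (hD : D ∈ [chevG2, chevB2, chevD4, chevF4, chevE6, chevE7, chevE8]) (C : ChevData.{u} D)
  (cfg : TwCfg) (φ : K ≃+* K)

/-- The generating set of the twisted group. -/
def twGenSet : Set (GL D.Idx K) :=
  {x | ∃ s ∈ cfg.genRoots C.T, ∃ c : ℕ → K, (∀ r ∈ cfg.g.orb cfg.m s, c r = twT cfg.g φ cfg.m c r) ∧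
    x = prodL hD (cfg.g.orb cfg.m s) c}

/-- The twisted group. -/
def Gtw : Subgroup (GL D.Idx K) := Subgroup.closure (twGenSet hD C cfg φ)

variable (hcfg : cfg.ok C.T C.tabs C.simples = true)

include hcfg in
theorem cfg_gok : cfg.g.ok C.T = true := by
  unfold TwCfg.ok at hcfg
  simp only [Bool.and_eq_true] at hcfg
  exact hcfg.1.1.1.1.1

include hcfg in
theorem cfg_twOK : cfg.g.twOK C.T cfg.m = true := by
  unfold TwCfg.ok at hcfg
  simp only [Bool.and_eq_true] at hcfg
  exact hcfg.1.1.1.1.2

include hcfg in
theorem cfg_m : cfg.m = 2 ∨ cfg.m = 3 := by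
  unfold TwCfg.ok at hcfg
  simp only [Bool.and_eq_true, Bool.or_eq_true, decide_eq_true_eq] at hcfg
  exact hcfg.1.1.1.2

include hcfg in
theorem cfg_repsOK : cfg.g.repsOK C.T cfg.m cfg.reps = true := by
  unfold TwCfg.ok at hcfg
  simp only [Bool.and_eq_true] at hcfg
  exact hcfg.1.1.2

include hcfg in
theorem cfg_classOK : cfg.classOK C.T C.simples = true := by
  unfold TwCfg.ok at hcfg
  simp only [Bool.and_eq_true] at hcfg
  exact hcfg.1.2

include hcfg in
theorem cfg_certOK : cfg.certOK C.T C.tabs = true := by
  unfold TwCfg.ok at hcfg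
  simp only [Bool.and_eq_true] at hcfg
  exact hcfg.2

/-- The twisting automorphism of a configuration. -/
noncomputable def csig : GL D.Idx K ≃* GL D.Idx K := sig C cfg.g (cfg_gok C cfg hcfg) φ

end

end Cfsg.Agent.Lib.Helper18
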