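/-
helper18: the twisted group contains the elements `n_J`, the fixed elements of the products of root subgroups over the
classes of positive roots, and hence all the fixed elements of `U`; its elements are fixed.
-/
import Cfsg.Agent.Lib.Helper18.Tw4
import Cfsg.Agent.Lib.Helper18.GAut2

set_option autoImplicit false

namespace Cfsg.Agent.Lib.Helper18

open Cfsg.Lie Cfsg.Agent.Lib.Helper17

universe u

variable {K : Type u} [Field K] {D : ChevalleyDatum}

section

variable (hD : D ∈ [chevG2, chevB2, chevD4, chevF4, chevE6, chevE7, chevE8]) (C : ChevData.{u} D)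
  (cfg : TwCfg) (φ : K ≃+* K) (hcfg : cfg.ok C.T C.tabs C.simples = true)

include hD in
/-- Root elements of roots passing `commE` commute. -/
theorem commE_commute (r r' : ℕ) (h : TwCfg.commE C.T r r' = true) (a b : K) :
    Commute (xG hD r a) (xG hD r' b) := by
  unfold TwCfg.commE at h
  simp only [Bool.and_eq_true, beq_iff_eq, bne_iff_ne, ne_eq, decide_eq_true_eq] at h
  obtain ⟨⟨⟨⟨h1, h2⟩, h3⟩, h4⟩, h5⟩ := h
  rw [C.nroots_eq] at h4 h5
  have hcomm := C.comm K r r' h4 h5 h2 h3 a b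
  have hterms : D.commTerms r r' = [] := by
    rw [← C.T.commTermsF_eq D C.hag C.hin r r' h4 h5]
    exact h1
  symm
  show xG hD r' b * xG hD r a = xG hD r a * xG hD r' b
  apply Units.ext
  rw [Units.val_mul, Units.val_mul, coe_xG, coe_xG, hcomm]
  unfold ChevalleyDatum.commWord
  rw [hterms]
  simp [ChevalleyDatum.wordMat]

include hcfg in
theorem classOK_spec (k : ℕ) (hk : k < cfg.classes.length) :
    cfg.classes.length = cfg.pgens.length ∧
    (∀ j ∈ cfg.classes.getD k [], j < D.rank) ∧ (cfg.classes.getD k []).Nodup ∧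
    cfg.pgens.getD k 0 < D.nroots ∧
    ((cfg.classes.getD k []).map fun j => C.simples.getD j 0) = cfg.g.orb cfg.m (cfg.pgens.getD k 0) ∧
    ((cfg.classes.getD k []).map fun j => C.T.neg (C.simples.getD j 0))
      = cfg.g.orb cfg.m (C.T.neg (cfg.pgens.getD k 0)) ∧
    (∀ r ∈ cfg.g.orb cfg.m (cfg.pgens.getD k 0), cfg.g.gam (cfg.g.rho^[cfg.m - 1] r) = 1) ∧
    (∀ r ∈ cfg.g.orb cfg.m (C.T.neg (cfg.pgens.getD k 0)), cfg.g.gam (cfg.g.rho^[cfg.m - 1] r) = 1) ∧
    (∀ j ∈ cfg.classes.getD k [], ∀ j' ∈ cfg.classes.getD k [], j ≠ j' →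
      TwCfg.commE C.T (C.simples.getD j 0) (C.simples.getD j' 0) = true ∧
      TwCfg.commE C.T (C.simples.getD j 0) (C.T.neg (C.simples.getD j' 0)) = true ∧
      TwCfg.commE C.T (C.T.neg (C.simples.getD j 0)) (C.simples.getD j' 0) = true ∧
      TwCfg.commE C.T (C.T.neg (C.simples.getD j 0)) (C.T.neg (C.simples.getD j' 0)) = true) := by
  have h := cfg_classOK C cfg hcfg
  unfold TwCfg.classOK at h
  rw [Bool.and_eq_true, decide_eq_true_eq, List.all_eq_true] at h
  have h1 := h.2 k (List.mem_range.mpr hk)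
  simp only [Bool.and_eq_true, List.all_eq_true, decide_eq_true_eq, beq_iff_eq, Bool.or_eq_true] at h1
  obtain ⟨⟨⟨⟨⟨⟨⟨a1, a2⟩, a3⟩, a4⟩, a5⟩, a6⟩, a7⟩, a8⟩ := h1
  rw [C.rank_eq] at a1
  rw [C.nroots_eq] at a3
  refine ⟨h.1, a1, a2, a3, a4, a5, a6, a7, ?_⟩
  intro j hj j' hj' hne
  rcases a8 j hj j' hj' with e | e
  · exact absurd e hne
  · exact ⟨e.1.1.1, e.1.1.2, e.1.2, e.2⟩

include hcfg in
theorem pgens_mem_genRoots (k : ℕ) (hk : k < cfg.classes.length) :
    cfg.pgens.getD k 0 ∈ cfg.genRoots C.T ∧ C.T.neg (cfg.pgens.getD k 0) ∈ cfg.genRoots C.T := by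
  have hlen := (classOK_spec C cfg hcfg k hk).1
  have hk' : k < cfg.pgens.length := hlen ▸ hk
  have hmem : cfg.pgens.getD k 0 ∈ cfg.pgens := by
    rw [List.getD_eq_getElem _ _ hk']
    exact List.getElem_mem hk'
  unfold TwCfg.genRoots
  exact ⟨List.mem_append_left _ hmem, List.mem_append_right _ (List.mem_map_of_mem hmem)⟩

include hcfg in
/-- The element `n_J` of a class of fundamental roots lies in the twisted group. -/
theorem nW_class_mem_Gtw (k : ℕ) (hk : k < cfg.classes.length) :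
    nW hD C (cfg.classes.getD k []) ∈ Gtw hD C cfg φ := by
  obtain ⟨-, hJ, hnd, hs, e1, e2, g1, g2, hcm⟩ := classOK_spec C cfg hcfg k hk
  obtain ⟨m1, m2⟩ := pgens_mem_genRoots C cfg hcfg k hk
  set J := cfg.classes.getD k [] with hJdef
  set s := cfg.pgens.getD k 0 with hsdef
  let A : ℕ → GL D.Idx K := fun j => xG hD (C.simples.getD j 0) 1
  let B : ℕ → GL D.Idx K := fun j => xG hD (C.T.neg (C.simples.getD j 0)) (-1)
  have hsG : ∀ j ∈ J, sG (F := K) hD C j = A j * B j * A j := by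
    intro j hj
    have hj' := hJ j hj
    rw [sG_eq hD C j hj', C.neg_eq _ (C.simple_lt j hj'), C.hsimple j hj']
  have e0 : nW (F := K) hD C J = (J.map fun j => A j * B j * A j).prod := by
    unfold nW
    congr 1
    exact List.map_congr_left hsG
  have hAA : ∀ i ∈ J, ∀ j ∈ J, i ≠ j → Commute (A i) (A j) := fun i hi j hj hne =>
    commE_commute hD C _ _ (hcm i hi j hj hne).1 _ _
  have hAB : ∀ i ∈ J, ∀ j ∈ J, i ≠ j → Commute (A i) (B j) := fun i hi j hj hne =>
    commE_commute hD C _ _ (hcm i hi j hj hne).2.1 _ _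
  have hBB : ∀ i ∈ J, ∀ j ∈ J, i ≠ j → Commute (B i) (B j) := fun i hi j hj hne =>
    commE_commute hD C _ _ (hcm i hi j hj hne).2.2.2 _ _
  rw [e0, prod_triple J A B hnd hAA hAB hBB]
  have hPA : (J.map A).prod = prodL hD (cfg.g.orb cfg.m s) (fun _ => (1 : K)) := by
    rw [← e1]
    unfold prodL
    rw [List.map_map]
    rfl
  have hPB : (J.map B).prod = prodL hD (cfg.g.orb cfg.m (C.T.neg s)) (fun _ => (-1 : K)) := by
    rw [← e2]
    unfold prodL
    rw [List.map_map]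
    rfl
  have hA : (J.map A).prod ∈ Gtw hD C cfg φ := by
    rw [hPA]
    apply Subgroup.subset_closure
    refine ⟨s, m1, fun _ => 1, ?_, rfl⟩
    intro r hr
    unfold twT
    rw [g1 r hr]
    simp
  have hB : (J.map B).prod ∈ Gtw hD C cfg φ := by
    rw [hPB]
    apply Subgroup.subset_closure
    refine ⟨C.T.neg s, m2, fun _ => -1, ?_, rfl⟩
    intro r hr
    unfold twT
    rw [g2 r hr]
    simp
  exact mul_mem (mul_mem hA hB) hA

include hcfg in
theorem wordOf_lt (cw : List ℕ) (hcw : ∀ c ∈ cw, c < cfg.classes.length) : ∀ i ∈ cfg.wordOf cw, i < D.rank := by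
  intro i hi
  unfold TwCfg.wordOf at hi
  rw [List.mem_flatMap] at hi
  obtain ⟨c, hc, hic⟩ := hi
  exact (classOK_spec C cfg hcfg c (hcw c hc)).2.1 i hic

include hcfg in
/-- The element `n_w` of a word in the classes lies in the twisted group. -/
theorem nW_wordOf_mem_Gtw (cw : List ℕ) (hcw : ∀ c ∈ cw, c < cfg.classes.length) :
    nW hD C (cfg.wordOf cw) ∈ Gtw hD C cfg φ := by
  induction cw with
  | nil => exact one_mem _
  | cons c cw ih =>
    have e : cfg.wordOf (c :: cw) = cfg.classes.getD c [] ++ cfg.wordOf cw := by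
      unfold TwCfg.wordOf
      rw [List.flatMap_cons]
    rw [e, nW_append]
    exact mul_mem (nW_class_mem_Gtw hD C cfg φ hcfg c (hcw c List.mem_cons_self))
      (ih fun c' hc' => hcw c' (List.mem_cons_of_mem _ hc'))

include hD in
/-- Conjugating an ordered product by `n_w`. -/
theorem nW_conj_prodL (ws : List ℕ) (hws : ∀ i ∈ ws, i < D.rank) (l : List ℕ) (hl : ∀ r ∈ l, r < D.nroots)
    (c : ℕ → K) :
    nW hD C ws * prodL hD l c * (nW hD C ws)⁻¹
      = (l.map fun r => xG hD (wordRootF C.tabs ws r) (((wordSignF C.tabs ws r : ℤ) : K) * c r)).prod := by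
  induction l with
  | nil => simp [prodL_nil]
  | cons a l ih =>
    rw [prodL_cons, List.map_cons, List.prod_cons, ← ih fun r hr => hl r (List.mem_cons_of_mem _ hr),
      ← nW_conj_xG hD C ws hws a (hl a List.mem_cons_self)]
    group

include hcfg in
theorem certOK_spec (k : ℕ) (hk : k < cfg.reps.length) :
    (cfg.certs.getD k (0, [])).1 ∈ cfg.pgens ∧
    (∀ c ∈ (cfg.certs.getD k (0, [])).2, c < cfg.classes.length) ∧
    (cfg.g.orb cfg.m (cfg.certs.getD k (0, [])).1).map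
        (wordRootF C.tabs (cfg.wordOf (cfg.certs.getD k (0, [])).2)) = cfg.g.orb cfg.m (cfg.reps.getD k 0) ∧
    ∀ r₀ ∈ cfg.g.orb cfg.m (cfg.certs.getD k (0, [])).1, r₀ < D.nroots ∧
      wordRootF C.tabs (cfg.wordOf (cfg.certs.getD k (0, [])).2) (cfg.g.rho^[cfg.m - 1] r₀)
        = cfg.g.rho^[cfg.m - 1] (wordRootF C.tabs (cfg.wordOf (cfg.certs.getD k (0, [])).2) r₀) ∧
      cfg.g.gam (cfg.g.rho^[cfg.m - 1] r₀)
          * wordSignF C.tabs (cfg.wordOf (cfg.certs.getD k (0, [])).2) (cfg.g.rho^[cfg.m - 1] r₀)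
        = wordSignF C.tabs (cfg.wordOf (cfg.certs.getD k (0, [])).2) r₀
          * cfg.g.gam (cfg.g.rho^[cfg.m - 1] (wordRootF C.tabs (cfg.wordOf (cfg.certs.getD k (0, [])).2) r₀)) := by
  have h := cfg_certOK C cfg hcfg
  unfold TwCfg.certOK at h
  rw [Bool.and_eq_true, decide_eq_true_eq, List.all_eq_true] at h
  have h1 := h.2 k (List.mem_range.mpr hk)
  rw [forceList_eq] at h1
  simp only [Bool.and_eq_true, List.all_eq_true, decide_eq_true_eq, beq_iff_eq, List.contains_iff_mem] at h1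
  obtain ⟨⟨⟨a1, a2⟩, a3⟩, a4⟩ := h1
  refine ⟨a1, a2, a3, ?_⟩
  intro r₀ hr₀
  obtain ⟨⟨b1, b2⟩, b3⟩ := a4 r₀ hr₀
  rw [C.nroots_eq] at b1
  exact ⟨b1, b2, b3⟩

include hcfg in
/-- The fixed elements of the product of the root subgroups over a class of positive roots lie in the twisted
group. -/
theorem block_mem_Gtw (s : ℕ) (hs : s ∈ cfg.reps) (t : ℕ → K)
    (ht : ∀ r ∈ cfg.g.orb cfg.m s, t r = twT cfg.g φ cfg.m t r) :
    prodL hD (cfg.g.orb cfg.m s) t ∈ Gtw hD C cfg φ := by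
  obtain ⟨k, hk, rfl⟩ := List.mem_iff_getElem.mp hs
  have hgetD : cfg.reps.getD k 0 = cfg.reps[k] := List.getD_eq_getElem _ _ hk
  obtain ⟨c1, c2, c3, c4⟩ := certOK_spec C cfg hcfg k hk
  rw [hgetD] at c3
  set s₀ := (cfg.certs.getD k (0, [])).1 with hs₀
  set cw := (cfg.certs.getD k (0, [])).2 with hcw
  set ws := cfg.wordOf cw with hws
  have hwlt := wordOf_lt C cfg hcfg cw c2
  have hn := nW_wordOf_mem_Gtw hD C cfg φ hcfg cw c2
  -- the coefficients of the preimage
  let t₀ : ℕ → K := fun r₀ => ((wordSignF C.tabs ws r₀ : ℤ) : K) * t (wordRootF C.tabs ws r₀)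
  have hη : ∀ r, ((wordSignF C.tabs ws r : ℤ) : K) * ((wordSignF C.tabs ws r : ℤ) : K) = 1 := by
    intro r
    rcases wordSignF_cases C.tabs ws r with h1 | h1 <;> rw [h1] <;> simp
  have e1 : nW hD C ws * prodL hD (cfg.g.orb cfg.m s₀) t₀ * (nW hD C ws)⁻¹ = prodL hD (cfg.g.orb cfg.m cfg.reps[k]) t := by
    rw [nW_conj_prodL hD C ws hwlt _ (fun r hr => (c4 r hr).1), ← c3]
    unfold prodL
    rw [List.map_map]
    congr 1
    apply List.map_congr_left
    intro r _
    show xG hD _ (_ * (_ * _)) = _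
    rw [← mul_assoc, hη, one_mul]
    rfl
  -- the preimage is a generator
  have e2 : prodL hD (cfg.g.orb cfg.m s₀) t₀ ∈ Gtw hD C cfg φ := by
    apply Subgroup.subset_closure
    refine ⟨s₀, List.mem_append_left _ c1, t₀, ?_, rfl⟩
    intro r₀ hr₀
    obtain ⟨b1, b2, b3⟩ := c4 r₀ hr₀
    have hmem : wordRootF C.tabs ws r₀ ∈ cfg.g.orb cfg.m cfg.reps[k] := by
      rw [← c3]
      exact List.mem_map_of_mem hr₀
    show ((wordSignF C.tabs ws r₀ : ℤ) : K) * t (wordRootF C.tabs ws r₀) = twT cfg.g φ cfg.m t₀ r₀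
    rw [ht _ hmem]
    unfold twT
    show _ = _ * φ (((wordSignF C.tabs ws (cfg.g.rho^[cfg.m - 1] r₀) : ℤ) : K)
      * t (wordRootF C.tabs ws (cfg.g.rho^[cfg.m - 1] r₀)))
    rw [map_mul, map_intCast, b2, ← mul_assoc, ← mul_assoc, ← Int.cast_mul, ← Int.cast_mul, b3]
  rw [← e1]
  exact mul_mem (mul_mem hn e2) (inv_mem hn)

end

end Cfsg.Agent.Lib.Helper18
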