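/-
helper18: the elements of the twisted group are fixed by the twisting automorphism; over a finite field the fixed
elements of `U` are the ordered products whose coefficients satisfy the twisting condition, and they all lie in the
twisted group.
-/
import Cfsg.Agent.Lib.Helper18.Tw5

set_option autoImplicit false

namespace Cfsg.Agent.Lib.Helper18

open Cfsg.Lie Cfsg.Agent.Lib.Helper17

universe u

variable {K : Type u} [Field K] {D : ChevalleyDatum}

section

variable (hD : D ∈ [chevG2, chevB2, chevD4, chevF4, chevE6, chevE7, chevE8]) (C : ChevData.{u} D)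
  (cfg : TwCfg) (φ : K ≃+* K) (hcfg : cfg.ok C.T C.tabs C.simples = true)

include hcfg in
theorem genRoots_lt (s : ℕ) (hs : s ∈ cfg.genRoots C.T) : s < D.nroots := by
  unfold TwCfg.genRoots at hs
  have hlen : cfg.classes.length = cfg.pgens.length := by
    have h := cfg_classOK C cfg hcfg
    unfold TwCfg.classOK at h
    rw [Bool.and_eq_true, decide_eq_true_eq] at h
    exact h.1
  have key : ∀ s' ∈ cfg.pgens, s' < D.nroots := by
    intro s' hs'
    obtain ⟨k, hk, rfl⟩ := List.mem_iff_getElem.mp hs'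
    have := (classOK_spec C cfg hcfg k (hlen ▸ hk)).2.2.2.1
    rwa [List.getD_eq_getElem _ _ hk] at this
  rcases List.mem_append.mp hs with h | h
  · exact key s h
  · rw [List.mem_map] at h
    obtain ⟨s', hs', rfl⟩ := h
    have := key s' hs'
    rw [← C.nroots_eq] at this ⊢
    unfold FastDatum.neg
    omega

include hD in
theorem Gtw_le_group : Gtw hD C cfg φ ≤ D.group K := by
  unfold Gtw
  rw [Subgroup.closure_le]
  rintro x ⟨s, -, c, -, rfl⟩
  rw [prodL_eq_wordG]
  generalize (List.map (fun r => (r, c r)) (cfg.g.orb cfg.m s)) = w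
  induction w with
  | nil => rw [wordG_nil]; exact one_mem _
  | cons a w ih => rw [wordG_cons]; exact mul_mem (xG_mem_group hD _ _) ih

include hcfg in
/-- The elements of the twisted group are fixed by the twisting automorphism. -/
theorem csig_eq_of_mem_Gtw (x : GL D.Idx K) (hx : x ∈ Gtw hD C cfg φ) : csig C cfg φ hcfg x = x := by
  have hle : Gtw hD C cfg φ ≤ (MonoidHom.eqLocus (csig C cfg φ hcfg).toMonoidHom (MonoidHom.id _)) := by
    unfold Gtw
    rw [Subgroup.closure_le]
    rintro x ⟨s, hs, c, hc, rfl⟩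
    show csig C cfg φ hcfg (prodL hD (cfg.g.orb cfg.m s) c) = prodL hD (cfg.g.orb cfg.m s) c
    unfold csig
    rw [sig_prodL_orb hD C cfg.g (cfg_gok C cfg hcfg) φ cfg.m (cfg_twOK C cfg hcfg) (cfg_m C cfg hcfg) s
      (genRoots_lt C cfg hcfg s hs)]
    exact prodL_congr hD _ _ _ fun r hr => (hc r hr).symm
  exact hle hx

include hD hcfg in
theorem repsOK_spec :
    (∀ r ∈ cfg.g.clsList cfg.m cfg.reps, D.IsPosRoot r) ∧ (cfg.g.clsList cfg.m cfg.reps).Nodup ∧
      ∀ r, D.IsPosRoot r → r ∈ cfg.g.clsList cfg.m cfg.reps := by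
  have h := cfg_repsOK C cfg hcfg
  unfold GraphData.repsOK at h
  simp only [Bool.and_eq_true, List.all_eq_true, decide_eq_true_eq, List.contains_iff_mem] at h
  obtain ⟨⟨h1, h2⟩, h3⟩ := h
  rw [C.nroots_eq] at h1 h3
  refine ⟨?_, h2, ?_⟩
  · intro r hr
    exact (isPosRoot_iff hD r).mpr ⟨(h1 r hr).2, (h1 r hr).1⟩
  · intro r hr
    obtain ⟨hr1, hr2⟩ := (isPosRoot_iff hD r).mp hr
    apply h3
    rw [List.mem_range'_1]
    have := nroots_even hD
    omega

include hD hcfg in
theorem reps_lt (s : ℕ) (hs : s ∈ cfg.reps) : s < D.nroots := by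
  have h1 := (repsOK_spec hD C cfg hcfg).1 s (by
    unfold GraphData.clsList
    rw [List.mem_flatMap]
    refine ⟨s, hs, ?_⟩
    unfold GraphData.orb
    split_ifs
    · exact List.mem_singleton.mpr rfl
    · rcases cfg_m C cfg hcfg with h | h <;> rw [h] <;> simp [List.range_succ])
  exact h1.1

include hcfg in
/-- An ordered product over the classes with coefficients satisfying the twisting condition lies in the twisted
group. -/
theorem prodL_cls_mem_Gtw (reps : List ℕ) (hreps : ∀ s ∈ reps, s ∈ cfg.reps) (t : ℕ → K)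
    (ht : ∀ r ∈ cfg.g.clsList cfg.m reps, t r = twT cfg.g φ cfg.m t r) :
    prodL hD (cfg.g.clsList cfg.m reps) t ∈ Gtw hD C cfg φ := by
  induction reps with
  | nil => simp [GraphData.clsList, prodL_nil, one_mem]
  | cons s reps ih =>
    have e : cfg.g.clsList cfg.m (s :: reps) = cfg.g.orb cfg.m s ++ cfg.g.clsList cfg.m reps := by
      unfold GraphData.clsList
      rw [List.flatMap_cons]
    rw [e] at ht
    rw [e, prodL_append]
    exact mul_mem (block_mem_Gtw hD C cfg φ hcfg s (hreps s List.mem_cons_self) t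
      fun r hr => ht r (List.mem_append_left _ hr))
      (ih (fun s' hs' => hreps s' (List.mem_cons_of_mem _ hs')) fun r hr => ht r (List.mem_append_right _ hr))

end

section Fin

variable [Fintype K] (hD : D ∈ [chevG2, chevB2, chevD4, chevF4, chevE6, chevE7, chevE8]) (C : ChevData.{u} D)
  (cfg : TwCfg) (φ : K ≃+* K) (hcfg : cfg.ok C.T C.tabs C.simples = true)

include hcfg in
/-- The coefficients of a fixed element of `U`. -/
theorem exists_prodL_of_fixed (x : GL D.Idx K) (hx : x ∈ D.posUnipotent K) (hfix : csig C cfg φ hcfg x = x) :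
    ∃ t : ℕ → K, (∀ r ∈ cfg.g.clsList cfg.m cfg.reps, t r = twT cfg.g φ cfg.m t r) ∧
      x = prodL hD (cfg.g.clsList cfg.m cfg.reps) t := by
  obtain ⟨L⟩ := nonempty_levelData D hD
  obtain ⟨hl, hnd, hall⟩ := repsOK_spec hD C cfg hcfg
  obtain ⟨t, rfl⟩ := exists_prodL hD C L _ hl hnd hall x hx
  refine ⟨t, ?_, rfl⟩
  unfold csig at hfix
  rw [sig_prodL_cls hD C cfg.g (cfg_gok C cfg hcfg) φ cfg.m (cfg_twOK C cfg hcfg) (cfg_m C cfg hcfg) cfg.reps
    (fun s hs => reps_lt hD C cfg hcfg s hs)] at hfix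
  intro r hr
  exact (prodL_injective_of_fintype hD _ hl hnd hall _ _ hfix r hr).symm

include hcfg in
/-- The fixed elements of `U` lie in the twisted group. -/
theorem fixed_mem_Gtw (x : GL D.Idx K) (hx : x ∈ D.posUnipotent K) (hfix : csig C cfg φ hcfg x = x) :
    x ∈ Gtw hD C cfg φ := by
  obtain ⟨t, ht, rfl⟩ := exists_prodL_of_fixed hD C cfg φ hcfg x hx hfix
  exact prodL_cls_mem_Gtw hD C cfg φ hcfg cfg.reps (fun s hs => hs) t ht

end Fin

end Cfsg.Agent.Lib.Helper18
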