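/-
helper18: the strong uniqueness of the form `u n u'` (`u ∈ U`, `n ∈ N`, `u' ∈ U_n^-`), and the decomposition of the
elements of the twisted group: `g = u n u'` with all three factors in the twisted group.
-/
import Cfsg.Agent.Lib.Helper18.Tw6

set_option autoImplicit false

namespace Cfsg.Agent.Lib.Helper18

open Cfsg.Lie Cfsg.Agent.Lib.Helper17

universe u

variable {K : Type u} [Field K] {D : ChevalleyDatum}

section

variable (hD : D ∈ [chevG2, chevB2, chevD4, chevF4, chevE6, chevE7, chevE8]) (C : ChevData.{u} D)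

include hD C in
/-- `N` normalises `H`. -/
theorem monomial_conj_diagonal (n h : GL D.Idx K) (hn : n ∈ D.monomialSubgroup K)
    (hh : h ∈ D.diagonalSubgroup K) : n * h * n⁻¹ ∈ D.diagonalSubgroup K := by
  obtain ⟨ws, h₀, -, hh₀, rfl⟩ := isWordH_of_mem_monomial hD C n hn
  have e : nW hD C ws * h₀ * h * (nW hD C ws * h₀)⁻¹ = nW hD C ws * (h₀ * h * h₀⁻¹) * (nW hD C ws)⁻¹ := by
    group
  rw [e]
  exact nW_conj_H hD C ws _ (mul_mem (mul_mem hh₀ hh) (inv_mem hh₀))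

include hD in
theorem diagonal_le_monomial : D.diagonalSubgroup K ≤ D.monomialSubgroup K := by
  unfold ChevalleyDatum.monomialSubgroup
  exact le_sup_left

include hD in
/-- `U_n^- ⊆ U_{hn}^-` for `h ∈ H`. -/
theorem UnegSet_diag_mul (n h : GL D.Idx K) (hh : h ∈ D.diagonalSubgroup K) :
    UnegSet D K n ⊆ UnegSet D K (h * n) := by
  rintro x ⟨r, t, hr, hle, hx⟩
  refine ⟨r, t, hr, ?_, hx⟩
  rintro z ⟨z₀, hz₀, rfl⟩
  have h1 : n * z₀ * n⁻¹ ∈ D.negUnipotent K := hle (Subgroup.mem_map_of_mem _ hz₀)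
  have h2 := (diagonal_le_normalizer_negUnipotent D hD hh (n * z₀ * n⁻¹)).mp h1
  show h * n * z₀ * (h * n)⁻¹ ∈ D.negUnipotent K
  have e : h * n * z₀ * (h * n)⁻¹ = h * (n * z₀ * n⁻¹) * h⁻¹ := by group
  rw [e]
  exact h2

include hD in
/-- `U_{nh}^- ⊆ U_n^-` for `h ∈ H`. -/
theorem UnegSet_mul_diag (n h : GL D.Idx K) (hh : h ∈ D.diagonalSubgroup K) :
    UnegSet D K (n * h) ⊆ UnegSet D K n := by
  rintro x ⟨r, t, hr, hle, hx⟩
  refine ⟨r, t, hr, ?_, hx⟩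
  rintro z ⟨z₀, hz₀, rfl⟩
  obtain ⟨t₀, rfl⟩ := (mem_rootSubgroup_iff hD r z₀).mp hz₀
  -- `h⁻¹ x_r(t₀) h` is a root element of `r`
  obtain ⟨t', ht'⟩ := Cfsg.Agent.S1036.conj_root_elem D hD h⁻¹ (inv_mem hh) (xG hD r t₀) r hr.1 t₀ rfl
  have e1 : h⁻¹ * xG hD r t₀ * h⁻¹⁻¹ = xG hD r t' := Units.ext ht'
  have h1 : (n * h) * xG hD r t' * (n * h)⁻¹ ∈ D.negUnipotent K :=
    hle (Subgroup.mem_map_of_mem _ ((mem_rootSubgroup_iff hD r _).mpr ⟨t', rfl⟩))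
  show n * xG hD r t₀ * n⁻¹ ∈ D.negUnipotent K
  have e : n * xG hD r t₀ * n⁻¹ = (n * h) * (h⁻¹ * xG hD r t₀ * h⁻¹⁻¹) * (n * h)⁻¹ := by group
  rw [e, e1]
  exact h1

include hD C in
/-- Strong uniqueness of the form `u n u'`. -/
theorem bruhat_strong_unique (u₀ u₀' n n' u u' : GL D.Idx K) (hu₀ : u₀ ∈ D.posUnipotent K)
    (hu₀' : u₀' ∈ D.posUnipotent K) (hn : n ∈ D.monomialSubgroup K) (hn' : n' ∈ D.monomialSubgroup K)
    (hu : u ∈ Subgroup.closure (UnegSet D K n)) (hu' : u' ∈ Subgroup.closure (UnegSet D K n'))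
    (h : u₀ * n * u = u₀' * n' * u') : u₀ = u₀' ∧ n = n' ∧ u = u' := by
  have h1 := (bruhat_form_unique hD C u₀ u₀' n n' u u' (borel_of_posUnipotent _ hu₀)
    (borel_of_posUnipotent _ hu₀') hn hn' hu hu' h).1
  set d := n⁻¹ * n' with hd
  have hn'd : n' = n * d := by rw [hd]; group
  have hu'' : u' ∈ Subgroup.closure (UnegSet D K n) := by
    rw [hn'd] at hu'
    exact Subgroup.closure_mono (UnegSet_mul_diag hD n d h1) hu'
  have hc : n * d * n⁻¹ ∈ D.diagonalSubgroup K := monomial_conj_diagonal hD C n d hn h1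
  have h2 : u₀ * n * u = (u₀' * (n * d * n⁻¹)) * n * u' := by
    rw [h, hn'd]; group
  obtain ⟨h3, h4⟩ := (bruhat_form_unique hD C u₀ (u₀' * (n * d * n⁻¹)) n n u u'
    (borel_of_posUnipotent _ hu₀) (mul_mem (borel_of_posUnipotent _ hu₀') (borel_of_diagonal _ hc)) hn hn hu hu''
    h2).2 rfl
  have h5 : n * d * n⁻¹ ∈ D.posUnipotent K ⊓ D.diagonalSubgroup K := by
    refine Subgroup.mem_inf.mpr ⟨?_, hc⟩
    have : n * d * n⁻¹ = u₀'⁻¹ * u₀ := by rw [h3]; group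
    rw [this]
    exact mul_mem (inv_mem hu₀') hu₀
  rw [(Cfsg.Agent.S1036.result D hD).2, Subgroup.mem_bot] at h5
  have hd1 : d = 1 := by
    have : d = n⁻¹ * (n * d * n⁻¹) * n := by group
    rw [this, h5]; group
  refine ⟨?_, ?_, h4⟩
  · rw [h3, h5, mul_one]
  · rw [hn'd, hd1, mul_one]

end

section Fin

variable [Fintype K] (hD : D ∈ [chevG2, chevB2, chevD4, chevF4, chevE6, chevE7, chevE8]) (C : ChevData.{u} D)
  (cfg : TwCfg) (φ : K ≃+* K) (hcfg : cfg.ok C.T C.tabs C.simples = true)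

include hD hcfg in
/-- The decomposition of a fixed element of the Chevalley group: `g = u n u'` with fixed factors. -/
theorem exists_fixed_form (x : GL D.Idx K) (hx : x ∈ D.group K) (hfix : csig C cfg φ hcfg x = x) :
    ∃ u₀ ∈ D.posUnipotent K, ∃ n ∈ D.monomialSubgroup K, ∃ u ∈ Subgroup.closure (UnegSet D K n),
      x = u₀ * n * u ∧ csig C cfg φ hcfg u₀ = u₀ ∧ csig C cfg φ hcfg n = n ∧ csig C cfg φ hcfg u = u := by
  obtain ⟨L⟩ := nonempty_levelData D hD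
  have hTw := cfg_twOK C cfg hcfg
  obtain ⟨b, hb, n, hn, u, hu, rfl⟩ := exists_bruhat_form hD C L x hx
  obtain ⟨u₀, hu₀, h₀, hh₀, rfl⟩ := (mem_borel_iff D hD b).mp hb
  have hn₁ : h₀ * n ∈ D.monomialSubgroup K := mul_mem (diagonal_le_monomial hD hh₀) hn
  have hu₁ : u ∈ Subgroup.closure (UnegSet D K (h₀ * n)) :=
    Subgroup.closure_mono (UnegSet_diag_mul hD n h₀ hh₀) hu
  have e : u₀ * h₀ * n * u = u₀ * (h₀ * n) * u := by group
  rw [e] at hfix ⊢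
  refine ⟨u₀, hu₀, h₀ * n, hn₁, u, hu₁, rfl, ?_⟩
  have h1 : csig C cfg φ hcfg u₀ * csig C cfg φ hcfg (h₀ * n) * csig C cfg φ hcfg u = u₀ * (h₀ * n) * u := by
    rw [← map_mul, ← map_mul]; exact hfix
  obtain ⟨a1, a2, a3⟩ := bruhat_strong_unique hD C _ _ _ _ _ _
    (sig_mem_posUnipotent hD C cfg.g (cfg_gok C cfg hcfg) φ cfg.m hTw u₀ hu₀) hu₀
    (sig_mem_monomial hD C cfg.g (cfg_gok C cfg hcfg) φ cfg.m hTw _ hn₁) hn₁
    (sig_mem_Uneg hD C cfg.g (cfg_gok C cfg hcfg) φ cfg.m hTw _ u hu₁) hu₁ h1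
  exact ⟨a1, a2, a3⟩

include hcfg in
/-- The decomposition of an element of the twisted group: `g = u n u'` with all factors in the twisted group. -/
theorem exists_Gtw_form (x : GL D.Idx K) (hx : x ∈ Gtw hD C cfg φ) :
    ∃ u₀ ∈ D.posUnipotent K ⊓ Gtw hD C cfg φ, ∃ n ∈ D.monomialSubgroup K ⊓ Gtw hD C cfg φ,
      ∃ u ∈ Subgroup.closure (UnegSet D K n), u ∈ Gtw hD C cfg φ ∧ x = u₀ * n * u := by
  obtain ⟨u₀, hu₀, n, hn, u, hu, hxe, f1, f2, f3⟩ := exists_fixed_form hD C cfg φ hcfg x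
    (Gtw_le_group hD C cfg φ hx) (csig_eq_of_mem_Gtw hD C cfg φ hcfg x hx)
  have g1 : u₀ ∈ Gtw hD C cfg φ := fixed_mem_Gtw hD C cfg φ hcfg u₀ hu₀ f1
  have g3 : u ∈ Gtw hD C cfg φ := fixed_mem_Gtw hD C cfg φ hcfg u (closure_UnegSet_le D n hu) f3
  have g2 : n ∈ Gtw hD C cfg φ := by
    have : n = u₀⁻¹ * x * u⁻¹ := by rw [hxe]; group
    rw [this]
    exact mul_mem (mul_mem (inv_mem g1) hx) (inv_mem g3)
  exact ⟨u₀, Subgroup.mem_inf.mpr ⟨hu₀, g1⟩, n, Subgroup.mem_inf.mpr ⟨hn, g2⟩, u, hu, g3, hxe⟩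

end Fin

end Cfsg.Agent.Lib.Helper18
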