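/-
helper18: the classes of roots of `F₄` under the twisting automorphism `σ` of characteristic 2 (pairs `{r, r̄}` of a
short and a long root, and quadruples `{a, b, a+b, 2a+b}`), and the action of `σ` on the ordered products over a list
of classes.
-/
import Cfsg.Agent.Lib.Helper91.F4Sig
import Cfsg.Agent.Lib.Helper18.Tw3

set_option autoImplicit false

namespace Cfsg.Agent.Lib.Helper18.F4T

open Cfsg.Lie Cfsg.Agent.Lib.Helper18 Cfsg.Agent.Lib.Helper91.ReeF4 Cfsg.Agent.Lib.Helper91.SigAbs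
open Cfsg.Agent.Lib.Helper91.ExcAut

universe u

/-- A class of roots: a pair (short root, long root) or a quadruple `(a, b, a+b, 2a+b)` (`a` short, `b` long). -/
inductive Blk
  | pair (r rb : ℕ)
  | quad (a b ab aab : ℕ)
  deriving DecidableEq

/-- The roots of a class. -/
def Blk.roots : Blk → List ℕ
  | .pair r rb => [r, rb]
  | .quad a b ab aab => [a, b, ab, aab]

/-- The table checks of a class: the action of the permutation of the roots, the exponents, and the collection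
identity modulo 2. -/
def Blk.ok : Blk → Bool
  | .pair r rb => decide (r < 48) && decide (rb < 48) && decide (r ≠ rb) && (f4rho r == rb) && (f4rho rb == r)
      && (f4lam r == 2) && (f4lam rb == 1) && wordEqChk chevF4 2 (pairL r rb) (pairR r rb)
  | .quad a b ab aab => decide (a < 48) && decide (b < 48) && decide (ab < 48) && decide (aab < 48)
      && decide ([a, b, ab, aab].Nodup)
      && (f4rho a == b) && (f4rho b == a) && (f4rho ab == aab) && (f4rho aab == ab)
      && (f4lam a == 2) && (f4lam b == 1) && (f4lam ab == 2) && (f4lam aab == 1)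
      && wordEqChk chevF4 2 (clsL a b ab aab) (clsR a b ab aab)

section Tw

variable {K : Type u} [Field K]

/-- The coefficients of the image under `σ` of an ordered product over a class. -/
def Blk.tw (e : ℕ) (t : ℕ → K) : Blk → ℕ → K
  | .pair r rb => fun s => if s = r then t rb ^ e else t r ^ (2 * e)
  | .quad a b ab aab => fun s =>
      if s = a then t b ^ e else if s = b then t a ^ (2 * e)
      else if s = ab then t aab ^ e + t a ^ (2 * e) * t b ^ e
      else t ab ^ (2 * e) + t a ^ (2 * e) * (t b ^ e) ^ 2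

/-- The coefficients of the image under `σ` of an ordered product over a list of classes. -/
def twL (e : ℕ) : List Blk → (ℕ → K) → ℕ → K
  | [], t, s => t s
  | B :: bl, t, s => if s ∈ B.roots then B.tw e t s else twL e bl t s

theorem Blk.roots_lt (B : Blk) (hB : B.ok = true) : ∀ s ∈ B.roots, s < 48 := by
  cases B with
  | pair r rb =>
    simp only [Blk.ok, Bool.and_eq_true, decide_eq_true_eq] at hB
    obtain ⟨⟨⟨⟨⟨⟨⟨h1, h2⟩, -⟩, -⟩, -⟩, -⟩, -⟩, -⟩ := hB
    intro s hs
    simp only [Blk.roots, List.mem_cons, List.not_mem_nil, or_false] at hs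
    rcases hs with rfl | rfl
    · exact h1
    · exact h2
  | quad a b ab aab =>
    simp only [Blk.ok, Bool.and_eq_true, decide_eq_true_eq] at hB
    obtain ⟨⟨⟨⟨⟨⟨⟨⟨⟨⟨⟨⟨⟨h1, h2⟩, h3⟩, h4⟩, -⟩, -⟩, -⟩, -⟩, -⟩, -⟩, -⟩, -⟩, -⟩, -⟩ := hB
    intro s hs
    simp only [Blk.roots, List.mem_cons, List.not_mem_nil, or_false] at hs
    rcases hs with rfl | rfl | rfl | rfl
    · exact h1
    · exact h2
    · exact h3
    · exact h4

theorem Blk.roots_nodup (B : Blk) (hB : B.ok = true) : B.roots.Nodup := by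
  cases B with
  | pair r rb =>
    simp only [Blk.ok, Bool.and_eq_true, decide_eq_true_eq] at hB
    obtain ⟨⟨⟨⟨⟨⟨⟨-, -⟩, h⟩, -⟩, -⟩, -⟩, -⟩, -⟩ := hB
    simp [Blk.roots, h]
  | quad a b ab aab =>
    simp only [Blk.ok, Bool.and_eq_true, decide_eq_true_eq] at hB
    obtain ⟨⟨⟨⟨⟨⟨⟨⟨⟨⟨⟨⟨⟨-, -⟩, -⟩, -⟩, h⟩, -⟩, -⟩, -⟩, -⟩, -⟩, -⟩, -⟩, -⟩, -⟩ := hB
    exact h

end Tw

section Mem

variable {K : Type u} [Field K]

theorem prodL_mem_group (l : List ℕ) (t : ℕ → K) : prodL hD4 l t ∈ chevF4.group K := by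
  induction l with
  | nil => rw [prodL_nil]; exact one_mem _
  | cons a l ih =>
    rw [prodL_cons]
    exact mul_mem (Cfsg.Agent.Lib.Helper18.xG_mem_group hD4 a (t a)) ih

end Mem

section App

variable (K : Type u) [Field K] [Fintype K] [CharP K 2] (m : ℕ)

/-- The image under `σ` of an ordered product over a class. -/
theorem app_blk (B : Blk) (hB : B.ok = true) (t : ℕ → K) (hx : prodL hD4 B.roots t ∈ chevF4.group K) :
    (f4SigData K m).app (prodL hD4 B.roots t) hx = prodL hD4 B.roots (B.tw (2 ^ m) t) := by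
  have hlt := B.roots_lt hB
  have e1 : prodL hD4 B.roots t = wordG hD4 (B.roots.map fun r => (r, t r)) := prodL_eq_wordG hD4 _ _
  have hw : ∀ a ∈ (B.roots.map fun r => (r, t r)), a.1 < chevF4.nroots := by
    intro a ha
    rw [List.mem_map] at ha
    obtain ⟨r, hr, rfl⟩ := ha
    exact hlt r hr
  rw [(f4SigData K m).app_congr _ _ e1 hx (SigData.wordG_mem_group _),
    (f4SigData K m).app_wordG _ hw]
  apply Units.ext
  rw [coe_wordG, coe_prodL]
  cases B with
  | pair r rb =>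
    simp only [Blk.ok, Bool.and_eq_true, decide_eq_true_eq, beq_iff_eq] at hB
    obtain ⟨⟨⟨⟨⟨⟨⟨-, -⟩, hne⟩, h1⟩, h2⟩, l1⟩, l2⟩, hc⟩ := hB
    show chevF4.wordMat K [(f4rho r, t r ^ (f4lam r * 2 ^ m)), (f4rho rb, t rb ^ (f4lam rb * 2 ^ m))]
      = chevF4.wordMat K [(r, Blk.tw (2 ^ m) t (.pair r rb) r), (rb, Blk.tw (2 ^ m) t (.pair r rb) rb)]
    rw [h1, h2, l1, l2, pair_identity_aux r rb hc, one_mul]
    have hne' : rb ≠ r := fun h => hne h.symm
    simp only [Blk.tw, if_true, if_neg hne']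
  | quad a b ab aab =>
    simp only [Blk.ok, Bool.and_eq_true, decide_eq_true_eq, beq_iff_eq] at hB
    obtain ⟨⟨⟨⟨⟨⟨⟨⟨⟨⟨⟨⟨⟨-, -⟩, -⟩, -⟩, hnd⟩, h1⟩, h2⟩, h3⟩, h4⟩, l1⟩, l2⟩, l3⟩, l4⟩, hc⟩ := hB
    show chevF4.wordMat K [(f4rho a, t a ^ (f4lam a * 2 ^ m)), (f4rho b, t b ^ (f4lam b * 2 ^ m)),
        (f4rho ab, t ab ^ (f4lam ab * 2 ^ m)), (f4rho aab, t aab ^ (f4lam aab * 2 ^ m))]
      = chevF4.wordMat K [(a, Blk.tw (2 ^ m) t (.quad a b ab aab) a), (b, Blk.tw (2 ^ m) t (.quad a b ab aab) b),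
        (ab, Blk.tw (2 ^ m) t (.quad a b ab aab) ab), (aab, Blk.tw (2 ^ m) t (.quad a b ab aab) aab)]
    rw [h1, h2, h3, h4, l1, l2, l3, l4, cls_identity_aux a b ab aab hc, one_mul]
    simp only [List.nodup_cons, List.mem_cons, List.not_mem_nil, or_false, not_or, List.nodup_nil,
      and_true] at hnd
    obtain ⟨⟨n1, n2, n3⟩, ⟨n4, n5⟩, n6, -⟩ := hnd
    have hba : b ≠ a := fun h => n1 h.symm
    have haba : ab ≠ a := fun h => n2 h.symm
    have haaba : aab ≠ a := fun h => n3 h.symm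
    have habb : ab ≠ b := fun h => n4 h.symm
    have haabb : aab ≠ b := fun h => n5 h.symm
    have haabab : aab ≠ ab := fun h => n6 h.symm
    simp only [Blk.tw, if_true, if_neg hba, if_neg haba, if_neg haaba, if_neg habb, if_neg haabb,
      if_neg haabab]

end App

end Cfsg.Agent.Lib.Helper18.F4T
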