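/-
helper18: the action of `σ` on the ordered products over a list of classes of roots of `F₄`, the coefficients of
the fixed elements, and the parametrisation of the fixed elements by the class words.
-/
import Cfsg.Agent.Lib.Helper18.F4A

set_option autoImplicit false

namespace Cfsg.Agent.Lib.Helper18.F4T

open Cfsg.Lie Cfsg.Agent.Lib.Helper18 Cfsg.Agent.Lib.Helper91.ReeF4 Cfsg.Agent.Lib.Helper91.SigAbs
open Cfsg.Agent.Lib.Helper91.ExcAut

universe u

/-- The roots of a list of classes. -/
def rootsL (bl : List Blk) : List ℕ := bl.flatMap Blk.roots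

theorem rootsL_cons (B : Blk) (bl : List Blk) : rootsL (B :: bl) = B.roots ++ rootsL bl := by
  unfold rootsL
  rw [List.flatMap_cons]

theorem mem_rootsL (bl : List Blk) (s : ℕ) : s ∈ rootsL bl ↔ ∃ B ∈ bl, s ∈ B.roots := by
  unfold rootsL
  rw [List.mem_flatMap]

/-- The positive classes. -/
def posBlks : List Blk := [.pair 33 24, .quad 27 25 28 30, .quad 34 26 36 42, .pair 37 32, .quad 35 31 40 46,
  .pair 38 43, .quad 29 41 44 47, .pair 39 45]

/-- The negative classes. -/
def negBlks : List Blk := [.pair 14 23, .quad 20 22 19 17, .quad 13 21 11 5, .pair 10 15, .quad 12 16 7 1,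
  .pair 9 4, .quad 18 6 3 0, .pair 8 2]

set_option maxRecDepth 100000 in
theorem posBlks_ok : ∀ B ∈ posBlks, B.ok = true := by decide +kernel

set_option maxRecDepth 100000 in
theorem negBlks_ok : ∀ B ∈ negBlks, B.ok = true := by decide +kernel

theorem rootsL_posBlks : rootsL posBlks = [33, 24, 27, 25, 28, 30, 34, 26, 36, 42, 37, 32, 35, 31, 40, 46, 38, 43,
    29, 41, 44, 47, 39, 45] := by decide

section Tw

variable {K : Type u} [Field K]

theorem twL_of_mem (e : ℕ) (bl : List Blk) (hnd : (rootsL bl).Nodup) (t : ℕ → K) (B : Blk) (hB : B ∈ bl)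
    (s : ℕ) (hs : s ∈ B.roots) : twL e bl t s = B.tw e t s := by
  induction bl with
  | nil => exact absurd hB List.not_mem_nil
  | cons B' bl ih =>
    rw [rootsL_cons, List.nodup_append] at hnd
    obtain ⟨-, hnd', hdis⟩ := hnd
    rcases List.mem_cons.mp hB with rfl | hB'
    · show (if s ∈ B.roots then B.tw e t s else twL e bl t s) = B.tw e t s
      rw [if_pos hs]
    · have hs' : s ∈ rootsL bl := (mem_rootsL bl s).mpr ⟨B, hB', hs⟩
      have hns : s ∉ B'.roots := fun h => hdis s h s hs' rfl
      show (if s ∈ B'.roots then B'.tw e t s else twL e bl t s) = B.tw e t s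
      rw [if_neg hns]
      exact ih hnd' hB'

end Tw

section App

variable (K : Type u) [Field K] [Fintype K] [CharP K 2] (m : ℕ)

/-- The image under `σ` of an ordered product over a list of classes. -/
theorem app_blks (bl : List Blk) (hok : ∀ B ∈ bl, B.ok = true) (hnd : (rootsL bl).Nodup) (t : ℕ → K)
    (hx : prodL hD4 (rootsL bl) t ∈ chevF4.group K) :
    (f4SigData K m).app (prodL hD4 (rootsL bl) t) hx = prodL hD4 (rootsL bl) (twL (2 ^ m) bl t) := by
  induction bl with
  | nil =>
    have e : prodL hD4 (rootsL []) t = 1 := rfl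
    rw [(f4SigData K m).app_congr _ _ e hx (one_mem _), (f4SigData K m).app_one]
    rfl
  | cons B bl ih =>
    have hnd0 := hnd
    rw [rootsL_cons, List.nodup_append] at hnd
    obtain ⟨-, hnd', hdis⟩ := hnd
    have e : prodL hD4 (rootsL (B :: bl)) t = prodL hD4 B.roots t * prodL hD4 (rootsL bl) t := by
      rw [rootsL_cons, prodL_append]
    have h1 := prodL_mem_group (K := K) B.roots t
    have h2 := prodL_mem_group (K := K) (rootsL bl) t
    rw [(f4SigData K m).app_congr _ _ e hx (mul_mem h1 h2), (f4SigData K m).app_mul _ _ h1 h2,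
      app_blk K m B (hok B List.mem_cons_self) t h1,
      ih (fun B' hB' => hok B' (List.mem_cons_of_mem _ hB')) hnd' h2, rootsL_cons, prodL_append]
    congr 1
    · apply prodL_congr
      intro s hs
      show B.tw (2 ^ m) t s = (if s ∈ B.roots then B.tw (2 ^ m) t s else twL (2 ^ m) bl t s)
      rw [if_pos hs]
    · apply prodL_congr
      intro s hs
      show twL (2 ^ m) bl t s = (if s ∈ B.roots then B.tw (2 ^ m) t s else twL (2 ^ m) bl t s)
      rw [if_neg fun h => hdis s h s hs rfl]

/-- The coefficients of a fixed ordered product over a list of all the positive classes. -/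
theorem fixed_coeffs (bl : List Blk) (hok : ∀ B ∈ bl, B.ok = true) (hnd : (rootsL bl).Nodup)
    (hl : ∀ r ∈ rootsL bl, chevF4.IsPosRoot r) (hall : ∀ r, chevF4.IsPosRoot r → r ∈ rootsL bl) (t : ℕ → K)
    (hfix : prodL hD4 (rootsL bl) t ∈ (f4Fix K m).map (chevF4.group K).subtype) :
    ∀ B ∈ bl, ∀ s ∈ B.roots, t s = B.tw (2 ^ m) t s := by
  obtain ⟨hx, h⟩ := (mem_f4FixGL K m _).mp hfix
  have h' : (f4SigData K m).app (prodL hD4 (rootsL bl) t) hx = prodL hD4 (rootsL bl) t := h
  rw [app_blks K m bl hok hnd t hx] at h'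
  have h2 := prodL_injective_of_fintype hD4 _ hl hnd hall _ _ h'
  intro B hB s hs
  rw [← twL_of_mem (2 ^ m) bl hnd t B hB s hs]
  exact (h2 s ((mem_rootsL bl s).mpr ⟨B, hB, hs⟩)).symm

end App

end Cfsg.Agent.Lib.Helper18.F4T
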