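/-
helper18: the class words of `²F₄`, the elements `n_{J₁} = n_{p₁} n_{p₄}` and `n_{J₂} = (n_{p₂} n_{p₃})²` as products
of generators of `²F₄`, and the class words of all the classes of roots lie in `²F₄`.
-/
import Cfsg.Agent.Lib.Helper18.F4B
import Cfsg.Agent.Lib.Helper18.BN2

set_option autoImplicit false

namespace Cfsg.Agent.Lib.Helper18.F4T

open Cfsg.Lie Cfsg.Agent.Lib.Helper18 Cfsg.Agent.Lib.Helper91.ReeF4 Cfsg.Agent.Lib.Helper91.SigAbs
open Cfsg.Agent.Lib.Helper91.ExcAut

universe u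

/-- The image of a class under a map of the roots. -/
def Blk.map (f : ℕ → ℕ) : Blk → Blk
  | .pair r rb => .pair (f r) (f rb)
  | .quad a b ab aab => .quad (f a) (f b) (f ab) (f aab)

/-- The words in the fundamental reflections of the two classes of fundamental roots. -/
def clsJ (k : ℕ) : List ℕ := if k = 0 then [0, 3] else if k = 1 then [1, 2, 1, 2] else []

/-- The word in the fundamental reflections of a word in the two classes. -/
def wordJ (cw : List ℕ) : List ℕ := cw.flatMap clsJ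

theorem clsJ_lt (k : ℕ) : ∀ i ∈ clsJ k, i < chevF4.rank := by
  unfold clsJ
  split_ifs <;> decide

theorem wordJ_lt (cw : List ℕ) : ∀ i ∈ wordJ cw, i < chevF4.rank := by
  intro i hi
  unfold wordJ at hi
  rw [List.mem_flatMap] at hi
  obtain ⟨k, -, hk⟩ := hi
  exact clsJ_lt k i hk

theorem wordJ_cons (k : ℕ) (cw : List ℕ) : wordJ (k :: cw) = clsJ k ++ wordJ cw := by
  unfold wordJ
  rw [List.flatMap_cons]

/-- The reflection tables of `F₄`. -/
def f4tabs : List ℕ := chevData_F4.{0}.tabs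

theorem f4tabs_eq : chevData_F4.{u}.tabs = f4tabs := rfl

/-- The image of a class under a word in the two classes. -/
def blkAct (cw : List ℕ) (B : Blk) : Blk := B.map (wordRootF f4tabs (wordJ cw))

theorem posBlks_eq : posBlks = [blkAct [] (.pair 33 24), blkAct [] (.quad 27 25 28 30),
    blkAct [0] (.quad 27 25 28 30), blkAct [1] (.pair 33 24), blkAct [1, 0] (.quad 27 25 28 30),
    blkAct [0, 1] (.pair 33 24), blkAct [0, 1, 0] (.quad 27 25 28 30), blkAct [1, 0, 1] (.pair 33 24)] := by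
  decide +kernel

theorem negBlks_eq : negBlks = [blkAct [] (.pair 14 23), blkAct [] (.quad 20 22 19 17),
    blkAct [0] (.quad 20 22 19 17), blkAct [1] (.pair 14 23), blkAct [1, 0] (.quad 20 22 19 17),
    blkAct [0, 1] (.pair 14 23), blkAct [0, 1, 0] (.quad 20 22 19 17), blkAct [1, 0, 1] (.pair 14 23)] := by
  decide +kernel

/-! ### The identities for `n_{J₁}`, `n_{J₂}` -/

def cw1 (r : ℕ) : ℕ × Poly := (r, onePoly)

set_option maxRecDepth 100000 in
theorem n1_chk : wordEqChk chevF4 2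
    [cw1 33, cw1 24, cw1 14, cw1 23, cw1 33, cw1 24] [cw1 33, cw1 14, cw1 33, cw1 24, cw1 23, cw1 24] = true := by
  decide +kernel

set_option maxRecDepth 100000 in
theorem n2_chk : wordEqChk chevF4 2
    [cw1 19, cw1 17, cw1 28, cw1 30, cw1 19, cw1 17, cw1 28, cw1 30, cw1 19, cw1 17]
    [cw1 27, cw1 20, cw1 27, cw1 25, cw1 22, cw1 25, cw1 27, cw1 20, cw1 27, cw1 25, cw1 22, cw1 25] = true := by
  decide +kernel

section Words

variable {K : Type u} [Field K]

/-- The class word with parameters `τ`, `υ`. -/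
def Blk.word (e : ℕ) : Blk → K → K → List (ℕ × K)
  | .pair r rb, τ, _ => f4PairWord e r rb τ
  | .quad a b ab aab, τ, υ => b2ClassWord e a b ab aab τ υ

theorem Blk.word_map (e : ℕ) (f : ℕ → ℕ) (B : Blk) (τ υ : K) :
    (B.map f).word e τ υ = (B.word e τ υ).map fun a => (f a.1, a.2) := by
  cases B <;> rfl

theorem Blk.word_lt (e : ℕ) (B : Blk) (hB : ∀ s ∈ B.roots, s < 48) (τ υ : K) :
    ∀ a ∈ B.word e τ υ, a.1 < chevF4.nroots := by
  cases B with
  | pair r rb =>
    intro a ha
    simp only [Blk.word, f4PairWord, List.mem_cons, List.not_mem_nil, or_false] at ha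
    rcases ha with rfl | rfl
    · exact hB r (by simp [Blk.roots])
    · exact hB rb (by simp [Blk.roots])
  | quad a b ab aab =>
    intro x hx
    simp only [Blk.word, b2ClassWord, List.mem_cons, List.not_mem_nil, or_false] at hx
    rcases hx with rfl | rfl | rfl | rfl
    · exact hB a (by simp [Blk.roots])
    · exact hB b (by simp [Blk.roots])
    · exact hB ab (by simp [Blk.roots])
    · exact hB aab (by simp [Blk.roots])

end Words

section Char2

variable {K : Type u} [Field K] [CharP K 2]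

theorem sign_cast (z : ℤ) (hz : z = 1 ∨ z = -1) : ((z : ℤ) : K) = 1 := by
  rcases hz with rfl | rfl
  · simp
  · rw [Int.cast_neg, Int.cast_one, CharTwo.neg_eq]

/-- Conjugation of a word by `n_w` in characteristic 2. -/
theorem nW_conj_wordG (ws : List ℕ) (hws : ∀ i ∈ ws, i < chevF4.rank) (w : List (ℕ × K))
    (hw : ∀ a ∈ w, a.1 < chevF4.nroots) :
    nW hD4 chevData_F4.{u} ws * wordG hD4 w * (nW hD4 chevData_F4.{u} ws)⁻¹
      = wordG hD4 (w.map fun a => (wordRootF f4tabs ws a.1, a.2)) := by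
  induction w with
  | nil => simp [wordG_nil]
  | cons a w ih =>
    rw [wordG_cons, List.map_cons, wordG_cons, ← ih fun b hb => hw b (List.mem_cons_of_mem _ hb)]
    have h1 := nW_conj_xG (F := K) hD4 chevData_F4.{u} ws hws a.1 (hw a List.mem_cons_self) a.2
    rw [sign_cast _ (wordSignF_cases _ _ _), one_mul, f4tabs_eq] at h1
    show _ = xG hD4 (wordRootF f4tabs ws a.1) a.2 * _
    rw [← h1]
    group

theorem one_wordMat_eq (w₁ w₂ : List (ℕ × Poly)) (hc : wordEqChk chevF4 2 w₁ w₂ = true) :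
    chevF4.wordMat K (evWord (fun _ => (1 : K)) w₁) = chevF4.wordMat K (evWord (fun _ => (1 : K)) w₂) :=
  wordMat_eq_of_wordEqChk chevF4 (fun _ => (1 : K)) (by simp) 2 (CharP.cast_eq_zero K 2) w₁ w₂ hc

theorem coe_sG_F4 (i : ℕ) (hi : i < 4) :
    ((sG (F := K) hD4 chevData_F4.{u} i : GL chevF4.Idx K) : Matrix chevF4.Idx chevF4.Idx K)
      = chevF4.wordMat K [(chevF4.simple i, 1), (chevF4.neg (chevF4.simple i), 1), (chevF4.simple i, 1)] := by
  rw [coe_sG hD4 chevData_F4.{u} i hi]
  show chevF4.wordMat K [(chevF4.simple i, 1), (chevF4.neg (chevF4.simple i), -(1 : K)⁻¹), (chevF4.simple i, 1)] = _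
  rw [inv_one, CharTwo.neg_eq]

/-- `n_{p₁} n_{p₄} = y(1) y⁻(1) y(1)`. -/
theorem nW_J1_eq : nW (F := K) hD4 chevData_F4.{u} [0, 3]
    = wordG hD4 [(33, (1 : K)), (24, 1)] * wordG hD4 [(14, (1 : K)), (23, 1)] * wordG hD4 [(33, (1 : K)), (24, 1)] := by
  apply Units.ext
  rw [nW_cons, nW_cons, nW_nil, mul_one, Units.val_mul, Units.val_mul, Units.val_mul, coe_sG_F4 0 (by norm_num),
    coe_sG_F4 3 (by norm_num), coe_wordG, coe_wordG, ← wordMat_append', ← wordMat_append', ← wordMat_append']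
  have h := one_wordMat_eq (K := K) _ _ n1_chk
  simp only [evWord, cw1, List.map_cons, List.map_nil, evPoly_onePoly] at h
  exact h.symm

/-- `(n_{p₂} n_{p₃})² = (y⁻(0,1) y(0,1))² y⁻(0,1)`. -/
theorem nW_J2_eq : nW (F := K) hD4 chevData_F4.{u} [1, 2, 1, 2]
    = wordG hD4 [(19, (1 : K)), (17, 1)] * wordG hD4 [(28, (1 : K)), (30, 1)] * wordG hD4 [(19, (1 : K)), (17, 1)]
      * wordG hD4 [(28, (1 : K)), (30, 1)] * wordG hD4 [(19, (1 : K)), (17, 1)] := by
  apply Units.ext
  rw [nW_cons, nW_cons, nW_cons, nW_cons, nW_nil, mul_one, Units.val_mul, Units.val_mul, Units.val_mul,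
    Units.val_mul, Units.val_mul, Units.val_mul, Units.val_mul, coe_sG_F4 1 (by norm_num),
    coe_sG_F4 2 (by norm_num), coe_wordG, coe_wordG, ← wordMat_append', ← wordMat_append', ← wordMat_append',
    ← wordMat_append', ← wordMat_append', ← wordMat_append', ← wordMat_append']
  have h := one_wordMat_eq (K := K) _ _ n2_chk
  simp only [evWord, cw1, List.map_cons, List.map_nil, evPoly_onePoly] at h
  exact h.symm

end Char2

end Cfsg.Agent.Lib.Helper18.F4T
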