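/-
helper18: the class words of all the classes of roots lie in `²F₄`; the coefficients of the fixed elements in terms
of parameters; the fixed elements of `U` lie in `²F₄`.
-/
import Cfsg.Agent.Lib.Helper18.F4C
import Cfsg.Agent.Lib.Helper18.Order4

set_option autoImplicit false

namespace Cfsg.Agent.Lib.Helper18.F4T

open Cfsg.Lie Cfsg.Agent.Lib.Helper18 Cfsg.Agent.Lib.Helper91.ReeF4 Cfsg.Agent.Lib.Helper91.SigAbs
open Cfsg.Agent.Lib.Helper91.ExcAut

universe u

/-- The first parameter root of a class. -/
def Blk.p1 : Blk → ℕ
  | .pair _ rb => rb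
  | .quad _ b _ _ => b

/-- The second parameter root of a class. -/
def Blk.p2 : Blk → ℕ
  | .pair _ rb => rb
  | .quad _ _ ab _ => ab

/-- The parameter roots of a class. -/
def Blk.params : Blk → List ℕ
  | .pair _ rb => [rb]
  | .quad _ b ab _ => [b, ab]

/-- The parameter roots of a list of classes. -/
def paramsL (bl : List Blk) : List ℕ := bl.flatMap Blk.params

theorem paramsL_cons (B : Blk) (bl : List Blk) : paramsL (B :: bl) = B.params ++ paramsL bl := by
  unfold paramsL
  rw [List.flatMap_cons]

theorem Blk.params_sub (B : Blk) : ∀ s ∈ B.params, s ∈ B.roots := by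
  cases B with
  | pair r rb => intro s hs; simp only [Blk.params, List.mem_singleton] at hs; subst hs; simp [Blk.roots]
  | quad a b ab aab =>
    intro s hs
    simp only [Blk.params, List.mem_cons, List.not_mem_nil, or_false] at hs
    rcases hs with rfl | rfl <;> simp [Blk.roots]

theorem paramsL_sub (bl : List Blk) : ∀ s ∈ paramsL bl, s ∈ rootsL bl := by
  intro s hs
  unfold paramsL at hs
  rw [List.mem_flatMap] at hs
  obtain ⟨B, hB, hsB⟩ := hs
  exact (mem_rootsL bl s).mpr ⟨B, hB, B.params_sub s hsB⟩

section Cf

variable {K : Type u} [Field K]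

/-- The coefficients of the class word with parameters `p`. -/
def Blk.cf (e : ℕ) (p : ℕ → K) : Blk → ℕ → K
  | .pair r rb => fun s => if s = r then p rb ^ e else p rb
  | .quad a b ab _ => fun s =>
      if s = a then p b ^ e else if s = b then p b else if s = ab then p ab
      else (p ab + p b ^ (e + 1)) ^ (2 * e)

/-- The coefficients of the product of the class words with parameters `p` over a list of classes. -/
def cfL (e : ℕ) : List Blk → (ℕ → K) → ℕ → K
  | [], _, _ => 0
  | B :: bl, p, s => if s ∈ B.roots then B.cf e p s else cfL e bl p s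

theorem cfL_of_mem (e : ℕ) (bl : List Blk) (hnd : (rootsL bl).Nodup) (p : ℕ → K) (B : Blk) (hB : B ∈ bl)
    (s : ℕ) (hs : s ∈ B.roots) : cfL e bl p s = B.cf e p s := by
  induction bl with
  | nil => exact absurd hB List.not_mem_nil
  | cons B' bl ih =>
    rw [rootsL_cons, List.nodup_append] at hnd
    obtain ⟨-, hnd', hdis⟩ := hnd
    rcases List.mem_cons.mp hB with rfl | hB'
    · show (if s ∈ B.roots then B.cf e p s else cfL e bl p s) = B.cf e p s
      rw [if_pos hs]
    · have hs' : s ∈ rootsL bl := (mem_rootsL bl s).mpr ⟨B, hB', hs⟩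
      have hns : s ∉ B'.roots := fun h => hdis s h s hs' rfl
      show (if s ∈ B'.roots then B'.cf e p s else cfL e bl p s) = B.cf e p s
      rw [if_neg hns]
      exact ih hnd' hB'

theorem Blk.cf_congr (e : ℕ) (B : Blk) (p p' : ℕ → K) (h : ∀ s ∈ B.params, p s = p' s) (s : ℕ) :
    B.cf e p s = B.cf e p' s := by
  cases B with
  | pair r rb =>
    have h1 := h rb (by simp [Blk.params])
    simp only [Blk.cf, h1]
  | quad a b ab aab =>
    have h1 := h b (by simp [Blk.params])
    have h2 := h ab (by simp [Blk.params])
    simp only [Blk.cf, h1, h2]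

/-- The coefficients at the parameter roots. -/
theorem Blk.cf_params (e : ℕ) (B : Blk) (hnd : B.roots.Nodup) (p : ℕ → K) : ∀ s ∈ B.params, B.cf e p s = p s := by
  cases B with
  | pair r rb =>
    intro s hs
    simp only [Blk.params, List.mem_singleton] at hs
    subst hs
    simp only [Blk.roots, List.nodup_cons, List.mem_singleton, List.not_mem_nil, not_false_eq_true,
      List.nodup_nil, and_true] at hnd
    have hne : s ≠ r := fun h => hnd h.symm
    simp only [Blk.cf, if_neg hne]
  | quad a b ab aab =>
    intro s hs
    simp only [Blk.roots, List.nodup_cons, List.mem_cons, List.not_mem_nil, or_false, not_or, List.nodup_nil,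
      and_true, not_false_eq_true] at hnd
    obtain ⟨⟨n1, n2, -⟩, ⟨n4, -⟩, -⟩ := hnd
    simp only [Blk.params, List.mem_cons, List.not_mem_nil, or_false] at hs
    rcases hs with rfl | rfl
    · have hne : s ≠ a := fun h => n1 h.symm
      simp only [Blk.cf, if_neg hne, if_true]
    · have hne : s ≠ a := fun h => n2 h.symm
      have hne2 : s ≠ b := fun h => n4 h.symm
      simp only [Blk.cf, if_neg hne, if_neg hne2, if_true]

end Cf

section Char2

variable {K : Type u} [Field K] [CharP K 2]

/-- The ordered product over a class with the coefficients of parameters is a class word. -/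
theorem prodL_cf (e : ℕ) (B : Blk) (hnd : B.roots.Nodup) (p : ℕ → K) :
    prodL hD4 B.roots (B.cf e p) = wordG hD4 (B.word e (p B.p1) (p B.p2 + p B.p1 ^ (e + 1))) := by
  rw [prodL_eq_wordG]
  congr 1
  cases B with
  | pair r rb =>
    simp only [Blk.roots, List.nodup_cons, List.mem_singleton, List.not_mem_nil, not_false_eq_true,
      List.nodup_nil, and_true] at hnd
    have hne : rb ≠ r := fun h => hnd h.symm
    simp only [Blk.roots, Blk.word, f4PairWord, Blk.p1, List.map_cons, List.map_nil, Blk.cf, if_true, if_neg hne]
  | quad a b ab aab =>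
    simp only [Blk.roots, List.nodup_cons, List.mem_cons, List.not_mem_nil, or_false, not_or, List.nodup_nil,
      and_true, not_false_eq_true] at hnd
    obtain ⟨⟨n1, n2, n3⟩, ⟨n4, n5⟩, n6⟩ := hnd
    have hba : b ≠ a := fun h => n1 h.symm
    have haba : ab ≠ a := fun h => n2 h.symm
    have haaba : aab ≠ a := fun h => n3 h.symm
    have habb : ab ≠ b := fun h => n4 h.symm
    have haabb : aab ≠ b := fun h => n5 h.symm
    have haabab : aab ≠ ab := fun h => n6 h.symm
    simp only [Blk.roots, Blk.word, b2ClassWord, Blk.p1, Blk.p2, List.map_cons, List.map_nil, Blk.cf, if_true,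
      if_neg hba, if_neg haba, if_neg haaba, if_neg habb, if_neg haabb, if_neg haabab]
    have e3 : p b ^ (e + 1) + (p ab + p b ^ (e + 1)) = p ab := by
      rw [add_comm (p ab), ← add_assoc, CharTwo.add_self_eq_zero, zero_add]
    rw [e3]

end Char2

section Fixed

variable {K : Type u} [Field K] [CharP K 2] (m : ℕ) (hq : ∀ t : K, t ^ (2 * 2 ^ m * 2 ^ m) = t)

include hq in
/-- The coefficients of a fixed ordered product over a class are those of a class word. -/
theorem cf_of_fixed (B : Blk) (hB : B.ok = true) (t : ℕ → K) (h : ∀ s ∈ B.roots, t s = B.tw (2 ^ m) t s) :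
    ∀ s ∈ B.roots, t s = B.cf (2 ^ m) t s := by
  have hnd := B.roots_nodup hB
  cases B with
  | pair r rb =>
    simp only [Blk.roots, List.nodup_cons, List.mem_singleton, List.not_mem_nil, not_false_eq_true,
      List.nodup_nil, and_true] at hnd
    have hne : rb ≠ r := fun h => hnd h.symm
    have h1 := h r (by simp [Blk.roots])
    simp only [Blk.tw, if_true] at h1
    intro s hs
    simp only [Blk.roots, List.mem_cons, List.not_mem_nil, or_false] at hs
    rcases hs with rfl | rfl
    · simp only [Blk.cf, if_true]; exact h1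
    · simp only [Blk.cf, if_neg hne]
  | quad a b ab aab =>
    simp only [Blk.roots, List.nodup_cons, List.mem_cons, List.not_mem_nil, or_false, not_or, List.nodup_nil,
      and_true, not_false_eq_true] at hnd
    obtain ⟨⟨n1, n2, n3⟩, ⟨n4, n5⟩, n6⟩ := hnd
    have hba : b ≠ a := fun h => n1 h.symm
    have haba : ab ≠ a := fun h => n2 h.symm
    have haaba : aab ≠ a := fun h => n3 h.symm
    have habb : ab ≠ b := fun h => n4 h.symm
    have haabb : aab ≠ b := fun h => n5 h.symm
    have haabab : aab ≠ ab := fun h => n6 h.symm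
    have h1 := h a (by simp [Blk.roots])
    have h2 := h b (by simp [Blk.roots])
    have h3 := h ab (by simp [Blk.roots])
    simp only [Blk.tw, if_true, if_neg hba, if_neg haba, if_neg habb] at h1 h2 h3
    intro s hs
    simp only [Blk.roots, List.mem_cons, List.not_mem_nil, or_false] at hs
    rcases hs with rfl | rfl | rfl | rfl
    · simp only [Blk.cf, if_true]; exact h1
    · simp only [Blk.cf, if_neg hba, if_true]
    · simp only [Blk.cf, if_neg haba, if_neg habb, if_true]
    · simp only [Blk.cf, if_neg haaba, if_neg haabb, if_neg haabab]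
      have e1 : t ab + t b ^ (2 ^ m + 1) = t s ^ 2 ^ m := by
        rw [h3, ← h2, pow_succ, mul_comm (t b ^ 2 ^ m) (t b), add_assoc, CharTwo.add_self_eq_zero, add_zero]
      rw [e1, theta_q m hq]

end Fixed

end Cfsg.Agent.Lib.Helper18.F4T
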