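/-
helper18: `n_{J₁}`, `n_{J₂}` and the class words of all the classes lie in `²F₄`; the fixed elements of `U` lie in
`²F₄` and are parametrised by the class words; `|U ∩ ²F₄| = q¹²`.
-/
import Cfsg.Agent.Lib.Helper18.F4D

set_option autoImplicit false

namespace Cfsg.Agent.Lib.Helper18.F4T

open Cfsg.Lie Cfsg.Agent.Lib.Helper18 Cfsg.Agent.Lib.Helper91.ReeF4 Cfsg.Agent.Lib.Helper91.SigAbs
open Cfsg.Agent.Lib.Helper91.ExcAut

universe u

section G1

variable (K : Type u) [Field K] [CharP K 2] (e : ℕ)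

omit [CharP K 2] in
theorem gen_mem (w : List (ℕ × K)) (hw : w ∈ f4Words K e) : wordG hD4 w ∈ twistedF4 K e :=
  Subgroup.subset_closure ⟨w, hw, coe_wordG hD4 w⟩

omit [CharP K 2] in
theorem pairP_mem (τ : K) : wordG hD4 (f4PairWord e 33 24 τ) ∈ twistedF4 K e :=
  gen_mem K e _ (Or.inl ⟨τ, Or.inl rfl⟩)

omit [CharP K 2] in
theorem pairN_mem (τ : K) : wordG hD4 (f4PairWord e 14 23 τ) ∈ twistedF4 K e :=
  gen_mem K e _ (Or.inl ⟨τ, Or.inr rfl⟩)

omit [CharP K 2] in
theorem quadP_mem (τ υ : K) : wordG hD4 (b2ClassWord e 27 25 28 30 τ υ) ∈ twistedF4 K e :=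
  gen_mem K e _ (Or.inr ⟨τ, υ, Or.inl rfl⟩)

omit [CharP K 2] in
theorem quadN_mem (τ υ : K) : wordG hD4 (b2ClassWord e 20 22 19 17 τ υ) ∈ twistedF4 K e :=
  gen_mem K e _ (Or.inr ⟨τ, υ, Or.inr rfl⟩)

/-- `n_{J₁} ∈ ²F₄`. -/
theorem nW_J1_mem : nW (F := K) hD4 chevData_F4.{u} [0, 3] ∈ twistedF4 K e := by
  rw [nW_J1_eq]
  have h1 := pairP_mem K e 1
  have h2 := pairN_mem K e 1
  simp only [f4PairWord, one_pow] at h1 h2
  exact mul_mem (mul_mem h1 h2) h1

/-- `n_{J₂} ∈ ²F₄`. -/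
theorem nW_J2_mem (he : e ≠ 0) : nW (F := K) hD4 chevData_F4.{u} [1, 2, 1, 2] ∈ twistedF4 K e := by
  rw [nW_J2_eq]
  have h1 := quadP_mem K e 0 1
  have h2 := quadN_mem K e 0 1
  simp only [b2ClassWord, one_pow, zero_pow he, zero_pow (Nat.succ_ne_zero e), zero_add, wordG_cons, xG_zero,
    one_mul] at h1 h2
  simp only [wordG_cons]
  exact mul_mem (mul_mem (mul_mem (mul_mem h2 h1) h2) h1) h2

theorem nW_clsJ_mem (he : e ≠ 0) (k : ℕ) : nW (F := K) hD4 chevData_F4.{u} (clsJ k) ∈ twistedF4 K e := by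
  unfold clsJ
  split_ifs
  · exact nW_J1_mem K e
  · exact nW_J2_mem K e he
  · rw [nW_nil]; exact one_mem _

/-- `n_w ∈ ²F₄` for the words `w` in the two classes. -/
theorem nW_wordJ_mem (he : e ≠ 0) (cw : List ℕ) : nW (F := K) hD4 chevData_F4.{u} (wordJ cw) ∈ twistedF4 K e := by
  induction cw with
  | nil => exact one_mem _
  | cons k cw ih =>
    rw [wordJ_cons, nW_append]
    exact mul_mem (nW_clsJ_mem K e he k) ih

/-- The class words of the image of a class under a word in the two classes. -/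
theorem blkAct_word_mem (he : e ≠ 0) (cw : List ℕ) (B : Blk) (hB : ∀ s ∈ B.roots, s < 48)
    (h : ∀ τ υ : K, wordG hD4 (B.word e τ υ) ∈ twistedF4 K e) (τ υ : K) :
    wordG hD4 ((blkAct cw B).word e τ υ) ∈ twistedF4 K e := by
  unfold blkAct
  rw [Blk.word_map, ← nW_conj_wordG (wordJ cw) (wordJ_lt cw) _ (Blk.word_lt e B hB τ υ)]
  exact mul_mem (mul_mem (nW_wordJ_mem K e he cw) (h τ υ)) (inv_mem (nW_wordJ_mem K e he cw))

/-- The class words of all the classes lie in `²F₄`. -/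
theorem word_mem (he : e ≠ 0) (B : Blk) (hB : B ∈ posBlks ++ negBlks) (τ υ : K) :
    wordG hD4 (B.word e τ υ) ∈ twistedF4 K e := by
  have hP : ∀ s ∈ (Blk.pair 33 24).roots, s < 48 := by decide
  have hQ : ∀ s ∈ (Blk.quad 27 25 28 30).roots, s < 48 := by decide
  have hP' : ∀ s ∈ (Blk.pair 14 23).roots, s < 48 := by decide
  have hQ' : ∀ s ∈ (Blk.quad 20 22 19 17).roots, s < 48 := by decide
  have mP : ∀ τ υ : K, wordG hD4 ((Blk.pair 33 24).word e τ υ) ∈ twistedF4 K e := fun τ _ => pairP_mem K e τ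
  have mQ : ∀ τ υ : K, wordG hD4 ((Blk.quad 27 25 28 30).word e τ υ) ∈ twistedF4 K e :=
    fun τ υ => quadP_mem K e τ υ
  have mP' : ∀ τ υ : K, wordG hD4 ((Blk.pair 14 23).word e τ υ) ∈ twistedF4 K e := fun τ _ => pairN_mem K e τ
  have mQ' : ∀ τ υ : K, wordG hD4 ((Blk.quad 20 22 19 17).word e τ υ) ∈ twistedF4 K e :=
    fun τ υ => quadN_mem K e τ υ
  rw [posBlks_eq, negBlks_eq] at hB
  simp only [List.cons_append, List.nil_append, List.mem_cons, List.not_mem_nil, or_false] at hB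
  rcases hB with rfl | rfl | rfl | rfl | rfl | rfl | rfl | rfl | rfl | rfl | rfl | rfl | rfl | rfl | rfl | rfl
  · exact blkAct_word_mem K e he _ _ hP mP τ υ
  · exact blkAct_word_mem K e he _ _ hQ mQ τ υ
  · exact blkAct_word_mem K e he _ _ hQ mQ τ υ
  · exact blkAct_word_mem K e he _ _ hP mP τ υ
  · exact blkAct_word_mem K e he _ _ hQ mQ τ υ
  · exact blkAct_word_mem K e he _ _ hP mP τ υ
  · exact blkAct_word_mem K e he _ _ hQ mQ τ υ
  · exact blkAct_word_mem K e he _ _ hP mP τ υ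
  · exact blkAct_word_mem K e he _ _ hP' mP' τ υ
  · exact blkAct_word_mem K e he _ _ hQ' mQ' τ υ
  · exact blkAct_word_mem K e he _ _ hQ' mQ' τ υ
  · exact blkAct_word_mem K e he _ _ hP' mP' τ υ
  · exact blkAct_word_mem K e he _ _ hQ' mQ' τ υ
  · exact blkAct_word_mem K e he _ _ hP' mP' τ υ
  · exact blkAct_word_mem K e he _ _ hQ' mQ' τ υ
  · exact blkAct_word_mem K e he _ _ hP' mP' τ υ

/-- The products of class words over a list of classes lie in `²F₄`. -/
theorem prodL_cfL_mem (he : e ≠ 0) (bl : List Blk) (hbl : ∀ B ∈ bl, B ∈ posBlks ++ negBlks)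
    (hnd : (rootsL bl).Nodup) (hnd' : ∀ B ∈ bl, B.roots.Nodup) (p : ℕ → K) :
    prodL hD4 (rootsL bl) (cfL e bl p) ∈ twistedF4 K e := by
  induction bl with
  | nil => exact one_mem _
  | cons B bl ih =>
    have hnd0 := hnd
    rw [rootsL_cons, List.nodup_append] at hnd
    obtain ⟨-, hnd1, hdis⟩ := hnd
    rw [rootsL_cons, prodL_append]
    have e1 : prodL hD4 B.roots (cfL e (B :: bl) p) = prodL hD4 B.roots (B.cf e p) := by
      apply prodL_congr
      intro s hs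
      show (if s ∈ B.roots then B.cf e p s else cfL e bl p s) = B.cf e p s
      rw [if_pos hs]
    have e2 : prodL hD4 (rootsL bl) (cfL e (B :: bl) p) = prodL hD4 (rootsL bl) (cfL e bl p) := by
      apply prodL_congr
      intro s hs
      show (if s ∈ B.roots then B.cf e p s else cfL e bl p s) = cfL e bl p s
      rw [if_neg fun h => hdis s h s hs rfl]
    rw [e1, e2, prodL_cf e B (hnd' B List.mem_cons_self)]
    exact mul_mem (word_mem K e he B (hbl B List.mem_cons_self) _ _)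
      (ih (fun B' hB' => hbl B' (List.mem_cons_of_mem _ hB')) hnd1 fun B' hB' => hnd' B' (List.mem_cons_of_mem _ hB'))

end G1

end Cfsg.Agent.Lib.Helper18.F4T
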