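/-
helper18: finite-field facts for the twisted groups: the automorphism `t ↦ t^q`, and the number of its fixed points.
-/
import Mathlib

set_option autoImplicit false

namespace Cfsg.Agent.Lib.Helper18

/-- The automorphism `t ↦ t^q` of a finite field with `q^e` elements, `q` a prime power. -/
theorem exists_frobEquiv {K : Type*} [Field K] [Fintype K] {q e : ℕ} (hq : IsPrimePow q)
    (hK : Fintype.card K = q ^ e) : ∃ φ : K ≃+* K, ∀ t : K, φ t = t ^ q := by
  obtain ⟨p, k, hp, hk, rfl⟩ := hq
  have hp' : p.Prime := Nat.prime_iff.mpr hp
  have : Fact p.Prime := ⟨hp'⟩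
  have hK' : Fintype.card K = p ^ (k * e) := by rw [hK, pow_mul]
  have : CharP K p := charP_of_card_eq_prime_pow hK'
  exact ⟨iterateFrobeniusEquiv K p k, fun t => iterateFrobeniusEquiv_def K p k t⟩

theorem pow_card_pow_eq {K : Type*} [Field K] [Fintype K] {q e : ℕ} (hK : Fintype.card K = q ^ e) (t : K) :
    t ^ (q ^ e) = t := by
  rw [← hK]; exact FiniteField.pow_card t

/-- The number of solutions of `a^q = a` in a field with `q^e` elements. -/
theorem card_fixed_pow {K : Type*} [Field K] [Fintype K] {q e : ℕ} (hq : 2 ≤ q) 
    (hK : Fintype.card K = q ^ e) : Nat.card {a : K // a ^ q = a} = q := by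
  classical
  have hcardU : Nat.card Kˣ = q ^ e - 1 := by
    rw [Nat.card_eq_fintype_card, Fintype.card_units, hK]
  have hker : Nat.card (powMonoidHom (q - 1) : Kˣ →* Kˣ).ker = q - 1 := by
    rw [IsCyclic.card_powMonoidHom_ker, hcardU]
    apply Nat.gcd_eq_right
    have := Nat.sub_dvd_pow_sub_pow q 1 e
    simpa using this
  -- the fixed elements are `0` and the units of the kernel
  have e1 : {a : K // a ^ q = a} ≃ Option ↥(powMonoidHom (q - 1) : Kˣ →* Kˣ).ker :=
    { toFun := fun a => if h : a.1 = 0 then none else some ⟨Units.mk0 a.1 h, by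
        rw [MonoidHom.mem_ker, powMonoidHom_apply]
        apply Units.ext
        rw [Units.val_pow_eq_pow_val, Units.val_mk0, Units.val_one]
        have h2 := a.2
        have h3 : a.1 ^ (q - 1) * a.1 = a.1 := by
          rw [← pow_succ, Nat.sub_add_cancel (by omega)]; exact h2
        have h4 : (a.1 ^ (q - 1) - 1) * a.1 = 0 := by rw [sub_mul, h3, one_mul, sub_self]
        rcases mul_eq_zero.mp h4 with h5 | h5
        · exact sub_eq_zero.mp h5
        · exact absurd h5 h⟩
      invFun := fun o => match o with
        | none => ⟨0, zero_pow (by omega)⟩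
        | some u => ⟨(u.1 : K), by
            have h1 := u.2
            rw [MonoidHom.mem_ker, powMonoidHom_apply] at h1
            have h2 : ((u.1 : Kˣ) : K) ^ (q - 1) = 1 := by
              rw [← Units.val_pow_eq_pow_val, h1, Units.val_one]
            calc ((u.1 : Kˣ) : K) ^ q = ((u.1 : Kˣ) : K) ^ (q - 1 + 1) := by rw [Nat.sub_add_cancel (by omega)]
              _ = (u.1 : K) := by rw [pow_succ, h2, one_mul]⟩
      left_inv := by
        intro a
        by_cases h : a.1 = 0
        · simp only [h, dite_true]
          exact Subtype.ext h.symm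
        · simp only [h, dite_false]
          rfl
      right_inv := by
        intro o
        cases o with
        | none => simp
        | some u =>
          have : ((u.1 : Kˣ) : K) ≠ 0 := Units.ne_zero _
          simp only [this, dite_false]
          congr 1
          apply Subtype.ext
          apply Units.ext
          rfl }
  rw [Nat.card_congr e1, Nat.card_eq_fintype_card, Fintype.card_option, ← Nat.card_eq_fintype_card, hker]
  omega

end Cfsg.Agent.Lib.Helper18
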