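/-
helper18: counting the fixed elements of `U`: `|U ∩ G¹| = q^N` over the field with `q^m` elements, `φ(t) = t^q`.
-/
import Cfsg.Agent.Lib.Helper18.Tw6
import Cfsg.Agent.Lib.Helper18.TwFrob

set_option autoImplicit false

namespace Cfsg.Agent.Lib.Helper18

open Cfsg.Lie Cfsg.Agent.Lib.Helper17

universe u

variable {K : Type u} [Field K] {D : ChevalleyDatum}

/-- The coefficients along the class of `s` of the fixed element with leading coefficient `b`. -/
def orbVal (g : GraphData) (φ : K ≃+* K) (s : ℕ) (b : K) (r : ℕ) : K :=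
  if r = s then b else if r = g.rho s then ((g.gam s : ℤ) : K) * φ b
  else ((g.gam (g.rho s) : ℤ) : K) * φ (((g.gam s : ℤ) : K) * φ b)

/-- The coefficient function with prescribed leading coefficients on the classes of a list of representatives. -/
def cfL (g : GraphData) (φ : K ≃+* K) (m : ℕ) : List ℕ → (ℕ → K) → ℕ → K
  | [], _, _ => 0
  | s :: reps, a, r => if r ∈ g.orb m s then orbVal g φ s (a s) r else cfL g φ m reps a r

section

variable (hD : D ∈ [chevG2, chevB2, chevD4, chevF4, chevE6, chevE7, chevE8]) (C : ChevData.{u} D)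
  (g : GraphData) (φ : K ≃+* K) (m : ℕ) (hTw : g.twOK C.T m = true) (hm : m = 2 ∨ m = 3)
  (hφm : ∀ a : K, φ^[m] a = a)

include hTw hm in
theorem mem_orb_iff (s : ℕ) (hs : s < D.nroots) (r : ℕ) :
    r ∈ g.orb m s ↔ ∃ j, r = g.rho^[j] s := by
  have hm' := rho_iterate_m C g m hTw s hs
  constructor
  · intro hr
    unfold GraphData.orb at hr
    split_ifs at hr with hfix
    · exact ⟨0, List.mem_singleton.mp hr⟩
    · rw [List.mem_map] at hr
      obtain ⟨j, -, rfl⟩ := hr
      exact ⟨j, rfl⟩
  · rintro ⟨j, rfl⟩
    unfold GraphData.orb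
    split_ifs with hfix
    · rw [Function.iterate_fixed hfix]
      exact List.mem_singleton.mpr rfl
    · rw [List.mem_map]
      refine ⟨j % m, List.mem_range.mpr (Nat.mod_lt _ (by rcases hm with h | h <;> omega)), ?_⟩
      conv_rhs => rw [← Nat.div_add_mod j m, add_comm, Function.iterate_add_apply, Function.iterate_mul]
      congr 1
      exact (Function.iterate_fixed hm' _).symm

include hTw hm in
theorem orb_closed (s : ℕ) (hs : s < D.nroots) (r : ℕ) (hr : r ∈ g.orb m s) (i : ℕ) :
    g.rho^[i] r ∈ g.orb m s := by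
  obtain ⟨j, rfl⟩ := (mem_orb_iff C g m hTw hm s hs r).mp hr
  rw [← Function.iterate_add_apply]
  exact (mem_orb_iff C g m hTw hm s hs _).mpr ⟨_, rfl⟩

include hTw in
theorem rho_pred_succ (r : ℕ) (hr : r < D.nroots) (hm0 : 0 < m) : g.rho^[m - 1] (g.rho r) = r := by
  have e : g.rho^[m - 1] (g.rho r) = g.rho^[m - 1 + 1] r := (Function.iterate_succ_apply g.rho (m - 1) r).symm
  rw [e, Nat.sub_add_cancel hm0]
  exact rho_iterate_m C g m hTw r hr

include hTw in
theorem rho_succ_pred (r : ℕ) (hr : r < D.nroots) (hm0 : 0 < m) : g.rho (g.rho^[m - 1] r) = r := by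
  have e : g.rho (g.rho^[m - 1] r) = g.rho^[m - 1 + 1] r := (Function.iterate_succ_apply' g.rho (m - 1) r).symm
  rw [e, Nat.sub_add_cancel hm0]
  exact rho_iterate_m C g m hTw r hr

include hTw hm hφm in
/-- The coefficients `orbVal` satisfy the twisting condition. -/
theorem orbVal_tw (s : ℕ) (hs : s < D.nroots) (b : K) (hb : g.rho s = s → φ b = b) :
    ∀ r ∈ g.orb m s, orbVal g φ s b r = twT g φ m (orbVal g φ s b) r := by
  have hspec := g.twOK_spec C.T m hTw s (C.nroots_eq ▸ hs)
  have hm' := hspec.2.2.2.2.1
  have hprod := hspec.2.2.2.2.2.1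
  have hγ : ∀ r : ℕ, φ (((g.gam r : ℤ) : K)) = ((g.gam r : ℤ) : K) := fun r => map_intCast φ _
  intro r hr
  unfold GraphData.orb at hr
  by_cases hfix : g.rho s = s
  · rw [if_pos hfix, List.mem_singleton] at hr
    subst hr
    unfold twT
    rw [Function.iterate_fixed hfix]
    unfold orbVal
    rw [if_pos rfl, hspec.2.2.2.2.2.2.1 hfix, hb hfix]
    simp
  · rw [if_neg hfix] at hr
    rcases hm with rfl | rfl
    · have h2 : g.rho (g.rho s) = s := hm'
      have hp : ((g.gam s : ℤ) : K) * ((g.gam (g.rho s) : ℤ) : K) = 1 := by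
        have : g.gam s * (g.gam (g.rho s) * 1) = 1 := by simpa [List.range_succ] using hprod
        rw [mul_one] at this
        rw [← Int.cast_mul, this, Int.cast_one]
      have hb2 : φ (φ b) = b := hφm b
      simp only [List.range_succ, List.range_zero, List.nil_append, List.cons_append, List.map_cons,
        List.map_nil, Function.iterate_zero, id_eq, Function.iterate_succ, Function.comp_apply,
        List.mem_cons, List.not_mem_nil, or_false] at hr
      rcases hr with rfl | rfl
      · show orbVal g φ r b r = ((g.gam (g.rho r) : ℤ) : K) * φ (orbVal g φ r b (g.rho r))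
        unfold orbVal
        rw [if_pos rfl, if_neg hfix, if_pos rfl, map_mul, hγ, hb2, ← mul_assoc, mul_comm _ ((g.gam r : ℤ) : K), hp,
          one_mul]
      · show orbVal g φ s b (g.rho s) = ((g.gam (g.rho (g.rho s)) : ℤ) : K) * φ (orbVal g φ s b (g.rho (g.rho s)))
        rw [h2]
        unfold orbVal
        rw [if_neg hfix, if_pos rfl, if_pos rfl]
    · have h3 : g.rho (g.rho (g.rho s)) = s := hm'
      have hne2 : g.rho (g.rho s) ≠ s := by
        intro e
        apply hfix
        have := congrArg g.rho e
        rw [h3] at this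
        exact this.symm
      have hne3 : g.rho (g.rho s) ≠ g.rho s := by
        intro e
        have := congrArg g.rho e
        rw [h3] at this
        exact hne2 this.symm
      have hp : ((g.gam s : ℤ) : K) * (((g.gam (g.rho s) : ℤ) : K) * ((g.gam (g.rho (g.rho s)) : ℤ) : K)) = 1 := by
        have : g.gam s * (g.gam (g.rho s) * (g.gam (g.rho (g.rho s)) * 1)) = 1 := by
          simpa [List.range_succ] using hprod
        rw [mul_one] at this
        rw [← Int.cast_mul, ← Int.cast_mul, this, Int.cast_one]
      have hb3 : φ (φ (φ b)) = b := hφm b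
      simp only [List.range_succ, List.range_zero, List.nil_append, List.cons_append, List.map_cons,
        List.map_nil, Function.iterate_zero, id_eq, Function.iterate_succ, Function.comp_apply,
        List.mem_cons, List.not_mem_nil, or_false] at hr
      rcases hr with rfl | rfl | rfl
      · show orbVal g φ r b r
          = ((g.gam (g.rho (g.rho r)) : ℤ) : K) * φ (orbVal g φ r b (g.rho (g.rho r)))
        unfold orbVal
        rw [if_pos rfl, if_neg hne2, if_neg hne3]
        simp only [map_mul, hγ, hb3]
        calc b = (((g.gam r : ℤ) : K) * (((g.gam (g.rho r) : ℤ) : K) * ((g.gam (g.rho (g.rho r)) : ℤ) : K))) * b := by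
              rw [hp, one_mul]
          _ = _ := by ring
      · show orbVal g φ s b (g.rho s)
          = ((g.gam (g.rho (g.rho (g.rho s))) : ℤ) : K) * φ (orbVal g φ s b (g.rho (g.rho (g.rho s))))
        rw [h3]
        unfold orbVal
        rw [if_neg hfix, if_pos rfl, if_pos rfl]
      · show orbVal g φ s b (g.rho (g.rho s))
          = ((g.gam (g.rho (g.rho (g.rho (g.rho s)))) : ℤ) : K)
            * φ (orbVal g φ s b (g.rho (g.rho (g.rho (g.rho s)))))
        rw [h3]
        unfold orbVal
        rw [if_neg hne2, if_neg hne3, if_neg hfix, if_pos rfl]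

end

end Cfsg.Agent.Lib.Helper18
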