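/-
helper18: counting the fixed elements of `U`, continued: the coefficient functions with prescribed leading
coefficients, and `|U ∩ G¹| = q^N`.
-/
import Cfsg.Agent.Lib.Helper18.Tw7

set_option autoImplicit false

namespace Cfsg.Agent.Lib.Helper18

open Cfsg.Lie Cfsg.Agent.Lib.Helper17

universe u

variable {K : Type u} [Field K] {D : ChevalleyDatum}

section

variable (hD : D ∈ [chevG2, chevB2, chevD4, chevF4, chevE6, chevE7, chevE8]) (C : ChevData.{u} D)
  (g : GraphData) (φ : K ≃+* K) (m : ℕ) (hTw : g.twOK C.T m = true) (hm : m = 2 ∨ m = 3)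
  (hφm : ∀ a : K, φ^[m] a = a)

include hTw hm in
theorem self_mem_orb (s : ℕ) (hs : s < D.nroots) : s ∈ g.orb m s :=
  (mem_orb_iff C g m hTw hm s hs s).mpr ⟨0, rfl⟩

include hTw in
theorem clsList_lt (reps : List ℕ) (hreps : ∀ s ∈ reps, s < D.nroots) :
    ∀ r ∈ g.clsList m reps, r < D.nroots := by
  intro r hr
  unfold GraphData.clsList at hr
  rw [List.mem_flatMap] at hr
  obtain ⟨s, hs, hrs⟩ := hr
  unfold GraphData.orb at hrs
  split_ifs at hrs
  · rw [List.mem_singleton.mp hrs]; exact hreps s hs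
  · rw [List.mem_map] at hrs
    obtain ⟨j, -, rfl⟩ := hrs
    exact rho_iterate_lt C g m hTw s (hreps s hs) j

include hTw hm hφm in
/-- The coefficient function `cfL` satisfies the twisting condition. -/
theorem cfL_tw (reps : List ℕ) (hreps : ∀ s ∈ reps, s < D.nroots) (hnd : (g.clsList m reps).Nodup)
    (a : ℕ → K) (ha : ∀ s ∈ reps, g.rho s = s → φ (a s) = a s) :
    ∀ r ∈ g.clsList m reps, cfL g φ m reps a r = twT g φ m (cfL g φ m reps a) r := by
  have hm0 : 0 < m := by rcases hm with h | h <;> omega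
  induction reps with
  | nil => intro r hr; simp [GraphData.clsList] at hr
  | cons s reps ih =>
    have e : g.clsList m (s :: reps) = g.orb m s ++ g.clsList m reps := by
      unfold GraphData.clsList
      rw [List.flatMap_cons]
    rw [e, List.nodup_append] at hnd
    obtain ⟨-, hnd2, hdisj⟩ := hnd
    have hs := hreps s List.mem_cons_self
    have hreps' : ∀ s' ∈ reps, s' < D.nroots := fun s' hs' => hreps s' (List.mem_cons_of_mem _ hs')
    intro r hr
    rw [e] at hr
    rcases List.mem_append.mp hr with hr | hr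
    · have hr' : g.rho^[m - 1] r ∈ g.orb m s := orb_closed C g m hTw hm s hs r hr _
      have e1 : cfL g φ m (s :: reps) a r = orbVal g φ s (a s) r := by
        show (if r ∈ g.orb m s then _ else _) = _
        rw [if_pos hr]
      have e2 : cfL g φ m (s :: reps) a (g.rho^[m - 1] r) = orbVal g φ s (a s) (g.rho^[m - 1] r) := by
        show (if g.rho^[m - 1] r ∈ g.orb m s then _ else _) = _
        rw [if_pos hr']
      rw [e1, orbVal_tw C g φ m hTw hm hφm s hs (a s) (ha s List.mem_cons_self) r hr]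
      unfold twT
      rw [e2]
    · have hrlt : r < D.nroots := clsList_lt C g m hTw reps hreps' r hr
      have hr1 : r ∉ g.orb m s := fun h => hdisj r h r hr rfl
      have hr2 : g.rho^[m - 1] r ∉ g.orb m s := by
        intro h
        have := orb_closed C g m hTw hm s hs _ h 1
        rw [Function.iterate_one, rho_succ_pred C g m hTw r hrlt hm0] at this
        exact hr1 this
      have e1 : cfL g φ m (s :: reps) a r = cfL g φ m reps a r := by
        show (if r ∈ g.orb m s then _ else _) = _
        rw [if_neg hr1]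
      have e2 : cfL g φ m (s :: reps) a (g.rho^[m - 1] r) = cfL g φ m reps a (g.rho^[m - 1] r) := by
        show (if g.rho^[m - 1] r ∈ g.orb m s then _ else _) = _
        rw [if_neg hr2]
      rw [e1, ih hreps' hnd2 (fun s' hs' => ha s' (List.mem_cons_of_mem _ hs')) r hr]
      unfold twT
      rw [e2]

include hTw hm in
/-- The leading coefficients of `cfL`. -/
theorem cfL_head (reps : List ℕ) (hreps : ∀ s ∈ reps, s < D.nroots) (hnd : (g.clsList m reps).Nodup)
    (a : ℕ → K) (s : ℕ) (hs : s ∈ reps) : cfL g φ m reps a s = a s := by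
  induction reps with
  | nil => exact absurd hs (List.not_mem_nil)
  | cons s' reps ih =>
    have e : g.clsList m (s' :: reps) = g.orb m s' ++ g.clsList m reps := by
      unfold GraphData.clsList
      rw [List.flatMap_cons]
    rw [e, List.nodup_append] at hnd
    obtain ⟨-, hnd2, hdisj⟩ := hnd
    have hreps' : ∀ s'' ∈ reps, s'' < D.nroots := fun s'' hs'' => hreps s'' (List.mem_cons_of_mem _ hs'')
    show (if s ∈ g.orb m s' then _ else _) = _
    by_cases hmem : s ∈ g.orb m s'
    · rw [if_pos hmem]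
      by_cases hss : s = s'
      · subst hss
        unfold orbVal
        rw [if_pos rfl]
      · exfalso
        have hs' : s ∈ reps := by
          rcases List.mem_cons.mp hs with h | h
          · exact absurd h hss
          · exact h
        have : s ∈ g.clsList m reps := by
          unfold GraphData.clsList
          rw [List.mem_flatMap]
          exact ⟨s, hs', self_mem_orb C g m hTw hm s (hreps' s hs')⟩
        exact hdisj s hmem s this rfl
    · rw [if_neg hmem]
      have hss : s ≠ s' := by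
        rintro rfl
        exact hmem (self_mem_orb C g m hTw hm s (hreps s List.mem_cons_self))
      have hs' : s ∈ reps := by
        rcases List.mem_cons.mp hs with h | h
        · exact absurd h hss
        · exact h
      exact ih hreps' hnd2 hs'

include hD hTw hm in
/-- Coefficient functions satisfying the twisting condition are determined by their leading coefficients. -/
theorem tw_ext (reps : List ℕ) (hreps : ∀ s ∈ reps, D.IsPosRoot s)
    (hall : ∀ r, D.IsPosRoot r → r ∈ g.clsList m reps) (t t' : ℕ → K)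
    (ht : ∀ r ∈ g.clsList m reps, t r = twT g φ m t r) (ht' : ∀ r ∈ g.clsList m reps, t' r = twT g φ m t' r)
    (h : ∀ s ∈ reps, t s = t' s) : ∀ r ∈ g.clsList m reps, t r = t' r := by
  have hm0 : 0 < m := by rcases hm with h | h <;> omega
  intro r hr
  unfold GraphData.clsList at hr
  rw [List.mem_flatMap] at hr
  obtain ⟨s, hs, hrs⟩ := hr
  have hspos := hreps s hs
  obtain ⟨j, rfl⟩ := (mem_orb_iff C g m hTw hm s hspos.1 r).mp hrs
  have hpos : ∀ j, D.IsPosRoot (g.rho^[j] s) := by
    intro j
    induction j with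
    | zero => exact hspos
    | succ j ih =>
      rw [Function.iterate_succ_apply']
      exact rho_pos hD C g m hTw _ ih
  clear hrs
  induction j with
  | zero => exact h s hs
  | succ j ih =>
    have hmem := hall _ (hpos (j + 1))
    rw [ht _ hmem, ht' _ hmem]
    unfold twT
    rw [Function.iterate_succ_apply', rho_pred_succ C g m hTw _ (hpos j).1 hm0, ih]

end

section Count

variable [Fintype K] (hD : D ∈ [chevG2, chevB2, chevD4, chevF4, chevE6, chevE7, chevE8]) (C : ChevData.{u} D)
  (cfg : TwCfg) (φ : K ≃+* K) (hcfg : cfg.ok C.T C.tabs C.simples = true)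

theorem frob_iterate (q : ℕ) (hφ : ∀ t : K, φ t = t ^ q) (j : ℕ) (a : K) : φ^[j] a = a ^ (q ^ j) := by
  induction j generalizing a with
  | zero => simp
  | succ j ih => rw [Function.iterate_succ_apply', ih, hφ, ← pow_mul, pow_succ]

include hD hcfg in
theorem reps_nodup : cfg.reps.Nodup := by
  obtain ⟨-, hnd, -⟩ := repsOK_spec hD C cfg hcfg
  unfold GraphData.clsList at hnd
  rw [List.nodup_flatMap] at hnd
  have hmem : ∀ s ∈ cfg.reps, s ∈ cfg.g.orb cfg.m s := fun s hs =>
    self_mem_orb C cfg.g cfg.m (cfg_twOK C cfg hcfg) (cfg_m C cfg hcfg) s (reps_lt hD C cfg hcfg s hs)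
  rw [List.nodup_iff_pairwise_ne]
  refine List.Pairwise.imp_of_mem ?_ hnd.2
  intro a b ha hb hdis hab
  subst hab
  exact hdis (hmem a ha) (hmem a ha)

include hD hcfg in
theorem length_clsList : (cfg.g.clsList cfg.m cfg.reps).length = D.nroots / 2 := by
  obtain ⟨hl, hnd, hall⟩ := repsOK_spec hD C cfg hcfg
  have e : {r // r ∈ cfg.g.clsList cfg.m cfg.reps} ≃ {r // D.IsPosRoot r} :=
    Equiv.subtypeEquivRight fun r => ⟨hl r, hall r⟩
  have h1 := Nat.card_congr e
  rw [Cfsg.Agent.S1027.card_posRoot D hD, Nat.card_eq_fintype_card,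
    Fintype.card_of_subtype (cfg.g.clsList cfg.m cfg.reps).toFinset (by simp),
    List.toFinset_card_of_nodup hnd] at h1
  exact h1

include hcfg in
/-- `|U ∩ G¹| = q^N`. -/
theorem card_posUnipotent_inf_Gtw (q : ℕ) (hq : 2 ≤ q) (hK : Fintype.card K = q ^ cfg.m)
    (hφ : ∀ t : K, φ t = t ^ q) :
    Nat.card ↥(D.posUnipotent K ⊓ Gtw hD C cfg φ) = q ^ (D.nroots / 2) := by
  classical
  have hTw := cfg_twOK C cfg hcfg
  have hm := cfg_m C cfg hcfg
  have hm0 : 0 < cfg.m := by rcases hm with h | h <;> omega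
  have hφm : ∀ a : K, φ^[cfg.m] a = a := fun a => by
    rw [frob_iterate φ q hφ, pow_card_pow_eq hK]
  obtain ⟨hl, hnd, hall⟩ := repsOK_spec hD C cfg hcfg
  have hreps : ∀ s ∈ cfg.reps, s < D.nroots := fun s hs => reps_lt hD C cfg hcfg s hs
  have hrepsPos : ∀ s ∈ cfg.reps, D.IsPosRoot s := fun s hs => hl s (by
    unfold GraphData.clsList
    rw [List.mem_flatMap]
    exact ⟨s, hs, self_mem_orb C cfg.g cfg.m hTw hm s (hreps s hs)⟩)
  set l := cfg.g.clsList cfg.m cfg.reps with hldef
  let A' := {a : {s // s ∈ cfg.reps} → K // ∀ s, cfg.g.rho s.1 = s.1 → φ (a s) = a s}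
  have hcl : ∀ a : A', ∀ s ∈ cfg.reps, cfg.g.rho s = s → φ (extL cfg.reps a.1 s) = extL cfg.reps a.1 s := by
    intro a s hs hfix
    rw [extL_of_mem _ _ _ hs]
    exact a.2 ⟨s, hs⟩ hfix
  let Φ : A' → ↥(D.posUnipotent K ⊓ Gtw hD C cfg φ) := fun a =>
    ⟨prodL hD l (cfL cfg.g φ cfg.m cfg.reps (extL cfg.reps a.1)), Subgroup.mem_inf.mpr
      ⟨prodL_mem_posUnipotent hD l hl _, prodL_cls_mem_Gtw hD C cfg φ hcfg cfg.reps (fun s hs => hs) _
        (cfL_tw C cfg.g φ cfg.m hTw hm hφm cfg.reps hreps hnd _ (hcl a))⟩⟩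
  have hinj : Function.Injective Φ := by
    intro a a' h
    have h1 : prodL hD l (cfL cfg.g φ cfg.m cfg.reps (extL cfg.reps a.1))
        = prodL hD l (cfL cfg.g φ cfg.m cfg.reps (extL cfg.reps a'.1)) := congrArg Subtype.val h
    have h2 := prodL_injective_of_fintype hD l hl hnd hall _ _ h1
    apply Subtype.ext
    funext s
    have h3 := h2 s.1 (hall _ (hrepsPos s.1 s.2))
    rw [cfL_head C cfg.g φ cfg.m hTw hm cfg.reps hreps hnd _ s.1 s.2,
      cfL_head C cfg.g φ cfg.m hTw hm cfg.reps hreps hnd _ s.1 s.2, extL_of_mem _ _ _ s.2,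
      extL_of_mem _ _ _ s.2] at h3
    exact h3
  have hsurj : Function.Surjective Φ := by
    rintro ⟨x, hx⟩
    obtain ⟨hxU, hxG⟩ := Subgroup.mem_inf.mp hx
    have hfix := csig_eq_of_mem_Gtw hD C cfg φ hcfg x hxG
    obtain ⟨t, ht, rfl⟩ := exists_prodL_of_fixed hD C cfg φ hcfg x hxU hfix
    have hta : ∀ s : {s // s ∈ cfg.reps}, cfg.g.rho s.1 = s.1 → φ (t s.1) = t s.1 := by
      intro s hfx
      have h1 := ht s.1 (hall _ (hrepsPos s.1 s.2))
      unfold twT at h1
      rw [Function.iterate_fixed hfx, (cfg.g.twOK_spec C.T cfg.m hTw s.1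
        (C.nroots_eq ▸ hreps s.1 s.2)).2.2.2.2.2.2.1 hfx] at h1
      simpa using h1.symm
    refine ⟨⟨fun s => t s.1, hta⟩, ?_⟩
    apply Subtype.ext
    show prodL hD l (cfL cfg.g φ cfg.m cfg.reps (extL cfg.reps fun s => t s.1)) = prodL hD l t
    apply prodL_congr
    apply tw_ext hD C cfg.g φ cfg.m hTw hm cfg.reps hrepsPos hall _ _
      (cfL_tw C cfg.g φ cfg.m hTw hm hφm cfg.reps hreps hnd _ (by
        intro s hs hfx
        rw [extL_of_mem _ _ _ hs]
        exact hta ⟨s, hs⟩ hfx)) ht
    intro s hs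
    rw [cfL_head C cfg.g φ cfg.m hTw hm cfg.reps hreps hnd _ s hs, extL_of_mem _ _ _ hs]
  rw [← Nat.card_congr (Equiv.ofBijective Φ ⟨hinj, hsurj⟩)]
  -- the count of the leading coefficients
  have e1 : A' ≃ ((s : {s // s ∈ cfg.reps}) → {b : K // cfg.g.rho s.1 = s.1 → φ b = b}) :=
    Equiv.subtypePiEquivPi (β := fun _ : {s // s ∈ cfg.reps} => K)
      (p := fun (s : {s // s ∈ cfg.reps}) (b : K) => cfg.g.rho s.1 = s.1 → φ b = b)
  rw [Nat.card_congr e1, Nat.card_pi]
  have hone : ∀ s : {s // s ∈ cfg.reps},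
      Nat.card {b : K // cfg.g.rho s.1 = s.1 → φ b = b} = q ^ (cfg.g.orb cfg.m s.1).length := by
    intro s
    unfold GraphData.orb
    by_cases hfx : cfg.g.rho s.1 = s.1
    · rw [if_pos hfx, List.length_singleton, pow_one]
      have e2 : {b : K // cfg.g.rho s.1 = s.1 → φ b = b} ≃ {b : K // b ^ q = b} :=
        Equiv.subtypeEquivRight fun b => by
          rw [hφ b]
          exact ⟨fun h => h hfx, fun h _ => h⟩
      rw [Nat.card_congr e2]
      exact card_fixed_pow hq hK
    · rw [if_neg hfx, List.length_map, List.length_range]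
      have e2 : {b : K // cfg.g.rho s.1 = s.1 → φ b = b} ≃ K :=
        (Equiv.subtypeEquivRight fun b => ⟨fun _ => trivial, fun _ h => absurd h hfx⟩).trans
          (Equiv.subtypeUnivEquiv fun _ => trivial)
      rw [Nat.card_congr e2, Nat.card_eq_fintype_card, hK]
  rw [Finset.prod_congr rfl fun s _ => hone s, Finset.prod_pow_eq_pow_sum]
  congr 1
  rw [← length_clsList hD C cfg hcfg]
  unfold GraphData.clsList
  rw [List.length_flatMap]
  rw [← Finset.sum_subtype cfg.reps.toFinset (fun x => List.mem_toFinset)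
    (fun s => (cfg.g.orb cfg.m s).length), List.sum_toFinset _ (reps_nodup hD C cfg hcfg)]

end Count

end Cfsg.Agent.Lib.Helper18
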