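/-
helper18: the fixed elements of `U` lie in `²F₄` and are products of class words; `|U ∩ ²F₄| = q¹²`.
-/
import Cfsg.Agent.Lib.Helper18.F4E
import Cfsg.Agent.Lib.Helper18.Tw8

set_option autoImplicit false

namespace Cfsg.Agent.Lib.Helper18.F4T

open Cfsg.Lie Cfsg.Agent.Lib.Helper18 Cfsg.Agent.Lib.Helper91.ReeF4 Cfsg.Agent.Lib.Helper91.SigAbs
open Cfsg.Agent.Lib.Helper91.ExcAut

universe u

theorem posBlks_pos : ∀ r ∈ rootsL posBlks, chevF4.IsPosRoot r := by decide

theorem posBlks_nodup : (rootsL posBlks).Nodup := by decide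

theorem posBlks_all : ∀ r, chevF4.IsPosRoot r → r ∈ rootsL posBlks := by
  intro r hr
  have h : ∀ r < 48, chevF4.IsPosRoot r → r ∈ rootsL posBlks := by decide
  exact h r hr.1 hr

theorem paramsL_posBlks_length : (paramsL posBlks).length = 12 := by decide

/-- The facts about a reordering of the positive classes. -/
theorem perm_facts (bl : List Blk) (hp : bl.Perm posBlks) :
    (∀ B ∈ bl, B.ok = true) ∧ (rootsL bl).Nodup ∧ (∀ r ∈ rootsL bl, chevF4.IsPosRoot r) ∧
      (∀ r, chevF4.IsPosRoot r → r ∈ rootsL bl) ∧ (∀ B ∈ bl, B ∈ posBlks ++ negBlks) := by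
  have hp' : (rootsL bl).Perm (rootsL posBlks) := hp.flatMap_right _
  refine ⟨fun B hB => posBlks_ok B (hp.mem_iff.mp hB), hp'.nodup_iff.mpr posBlks_nodup,
    fun r hr => posBlks_pos r (hp'.mem_iff.mp hr), fun r hr => hp'.mem_iff.mpr (posBlks_all r hr),
    fun B hB => List.mem_append_left _ (hp.mem_iff.mp hB)⟩

section Fix

variable (K : Type u) [Field K] [Fintype K] [CharP K 2] (m : ℕ) (hq : ∀ t : K, t ^ (2 * 2 ^ m * 2 ^ m) = t)

include hq in
/-- A fixed element of `U` is a product of class words, for any ordering of the positive classes. -/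
theorem exists_cfL_of_fixed (bl : List Blk) (hp : bl.Perm posBlks) (x : GL chevF4.Idx K)
    (hxU : x ∈ chevF4.posUnipotent K) (hxF : x ∈ (f4Fix K m).map (chevF4.group K).subtype) :
    ∃ t : ℕ → K, x = prodL hD4 (rootsL bl) t ∧ ∀ s ∈ rootsL bl, t s = cfL (2 ^ m) bl t s := by
  obtain ⟨L⟩ := nonempty_levelData chevF4 hD4
  obtain ⟨hok, hnd, hl, hall, -⟩ := perm_facts bl hp
  obtain ⟨t, rfl⟩ := exists_prodL hD4 chevData_F4.{u} L _ hl hnd hall x hxU
  refine ⟨t, rfl, ?_⟩
  have h1 := fixed_coeffs K m bl hok hnd hl hall t hxF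
  intro s hs
  obtain ⟨B, hB, hsB⟩ := (mem_rootsL bl s).mp hs
  rw [cfL_of_mem (2 ^ m) bl hnd t B hB s hsB]
  exact cf_of_fixed m hq B (hok B hB) t (h1 B hB) s hsB

include hq in
/-- The fixed elements of `U` lie in `²F₄`. -/
theorem fixU_le (x : GL chevF4.Idx K) (hxU : x ∈ chevF4.posUnipotent K)
    (hxF : x ∈ (f4Fix K m).map (chevF4.group K).subtype) : x ∈ twistedF4 K (2 ^ m) := by
  obtain ⟨t, rfl, ht⟩ := exists_cfL_of_fixed K m hq posBlks (List.Perm.refl _) x hxU hxF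
  obtain ⟨hok, hnd, hl, hall, hmem⟩ := perm_facts posBlks (List.Perm.refl _)
  rw [prodL_congr hD4 _ _ _ ht]
  exact prodL_cfL_mem K (2 ^ m) (pow_ne_zero _ (by norm_num)) posBlks hmem hnd
    (fun B hB => B.roots_nodup (hok B hB)) t

include hq in
/-- `|U ∩ ²F₄| = |K|¹²`. -/
theorem card_U1 : Nat.card ↥(chevF4.posUnipotent K ⊓ twistedF4 K (2 ^ m)) = Fintype.card K ^ 12 := by
  classical
  obtain ⟨hok, hnd, hl, hall, hmem⟩ := perm_facts posBlks (List.Perm.refl _)
  have he : (2 : ℕ) ^ m ≠ 0 := pow_ne_zero _ (by norm_num)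
  have hndB : ∀ B ∈ posBlks, B.roots.Nodup := fun B hB => B.roots_nodup (hok B hB)
  let Φ : ({s // s ∈ paramsL posBlks} → K) → ↥(chevF4.posUnipotent K ⊓ twistedF4 K (2 ^ m)) := fun a =>
    ⟨prodL hD4 (rootsL posBlks) (cfL (2 ^ m) posBlks (extL (paramsL posBlks) a)), Subgroup.mem_inf.mpr
      ⟨prodL_mem_posUnipotent hD4 _ hl _, prodL_cfL_mem K (2 ^ m) he posBlks hmem hnd hndB _⟩⟩
  have hhead : ∀ (p : ℕ → K), ∀ s ∈ paramsL posBlks, cfL (2 ^ m) posBlks p s = p s := by
    intro p s hs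
    unfold paramsL at hs
    rw [List.mem_flatMap] at hs
    obtain ⟨B, hB, hsB⟩ := hs
    rw [cfL_of_mem (2 ^ m) posBlks hnd p B hB s (B.params_sub s hsB)]
    exact B.cf_params (2 ^ m) (hndB B hB) p s hsB
  have hcongr : ∀ (p p' : ℕ → K), (∀ s ∈ paramsL posBlks, p s = p' s) →
      ∀ s ∈ rootsL posBlks, cfL (2 ^ m) posBlks p s = cfL (2 ^ m) posBlks p' s := by
    intro p p' h s hs
    obtain ⟨B, hB, hsB⟩ := (mem_rootsL posBlks s).mp hs
    rw [cfL_of_mem (2 ^ m) posBlks hnd p B hB s hsB, cfL_of_mem (2 ^ m) posBlks hnd p' B hB s hsB]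
    apply Blk.cf_congr
    intro s' hs'
    apply h
    unfold paramsL
    rw [List.mem_flatMap]
    exact ⟨B, hB, hs'⟩
  have hinj : Function.Injective Φ := by
    intro a a' h
    have h1 : prodL hD4 (rootsL posBlks) (cfL (2 ^ m) posBlks (extL (paramsL posBlks) a))
        = prodL hD4 (rootsL posBlks) (cfL (2 ^ m) posBlks (extL (paramsL posBlks) a')) := congrArg Subtype.val h
    have h2 := prodL_injective_of_fintype hD4 _ hl hnd hall _ _ h1
    funext s
    have h3 := h2 s.1 (paramsL_sub posBlks s.1 s.2)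
    rw [hhead _ s.1 s.2, hhead _ s.1 s.2, extL_of_mem _ _ _ s.2, extL_of_mem _ _ _ s.2] at h3
    exact h3
  have hsurj : Function.Surjective Φ := by
    rintro ⟨x, hx⟩
    obtain ⟨hxU, hxG⟩ := Subgroup.mem_inf.mp hx
    obtain ⟨t, rfl, ht⟩ := exists_cfL_of_fixed K m hq posBlks (List.Perm.refl _) x hxU
      (twistedF4_le_f4Fix K m hq hxG)
    refine ⟨fun s => t s.1, ?_⟩
    apply Subtype.ext
    show prodL hD4 (rootsL posBlks) (cfL (2 ^ m) posBlks (extL (paramsL posBlks) fun s => t s.1))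
      = prodL hD4 (rootsL posBlks) t
    apply prodL_congr
    intro s hs
    rw [ht s hs]
    refine hcongr _ _ ?_ s hs
    intro s' hs'
    rw [extL_of_mem _ _ _ hs']
  rw [← Nat.card_congr (Equiv.ofBijective Φ ⟨hinj, hsurj⟩), Nat.card_eq_fintype_card, Fintype.card_fun,
    Fintype.card_of_subtype (paramsL posBlks).toFinset (by simp),
    List.toFinset_card_of_nodup (by decide), paramsL_posBlks_length]

end Fix

end Cfsg.Agent.Lib.Helper18.F4T
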