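/-
helper18: the hypotheses on the field of `²F₄(2^(2m+1))` from its cardinality.
-/
import Cfsg.Agent.Lib.Helper18.F4F

set_option autoImplicit false

namespace Cfsg.Agent.Lib.Helper18.F4T

universe u

theorem charP_two_of_card {K : Type u} [Field K] [Fintype K] {m : ℕ} (hK : Fintype.card K = 2 ^ (2 * m + 1)) :
    CharP K 2 := by
  haveI : Fact (Nat.Prime 2) := ⟨Nat.prime_two⟩
  exact charP_of_card_eq_prime_pow hK

theorem hq_of_card {K : Type u} [Field K] [Fintype K] {m : ℕ} (hK : Fintype.card K = 2 ^ (2 * m + 1)) :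
    ∀ t : K, t ^ (2 * 2 ^ m * 2 ^ m) = t := by
  intro t
  have e : 2 * 2 ^ m * 2 ^ m = 2 ^ (2 * m + 1) := by
    rw [pow_succ, two_mul m, pow_add]; ring
  rw [e, ← hK]
  exact FiniteField.pow_card t

end Cfsg.Agent.Lib.Helper18.F4T
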