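/-
helper18: towards the (B,N)-pair of the twisted groups: a fixed element of `N` induces a permutation of the roots
commuting with the graph permutation; the double cosets met by `n_w B n`.
-/
import Cfsg.Agent.Lib.Helper18.Tw10

set_option autoImplicit false

namespace Cfsg.Agent.Lib.Helper18

open Cfsg.Lie Cfsg.Agent.Lib.Helper17

universe u

variable {K : Type u} [Field K] {D : ChevalleyDatum}

section

variable (hD : D ∈ [chevG2, chevB2, chevD4, chevF4, chevE6, chevE7, chevE8]) (C : ChevData.{u} D)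
  (g : GraphData) (hok : g.ok C.T = true) (φ : K ≃+* K) (m : ℕ) (hTw : g.twOK C.T m = true)

include hTw in
/-- A fixed element `n_w h` of `N`: the permutation `w` of the roots commutes with the graph permutation. -/
theorem fixed_word_comm_rho (ws : List ℕ) (hws : ∀ i ∈ ws, i < D.rank) (h : GL D.Idx K)
    (hh : h ∈ D.diagonalSubgroup K) (hfix : sig C g hok φ (nW hD C ws * h) = nW hD C ws * h) (r : ℕ)
    (hr : r < D.nroots) : wordRootF C.tabs ws (g.rho r) = g.rho (wordRootF C.tabs ws r) := by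
  obtain ⟨t₁, -, h1⟩ := word_conj_xG hD C ws hws h hh r hr (1 : K)
  have h2 := congrArg (sig C g hok φ) h1
  rw [map_mul, map_mul, map_inv, hfix, sig_xG hD C g hok φ r hr,
    sig_xG hD C g hok φ _ (wordRootF_lt C ws hws r hr)] at h2
  obtain ⟨t₂, ht₂, h3⟩ := word_conj_xG hD C ws hws h hh (g.rho r) (rho_lt C g m hTw r hr)
    (((g.gam r : ℤ) : K) * φ 1)
  rw [h3] at h2
  have hne : ((g.gam r : ℤ) : K) * φ 1 ≠ 0 := by
    rw [map_one, mul_one]
    rcases g.gam_cases r with e | e <;> rw [e] <;> simp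
  exact (xG_inj_root hD _ _ (wordRootF_lt C ws hws _ (rho_lt C g m hTw r hr))
    (rho_lt C g m hTw _ (wordRootF_lt C ws hws r hr)) t₂ _ (ht₂ hne) h2).symm

end

section

variable (hD : D ∈ [chevG2, chevB2, chevD4, chevF4, chevE6, chevE7, chevE8]) (C : ChevData.{u} D)

/-- `n_w B n` lies in the union of the double cosets `B n_{w'} n B` over the subwords `w'` of `w`. -/
theorem exists_sublist_dc (ws : List ℕ) (hws : ∀ i ∈ ws, i < D.rank) (b n : GL D.Idx K)
    (hb : b ∈ D.borelSubgroup K) (hn : n ∈ D.monomialSubgroup K) :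
    ∃ ws' : List ℕ, ws'.Sublist ws ∧ ∃ b₁ ∈ D.borelSubgroup K, ∃ b₂ ∈ D.borelSubgroup K,
      nW hD C ws * b * n = b₁ * (nW hD C ws' * n) * b₂ := by
  induction ws generalizing b with
  | nil => exact ⟨[], List.Sublist.refl _, b, hb, 1, one_mem _, by simp [nW_nil]⟩
  | cons i ws ih =>
    obtain ⟨ws', hsub, b₁, hb₁, b₂, hb₂, e⟩ := ih (fun j hj => hws j (List.mem_cons_of_mem _ hj)) b hb
    have hi := hws i List.mem_cons_self
    have hn' : nW hD C ws' * n ∈ D.monomialSubgroup K := mul_mem (nW_mem_monomial hD C ws') hn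
    have e1 : nW hD C (i :: ws) * b * n = sG hD C i * b₁ * (nW hD C ws' * n) * b₂ := by
      rw [nW_cons]
      calc sG hD C i * nW hD C ws * b * n = sG hD C i * (nW hD C ws * b * n) := by group
        _ = sG hD C i * (b₁ * (nW hD C ws' * n) * b₂) := by rw [e]
        _ = _ := by group
    rcases sG_mul_mem_union hD C i hi _ hn' b₁ hb₁ with key | key
    · rw [DoubleCoset.mem_doubleCoset] at key
      obtain ⟨x, hx, y, hy, hxy⟩ := key
      refine ⟨i :: ws', hsub.cons₂ i, x, hx, y * b₂, mul_mem hy hb₂, ?_⟩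
      rw [e1, hxy, nW_cons]
      group
    · rw [DoubleCoset.mem_doubleCoset] at key
      obtain ⟨x, hx, y, hy, hxy⟩ := key
      refine ⟨ws', hsub.cons i, x, hx, y * b₂, mul_mem hy hb₂, ?_⟩
      rw [e1, hxy]
      group

end

end Cfsg.Agent.Lib.Helper18
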