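/-
helper18: the (B,N)-pair of a twisted group, from abstract hypotheses: a subgroup `G¹` of a Chevalley group all of
whose elements have a strong Bruhat form with factors in `G¹`, containing elements `n_J` for a list of words `J` in
the fundamental reflections such that a subword of `J` giving an element of `G¹` acts on the roots trivially or as `J`.
-/
import Cfsg.Agent.Lib.Helper18.Tw11
import Cfsg.Agent.Lib.Helper18.Order4
import Cfsg.Prelude.Def_LieExceptional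

set_option autoImplicit false

namespace Cfsg.Agent.Lib.Helper18

open Cfsg.Lie Cfsg.Agent.Lib.Helper17

universe u

variable {K : Type u} [Field K] {D : ChevalleyDatum}

/-- The hypotheses on a twisted group `G¹` and the words `J` of its classes of fundamental roots. -/
structure TwAbs (hD : D ∈ [chevG2, chevB2, chevD4, chevF4, chevE6, chevE7, chevE8]) (C : ChevData.{u} D)
    (G1 : Subgroup (GL D.Idx K)) (Js : List (List ℕ)) : Prop where
  form : ∀ x ∈ G1, ∃ u₀ ∈ D.posUnipotent K ⊓ G1, ∃ n ∈ D.monomialSubgroup K ⊓ G1,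
    ∃ u ∈ Subgroup.closure (UnegSet D K n), u ∈ G1 ∧ x = u₀ * n * u
  Js_lt : ∀ J ∈ Js, ∀ i ∈ J, i < D.rank
  nJ_mem : ∀ J ∈ Js, nW hD C J ∈ G1
  sub : ∀ J ∈ Js, ∀ ws' : List ℕ, ws'.Sublist J → ∀ h ∈ D.diagonalSubgroup K, nW hD C ws' * h ∈ G1 →
    (∀ r < D.nroots, wordRootF C.tabs ws' r = r) ∨ (∀ r < D.nroots, wordRootF C.tabs ws' r = wordRootF C.tabs J r)
  sq : ∀ J ∈ Js, ∀ r < D.nroots, wordRootF C.tabs (J ++ J) r = r
  gen : G1 ≤ Subgroup.closure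
    (((D.borelSubgroup K ⊓ G1 : Subgroup (GL D.Idx K)) : Set (GL D.Idx K)) ∪ {x | ∃ J ∈ Js, x = nW hD C J})
  inj : ∀ J ∈ Js, ∀ J' ∈ Js, (nW (F := K) hD C J)⁻¹ * nW hD C J' ∈ D.borelSubgroup K → J = J'
  ne : ∀ J ∈ Js, ∃ b ∈ D.borelSubgroup K ⊓ G1, nW hD C J * b * nW hD C J ∉ D.borelSubgroup K

namespace TwAbs

variable {hD : D ∈ [chevG2, chevB2, chevD4, chevF4, chevE6, chevE7, chevE8]} {C : ChevData.{u} D}
  {G1 : Subgroup (GL D.Idx K)} {Js : List (List ℕ)} (T : TwAbs hD C G1 Js)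

include T

/-- `n_J n_J ∈ H`. -/
theorem nJ_sq_mem (J : List ℕ) (hJ : J ∈ Js) : nW (F := K) hD C J * nW hD C J ∈ D.diagonalSubgroup K := by
  rw [← nW_append]
  apply mem_diagonal_of_pos hD C _ (fun i hi => by
    rcases List.mem_append.mp hi with h | h <;> exact T.Js_lt J hJ i h)
  intro r hr
  rw [T.sq J hJ r hr.1]
  exact ((isPosRoot_iff hD r).mp hr).2

/-- The double coset axiom, inside the general linear group. -/
theorem mul_mem_union (J : List ℕ) (hJs : J ∈ Js) (n b : GL D.Idx K)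
    (hn : n ∈ D.monomialSubgroup K ⊓ G1) (hb : b ∈ D.borelSubgroup K ⊓ G1) :
    ∃ b₁ ∈ D.borelSubgroup K ⊓ G1, ∃ b₂ ∈ D.borelSubgroup K ⊓ G1,
      nW hD C J * b * n = b₁ * (nW hD C J * n) * b₂ ∨ nW hD C J * b * n = b₁ * n * b₂ := by
  have hJ := T.Js_lt J hJs
  have hnJ := T.nJ_mem J hJs
  have hgG : nW hD C J * b * n ∈ G1 := mul_mem (mul_mem hnJ hb.2) hn.2
  obtain ⟨u₀, hu₀, n₁, hn₁, u, hu, hug, hg⟩ := T.form _ hgG
  obtain ⟨ws', hsub, c₁, hc₁, c₂, hc₂, e⟩ := exists_sublist_dc hD C J hJ b n hb.1 hn.1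
  have hws' : ∀ i ∈ ws', i < D.rank := fun i hi => hJ i (hsub.subset hi)
  have huU : u ∈ D.posUnipotent K := closure_UnegSet_le D n₁ hu
  have hd : n₁⁻¹ * (nW hD C ws' * n) ∈ D.diagonalSubgroup K :=
    inv_mul_mem_diagonal_of_eq hD C u₀ c₁ n₁ (nW hD C ws' * n) u c₂ (borel_of_posUnipotent _ hu₀.1) hc₁ hn₁.1
      (mul_mem (nW_mem_monomial hD C ws') hn.1) (borel_of_posUnipotent _ huU) hc₂ (by rw [← hg, e])
  set d := n₁⁻¹ * (nW hD C ws' * n) with hddef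
  have hh' : n * d⁻¹ * n⁻¹ ∈ D.diagonalSubgroup K := monomial_conj_diagonal hD C n _ hn.1 (inv_mem hd)
  have hm : n₁ * n⁻¹ = nW hD C ws' * (n * d⁻¹ * n⁻¹) := by rw [hddef]; group
  have hmG : n₁ * n⁻¹ ∈ G1 := mul_mem hn₁.2 (inv_mem hn.2)
  have hHB : D.diagonalSubgroup K ≤ D.borelSubgroup K := le_sup_right
  rcases T.sub J hJs ws' hsub _ hh' (by rw [← hm]; exact hmG) with hid | hJw
  · have h1 : nW (F := K) hD C ws' ∈ D.diagonalSubgroup K := by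
      apply mem_diagonal_of_pos hD C ws' hws'
      intro r hr
      rw [hid r hr.1]
      exact ((isPosRoot_iff hD r).mp hr).2
    have hmH : n₁ * n⁻¹ ∈ D.diagonalSubgroup K := by
      rw [hm]; exact mul_mem h1 hh'
    refine ⟨u₀ * (n₁ * n⁻¹), ⟨mul_mem (borel_of_posUnipotent _ hu₀.1) (hHB hmH), mul_mem hu₀.2 hmG⟩,
      u, ⟨borel_of_posUnipotent _ huU, hug⟩, Or.inr ?_⟩
    rw [hg]; group
  · have hperm : wordPerm C J = wordPerm C ws' := by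
      apply Equiv.ext
      intro r
      apply Fin.ext
      rw [wordPerm_apply C J hJ, wordPerm_apply C ws' hws', hJw r.val r.isLt]
    have h1 : (nW (F := K) hD C J)⁻¹ * nW hD C ws' ∈ D.diagonalSubgroup K :=
      nW_inv_mul_nW_mem hD C J ws' hJ hws' hperm
    set h'' := (nW (F := K) hD C J)⁻¹ * nW hD C ws' * (n * d⁻¹ * n⁻¹) with hh''def
    have hh'' : h'' ∈ D.diagonalSubgroup K := mul_mem h1 hh'
    have hh''G : h'' ∈ G1 := by
      have : h'' = (nW hD C J)⁻¹ * (n₁ * n⁻¹) := by rw [hm, hh''def]; group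
      rw [this]
      exact mul_mem (inv_mem hnJ) hmG
    have hc : n⁻¹ * h'' * n⁻¹⁻¹ ∈ D.diagonalSubgroup K :=
      monomial_conj_diagonal hD C n⁻¹ h'' (inv_mem hn.1) hh''
    have hcG : n⁻¹ * h'' * n⁻¹⁻¹ ∈ G1 := mul_mem (mul_mem (inv_mem hn.2) hh''G) (inv_mem (inv_mem hn.2))
    refine ⟨u₀, ⟨borel_of_posUnipotent _ hu₀.1, hu₀.2⟩, (n⁻¹ * h'' * n⁻¹⁻¹) * u,
      ⟨mul_mem (hHB hc) (borel_of_posUnipotent _ huU), mul_mem hcG hug⟩, Or.inl ?_⟩
    have e2 : n₁ = nW hD C J * h'' * n := by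
      have : n₁ = (n₁ * n⁻¹) * n := by group
      rw [this, hm, hh''def]; group
    rw [hg, e2]; group

/-- The distinguished elements `n_J`. -/
def S (_ : TwAbs hD C G1 Js) : Set (GL D.Idx K) := {x | ∃ J ∈ Js, x = nW hD C J}

theorem S_le : Subgroup.closure T.S ≤ D.monomialSubgroup K ⊓ G1 := by
  rw [Subgroup.closure_le]
  rintro x ⟨J, hJ, rfl⟩
  exact Subgroup.mem_inf.mpr ⟨nW_mem_monomial hD C _, T.nJ_mem J hJ⟩

/-- The set `B¹ ⟨n_J⟩ B¹`. -/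
def M (T : TwAbs hD C G1 Js) : Set (GL D.Idx K) :=
  {x | ∃ w ∈ Subgroup.closure T.S, ∃ b₁ ∈ D.borelSubgroup K ⊓ G1, ∃ b₂ ∈ D.borelSubgroup K ⊓ G1, x = b₁ * w * b₂}

theorem M_borel_mul (b x : GL D.Idx K) (hb : b ∈ D.borelSubgroup K ⊓ G1) (hx : x ∈ T.M) : b * x ∈ T.M := by
  obtain ⟨w, hw, b₁, hb₁, b₂, hb₂, rfl⟩ := hx
  exact ⟨w, hw, b * b₁, mul_mem hb hb₁, b₂, hb₂, by group⟩

theorem M_nW_mul (J : List ℕ) (hJ : J ∈ Js) (x : GL D.Idx K) (hx : x ∈ T.M) : nW hD C J * x ∈ T.M := by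
  obtain ⟨w, hw, b₁, hb₁, b₂, hb₂, rfl⟩ := hx
  have hwN := T.S_le hw
  obtain ⟨c₁, hc₁, c₂, hc₂, e | e⟩ := T.mul_mem_union J hJ w b₁ hwN hb₁
  · refine ⟨nW hD C J * w, mul_mem (Subgroup.subset_closure ⟨J, hJ, rfl⟩) hw, c₁, hc₁,
      c₂ * b₂, mul_mem hc₂ hb₂, ?_⟩
    calc nW hD C J * (b₁ * w * b₂) = (nW hD C J * b₁ * w) * b₂ := by group
      _ = _ := by rw [e]; group
  · refine ⟨w, hw, c₁, hc₁, c₂ * b₂, mul_mem hc₂ hb₂, ?_⟩
    calc nW hD C J * (b₁ * w * b₂) = (nW hD C J * b₁ * w) * b₂ := by group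
      _ = _ := by rw [e]; group

/-- Every element of the twisted group lies in `B¹ ⟨n_J⟩ B¹`. -/
theorem G1_subset_M (x : GL D.Idx K) (hx : x ∈ G1) : x ∈ T.M := by
  have hHB : D.diagonalSubgroup K ≤ D.borelSubgroup K := le_sup_right
  have key : ∀ g ∈ Subgroup.closure
      (((D.borelSubgroup K ⊓ G1 : Subgroup (GL D.Idx K)) : Set (GL D.Idx K)) ∪ {x | ∃ J ∈ Js, x = nW hD C J}),
      ∀ y ∈ T.M, g * y ∈ T.M ∧ g⁻¹ * y ∈ T.M := by
    intro g hg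
    induction hg using Subgroup.closure_induction with
    | mem g hg =>
      intro y hy
      rcases hg with hg | ⟨J, hJ, rfl⟩
      · exact ⟨T.M_borel_mul g y hg hy, T.M_borel_mul g⁻¹ y (inv_mem hg) hy⟩
      · refine ⟨T.M_nW_mul J hJ y hy, ?_⟩
        have hnJ := T.nJ_mem J hJ
        set nJ := nW (F := K) hD C J with hnJdef
        have h1 : (nJ * nJ)⁻¹ ∈ D.borelSubgroup K ⊓ G1 :=
          Subgroup.mem_inf.mpr ⟨hHB (inv_mem (T.nJ_sq_mem J hJ)), inv_mem (mul_mem hnJ hnJ)⟩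
        have e : nJ⁻¹ * y = (nJ * nJ)⁻¹ * (nJ * y) := by group
        rw [e]
        exact T.M_borel_mul _ _ h1 (T.M_nW_mul J hJ y hy)
    | one => intro y hy; simpa using hy
    | mul g g' _ _ ih ih' =>
      intro y hy
      constructor
      · rw [mul_assoc]; exact (ih _ (ih' y hy).1).1
      · rw [mul_inv_rev, mul_assoc]; exact (ih' _ (ih y hy).2).2
    | inv g _ ih =>
      intro y hy
      rw [inv_inv]
      exact ⟨(ih y hy).2, (ih y hy).1⟩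
  have h1 : (1 : GL D.Idx K) ∈ T.M := ⟨1, one_mem _, 1, one_mem _, 1, one_mem _, by group⟩
  have := (key x (T.gen hx) 1 h1).1
  rwa [mul_one] at this

/-- `N¹ = ⟨n_J⟩ H¹`. -/
theorem exists_word_of_mem_monomial (n : GL D.Idx K) (hn : n ∈ D.monomialSubgroup K ⊓ G1) :
    ∃ w ∈ Subgroup.closure T.S, ∃ h ∈ D.diagonalSubgroup K ⊓ G1, n = w * h := by
  obtain ⟨w, hw, b₁, hb₁, b₂, hb₂, e⟩ := T.G1_subset_M n hn.2
  have hwN := T.S_le hw
  have hd : n⁻¹ * w ∈ D.diagonalSubgroup K :=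
    inv_mul_mem_diagonal_of_eq hD C 1 b₁ n w 1 b₂ (one_mem _) hb₁.1 hn.1 hwN.1 (one_mem _) hb₂.1
      (by rw [one_mul, mul_one, e])
  refine ⟨w, hw, (n⁻¹ * w)⁻¹, Subgroup.mem_inf.mpr ⟨inv_mem hd, inv_mem (mul_mem (inv_mem hn.2) hwN.2)⟩, ?_⟩
  group

/-- The (B,N)-pair of the twisted group. -/
theorem exists_bnPair :
    ∃ P : Cfsg.BNPair ↥G1,
      P.B = (D.borelSubgroup K ⊓ G1).subgroupOf G1 ∧ P.N = (D.monomialSubgroup K ⊓ G1).subgroupOf G1 ∧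
      P.S = {s : ↥G1 | ∃ J ∈ Js, (s : GL D.Idx K) = nW hD C J} := by
  have hBN : D.borelSubgroup K ⊓ D.monomialSubgroup K = D.diagonalSubgroup K :=
    (Cfsg.Agent.S1040.result D hD).2
  have hHB : D.diagonalSubgroup K ≤ D.borelSubgroup K := le_sup_right
  have hHN : D.diagonalSubgroup K ≤ D.monomialSubgroup K := le_sup_left
  have memB : ∀ x : ↥G1, x ∈ (D.borelSubgroup K ⊓ G1).subgroupOf G1 ↔ (x : GL D.Idx K) ∈ D.borelSubgroup K := by
    intro x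
    rw [Subgroup.mem_subgroupOf, Subgroup.mem_inf]
    exact ⟨fun h => h.1, fun h => ⟨h, x.2⟩⟩
  have memN : ∀ x : ↥G1,
      x ∈ (D.monomialSubgroup K ⊓ G1).subgroupOf G1 ↔ (x : GL D.Idx K) ∈ D.monomialSubgroup K := by
    intro x
    rw [Subgroup.mem_subgroupOf, Subgroup.mem_inf]
    exact ⟨fun h => h.1, fun h => ⟨h, x.2⟩⟩
  refine ⟨Cfsg.BNPair.mk ((D.borelSubgroup K ⊓ G1).subgroupOf G1) ((D.monomialSubgroup K ⊓ G1).subgroupOf G1)
    {s : ↥G1 | ∃ J ∈ Js, (s : GL D.Idx K) = nW hD C J} ?_ ?_ ?_ ?_ ?_ ?_ ?_ ?_, rfl, rfl, rfl⟩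
  · rw [eq_top_iff]
    rintro ⟨x, hx⟩ -
    obtain ⟨u₀, hu₀, n, hn, u, hu, hug, e⟩ := T.form x hx
    have huU : u ∈ D.posUnipotent K := closure_UnegSet_le D n hu
    have e' : (⟨x, hx⟩ : ↥G1) = ⟨u₀, hu₀.2⟩ * ⟨n, hn.2⟩ * ⟨u, hug⟩ := Subtype.ext e
    rw [e']
    refine mul_mem (mul_mem (Subgroup.mem_sup_left ?_) (Subgroup.mem_sup_right ?_)) (Subgroup.mem_sup_left ?_)
    · rw [memB]; exact borel_of_posUnipotent _ hu₀.1
    · rw [memN]; exact hn.1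
    · rw [memB]; exact borel_of_posUnipotent _ huU
  · intro n hn t ht
    rw [memN] at hn
    rw [memB]
    have ht' : (t : GL D.Idx K) ∈ D.diagonalSubgroup K := by
      rw [← hBN]
      exact Subgroup.mem_inf.mpr ⟨(memB t).mp ht.1, (memN t).mp ht.2⟩
    apply hHB
    have e : ((n * t * n⁻¹ : ↥G1) : GL D.Idx K) = (n : GL D.Idx K) * t * (n : GL D.Idx K)⁻¹ := by
      push_cast; rfl
    rw [e]
    exact monomial_conj_diagonal hD C _ _ hn ht'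
  · rintro s ⟨J, hJ, hs⟩
    show s ∈ (D.monomialSubgroup K ⊓ G1).subgroupOf G1
    rw [memN, hs]
    exact nW_mem_monomial hD C _
  · rintro s ⟨J, hJ, hs⟩
    rw [memB]
    push_cast
    rw [hs]
    exact hHB (T.nJ_sq_mem J hJ)
  · rintro s ⟨J, hJ, hs⟩ s' ⟨J', hJ', hs'⟩ hss
    rw [memB] at hss
    push_cast at hss
    rw [hs, hs'] at hss
    apply Subtype.ext
    rw [hs, hs', T.inj J hJ J' hJ' hss]
  · apply le_antisymm
    · apply sup_le
      · rw [Subgroup.closure_le]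
        rintro s ⟨J, hJ, hs⟩
        show s ∈ (D.monomialSubgroup K ⊓ G1).subgroupOf G1
        rw [memN, hs]
        exact nW_mem_monomial hD C _
      · exact inf_le_right
    · intro n hn
      rw [memN] at hn
      obtain ⟨w, hw, h, hh, e⟩ := T.exists_word_of_mem_monomial n (Subgroup.mem_inf.mpr ⟨hn, n.2⟩)
      have hlift : ∀ w ∈ Subgroup.closure T.S, ∃ hwG : w ∈ G1,
          (⟨w, hwG⟩ : ↥G1) ∈ Subgroup.closure {s : ↥G1 | ∃ J ∈ Js, (s : GL D.Idx K) = nW hD C J} := by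
        intro w hw
        induction hw using Subgroup.closure_induction with
        | mem w hw =>
          obtain ⟨J, hJ, rfl⟩ := hw
          exact ⟨T.nJ_mem J hJ, Subgroup.subset_closure ⟨J, hJ, rfl⟩⟩
        | one => exact ⟨one_mem _, one_mem _⟩
        | mul a b _ _ iha ihb =>
          obtain ⟨ha, ha'⟩ := iha
          obtain ⟨hb, hb'⟩ := ihb
          exact ⟨mul_mem ha hb, mul_mem ha' hb'⟩
        | inv a _ iha =>
          obtain ⟨ha, ha'⟩ := iha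
          exact ⟨inv_mem ha, inv_mem ha'⟩
      obtain ⟨hwG', hw'⟩ := hlift w hw
      have hn_eq : n = ⟨w, hwG'⟩ * ⟨h, hh.2⟩ := Subtype.ext e
      rw [hn_eq]
      apply mul_mem (Subgroup.mem_sup_left hw')
      apply Subgroup.mem_sup_right
      exact Subgroup.mem_inf.mpr ⟨(memB _).mpr (hHB hh.1), (memN _).mpr (hHN hh.1)⟩
  · rintro s ⟨J, hJ, hs⟩ n hn b hb
    rw [memN] at hn
    rw [memB] at hb
    obtain ⟨b₁, hb₁, b₂, hb₂, e⟩ := T.mul_mem_union J hJ n b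
      (Subgroup.mem_inf.mpr ⟨hn, n.2⟩) (Subgroup.mem_inf.mpr ⟨hb, b.2⟩)
    rw [← hs] at e
    rcases e with e | e
    · left
      rw [DoubleCoset.mem_doubleCoset]
      exact ⟨⟨b₁, hb₁.2⟩, (memB _).mpr hb₁.1, ⟨b₂, hb₂.2⟩, (memB _).mpr hb₂.1, Subtype.ext e⟩
    · right
      rw [DoubleCoset.mem_doubleCoset]
      exact ⟨⟨b₁, hb₁.2⟩, (memB _).mpr hb₁.1, ⟨b₂, hb₂.2⟩, (memB _).mpr hb₂.1, Subtype.ext e⟩
  · rintro s ⟨J, hJ, hs⟩ heq
    obtain ⟨b, hb, hnot⟩ := T.ne J hJ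
    have h1 : s * ⟨b, hb.2⟩ * s ∈ (fun x : ↥G1 => s * x * s) ''
        (((D.borelSubgroup K ⊓ G1).subgroupOf G1 : Subgroup ↥G1) : Set ↥G1) :=
      ⟨⟨b, hb.2⟩, (memB _).mpr hb.1, rfl⟩
    rw [heq] at h1
    have h2 := (memB _).mp h1
    apply hnot
    rw [← hs]
    exact h2

end TwAbs

end Cfsg.Agent.Lib.Helper18
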