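/-
helper18: `²F₄` satisfies the hypotheses of the abstract twisted (B,N)-pair machine; its (B,N)-pair.
-/
import Cfsg.Agent.Lib.Helper18.F4G
import Cfsg.Agent.Lib.Helper18.TwAbs

set_option autoImplicit false

namespace Cfsg.Agent.Lib.Helper18.F4T

open Cfsg.Lie Cfsg.Agent.Lib.Helper18 Cfsg.Agent.Lib.Helper91.ReeF4 Cfsg.Agent.Lib.Helper91.SigAbs
open Cfsg.Agent.Lib.Helper91.ExcAut

universe u

/-- The words of the two classes of fundamental roots. -/
def f4Js : List (List ℕ) := [[0, 3], [1, 2, 1, 2]]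

/-- A subword of the word of a class which commutes with the permutation of the roots acts trivially or as the
whole word. -/
def f4SubOK (J : List ℕ) : Bool :=
  J.sublists.all fun ws =>
    (List.range 48).any (fun r => wordRootF f4tabs ws (f4rho r) != f4rho (wordRootF f4tabs ws r))
    || (List.range 48).all (fun r => wordRootF f4tabs ws r == r)
    || (List.range 48).all (fun r => wordRootF f4tabs ws r == wordRootF f4tabs J r)

set_option maxRecDepth 100000 in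
theorem f4SubOK_all : ∀ J ∈ f4Js, f4SubOK J = true := by decide +kernel

theorem f4SubOK_spec (J : List ℕ) (hJ : J ∈ f4Js) (ws : List ℕ) (hsub : ws.Sublist J)
    (hcomm : ∀ r < 48, wordRootF f4tabs ws (f4rho r) = f4rho (wordRootF f4tabs ws r)) :
    (∀ r < 48, wordRootF f4tabs ws r = r) ∨ (∀ r < 48, wordRootF f4tabs ws r = wordRootF f4tabs J r) := by
  have h := f4SubOK_all J hJ
  unfold f4SubOK at h
  rw [List.all_eq_true] at h
  have h1 := h ws ((List.mem_sublists).mpr hsub)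
  simp only [Bool.or_eq_true, List.any_eq_true, List.all_eq_true, List.mem_range, bne_iff_ne, ne_eq,
    beq_iff_eq] at h1
  rcases h1 with (⟨r, hr, hne⟩ | h1) | h1
  · exact absurd (hcomm r hr) hne
  · exact Or.inl h1
  · exact Or.inr h1

set_option maxRecDepth 100000 in
theorem f4Js_sq : ∀ J ∈ f4Js, ∀ r < 48, wordRootF f4tabs (J ++ J) r = r := by decide +kernel

theorem f4Js_lt : ∀ J ∈ f4Js, ∀ i ∈ J, i < chevF4.rank := by decide

section Fix

variable (K : Type u) [Field K] [Fintype K] [CharP K 2] (m : ℕ) (hq : ∀ t : K, t ^ (2 * 2 ^ m * 2 ^ m) = t)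

/-- A fixed element `n_w h` of `N`: the permutation `w` of the roots commutes with the permutation `ρ`. -/
theorem fixed_word_comm (ws : List ℕ) (hws : ∀ i ∈ ws, i < chevF4.rank) (h : GL chevF4.Idx K)
    (hh : h ∈ chevF4.diagonalSubgroup K)
    (hF : nW hD4 chevData_F4.{u} ws * h ∈ (f4Fix K m).map (chevF4.group K).subtype) (r : ℕ) (hr : r < 48) :
    wordRootF f4tabs ws (f4rho r) = f4rho (wordRootF f4tabs ws r) := by
  obtain ⟨x, hx, hxn⟩ := hF
  have hx' : f4Sigma K m x = x := hx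
  have hxn' : (x : GL chevF4.Idx K) = nW hD4 chevData_F4.{u} ws * h := hxn
  have hr' : r < chevF4.nroots := hr
  obtain ⟨t₁, -, h1⟩ := word_conj_xG hD4 chevData_F4.{u} ws hws h hh r hr' (1 : K)
  rw [f4tabs_eq] at h1
  have hπ : wordRootF f4tabs ws r < 48 := by
    have := wordRootF_lt chevData_F4.{u} ws hws r hr'
    rwa [f4tabs_eq] at this
  have h1' : x * ⟨xG hD4 r 1, xG_mem r hr 1⟩ * x⁻¹ = ⟨xG hD4 (wordRootF f4tabs ws r) t₁, xG_mem _ hπ t₁⟩ := by
    apply Subtype.ext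
    rw [Subgroup.coe_mul, Subgroup.coe_mul, Subgroup.coe_inv, hxn']
    exact h1
  have h2 := congrArg (f4Sigma K m) h1'
  rw [map_mul, map_mul, map_inv, hx', f4Sigma_xG K m r hr, f4Sigma_xG K m _ hπ] at h2
  have h2' := congrArg Subtype.val h2
  rw [Subgroup.coe_mul, Subgroup.coe_mul, Subgroup.coe_inv, hxn'] at h2'
  have hρ : f4rho r < chevF4.nroots := f4rho_lt r hr
  obtain ⟨t₂, ht₂, h3⟩ := word_conj_xG hD4 chevData_F4.{u} ws hws h hh (f4rho r) hρ
    ((1 : K) ^ (f4lam r * 2 ^ m))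
  rw [f4tabs_eq] at h3
  have h4 : xG hD4 (wordRootF f4tabs ws (f4rho r)) t₂
      = xG hD4 (f4rho (wordRootF f4tabs ws r)) (t₁ ^ (f4lam (wordRootF f4tabs ws r) * 2 ^ m)) := by
    rw [← h3]
    exact h2'
  have hπρ : wordRootF f4tabs ws (f4rho r) < chevF4.nroots := by
    have := wordRootF_lt chevData_F4.{u} ws hws (f4rho r) hρ
    rwa [f4tabs_eq] at this
  have hρπ : f4rho (wordRootF f4tabs ws r) < chevF4.nroots := f4rho_lt _ hπ
  exact (xG_inj_root hD4 _ _ hπρ hρπ t₂ _ (ht₂ (by simp)) h4).symm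

include hq in
/-- The strong Bruhat form of an element of `²F₄`, with factors in `²F₄`. -/
theorem exists_form (x : GL chevF4.Idx K) (hx : x ∈ twistedF4 K (2 ^ m)) :
    ∃ u₀ ∈ chevF4.posUnipotent K ⊓ twistedF4 K (2 ^ m), ∃ n ∈ chevF4.monomialSubgroup K ⊓ twistedF4 K (2 ^ m),
      ∃ u ∈ Subgroup.closure (UnegSet chevF4 K n), u ∈ twistedF4 K (2 ^ m) ∧ x = u₀ * n * u := by
  obtain ⟨L⟩ := nonempty_levelData chevF4 hD4
  have hxF := twistedF4_le_f4Fix K m hq hx
  obtain ⟨b, hb, n, hn, u, hu, rfl⟩ := exists_bruhat_form hD4 chevData_F4.{u} L x (twistedF4_le_group K _ hx)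
  obtain ⟨u₀, hu₀, h₀, hh₀, rfl⟩ := (mem_borel_iff chevF4 hD4 b).mp hb
  have hn₁ : h₀ * n ∈ chevF4.monomialSubgroup K := mul_mem (diagonal_le_monomial hD4 hh₀) hn
  have hu₁ : u ∈ Subgroup.closure (UnegSet chevF4 K (h₀ * n)) :=
    Subgroup.closure_mono (UnegSet_diag_mul hD4 n h₀ hh₀) hu
  have e : u₀ * h₀ * n * u = u₀ * (h₀ * n) * u := by group
  rw [e] at hxF hx ⊢
  obtain ⟨f1, f2, f3⟩ := f4F_form K m u₀ (h₀ * n) u hu₀ hn₁ hu₁ hxF
  have g1 := fixU_le K m hq u₀ hu₀ f1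
  have g3 := fixU_le K m hq u (closure_UnegSet_le chevF4 _ hu₁) f3
  have g2 : h₀ * n ∈ twistedF4 K (2 ^ m) := by
    have : h₀ * n = u₀⁻¹ * (u₀ * (h₀ * n) * u) * u⁻¹ := by group
    rw [this]
    exact mul_mem (mul_mem (inv_mem g1) hx) (inv_mem g3)
  exact ⟨u₀, Subgroup.mem_inf.mpr ⟨hu₀, g1⟩, h₀ * n, Subgroup.mem_inf.mpr ⟨hn₁, g2⟩, u, hu₁, g3, rfl⟩

end Fix

end Cfsg.Agent.Lib.Helper18.F4T
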