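/-
helper18: `²F₄` satisfies the hypotheses of the abstract twisted (B,N)-pair machine; its (B,N)-pair.
-/
import Cfsg.Agent.Lib.Helper18.F4H

set_option autoImplicit false

namespace Cfsg.Agent.Lib.Helper18.F4T

open Cfsg.Lie Cfsg.Agent.Lib.Helper18 Cfsg.Agent.Lib.Helper91.ReeF4 Cfsg.Agent.Lib.Helper91.SigAbs
open Cfsg.Agent.Lib.Helper91.ExcAut

universe u

section Words

variable {K : Type u} [Field K]

theorem Blk.word_roots (e : ℕ) (B : Blk) (τ υ : K) : ∀ a ∈ B.word e τ υ, a.1 ∈ B.roots := by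
  cases B with
  | pair r rb =>
    intro a ha
    simp only [Blk.word, f4PairWord, List.mem_cons, List.not_mem_nil, or_false] at ha
    rcases ha with rfl | rfl <;> simp [Blk.roots]
  | quad a b ab aab =>
    intro x hx
    simp only [Blk.word, b2ClassWord, List.mem_cons, List.not_mem_nil, or_false] at hx
    rcases hx with rfl | rfl | rfl | rfl <;> simp [Blk.roots]

theorem blk_word_mem_U (e : ℕ) (B : Blk) (hB : ∀ s ∈ B.roots, chevF4.IsPosRoot s) (τ υ : K) :
    wordG hD4 (B.word e τ υ) ∈ chevF4.posUnipotent K :=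
  wordG_mem_closure hD4 (fun s => chevF4.IsPosRoot s) _ fun a ha => hB a.1 (B.word_roots e τ υ a ha)

theorem blk_word_mem_V (e : ℕ) (B : Blk) (hB : ∀ s ∈ B.roots, chevF4.IsNegRoot s) (τ υ : K) :
    wordG hD4 (B.word e τ υ) ∈ chevF4.negUnipotent K :=
  wordG_mem_closure hD4 (fun s => chevF4.IsNegRoot s) _ fun a ha => hB a.1 (B.word_roots e τ υ a ha)

end Words

section Char2

variable {K : Type u} [Field K] [CharP K 2]

/-- Conjugation of a class word by `n_w`. -/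
theorem nW_conj_blk_word (e : ℕ) (ws : List ℕ) (hws : ∀ i ∈ ws, i < chevF4.rank) (B : Blk)
    (hB : ∀ s ∈ B.roots, s < 48) (τ υ : K) :
    nW hD4 chevData_F4.{u} ws * wordG hD4 (B.word e τ υ) * (nW hD4 chevData_F4.{u} ws)⁻¹
      = wordG hD4 ((B.map (wordRootF f4tabs ws)).word e τ υ) := by
  rw [Blk.word_map, ← nW_conj_wordG ws hws _ (Blk.word_lt e B hB τ υ)]

/-- A class word with a non-zero coefficient is not trivial. -/
theorem wordG_two_ne_one (r s : ℕ) (hr : r < 48) (hs : s < 48) (hne : r ≠ s) (a : K) :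
    wordG hD4 [(r, (1 : K)), (s, a)] ≠ 1 := by
  intro h
  rw [wordG_cons, wordG_cons, wordG_nil, mul_one] at h
  have h1 : xG hD4 r (1 : K) = xG hD4 s (-a) := by
    have h2 : xG hD4 s a * xG hD4 s (-a) = 1 := by
      rw [xG_mul, add_neg_cancel, xG_zero]
    calc xG hD4 r (1 : K) = xG hD4 r 1 * (xG hD4 s a * xG hD4 s (-a)) := by rw [h2, mul_one]
      _ = (xG hD4 r 1 * xG hD4 s a) * xG hD4 s (-a) := by group
      _ = xG hD4 s (-a) := by rw [h, one_mul]
  exact hne (xG_inj_root hD4 r s hr hs 1 (-a) one_ne_zero h1).symm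

end Char2

section Fix

variable (K : Type u) [Field K] [Fintype K] [CharP K 2] (m : ℕ) (hq : ∀ t : K, t ^ (2 * 2 ^ m * 2 ^ m) = t)

theorem map_J1 : (Blk.pair 14 23).map (wordRootF f4tabs [0, 3]) = Blk.pair 33 24
    ∧ (Blk.pair 33 24).map (wordRootF f4tabs [0, 3]) = Blk.pair 14 23 := by decide +kernel

theorem map_J2 : (Blk.quad 20 22 19 17).map (wordRootF f4tabs [1, 2, 1, 2]) = Blk.quad 27 25 28 30
    ∧ (Blk.quad 27 25 28 30).map (wordRootF f4tabs [1, 2, 1, 2]) = Blk.quad 20 22 19 17 := by decide +kernel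

theorem J_ne : wordRootF f4tabs [1, 2, 1, 2] 33 ≠ wordRootF f4tabs [0, 3] 33 := by decide +kernel

include hq in
/-- `²F₄` satisfies the hypotheses of the abstract machine. -/
theorem f4TwAbs : TwAbs (K := K) hD4 chevData_F4.{u} (twistedF4 K (2 ^ m)) f4Js := by
  have he : (2 : ℕ) ^ m ≠ 0 := pow_ne_zero _ (by norm_num)
  have hHB : chevF4.diagonalSubgroup K ≤ chevF4.borelSubgroup K := le_sup_right
  have hJ1 : ([0, 3] : List ℕ) ∈ f4Js := by simp [f4Js]
  have hJ2 : ([1, 2, 1, 2] : List ℕ) ∈ f4Js := by simp [f4Js]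
  have hP : ∀ s ∈ (Blk.pair 33 24).roots, s < 48 := by decide
  have hQ : ∀ s ∈ (Blk.quad 27 25 28 30).roots, s < 48 := by decide
  have hP' : ∀ s ∈ (Blk.pair 14 23).roots, s < 48 := by decide
  have hQ' : ∀ s ∈ (Blk.quad 20 22 19 17).roots, s < 48 := by decide
  have hPpos : ∀ s ∈ (Blk.pair 33 24).roots, chevF4.IsPosRoot s := by decide
  have hQpos : ∀ s ∈ (Blk.quad 27 25 28 30).roots, chevF4.IsPosRoot s := by decide
  have hPneg : ∀ s ∈ (Blk.pair 14 23).roots, chevF4.IsNegRoot s := by decide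
  have hQneg : ∀ s ∈ (Blk.quad 20 22 19 17).roots, chevF4.IsNegRoot s := by decide
  have mP : ∀ τ υ : K, wordG hD4 ((Blk.pair 33 24).word (2 ^ m) τ υ) ∈ twistedF4 K (2 ^ m) :=
    fun τ _ => pairP_mem K _ τ
  have mQ : ∀ τ υ : K, wordG hD4 ((Blk.quad 27 25 28 30).word (2 ^ m) τ υ) ∈ twistedF4 K (2 ^ m) :=
    fun τ υ => quadP_mem K _ τ υ
  have mP' : ∀ τ υ : K, wordG hD4 ((Blk.pair 14 23).word (2 ^ m) τ υ) ∈ twistedF4 K (2 ^ m) :=
    fun τ _ => pairN_mem K _ τ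
  have mQ' : ∀ τ υ : K, wordG hD4 ((Blk.quad 20 22 19 17).word (2 ^ m) τ υ) ∈ twistedF4 K (2 ^ m) :=
    fun τ υ => quadN_mem K _ τ υ
  have hn1 := nW_J1_mem K (2 ^ m)
  have hn2 := nW_J2_mem K (2 ^ m) he
  refine ⟨exists_form K m hq, f4Js_lt, ?_, ?_, ?_, ?_, ?_, ?_⟩
  · -- n_J ∈ G¹
    intro J hJ
    simp only [f4Js, List.mem_cons, List.not_mem_nil, or_false] at hJ
    rcases hJ with rfl | rfl
    · exact hn1
    · exact hn2
  · -- subwords
    intro J hJ ws' hsub h hh hG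
    have hws' : ∀ i ∈ ws', i < chevF4.rank := fun i hi => f4Js_lt J hJ i (hsub.subset hi)
    exact f4SubOK_spec J hJ ws' hsub
      (fixed_word_comm K m ws' hws' h hh (twistedF4_le_f4Fix K m hq hG))
  · -- squares
    intro J hJ r hr
    exact f4Js_sq J hJ r hr
  · -- generation
    show Subgroup.closure _ ≤ _
    rw [Subgroup.closure_le]
    rintro g ⟨w, hw, hgw⟩
    rw [gen_eq_wordG g w hgw]
    have key : ∀ (J : List ℕ) (hJ : J ∈ f4Js) (B B' : Blk), (∀ s ∈ B.roots, s < 48) →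
        B.map (wordRootF f4tabs J) = B' → (∀ s ∈ B'.roots, chevF4.IsPosRoot s) →
        (∀ τ υ : K, wordG hD4 (B.word (2 ^ m) τ υ) ∈ twistedF4 K (2 ^ m)) → ∀ τ υ : K,
        wordG hD4 (B.word (2 ^ m) τ υ) ∈ Subgroup.closure
          (((chevF4.borelSubgroup K ⊓ twistedF4 K (2 ^ m) : Subgroup (GL chevF4.Idx K)) : Set (GL chevF4.Idx K))
            ∪ {x | ∃ J ∈ f4Js, x = nW hD4 chevData_F4.{u} J}) := by
      intro J hJ B B' hB hmap hpos hmem τ υ
      have hnJ : nW (F := K) hD4 chevData_F4.{u} J ∈ twistedF4 K (2 ^ m) := by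
        simp only [f4Js, List.mem_cons, List.not_mem_nil, or_false] at hJ
        rcases hJ with rfl | rfl
        · exact hn1
        · exact hn2
      have h1 := nW_conj_blk_word (K := K) (2 ^ m) J (f4Js_lt J hJ) B hB τ υ
      rw [hmap] at h1
      have h2 : nW hD4 chevData_F4.{u} J * wordG hD4 (B.word (2 ^ m) τ υ) * (nW hD4 chevData_F4.{u} J)⁻¹
          ∈ chevF4.borelSubgroup K ⊓ twistedF4 K (2 ^ m) := by
        refine Subgroup.mem_inf.mpr ⟨?_, mul_mem (mul_mem hnJ (hmem τ υ)) (inv_mem hnJ)⟩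
        rw [h1]
        exact borel_of_posUnipotent _ (blk_word_mem_U _ B' hpos τ υ)
      have h3 : nW (F := K) hD4 chevData_F4.{u} J ∈ Subgroup.closure
          (((chevF4.borelSubgroup K ⊓ twistedF4 K (2 ^ m) : Subgroup (GL chevF4.Idx K)) : Set (GL chevF4.Idx K))
            ∪ {x | ∃ J ∈ f4Js, x = nW hD4 chevData_F4.{u} J}) :=
        Subgroup.subset_closure (Or.inr ⟨J, hJ, rfl⟩)
      have e3 : wordG hD4 (B.word (2 ^ m) τ υ) = (nW hD4 chevData_F4.{u} J)⁻¹
          * (nW hD4 chevData_F4.{u} J * wordG hD4 (B.word (2 ^ m) τ υ) * (nW hD4 chevData_F4.{u} J)⁻¹)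
          * nW hD4 chevData_F4.{u} J := by group
      rw [e3]
      exact mul_mem (mul_mem (inv_mem h3) (Subgroup.subset_closure (Or.inl h2))) h3
    rcases hw with ⟨τ, rfl | rfl⟩ | ⟨τ, υ, rfl | rfl⟩
    · apply Subgroup.subset_closure
      left
      exact Subgroup.mem_inf.mpr ⟨borel_of_posUnipotent _ (blk_word_mem_U _ (.pair 33 24) hPpos τ 0), mP τ 0⟩
    · exact key [0, 3] hJ1 (.pair 14 23) (.pair 33 24) hP' map_J1.1 hPpos mP' τ 0
    · apply Subgroup.subset_closure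
      left
      exact Subgroup.mem_inf.mpr ⟨borel_of_posUnipotent _ (blk_word_mem_U _ (.quad 27 25 28 30) hQpos τ υ), mQ τ υ⟩
    · exact key [1, 2, 1, 2] hJ2 (.quad 20 22 19 17) (.quad 27 25 28 30) hQ' map_J2.1 hQpos mQ' τ υ
  · -- injectivity
    intro J hJ J' hJ' hB
    by_contra hne
    have hH : (nW (F := K) hD4 chevData_F4.{u} J)⁻¹ * nW hD4 chevData_F4.{u} J' ∈ chevF4.diagonalSubgroup K := by
      rw [← (Cfsg.Agent.S1040.result chevF4 hD4).2]
      exact Subgroup.mem_inf.mpr ⟨hB, mul_mem (inv_mem (nW_mem_monomial hD4 _ _)) (nW_mem_monomial hD4 _ _)⟩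
    have e : nW (F := K) hD4 chevData_F4.{u} J *
        ((nW (F := K) hD4 chevData_F4.{u} J)⁻¹ * nW hD4 chevData_F4.{u} J') = nW hD4 chevData_F4.{u} J' * 1 := by
      group
    have h1 := wordRootF_eq_of_eq hD4 chevData_F4.{u} _ _ (f4Js_lt J hJ) (f4Js_lt J' hJ') _ 1 hH (one_mem _) e 33
      (by decide)
    rw [f4tabs_eq] at h1
    simp only [f4Js, List.mem_cons, List.not_mem_nil, or_false] at hJ hJ'
    rcases hJ with rfl | rfl <;> rcases hJ' with rfl | rfl
    · exact hne rfl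
    · exact J_ne h1
    · exact J_ne h1.symm
    · exact hne rfl
  · -- n_J B n_J ≠ B
    have key : ∀ (J : List ℕ) (hJ : J ∈ f4Js) (B B' : Blk) (τ υ : K), (∀ s ∈ B.roots, s < 48) →
        B.map (wordRootF f4tabs J) = B' → (∀ s ∈ B.roots, chevF4.IsPosRoot s) →
        (∀ s ∈ B'.roots, chevF4.IsNegRoot s) →
        wordG hD4 (B.word (2 ^ m) τ υ) ∈ twistedF4 K (2 ^ m) → wordG hD4 (B.word (2 ^ m) τ υ) ≠ 1 →
        ∃ b ∈ chevF4.borelSubgroup K ⊓ twistedF4 K (2 ^ m),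
          nW hD4 chevData_F4.{u} J * b * nW hD4 chevData_F4.{u} J ∉ chevF4.borelSubgroup K := by
      intro J hJ B B' τ υ hB hmap hpos hneg hmem hne1
      refine ⟨wordG hD4 (B.word (2 ^ m) τ υ),
        Subgroup.mem_inf.mpr ⟨borel_of_posUnipotent _ (blk_word_mem_U _ B hpos τ υ), hmem⟩, ?_⟩
      intro hmemB
      set nJ := nW (F := K) hD4 chevData_F4.{u} J with hnJdef
      set x := wordG hD4 (B.word (2 ^ m) τ υ) with hxdef
      have hsq : nJ * nJ ∈ chevF4.diagonalSubgroup K := by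
        rw [hnJdef, ← nW_append]
        apply mem_diagonal_of_pos hD4 chevData_F4.{u} _ (fun i hi => by
          rcases List.mem_append.mp hi with h | h <;> exact f4Js_lt J hJ i h)
        intro r hr
        rw [f4tabs_eq, f4Js_sq J hJ r hr.1]
        exact ((isPosRoot_iff hD4 r).mp hr).2
      have h1 : nJ * x * nJ⁻¹ ∈ chevF4.borelSubgroup K := by
        have e : nJ * x * nJ⁻¹ = (nJ * x * nJ) * (nJ * nJ)⁻¹ := by group
        rw [e]
        exact mul_mem hmemB (hHB (inv_mem hsq))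
      have h2 : nJ * x * nJ⁻¹ ∈ chevF4.borelSubgroup K ⊓ chevF4.negUnipotent K := by
        refine Subgroup.mem_inf.mpr ⟨h1, ?_⟩
        rw [hnJdef, hxdef, nW_conj_blk_word (K := K) (2 ^ m) J (f4Js_lt J hJ) B hB τ υ, hmap]
        exact blk_word_mem_V _ B' hneg τ υ
      rw [(Cfsg.Agent.S1037.result chevF4 hD4).1, Subgroup.mem_bot] at h2
      apply hne1
      have e : x = nJ⁻¹ * (nJ * x * nJ⁻¹) * nJ := by group
      rw [e, h2]
      group
    intro J hJ
    have hJ0 := hJ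
    simp only [f4Js, List.mem_cons, List.not_mem_nil, or_false] at hJ
    rcases hJ with rfl | rfl
    · refine key [0, 3] hJ0 (.pair 33 24) (.pair 14 23) 1 0 hP map_J1.2 hPpos hPneg (mP 1 0) ?_
      show wordG hD4 [(33, (1 : K) ^ 2 ^ m), (24, 1)] ≠ 1
      rw [one_pow]
      exact wordG_two_ne_one 33 24 (by norm_num) (by norm_num) (by norm_num) 1
    · refine key [1, 2, 1, 2] hJ0 (.quad 27 25 28 30) (.quad 20 22 19 17) 0 1 hQ map_J2.2 hQpos hQneg (mQ 0 1) ?_
      show wordG hD4 [(27, (0 : K) ^ 2 ^ m), (25, 0), (28, 0 ^ (2 ^ m + 1) + 1), (30, 1 ^ (2 * 2 ^ m))] ≠ 1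
      rw [zero_pow he, zero_pow (Nat.succ_ne_zero _), zero_add, one_pow, wordG_cons, wordG_cons, xG_zero, xG_zero,
        one_mul, one_mul]
      exact wordG_two_ne_one 28 30 (by norm_num) (by norm_num) (by norm_num) 1

include hq in
/-- The (B,N)-pair of `²F₄`. -/
theorem exists_bnPair_f4 :
    ∃ P : Cfsg.BNPair ↥(twistedF4 K (2 ^ m)),
      P.B = (chevF4.borelSubgroup K ⊓ twistedF4 K (2 ^ m)).subgroupOf (twistedF4 K (2 ^ m)) ∧
      P.N = (chevF4.monomialSubgroup K ⊓ twistedF4 K (2 ^ m)).subgroupOf (twistedF4 K (2 ^ m)) ∧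
      P.S = {s : ↥(twistedF4 K (2 ^ m)) | ∃ J ∈ f4Js, (s : GL chevF4.Idx K) = nW hD4 chevData_F4.{u} J} :=
  (f4TwAbs K m hq).exists_bnPair

end Fix

end Cfsg.Agent.Lib.Helper18.F4T
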