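/-
helper18: the table checks for the (B,N)-pair of a twisted group, and the axioms of the (B,N)-pair at the level of
the general linear group.
-/
import Cfsg.Agent.Lib.Helper18.Tw11
import Cfsg.Agent.Lib.Helper18.Tw8

set_option autoImplicit false

namespace Cfsg.Agent.Lib.Helper18

open Cfsg.Lie Cfsg.Agent.Lib.Helper17

universe u

variable {K : Type u} [Field K] {D : ChevalleyDatum}

namespace TwCfg

variable (cfg : TwCfg)

/-- A subword of the word of a class which commutes with the graph permutation acts trivially or as the whole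
word. -/
def subOK (T : FastDatum) (tabs : List ℕ) (J : List ℕ) : Bool :=
  J.sublists.all fun ws =>
    (List.range T.nroots).any (fun r => wordRootF tabs ws (cfg.g.rho r) != cfg.g.rho (wordRootF tabs ws r))
    || (List.range T.nroots).all (fun r => wordRootF tabs ws r == r)
    || (List.range T.nroots).all (fun r => wordRootF tabs ws r == wordRootF tabs J r)

/-- The list of the positive roots starting with a class. -/
def posFrom (T : FastDatum) (s : ℕ) : List ℕ :=
  cfg.g.orb cfg.m s ++ (List.range T.nroots).filter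
    (fun r => decide (T.nroots / 2 ≤ r) && !(cfg.g.orb cfg.m s).contains r)

/-- The table checks for the (B,N)-pair. -/
def bnOK (T : FastDatum) (tabs simples : List ℕ) : Bool :=
  (List.range cfg.classes.length).all fun k =>
    let J := cfg.classes.getD k []
    let s := cfg.pgens.getD k 0
    cfg.subOK T tabs J
    && (List.range T.nroots).all (fun r => wordRootF tabs (J ++ J) r == r)
    && J.all (fun j => decide (T.neg (simples.getD j 0) < T.nroots)
        && decide (T.nroots / 2 ≤ wordRootF tabs J (T.neg (simples.getD j 0)))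
        && decide (wordRootF tabs J (simples.getD j 0) < T.nroots / 2))
    && decide (cfg.posFrom T s).Nodup
    && (cfg.posFrom T s).all (fun r => decide (T.nroots / 2 ≤ r) && decide (r < T.nroots))
    && (List.range T.nroots).all (fun r => decide (r < T.nroots / 2) || (cfg.posFrom T s).contains r)
    && (List.range cfg.classes.length).all (fun k' => k' == k ||
        (List.range T.nroots).any (fun r => wordRootF tabs J r != wordRootF tabs (cfg.classes.getD k' []) r))

end TwCfg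

section Spec

variable (C : ChevData.{u} D) (cfg : TwCfg)

theorem subOK_spec (J ws : List ℕ) (h : cfg.subOK C.T C.tabs J = true) (hsub : ws.Sublist J)
    (hcomm : ∀ r < D.nroots, wordRootF C.tabs ws (cfg.g.rho r) = cfg.g.rho (wordRootF C.tabs ws r)) :
    (∀ r < D.nroots, wordRootF C.tabs ws r = r) ∨
      (∀ r < D.nroots, wordRootF C.tabs ws r = wordRootF C.tabs J r) := by
  unfold TwCfg.subOK at h
  rw [List.all_eq_true] at h
  have h1 := h ws (List.mem_sublists.mpr hsub)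
  simp only [Bool.or_eq_true, List.any_eq_true, List.all_eq_true, List.mem_range, bne_iff_ne, ne_eq,
    beq_iff_eq] at h1
  rw [C.nroots_eq] at h1
  rcases h1 with (⟨r, hr, hne⟩ | h1) | h1
  · exact absurd (hcomm r hr) hne
  · exact Or.inl h1
  · exact Or.inr h1

theorem bnOK_spec (hbn : cfg.bnOK C.T C.tabs C.simples = true) (k : ℕ) (hk : k < cfg.classes.length) :
    cfg.subOK C.T C.tabs (cfg.classes.getD k []) = true ∧
    (∀ r < D.nroots, wordRootF C.tabs (cfg.classes.getD k [] ++ cfg.classes.getD k []) r = r) ∧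
    (∀ j ∈ cfg.classes.getD k [], C.T.neg (C.simples.getD j 0) < D.nroots ∧
      D.nroots / 2 ≤ wordRootF C.tabs (cfg.classes.getD k []) (C.T.neg (C.simples.getD j 0)) ∧
      wordRootF C.tabs (cfg.classes.getD k []) (C.simples.getD j 0) < D.nroots / 2) ∧
    (cfg.posFrom C.T (cfg.pgens.getD k 0)).Nodup ∧
    (∀ r ∈ cfg.posFrom C.T (cfg.pgens.getD k 0), D.nroots / 2 ≤ r ∧ r < D.nroots) ∧
    (∀ r < D.nroots, D.nroots / 2 ≤ r → r ∈ cfg.posFrom C.T (cfg.pgens.getD k 0)) ∧
    (∀ k' < cfg.classes.length, k' ≠ k → ∃ r < D.nroots,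
      wordRootF C.tabs (cfg.classes.getD k []) r ≠ wordRootF C.tabs (cfg.classes.getD k' []) r) := by
  unfold TwCfg.bnOK at hbn
  rw [List.all_eq_true] at hbn
  have h1 := hbn k (List.mem_range.mpr hk)
  simp only [Bool.and_eq_true, List.all_eq_true, List.any_eq_true, decide_eq_true_eq, beq_iff_eq, Bool.or_eq_true,
    List.mem_range, bne_iff_ne, ne_eq, List.contains_iff_mem] at h1
  rw [C.nroots_eq] at h1
  obtain ⟨⟨⟨⟨⟨⟨a1, a2⟩, a3⟩, a4⟩, a5⟩, a6⟩, a7⟩ := h1
  refine ⟨a1, a2, fun j hj => ⟨(a3 j hj).1.1, (a3 j hj).1.2, (a3 j hj).2⟩, a4, a5, ?_, ?_⟩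
  · intro r hr hge
    rcases a6 r hr with e | e
    · omega
    · exact e
  · intro k' hk' hne
    rcases a7 k' hk' with e | e
    · exact absurd e hne
    · exact e

end Spec

section Fin

variable [Fintype K] (hD : D ∈ [chevG2, chevB2, chevD4, chevF4, chevE6, chevE7, chevE8]) (C : ChevData.{u} D)
  (cfg : TwCfg) (φ : K ≃+* K) (hcfg : cfg.ok C.T C.tabs C.simples = true)
  (hbn : cfg.bnOK C.T C.tabs C.simples = true)

include hcfg hbn in
/-- `n_J n_J ∈ H`. -/
theorem nW_class_sq_mem (k : ℕ) (hk : k < cfg.classes.length) :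
    nW (F := K) hD C (cfg.classes.getD k []) * nW hD C (cfg.classes.getD k []) ∈ D.diagonalSubgroup K := by
  obtain ⟨-, hJ, -⟩ := classOK_spec C cfg hcfg k hk
  obtain ⟨-, b2, -⟩ := bnOK_spec C cfg hbn k hk
  rw [← nW_append]
  apply mem_diagonal_of_pos hD C _ (fun i hi => by
    rcases List.mem_append.mp hi with h | h <;> exact hJ i h)
  intro r hr
  rw [b2 r hr.1]
  exact ((isPosRoot_iff hD r).mp hr).2

include hcfg hbn in
/-- The double coset axiom for the twisted group, inside the general linear group. -/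
theorem tw_mul_mem_union (k : ℕ) (hk : k < cfg.classes.length) (n b : GL D.Idx K)
    (hn : n ∈ D.monomialSubgroup K ⊓ Gtw hD C cfg φ) (hb : b ∈ D.borelSubgroup K ⊓ Gtw hD C cfg φ) :
    ∃ b₁ ∈ D.borelSubgroup K ⊓ Gtw hD C cfg φ, ∃ b₂ ∈ D.borelSubgroup K ⊓ Gtw hD C cfg φ,
      nW hD C (cfg.classes.getD k []) * b * n = b₁ * (nW hD C (cfg.classes.getD k []) * n) * b₂ ∨
      nW hD C (cfg.classes.getD k []) * b * n = b₁ * n * b₂ := by
  obtain ⟨-, hJ, -⟩ := classOK_spec C cfg hcfg k hk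
  obtain ⟨b1, -⟩ := bnOK_spec C cfg hbn k hk
  have hnJ := nW_class_mem_Gtw hD C cfg φ hcfg k hk
  set J := cfg.classes.getD k [] with hJdef
  have hTw := cfg_twOK C cfg hcfg
  have hgG : nW hD C J * b * n ∈ Gtw hD C cfg φ := mul_mem (mul_mem hnJ hb.2) hn.2
  obtain ⟨u₀, hu₀, n₁, hn₁, u, hu, hug, hg⟩ := exists_Gtw_form hD C cfg φ hcfg _ hgG
  obtain ⟨ws', hsub, c₁, hc₁, c₂, hc₂, e⟩ := exists_sublist_dc hD C J hJ b n hb.1 hn.1
  have hws' : ∀ i ∈ ws', i < D.rank := fun i hi => hJ i (hsub.subset hi)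
  have huU : u ∈ D.posUnipotent K := closure_UnegSet_le D n₁ hu
  have hd : n₁⁻¹ * (nW hD C ws' * n) ∈ D.diagonalSubgroup K :=
    inv_mul_mem_diagonal_of_eq hD C u₀ c₁ n₁ (nW hD C ws' * n) u c₂ (borel_of_posUnipotent _ hu₀.1) hc₁ hn₁.1
      (mul_mem (nW_mem_monomial hD C ws') hn.1) (borel_of_posUnipotent _ huU) hc₂ (by rw [← hg, e])
  set d := n₁⁻¹ * (nW hD C ws' * n) with hddef
  -- `m = n₁ n⁻¹ = n_{w'} h'`
  have hh' : n * d⁻¹ * n⁻¹ ∈ D.diagonalSubgroup K := monomial_conj_diagonal hD C n _ hn.1 (inv_mem hd)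
  have hm : n₁ * n⁻¹ = nW hD C ws' * (n * d⁻¹ * n⁻¹) := by rw [hddef]; group
  have hmG : n₁ * n⁻¹ ∈ Gtw hD C cfg φ := mul_mem hn₁.2 (inv_mem hn.2)
  have hfix : sig C cfg.g (cfg_gok C cfg hcfg) φ (nW hD C ws' * (n * d⁻¹ * n⁻¹))
      = nW hD C ws' * (n * d⁻¹ * n⁻¹) := by
    rw [← hm]
    exact csig_eq_of_mem_Gtw hD C cfg φ hcfg _ hmG
  have hcomm := fixed_word_comm_rho hD C cfg.g (cfg_gok C cfg hcfg) φ cfg.m hTw ws' hws' _ hh' hfix
  have hHB : D.diagonalSubgroup K ≤ D.borelSubgroup K := le_sup_right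
  rcases subOK_spec C cfg J ws' b1 hsub hcomm with hid | hJw
  · -- `w'` acts trivially: `n_{w'} ∈ H`
    have h1 : nW (F := K) hD C ws' ∈ D.diagonalSubgroup K := by
      apply mem_diagonal_of_pos hD C ws' hws'
      intro r hr
      rw [hid r hr.1]
      exact ((isPosRoot_iff hD r).mp hr).2
    have hmH : n₁ * n⁻¹ ∈ D.diagonalSubgroup K := by
      rw [hm]; exact mul_mem h1 hh'
    refine ⟨u₀ * (n₁ * n⁻¹), ⟨mul_mem (borel_of_posUnipotent _ hu₀.1) (hHB hmH), mul_mem hu₀.2 hmG⟩,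
      u, ⟨borel_of_posUnipotent _ huU, hug⟩, Or.inr ?_⟩
    rw [hg]; group
  · -- `w'` acts as `w_J`
    have hperm : wordPerm C J = wordPerm C ws' := by
      apply Equiv.ext
      intro r
      apply Fin.ext
      rw [wordPerm_apply C J hJ, wordPerm_apply C ws' hws', hJw r.val r.isLt]
    have h1 : (nW (F := K) hD C J)⁻¹ * nW hD C ws' ∈ D.diagonalSubgroup K :=
      nW_inv_mul_nW_mem hD C J ws' hJ hws' hperm
    set h'' := (nW (F := K) hD C J)⁻¹ * nW hD C ws' * (n * d⁻¹ * n⁻¹) with hh''def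
    have hh'' : h'' ∈ D.diagonalSubgroup K := mul_mem h1 hh'
    have hh''G : h'' ∈ Gtw hD C cfg φ := by
      have : h'' = (nW hD C J)⁻¹ * (n₁ * n⁻¹) := by rw [hm, hh''def]; group
      rw [this]
      exact mul_mem (inv_mem hnJ) hmG
    have hc : n⁻¹ * h'' * n⁻¹⁻¹ ∈ D.diagonalSubgroup K :=
      monomial_conj_diagonal hD C n⁻¹ h'' (inv_mem hn.1) hh''
    have hcG : n⁻¹ * h'' * n⁻¹⁻¹ ∈ Gtw hD C cfg φ := mul_mem (mul_mem (inv_mem hn.2) hh''G) (inv_mem (inv_mem hn.2))
    refine ⟨u₀, ⟨borel_of_posUnipotent _ hu₀.1, hu₀.2⟩, (n⁻¹ * h'' * n⁻¹⁻¹) * u,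
      ⟨mul_mem (hHB hc) (borel_of_posUnipotent _ huU), mul_mem hcG hug⟩, Or.inl ?_⟩
    have e2 : n₁ = nW hD C J * h'' * n := by
      have : n₁ = (n₁ * n⁻¹) * n := by group
      rw [this, hm, hh''def]; group
    rw [hg, e2]; group

end Fin

end Cfsg.Agent.Lib.Helper18
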