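/-
helper18: the remaining axioms of the (B,N)-pair of a twisted group, inside the general linear group: generation,
`N¹ = ⟨n_J⟩ H¹`, distinctness of the `n_J`, and `n_J B¹ n_J ≠ B¹`.
-/
import Cfsg.Agent.Lib.Helper18.Tw12

set_option autoImplicit false

namespace Cfsg.Agent.Lib.Helper18

open Cfsg.Lie Cfsg.Agent.Lib.Helper17

universe u

variable {K : Type u} [Field K] {D : ChevalleyDatum}

section

variable (hD : D ∈ [chevG2, chevB2, chevD4, chevF4, chevE6, chevE7, chevE8]) (C : ChevData.{u} D) (cfg : TwCfg)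

/-- The distinguished elements `n_J` of the twisted group. -/
def twS : Set (GL D.Idx K) := {x | ∃ k < cfg.classes.length, x = nW hD C (cfg.classes.getD k [])}

end

section Fin

variable [Fintype K] (hD : D ∈ [chevG2, chevB2, chevD4, chevF4, chevE6, chevE7, chevE8]) (C : ChevData.{u} D)
  (cfg : TwCfg) (φ : K ≃+* K) (hcfg : cfg.ok C.T C.tabs C.simples = true)
  (hbn : cfg.bnOK C.T C.tabs C.simples = true)

omit [Fintype K] in
include hcfg hbn in
/-- `n_J` conjugates the negative generators of its class into `U`. -/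
theorem nW_class_conj_neg_mem (k : ℕ) (hk : k < cfg.classes.length) (c : ℕ → K) :
    nW hD C (cfg.classes.getD k []) * prodL hD (cfg.g.orb cfg.m (C.T.neg (cfg.pgens.getD k 0))) c
      * (nW hD C (cfg.classes.getD k []))⁻¹ ∈ D.posUnipotent K := by
  obtain ⟨-, hJ, -, -, -, e2, -⟩ := classOK_spec C cfg hcfg k hk
  obtain ⟨-, -, b3, -⟩ := bnOK_spec C cfg hbn k hk
  have hl : ∀ r ∈ cfg.g.orb cfg.m (C.T.neg (cfg.pgens.getD k 0)), r < D.nroots := by
    intro r hr
    rw [← e2, List.mem_map] at hr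
    obtain ⟨j, hj, rfl⟩ := hr
    exact (b3 j hj).1
  rw [nW_conj_prodL hD C _ hJ _ hl]
  apply Subgroup.list_prod_mem
  intro x hx
  rw [List.mem_map] at hx
  obtain ⟨r, hr, rfl⟩ := hx
  apply xG_mem_posUnipotent
  rw [isPosRoot_iff hD]
  refine ⟨wordRootF_lt C _ hJ r (hl r hr), ?_⟩
  rw [← e2, List.mem_map] at hr
  obtain ⟨j, hj, rfl⟩ := hr
  exact (b3 j hj).2.1

omit [Fintype K] in
include hcfg hbn in
/-- `n_J` conjugates the positive generators of its class into `V`. -/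
theorem nW_class_conj_pos_mem (k : ℕ) (hk : k < cfg.classes.length) (c : ℕ → K) :
    nW hD C (cfg.classes.getD k []) * prodL hD (cfg.g.orb cfg.m (cfg.pgens.getD k 0)) c
      * (nW hD C (cfg.classes.getD k []))⁻¹ ∈ D.negUnipotent K := by
  obtain ⟨-, hJ, -, -, e1, -⟩ := classOK_spec C cfg hcfg k hk
  obtain ⟨-, -, b3, -⟩ := bnOK_spec C cfg hbn k hk
  have hl : ∀ r ∈ cfg.g.orb cfg.m (cfg.pgens.getD k 0), r < D.nroots := by
    intro r hr
    rw [← e1, List.mem_map] at hr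
    obtain ⟨j, hj, rfl⟩ := hr
    rw [← C.hsimple j (hJ j hj)]
    exact C.simple_lt j (hJ j hj)
  rw [nW_conj_prodL hD C _ hJ _ hl]
  apply Subgroup.list_prod_mem
  intro x hx
  rw [List.mem_map] at hx
  obtain ⟨r, hr, rfl⟩ := hx
  have hlt := wordRootF_lt C _ hJ r (hl r hr)
  rw [← e1, List.mem_map] at hr
  obtain ⟨j, hj, rfl⟩ := hr
  exact Subgroup.subset_closure ⟨_, _, isNegRoot_of_lt D (signOK_of_mem D hD) _ hlt (b3 j hj).2.2, rfl⟩

omit [Fintype K] in
include hcfg in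
/-- The positive generators lie in `U`. -/
theorem pos_gen_mem (k : ℕ) (hk : k < cfg.classes.length) (c : ℕ → K) :
    prodL hD (cfg.g.orb cfg.m (cfg.pgens.getD k 0)) c ∈ D.posUnipotent K := by
  obtain ⟨-, hJ, -, -, e1, -⟩ := classOK_spec C cfg hcfg k hk
  apply prodL_mem_posUnipotent
  intro r hr
  rw [← e1, List.mem_map] at hr
  obtain ⟨j, hj, rfl⟩ := hr
  rw [← C.hsimple j (hJ j hj), isPosRoot_iff hD]
  exact ⟨C.simple_lt j (hJ j hj), C.half_le_simple j (hJ j hj)⟩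

include hcfg hbn in
/-- The twisted group is generated by `B¹` and the `n_J`. -/
theorem Gtw_le_closure :
    Gtw hD C cfg φ ≤ Subgroup.closure
      (((D.borelSubgroup K ⊓ Gtw hD C cfg φ : Subgroup (GL D.Idx K)) : Set (GL D.Idx K)) ∪ twS hD C cfg) := by
  show Subgroup.closure (twGenSet hD C cfg φ) ≤ _
  rw [Subgroup.closure_le]
  rintro x ⟨s, hs, c, hc, rfl⟩
  have hxG : prodL hD (cfg.g.orb cfg.m s) c ∈ Gtw hD C cfg φ := Subgroup.subset_closure ⟨s, hs, c, hc, rfl⟩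
  unfold TwCfg.genRoots at hs
  rcases List.mem_append.mp hs with h | h
  · obtain ⟨k, hk, rfl⟩ := List.mem_iff_getElem.mp h
    have hlen : cfg.classes.length = cfg.pgens.length := by
      have := cfg_classOK C cfg hcfg
      unfold TwCfg.classOK at this
      rw [Bool.and_eq_true, decide_eq_true_eq] at this
      exact this.1
    have hk' : k < cfg.classes.length := hlen ▸ hk
    have e : cfg.pgens[k] = cfg.pgens.getD k 0 := (List.getD_eq_getElem _ _ hk).symm
    rw [e] at hxG ⊢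
    apply Subgroup.subset_closure
    left
    exact Subgroup.mem_inf.mpr ⟨borel_of_posUnipotent _ (pos_gen_mem hD C cfg hcfg k hk' c), hxG⟩
  · rw [List.mem_map] at h
    obtain ⟨s₀, hs₀, rfl⟩ := h
    obtain ⟨k, hk, rfl⟩ := List.mem_iff_getElem.mp hs₀
    have hlen : cfg.classes.length = cfg.pgens.length := by
      have := cfg_classOK C cfg hcfg
      unfold TwCfg.classOK at this
      rw [Bool.and_eq_true, decide_eq_true_eq] at this
      exact this.1
    have hk' : k < cfg.classes.length := hlen ▸ hk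
    have e : cfg.pgens[k] = cfg.pgens.getD k 0 := (List.getD_eq_getElem _ _ hk).symm
    rw [e] at hxG ⊢
    have hnJ := nW_class_mem_Gtw hD C cfg φ hcfg k hk'
    set nJ := nW (F := K) hD C (cfg.classes.getD k []) with hnJdef
    set x := prodL hD (cfg.g.orb cfg.m (C.T.neg (cfg.pgens.getD k 0))) c with hxdef
    have h1 : nJ * x * nJ⁻¹ ∈ D.borelSubgroup K ⊓ Gtw hD C cfg φ :=
      Subgroup.mem_inf.mpr ⟨borel_of_posUnipotent _ (nW_class_conj_neg_mem hD C cfg hcfg hbn k hk' c),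
        mul_mem (mul_mem hnJ hxG) (inv_mem hnJ)⟩
    have h2 : nJ ∈ Subgroup.closure
        (((D.borelSubgroup K ⊓ Gtw hD C cfg φ : Subgroup (GL D.Idx K)) : Set (GL D.Idx K)) ∪ twS hD C cfg) :=
      Subgroup.subset_closure (Or.inr ⟨k, hk', rfl⟩)
    have e3 : x = nJ⁻¹ * (nJ * x * nJ⁻¹) * nJ := by group
    rw [e3]
    exact mul_mem (mul_mem (inv_mem h2) (Subgroup.subset_closure (Or.inl h1))) h2

include hcfg in
omit [Fintype K] in
theorem twS_le : Subgroup.closure (twS (K := K) hD C cfg) ≤ D.monomialSubgroup K ⊓ Gtw hD C cfg φ := by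
  rw [Subgroup.closure_le]
  rintro x ⟨k, hk, rfl⟩
  exact Subgroup.mem_inf.mpr ⟨nW_mem_monomial hD C _, nW_class_mem_Gtw hD C cfg φ hcfg k hk⟩

/-- The set `B¹ ⟨n_J⟩ B¹`. -/
def twM : Set (GL D.Idx K) :=
  {x | ∃ w ∈ Subgroup.closure (twS (K := K) hD C cfg), ∃ b₁ ∈ D.borelSubgroup K ⊓ Gtw hD C cfg φ,
    ∃ b₂ ∈ D.borelSubgroup K ⊓ Gtw hD C cfg φ, x = b₁ * w * b₂}

omit [Fintype K] in
theorem twM_borel_mul (b x : GL D.Idx K) (hb : b ∈ D.borelSubgroup K ⊓ Gtw hD C cfg φ)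
    (hx : x ∈ twM hD C cfg φ) : b * x ∈ twM hD C cfg φ := by
  obtain ⟨w, hw, b₁, hb₁, b₂, hb₂, rfl⟩ := hx
  exact ⟨w, hw, b * b₁, mul_mem hb hb₁, b₂, hb₂, by group⟩

include hcfg hbn in
theorem twM_nW_mul (k : ℕ) (hk : k < cfg.classes.length) (x : GL D.Idx K) (hx : x ∈ twM hD C cfg φ) :
    nW hD C (cfg.classes.getD k []) * x ∈ twM hD C cfg φ := by
  obtain ⟨w, hw, b₁, hb₁, b₂, hb₂, rfl⟩ := hx
  have hwN := twS_le hD C cfg φ hcfg hw
  obtain ⟨c₁, hc₁, c₂, hc₂, e | e⟩ := tw_mul_mem_union hD C cfg φ hcfg hbn k hk w b₁ hwN hb₁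
  · refine ⟨nW hD C (cfg.classes.getD k []) * w, mul_mem (Subgroup.subset_closure ⟨k, hk, rfl⟩) hw, c₁, hc₁,
      c₂ * b₂, mul_mem hc₂ hb₂, ?_⟩
    calc nW hD C (cfg.classes.getD k []) * (b₁ * w * b₂)
        = (nW hD C (cfg.classes.getD k []) * b₁ * w) * b₂ := by group
      _ = _ := by rw [e]; group
  · refine ⟨w, hw, c₁, hc₁, c₂ * b₂, mul_mem hc₂ hb₂, ?_⟩
    calc nW hD C (cfg.classes.getD k []) * (b₁ * w * b₂)
        = (nW hD C (cfg.classes.getD k []) * b₁ * w) * b₂ := by group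
      _ = _ := by rw [e]; group

include hcfg hbn in
/-- Every element of the twisted group lies in `B¹ ⟨n_J⟩ B¹`. -/
theorem Gtw_subset_twM (x : GL D.Idx K) (hx : x ∈ Gtw hD C cfg φ) : x ∈ twM hD C cfg φ := by
  have hHB : D.diagonalSubgroup K ≤ D.borelSubgroup K := le_sup_right
  have key : ∀ g ∈ Subgroup.closure
      (((D.borelSubgroup K ⊓ Gtw hD C cfg φ : Subgroup (GL D.Idx K)) : Set (GL D.Idx K)) ∪ twS hD C cfg),
      ∀ y ∈ twM hD C cfg φ, g * y ∈ twM hD C cfg φ ∧ g⁻¹ * y ∈ twM hD C cfg φ := by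
    intro g hg
    induction hg using Subgroup.closure_induction with
    | mem g hg =>
      intro y hy
      rcases hg with hg | ⟨k, hk, rfl⟩
      · exact ⟨twM_borel_mul hD C cfg φ g y hg hy, twM_borel_mul hD C cfg φ g⁻¹ y (inv_mem hg) hy⟩
      · refine ⟨twM_nW_mul hD C cfg φ hcfg hbn k hk y hy, ?_⟩
        have hnJ := nW_class_mem_Gtw hD C cfg φ hcfg k hk
        set nJ := nW (F := K) hD C (cfg.classes.getD k []) with hnJdef
        have h1 : (nJ * nJ)⁻¹ ∈ D.borelSubgroup K ⊓ Gtw hD C cfg φ :=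
          Subgroup.mem_inf.mpr ⟨hHB (inv_mem (nW_class_sq_mem hD C cfg hcfg hbn k hk)),
            inv_mem (mul_mem hnJ hnJ)⟩
        have e : nJ⁻¹ * y = (nJ * nJ)⁻¹ * (nJ * y) := by group
        rw [e]
        exact twM_borel_mul hD C cfg φ _ _ h1 (twM_nW_mul hD C cfg φ hcfg hbn k hk y hy)
    | one => intro y hy; simpa using hy
    | mul g g' _ _ ih ih' =>
      intro y hy
      constructor
      · rw [mul_assoc]; exact (ih _ (ih' y hy).1).1
      · rw [mul_inv_rev, mul_assoc]; exact (ih' _ (ih y hy).2).2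
    | inv g _ ih =>
      intro y hy
      rw [inv_inv]
      exact ⟨(ih y hy).2, (ih y hy).1⟩
  have h1 : (1 : GL D.Idx K) ∈ twM hD C cfg φ := ⟨1, one_mem _, 1, one_mem _, 1, one_mem _, by group⟩
  have := (key x (Gtw_le_closure hD C cfg φ hcfg hbn hx) 1 h1).1
  rwa [mul_one] at this

include hcfg hbn in
/-- `N¹ = ⟨n_J⟩ H¹`. -/
theorem exists_word_of_mem_monomial_Gtw (n : GL D.Idx K) (hn : n ∈ D.monomialSubgroup K ⊓ Gtw hD C cfg φ) :
    ∃ w ∈ Subgroup.closure (twS (K := K) hD C cfg), ∃ h ∈ D.diagonalSubgroup K ⊓ Gtw hD C cfg φ, n = w * h := by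
  obtain ⟨w, hw, b₁, hb₁, b₂, hb₂, e⟩ := Gtw_subset_twM hD C cfg φ hcfg hbn n hn.2
  have hwN := twS_le hD C cfg φ hcfg hw
  have hd : n⁻¹ * w ∈ D.diagonalSubgroup K :=
    inv_mul_mem_diagonal_of_eq hD C 1 b₁ n w 1 b₂ (one_mem _) hb₁.1 hn.1 hwN.1 (one_mem _) hb₂.1
      (by rw [one_mul, mul_one, e])
  refine ⟨w, hw, (n⁻¹ * w)⁻¹, Subgroup.mem_inf.mpr ⟨inv_mem hd, inv_mem (mul_mem (inv_mem hn.2) hwN.2)⟩, ?_⟩
  group

include hcfg hbn in
omit [Fintype K] in
/-- Distinct classes give distinct elements modulo `B`. -/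
theorem nW_class_inj (k k' : ℕ) (hk : k < cfg.classes.length) (hk' : k' < cfg.classes.length)
    (h : (nW (F := K) hD C (cfg.classes.getD k []))⁻¹ * nW hD C (cfg.classes.getD k' []) ∈ D.borelSubgroup K) :
    k = k' := by
  by_contra hne
  obtain ⟨-, hJ, -⟩ := classOK_spec C cfg hcfg k hk
  obtain ⟨-, hJ', -⟩ := classOK_spec C cfg hcfg k' hk'
  obtain ⟨-, -, -, -, -, -, b7⟩ := bnOK_spec C cfg hbn k hk
  obtain ⟨r, hr, hrne⟩ := b7 k' hk' (fun e => hne e.symm)
  have hH : (nW (F := K) hD C (cfg.classes.getD k []))⁻¹ * nW hD C (cfg.classes.getD k' [])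
      ∈ D.diagonalSubgroup K := by
    rw [← (Cfsg.Agent.S1040.result D hD).2]
    exact Subgroup.mem_inf.mpr ⟨h, mul_mem (inv_mem (nW_mem_monomial hD C _)) (nW_mem_monomial hD C _)⟩
  have e : nW (F := K) hD C (cfg.classes.getD k []) *
      ((nW (F := K) hD C (cfg.classes.getD k []))⁻¹ * nW hD C (cfg.classes.getD k' []))
      = nW hD C (cfg.classes.getD k' []) * 1 := by group
  exact hrne (wordRootF_eq_of_eq hD C _ _ hJ hJ' _ 1 hH (one_mem _) e r hr).symm

include hcfg hbn in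
/-- The positive generator with coefficients one is not trivial. -/
theorem pos_gen_ne_one (k : ℕ) (hk : k < cfg.classes.length) :
    prodL (F := K) hD (cfg.g.orb cfg.m (cfg.pgens.getD k 0)) (fun _ => 1) ≠ 1 := by
  intro h1
  obtain ⟨-, -, -, hs, -⟩ := classOK_spec C cfg hcfg k hk
  obtain ⟨-, -, -, b4, b5, b6, -⟩ := bnOK_spec C cfg hbn k hk
  have hTw := cfg_twOK C cfg hcfg
  set s := cfg.pgens.getD k 0 with hsdef
  unfold TwCfg.posFrom at b4 b5 b6
  set rest := (List.range C.T.nroots).filter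
    (fun r => decide (C.T.nroots / 2 ≤ r) && !(cfg.g.orb cfg.m s).contains r) with hrest
  have hdisj : ∀ r ∈ rest, r ∉ cfg.g.orb cfg.m s := by
    intro r hr hr'
    exact (List.disjoint_of_nodup_append b4) hr' hr
  let t : ℕ → K := fun r => if r ∈ cfg.g.orb cfg.m s then 1 else 0
  have e1 : prodL hD (cfg.g.orb cfg.m s ++ rest) t = prodL hD (cfg.g.orb cfg.m s ++ rest) (fun _ => 0) := by
    rw [prodL_zero, prodL_append]
    have e2 : prodL hD (cfg.g.orb cfg.m s) t = prodL hD (cfg.g.orb cfg.m s) (fun _ => 1) :=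
      prodL_congr hD _ _ _ (fun r hr => if_pos hr)
    have e3 : prodL hD rest t = prodL hD rest (fun _ => 0) :=
      prodL_congr hD _ _ _ (fun r hr => if_neg (hdisj r hr))
    rw [e2, e3, prodL_zero, h1, mul_one]
  have hl : ∀ r ∈ cfg.g.orb cfg.m s ++ rest, D.IsPosRoot r := by
    intro r hr
    rw [isPosRoot_iff hD]
    exact ⟨(b5 r hr).2, (b5 r hr).1⟩
  have hall : ∀ r, D.IsPosRoot r → r ∈ cfg.g.orb cfg.m s ++ rest := by
    intro r hr
    rw [isPosRoot_iff hD] at hr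
    exact b6 r hr.1 hr.2
  have h2 := prodL_injective_of_fintype hD _ hl b4 hall t (fun _ => 0) e1 s
    (List.mem_append_left _ (self_mem_orb C cfg.g cfg.m hTw (cfg_m C cfg hcfg) s hs))
  have h3 : t s = 1 := if_pos (self_mem_orb C cfg.g cfg.m hTw (cfg_m C cfg hcfg) s hs)
  rw [h3] at h2
  exact one_ne_zero h2

include hcfg hbn in
/-- `n_J B¹ n_J ≠ B¹`. -/
theorem exists_not_mem_borel (k : ℕ) (hk : k < cfg.classes.length) :
    ∃ b ∈ D.borelSubgroup K ⊓ Gtw hD C cfg φ,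
      nW hD C (cfg.classes.getD k []) * b * nW hD C (cfg.classes.getD k []) ∉ D.borelSubgroup K := by
  obtain ⟨-, -, -, -, -, -, g1, -⟩ := classOK_spec C cfg hcfg k hk
  obtain ⟨m1, -⟩ := pgens_mem_genRoots C cfg hcfg k hk
  have hHB : D.diagonalSubgroup K ≤ D.borelSubgroup K := le_sup_right
  set nJ := nW (F := K) hD C (cfg.classes.getD k []) with hnJdef
  set x := prodL (F := K) hD (cfg.g.orb cfg.m (cfg.pgens.getD k 0)) (fun _ => 1) with hxdef
  have hxG : x ∈ Gtw hD C cfg φ := by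
    apply Subgroup.subset_closure
    refine ⟨_, m1, fun _ => 1, ?_, rfl⟩
    intro r hr
    unfold twT
    rw [g1 r hr]
    simp
  refine ⟨x, Subgroup.mem_inf.mpr ⟨borel_of_posUnipotent _ (pos_gen_mem hD C cfg hcfg k hk _), hxG⟩, ?_⟩
  intro hmem
  have h1 : nJ * x * nJ⁻¹ ∈ D.borelSubgroup K := by
    have e : nJ * x * nJ⁻¹ = (nJ * x * nJ) * (nJ * nJ)⁻¹ := by group
    rw [e]
    exact mul_mem hmem (hHB (inv_mem (nW_class_sq_mem hD C cfg hcfg hbn k hk)))
  have h2 : nJ * x * nJ⁻¹ ∈ D.borelSubgroup K ⊓ D.negUnipotent K :=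
    Subgroup.mem_inf.mpr ⟨h1, nW_class_conj_pos_mem hD C cfg hcfg hbn k hk _⟩
  rw [(Cfsg.Agent.S1037.result D hD).1, Subgroup.mem_bot] at h2
  apply pos_gen_ne_one (K := K) hD C cfg hcfg hbn k hk
  have e : x = nJ⁻¹ * (nJ * x * nJ⁻¹) * nJ := by group
  rw [← hxdef, e, h2]
  group

end Fin

end Cfsg.Agent.Lib.Helper18
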