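/-
helper18: the (B,N)-pair of a twisted group.
-/
import Cfsg.Agent.Lib.Helper18.Tw13
import Cfsg.Prelude.Def_LieExceptional

set_option autoImplicit false

namespace Cfsg.Agent.Lib.Helper18

open Cfsg.Lie Cfsg.Agent.Lib.Helper17

universe u

variable {K : Type u} [Field K] {D : ChevalleyDatum}

section Fin

variable [Fintype K] (hD : D ∈ [chevG2, chevB2, chevD4, chevF4, chevE6, chevE7, chevE8]) (C : ChevData.{u} D)
  (cfg : TwCfg) (φ : K ≃+* K) (hcfg : cfg.ok C.T C.tabs C.simples = true)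
  (hbn : cfg.bnOK C.T C.tabs C.simples = true)

include hcfg hbn in
/-- The (B,N)-pair of the twisted group. -/
theorem exists_bnPair_Gtw :
    ∃ P : Cfsg.BNPair ↥(Gtw hD C cfg φ),
      P.B = (D.borelSubgroup K ⊓ Gtw hD C cfg φ).subgroupOf (Gtw hD C cfg φ) ∧
      P.N = (D.monomialSubgroup K ⊓ Gtw hD C cfg φ).subgroupOf (Gtw hD C cfg φ) ∧
      P.S = {s : ↥(Gtw hD C cfg φ) | ∃ k < cfg.classes.length,
        (s : GL D.Idx K) = nW hD C (cfg.classes.getD k [])} := by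
  have hBN : D.borelSubgroup K ⊓ D.monomialSubgroup K = D.diagonalSubgroup K :=
    (Cfsg.Agent.S1040.result D hD).2
  have hHB : D.diagonalSubgroup K ≤ D.borelSubgroup K := le_sup_right
  have hHN : D.diagonalSubgroup K ≤ D.monomialSubgroup K := le_sup_left
  have memB : ∀ x : ↥(Gtw hD C cfg φ),
      x ∈ (D.borelSubgroup K ⊓ Gtw hD C cfg φ).subgroupOf (Gtw hD C cfg φ) ↔ (x : GL D.Idx K) ∈ D.borelSubgroup K := by
    intro x
    rw [Subgroup.mem_subgroupOf, Subgroup.mem_inf]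
    exact ⟨fun h => h.1, fun h => ⟨h, x.2⟩⟩
  have memN : ∀ x : ↥(Gtw hD C cfg φ),
      x ∈ (D.monomialSubgroup K ⊓ Gtw hD C cfg φ).subgroupOf (Gtw hD C cfg φ)
        ↔ (x : GL D.Idx K) ∈ D.monomialSubgroup K := by
    intro x
    rw [Subgroup.mem_subgroupOf, Subgroup.mem_inf]
    exact ⟨fun h => h.1, fun h => ⟨h, x.2⟩⟩
  refine ⟨Cfsg.BNPair.mk ((D.borelSubgroup K ⊓ Gtw hD C cfg φ).subgroupOf (Gtw hD C cfg φ))
    ((D.monomialSubgroup K ⊓ Gtw hD C cfg φ).subgroupOf (Gtw hD C cfg φ))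
    {s : ↥(Gtw hD C cfg φ) | ∃ k < cfg.classes.length, (s : GL D.Idx K) = nW hD C (cfg.classes.getD k [])}
    ?_ ?_ ?_ ?_ ?_ ?_ ?_ ?_, rfl, rfl, rfl⟩
  · -- B ⊔ N = ⊤
    rw [eq_top_iff]
    rintro ⟨x, hx⟩ -
    obtain ⟨u₀, hu₀, n, hn, u, hu, hug, e⟩ := exists_Gtw_form hD C cfg φ hcfg x hx
    have huU : u ∈ D.posUnipotent K := closure_UnegSet_le D n hu
    have e' : (⟨x, hx⟩ : ↥(Gtw hD C cfg φ)) = ⟨u₀, hu₀.2⟩ * ⟨n, hn.2⟩ * ⟨u, hug⟩ := Subtype.ext e
    rw [e']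
    refine mul_mem (mul_mem (Subgroup.mem_sup_left ?_) (Subgroup.mem_sup_right ?_)) (Subgroup.mem_sup_left ?_)
    · rw [memB]; exact borel_of_posUnipotent _ hu₀.1
    · rw [memN]; exact hn.1
    · rw [memB]; exact borel_of_posUnipotent _ huU
  · -- N normalises B ⊓ N
    intro n hn t ht
    rw [memN] at hn
    rw [memB]
    have ht' : (t : GL D.Idx K) ∈ D.diagonalSubgroup K := by
      rw [← hBN]
      exact Subgroup.mem_inf.mpr ⟨(memB t).mp ht.1, (memN t).mp ht.2⟩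
    apply hHB
    have e : ((n * t * n⁻¹ : ↥(Gtw hD C cfg φ)) : GL D.Idx K) = (n : GL D.Idx K) * t * (n : GL D.Idx K)⁻¹ := by
      push_cast; rfl
    rw [e]
    exact monomial_conj_diagonal hD C _ _ hn ht'
  · -- S ⊆ N
    rintro s ⟨k, hk, hs⟩
    show s ∈ (D.monomialSubgroup K ⊓ Gtw hD C cfg φ).subgroupOf (Gtw hD C cfg φ)
    rw [memN, hs]
    exact nW_mem_monomial hD C _
  · -- s * s ∈ B
    rintro s ⟨k, hk, hs⟩
    rw [memB]
    push_cast
    rw [hs]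
    exact hHB (nW_class_sq_mem hD C cfg hcfg hbn k hk)
  · -- injectivity modulo B
    rintro s ⟨k, hk, hs⟩ s' ⟨k', hk', hs'⟩ hss
    rw [memB] at hss
    push_cast at hss
    rw [hs, hs'] at hss
    apply Subtype.ext
    rw [hs, hs', nW_class_inj hD C cfg hcfg hbn k k' hk hk' hss]
  · -- closure S ⊔ (B ⊓ N) = N
    apply le_antisymm
    · apply sup_le
      · rw [Subgroup.closure_le]
        rintro s ⟨k, hk, hs⟩
        show s ∈ (D.monomialSubgroup K ⊓ Gtw hD C cfg φ).subgroupOf (Gtw hD C cfg φ)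
        rw [memN, hs]
        exact nW_mem_monomial hD C _
      · exact inf_le_right
    · intro n hn
      rw [memN] at hn
      obtain ⟨w, hw, h, hh, e⟩ := exists_word_of_mem_monomial_Gtw hD C cfg φ hcfg hbn n
        (Subgroup.mem_inf.mpr ⟨hn, n.2⟩)
      have hwG := (twS_le hD C cfg φ hcfg hw).2
      -- lift the word
      have hlift : ∀ w ∈ Subgroup.closure (twS (K := K) hD C cfg), ∃ hwG : w ∈ Gtw hD C cfg φ,
          (⟨w, hwG⟩ : ↥(Gtw hD C cfg φ)) ∈ Subgroup.closure {s : ↥(Gtw hD C cfg φ) | ∃ k < cfg.classes.length,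
            (s : GL D.Idx K) = nW hD C (cfg.classes.getD k [])} := by
        intro w hw
        induction hw using Subgroup.closure_induction with
        | mem w hw =>
          obtain ⟨k, hk, rfl⟩ := hw
          exact ⟨nW_class_mem_Gtw hD C cfg φ hcfg k hk, Subgroup.subset_closure ⟨k, hk, rfl⟩⟩
        | one => exact ⟨one_mem _, one_mem _⟩
        | mul a b _ _ iha ihb =>
          obtain ⟨ha, ha'⟩ := iha
          obtain ⟨hb, hb'⟩ := ihb
          exact ⟨mul_mem ha hb, mul_mem ha' hb'⟩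
        | inv a _ iha =>
          obtain ⟨ha, ha'⟩ := iha
          exact ⟨inv_mem ha, inv_mem ha'⟩
      obtain ⟨hwG', hw'⟩ := hlift w hw
      have hn_eq : n = ⟨w, hwG'⟩ * ⟨h, hh.2⟩ := Subtype.ext e
      rw [hn_eq]
      apply mul_mem (Subgroup.mem_sup_left hw')
      apply Subgroup.mem_sup_right
      exact Subgroup.mem_inf.mpr ⟨(memB _).mpr (hHB hh.1), (memN _).mpr (hHN hh.1)⟩
  · -- the double coset axiom
    rintro s ⟨k, hk, hs⟩ n hn b hb
    rw [memN] at hn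
    rw [memB] at hb
    obtain ⟨b₁, hb₁, b₂, hb₂, e⟩ := tw_mul_mem_union hD C cfg φ hcfg hbn k hk n b
      (Subgroup.mem_inf.mpr ⟨hn, n.2⟩) (Subgroup.mem_inf.mpr ⟨hb, b.2⟩)
    rw [← hs] at e
    rcases e with e | e
    · left
      rw [DoubleCoset.mem_doubleCoset]
      exact ⟨⟨b₁, hb₁.2⟩, (memB _).mpr hb₁.1, ⟨b₂, hb₂.2⟩, (memB _).mpr hb₂.1, Subtype.ext e⟩
    · right
      rw [DoubleCoset.mem_doubleCoset]
      exact ⟨⟨b₁, hb₁.2⟩, (memB _).mpr hb₁.1, ⟨b₂, hb₂.2⟩, (memB _).mpr hb₂.1, Subtype.ext e⟩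
  · -- s B s ≠ B
    rintro s ⟨k, hk, hs⟩ heq
    obtain ⟨b, hb, hnot⟩ := exists_not_mem_borel hD C cfg φ hcfg hbn k hk
    have h1 : s * ⟨b, hb.2⟩ * s ∈ (fun x : ↥(Gtw hD C cfg φ) => s * x * s) ''
        (((D.borelSubgroup K ⊓ Gtw hD C cfg φ).subgroupOf (Gtw hD C cfg φ) : Subgroup ↥(Gtw hD C cfg φ))
          : Set ↥(Gtw hD C cfg φ)) :=
      ⟨⟨b, hb.2⟩, (memB _).mpr hb.1, rfl⟩
    rw [heq] at h1
    have h2 := (memB _).mp h1
    apply hnot
    rw [← hs]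
    exact h2

end Fin

end Cfsg.Agent.Lib.Helper18
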