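/-
helper18: the normal core of `B¹` in a twisted group is trivial.
-/
import Cfsg.Agent.Lib.Helper18.Tw14
import Cfsg.Agent.Lib.Helper18.NConj
import Cfsg.Agent.S1034

set_option autoImplicit false

namespace Cfsg.Agent.Lib.Helper18

open Cfsg.Lie Cfsg.Agent.Lib.Helper17

universe u

variable {K : Type u} [Field K] {D : ChevalleyDatum}

namespace TwCfg

variable (cfg : TwCfg)

/-- The check of a word in the classes representing the longest element: it sends every positive root to a negative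
root. -/
def longOK (T : FastDatum) (tabs : List ℕ) (cw₀ : List ℕ) : Bool :=
  cw₀.all (fun c => decide (c < cfg.classes.length)) &&
  forceList (cfg.wordOf cw₀) fun ws =>
    (List.range T.nroots).all fun r => decide (r < T.nroots / 2) || decide (wordRootF tabs ws r < T.nroots / 2)

end TwCfg

section

variable (hD : D ∈ [chevG2, chevB2, chevD4, chevF4, chevE6, chevE7, chevE8]) (C : ChevData.{u} D) (cfg : TwCfg)

theorem longOK_spec (cw₀ : List ℕ) (h : cfg.longOK C.T C.tabs cw₀ = true) :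
    (∀ c ∈ cw₀, c < cfg.classes.length) ∧
      ∀ r < D.nroots, D.nroots / 2 ≤ r → wordRootF C.tabs (cfg.wordOf cw₀) r < D.nroots / 2 := by
  unfold TwCfg.longOK at h
  rw [forceList_eq] at h
  simp only [Bool.and_eq_true, List.all_eq_true, decide_eq_true_eq, Bool.or_eq_true, List.mem_range] at h
  rw [C.nroots_eq] at h
  refine ⟨h.1, ?_⟩
  intro r hr hge
  rcases h.2 r hr with e | e
  · omega
  · exact e

/-- The character of a root on the diagonal element with parameters `c`. -/
noncomputable def chiFun (c : ℕ → K) (r : ℕ) : K :=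
  if h : r < D.nroots then torusFun D c (Sum.inr ⟨r, h⟩) else 1

include hD in
theorem torus_conj_xG (z : GL D.Idx K) (c : ℕ → K) (hc : ∀ i < D.rank, c i ≠ 0)
    (hz : (z : Matrix D.Idx D.Idx K) = Matrix.diagonal (torusFun D c)) (r : ℕ) (hr : r < D.nroots) (t : K) :
    z * xG hD r t * z⁻¹ = xG hD r (chiFun (D := D) c r * t) := by
  have h1 : z * xG hD r t = xG hD r (chiFun (D := D) c r * t) * z := by
    apply Units.ext
    rw [Units.val_mul, Units.val_mul, coe_xG, coe_xG, hz]
    unfold chiFun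
    rw [dif_pos hr]
    exact torus_mul_x D hD c hc r hr t
  rw [h1]
  group

include hD in
theorem torus_conj_prodL (z : GL D.Idx K) (c : ℕ → K) (hc : ∀ i < D.rank, c i ≠ 0)
    (hz : (z : Matrix D.Idx D.Idx K) = Matrix.diagonal (torusFun D c)) (l : List ℕ) (hl : ∀ r ∈ l, r < D.nroots)
    (t : ℕ → K) : z * prodL hD l t * z⁻¹ = prodL hD l (fun r => chiFun (D := D) c r * t r) := by
  induction l with
  | nil => simp [prodL_nil]
  | cons a l ih =>
    rw [prodL_cons, prodL_cons, ← ih fun r hr => hl r (List.mem_cons_of_mem _ hr),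
      ← torus_conj_xG hD z c hc hz a (hl a List.mem_cons_self)]
    group

end

section

variable (g : GraphData) (φ : K ≃+* K) (m : ℕ)

theorem orbVal_one_ne_zero (s r : ℕ) : orbVal g φ s (1 : K) r ≠ 0 := by
  unfold orbVal
  have h1 : ∀ x : ℕ, ((g.gam x : ℤ) : K) ≠ 0 := by
    intro x
    rcases g.gam_cases x with e | e <;> rw [e] <;> simp
  split_ifs
  · exact one_ne_zero
  · rw [map_one, mul_one]; exact h1 _
  · rw [map_one, mul_one]
    exact mul_ne_zero (h1 _) ((map_ne_zero φ).mpr (h1 _))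

theorem cfL_one_ne_zero (reps : List ℕ) (r : ℕ) (hr : r ∈ g.clsList m reps) :
    cfL g φ m reps (fun _ => (1 : K)) r ≠ 0 := by
  induction reps with
  | nil => simp [GraphData.clsList] at hr
  | cons s reps ih =>
    have e : g.clsList m (s :: reps) = g.orb m s ++ g.clsList m reps := by
      unfold GraphData.clsList
      rw [List.flatMap_cons]
    show (if r ∈ g.orb m s then _ else _) ≠ 0
    by_cases hmem : r ∈ g.orb m s
    · rw [if_pos hmem]
      exact orbVal_one_ne_zero g φ s r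
    · rw [if_neg hmem]
      rw [e] at hr
      rcases List.mem_append.mp hr with h | h
      · exact absurd h hmem
      · exact ih h

end

section Fin

variable [Fintype K] (hD : D ∈ [chevG2, chevB2, chevD4, chevF4, chevE6, chevE7, chevE8]) (C : ChevData.{u} D)
  (cfg : TwCfg) (φ : K ≃+* K) (hcfg : cfg.ok C.T C.tabs C.simples = true)

include hcfg in
/-- An element of the twisted group all of whose conjugates lie in `B` is trivial. -/
theorem tw_core_trivial (cw₀ : List ℕ) (hlong : cfg.longOK C.T C.tabs cw₀ = true)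
    (hφm : ∀ a : K, φ^[cfg.m] a = a) (z : GL D.Idx K)
    (hcore : ∀ y ∈ Gtw hD C cfg φ, y * z * y⁻¹ ∈ D.borelSubgroup K) : z = 1 := by
  obtain ⟨hcw, hw₀⟩ := longOK_spec C cfg cw₀ hlong
  have hTw := cfg_twOK C cfg hcfg
  have hm := cfg_m C cfg hcfg
  have hws : ∀ i ∈ cfg.wordOf cw₀, i < D.rank := wordOf_lt C cfg hcfg cw₀ hcw
  have hn₀G := nW_wordOf_mem_Gtw hD C cfg φ hcfg cw₀ hcw
  set n₀ := nW (F := K) hD C (cfg.wordOf cw₀) with hn₀def
  have hn₀N : n₀ ∈ D.monomialSubgroup K := nW_mem_monomial hD C _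
  have hsign := signOK_of_mem D hD
  -- `n₀ U n₀⁻¹ ≤ V`
  have hUV : ∀ u ∈ D.posUnipotent K, n₀ * u * n₀⁻¹ ∈ D.negUnipotent K := by
    intro u hu
    unfold ChevalleyDatum.posUnipotent at hu
    induction hu using Subgroup.closure_induction with
    | mem x hx =>
      obtain ⟨r, t, hr, hx⟩ := hx
      have : x = xG hD r t := eq_xG hD _ r t hx
      rw [this, nW_conj_xG hD C _ hws r hr.1]
      have hpos := (isPosRoot_iff hD r).mp hr
      exact Subgroup.subset_closure ⟨_, _, isNegRoot_of_lt D hsign _ (wordRootF_lt C _ hws r hr.1)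
        (hw₀ r hr.1 hpos.2), rfl⟩
    | one => simp
    | mul a b _ _ iha ihb =>
      have e : n₀ * (a * b) * n₀⁻¹ = (n₀ * a * n₀⁻¹) * (n₀ * b * n₀⁻¹) := by group
      rw [e]; exact mul_mem iha ihb
    | inv a _ iha =>
      have e : n₀ * a⁻¹ * n₀⁻¹ = (n₀ * a * n₀⁻¹)⁻¹ := by group
      rw [e]; exact inv_mem iha
  -- an element all of whose conjugates lie in `B` lies in `H`
  have hH : ∀ z' : GL D.Idx K, (∀ y ∈ Gtw hD C cfg φ, y * z' * y⁻¹ ∈ D.borelSubgroup K) →
      z' ∈ D.diagonalSubgroup K := by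
    intro z' hz'
    have hzB : z' ∈ D.borelSubgroup K := by simpa using hz' 1 (one_mem _)
    have h1 : n₀⁻¹ * z' * n₀ ∈ D.borelSubgroup K := by simpa using hz' n₀⁻¹ (inv_mem hn₀G)
    have h2 : z' ∈ D.negUnipotent K ⊔ D.diagonalSubgroup K := by
      obtain ⟨u, hu, h, hh, huh⟩ := (mem_borel_iff D hD _).mp h1
      have e : z' = (n₀ * u * n₀⁻¹) * (n₀ * h * n₀⁻¹) := by
        have : n₀ * (u * h) * n₀⁻¹ = z' := by rw [huh]; group
        rw [← this]; group
      rw [e]
      exact mul_mem (Subgroup.mem_sup_left (hUV u hu))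
        (Subgroup.mem_sup_right (monomial_conj_diagonal hD C n₀ h hn₀N hh))
    rw [← (Cfsg.Agent.S1037.result D hD).2]
    exact Subgroup.mem_inf.mpr ⟨hzB, h2⟩
  have hzH := hH z hcore
  -- `z` commutes with the elements of `U ∩ G¹`
  have hcomm : ∀ u ∈ D.posUnipotent K, u ∈ Gtw hD C cfg φ → z * u * z⁻¹ = u := by
    intro u hu huG
    have h1 : u * z * u⁻¹ ∈ D.diagonalSubgroup K := by
      apply hH
      intro y hy
      have e : y * (u * z * u⁻¹) * y⁻¹ = (y * u) * z * (y * u)⁻¹ := by group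
      rw [e]
      exact hcore _ (mul_mem hy huG)
    have h2 : u * z * u⁻¹ * z⁻¹ ∈ D.diagonalSubgroup K := mul_mem h1 (inv_mem hzH)
    have h3 : z * u⁻¹ * z⁻¹ ∈ D.posUnipotent K :=
      ((Cfsg.Agent.S1036.result D hD).1 hzH u⁻¹).mp (inv_mem hu)
    have h4 : u * z * u⁻¹ * z⁻¹ ∈ D.posUnipotent K := by
      have e : u * z * u⁻¹ * z⁻¹ = u * (z * u⁻¹ * z⁻¹) := by group
      rw [e]; exact mul_mem hu h3
    have h5 : u * z * u⁻¹ * z⁻¹ ∈ D.posUnipotent K ⊓ D.diagonalSubgroup K := Subgroup.mem_inf.mpr ⟨h4, h2⟩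
    rw [(Cfsg.Agent.S1036.result D hD).2, Subgroup.mem_bot] at h5
    have e : z * u * z⁻¹ = (u * z * u⁻¹ * z⁻¹)⁻¹ * u := by group
    rw [e, h5]; group
  -- the diagonal form of `z`
  obtain ⟨c, hc, hzc⟩ := Cfsg.Agent.S1034.mem_diagonalSubgroup_torus D hD z hzH
  obtain ⟨hl, hnd, hall⟩ := repsOK_spec hD C cfg hcfg
  have hreps : ∀ s ∈ cfg.reps, s < D.nroots := fun s hs => reps_lt hD C cfg hcfg s hs
  set l := cfg.g.clsList cfg.m cfg.reps with hldef
  set t := cfL cfg.g φ cfg.m cfg.reps (fun _ => (1 : K)) with htdef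
  have htw : ∀ r ∈ l, t r = twT cfg.g φ cfg.m t r :=
    cfL_tw C cfg.g φ cfg.m hTw hm hφm cfg.reps hreps hnd _ (fun s _ _ => map_one φ)
  have huG : prodL hD l t ∈ Gtw hD C cfg φ := prodL_cls_mem_Gtw hD C cfg φ hcfg cfg.reps (fun s hs => hs) t htw
  have huU : prodL hD l t ∈ D.posUnipotent K := prodL_mem_posUnipotent hD l hl t
  have h6 := hcomm _ huU huG
  rw [torus_conj_prodL hD z c hc hzc l (fun r hr => (hl r hr).1) t] at h6
  have h7 := prodL_injective_of_fintype hD l hl hnd hall _ _ h6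
  -- the characters of the positive roots are trivial
  have hχpos : ∀ r, D.IsPosRoot r → chiFun (D := D) c r = 1 := by
    intro r hr
    have h8 := h7 r (hall r hr)
    have h9 : t r ≠ 0 := cfL_one_ne_zero cfg.g φ cfg.m cfg.reps r (hall r hr)
    have h10 : (chiFun (D := D) c r - 1) * t r = 0 := by rw [sub_mul, one_mul, h8, sub_self]
    rcases mul_eq_zero.mp h10 with e | e
    · exact sub_eq_zero.mp e
    · exact absurd e h9
  have hχ : ∀ (r : ℕ) (hr : r < D.nroots), torusFun D c (Sum.inr ⟨r, hr⟩) = 1 := by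
    intro r hr
    by_cases hpos : D.nroots / 2 ≤ r
    · have := hχpos r ((isPosRoot_iff hD r).mpr ⟨hr, hpos⟩)
      unfold chiFun at this
      rwa [dif_pos hr] at this
    · have hev := C.heven
      have hn := C.nroots_eq
      have e1 : D.neg r = D.nroots - 1 - r := by
        rw [C.neg_eq r hr]; unfold FastDatum.neg; omega
      have hnlt : D.neg r < D.nroots := by rw [e1]; omega
      have hnge : D.nroots / 2 ≤ D.neg r := by rw [e1]; omega
      have hnn : D.neg (D.neg r) = r := by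
        rw [C.neg_eq _ hnlt]; unfold FastDatum.neg; rw [e1]; omega
      have h11 := hχpos (D.neg r) ((isPosRoot_iff hD _).mpr ⟨hnlt, hnge⟩)
      unfold chiFun at h11
      rw [dif_pos hnlt] at h11
      have h12 := torusFun_neg D hD c (D.neg r) hnlt (by rw [hnn]; exact hr)
      rw [h11, inv_one] at h12
      have e : (⟨D.neg (D.neg r), by rw [hnn]; exact hr⟩ : Fin D.nroots) = ⟨r, hr⟩ := Fin.ext hnn
      rw [e] at h12
      exact h12
  apply Units.ext
  rw [hzc, Units.val_one, ← Matrix.diagonal_one]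
  congr 1
  funext j
  rcases j with k | s
  · rfl
  · exact hχ s.1 s.2

end Fin

end Cfsg.Agent.Lib.Helper18
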