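/-
helper18: the normal core of `B¹ = B ∩ G¹` in a twisted group `G¹` is trivial, from abstract hypotheses: `G¹` contains
the element `n_{w₀}` of a word making all the positive roots negative, and for every positive root an element of `U`
whose coefficient at this root does not vanish.
-/
import Cfsg.Agent.Lib.Helper18.Tw15

set_option autoImplicit false

namespace Cfsg.Agent.Lib.Helper18

open Cfsg.Lie Cfsg.Agent.Lib.Helper17

universe u

variable {K : Type u} [Field K] [Fintype K] {D : ChevalleyDatum}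

/-- An element all of whose conjugates under `G¹` lie in `B` is trivial. -/
theorem core_trivial_abs (hD : D ∈ [chevG2, chevB2, chevD4, chevF4, chevE6, chevE7, chevE8]) (C : ChevData.{u} D)
    (G1 : Subgroup (GL D.Idx K)) (ws₀ : List ℕ) (hws : ∀ i ∈ ws₀, i < D.rank) (hn₀G : nW hD C ws₀ ∈ G1)
    (hw₀ : ∀ r < D.nroots, D.nroots / 2 ≤ r → wordRootF C.tabs ws₀ r < D.nroots / 2)
    (l : List ℕ) (hl : ∀ r ∈ l, D.IsPosRoot r) (hnd : l.Nodup) (hall : ∀ r, D.IsPosRoot r → r ∈ l)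
    (hnz : ∀ r, D.IsPosRoot r → ∃ t : ℕ → K, prodL hD l t ∈ G1 ∧ t r ≠ 0)
    (z : GL D.Idx K) (hcore : ∀ y ∈ G1, y * z * y⁻¹ ∈ D.borelSubgroup K) : z = 1 := by
  set n₀ := nW (F := K) hD C ws₀ with hn₀def
  have hn₀N : n₀ ∈ D.monomialSubgroup K := nW_mem_monomial hD C _
  have hsign := signOK_of_mem D hD
  have hUV : ∀ u ∈ D.posUnipotent K, n₀ * u * n₀⁻¹ ∈ D.negUnipotent K := by
    intro u hu
    unfold ChevalleyDatum.posUnipotent at hu
    induction hu using Subgroup.closure_induction with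
    | mem x hx =>
      obtain ⟨r, t, hr, hx⟩ := hx
      have : x = xG hD r t := eq_xG hD _ r t hx
      rw [this, nW_conj_xG hD C _ hws r hr.1]
      have hpos := (isPosRoot_iff hD r).mp hr
      exact Subgroup.subset_closure ⟨_, _, isNegRoot_of_lt D hsign _ (wordRootF_lt C _ hws r hr.1)
        (hw₀ r hr.1 hpos.2), rfl⟩
    | one => simp
    | mul a b _ _ iha ihb =>
      have e : n₀ * (a * b) * n₀⁻¹ = (n₀ * a * n₀⁻¹) * (n₀ * b * n₀⁻¹) := by group
      rw [e]; exact mul_mem iha ihb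
    | inv a _ iha =>
      have e : n₀ * a⁻¹ * n₀⁻¹ = (n₀ * a * n₀⁻¹)⁻¹ := by group
      rw [e]; exact inv_mem iha
  have hH : ∀ z' : GL D.Idx K, (∀ y ∈ G1, y * z' * y⁻¹ ∈ D.borelSubgroup K) → z' ∈ D.diagonalSubgroup K := by
    intro z' hz'
    have hzB : z' ∈ D.borelSubgroup K := by simpa using hz' 1 (one_mem _)
    have h1 : n₀⁻¹ * z' * n₀ ∈ D.borelSubgroup K := by simpa using hz' n₀⁻¹ (inv_mem hn₀G)
    have h2 : z' ∈ D.negUnipotent K ⊔ D.diagonalSubgroup K := by
      obtain ⟨u, hu, h, hh, huh⟩ := (mem_borel_iff D hD _).mp h1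
      have e : z' = (n₀ * u * n₀⁻¹) * (n₀ * h * n₀⁻¹) := by
        have : n₀ * (u * h) * n₀⁻¹ = z' := by rw [huh]; group
        rw [← this]; group
      rw [e]
      exact mul_mem (Subgroup.mem_sup_left (hUV u hu))
        (Subgroup.mem_sup_right (monomial_conj_diagonal hD C n₀ h hn₀N hh))
    rw [← (Cfsg.Agent.S1037.result D hD).2]
    exact Subgroup.mem_inf.mpr ⟨hzB, h2⟩
  have hzH := hH z hcore
  have hcomm : ∀ u ∈ D.posUnipotent K, u ∈ G1 → z * u * z⁻¹ = u := by
    intro u hu huG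
    have h1 : u * z * u⁻¹ ∈ D.diagonalSubgroup K := by
      apply hH
      intro y hy
      have e : y * (u * z * u⁻¹) * y⁻¹ = (y * u) * z * (y * u)⁻¹ := by group
      rw [e]
      exact hcore _ (mul_mem hy huG)
    have h2 : u * z * u⁻¹ * z⁻¹ ∈ D.diagonalSubgroup K := mul_mem h1 (inv_mem hzH)
    have h3 : z * u⁻¹ * z⁻¹ ∈ D.posUnipotent K :=
      ((Cfsg.Agent.S1036.result D hD).1 hzH u⁻¹).mp (inv_mem hu)
    have h4 : u * z * u⁻¹ * z⁻¹ ∈ D.posUnipotent K := by
      have e : u * z * u⁻¹ * z⁻¹ = u * (z * u⁻¹ * z⁻¹) := by group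
      rw [e]; exact mul_mem hu h3
    have h5 : u * z * u⁻¹ * z⁻¹ ∈ D.posUnipotent K ⊓ D.diagonalSubgroup K := Subgroup.mem_inf.mpr ⟨h4, h2⟩
    rw [(Cfsg.Agent.S1036.result D hD).2, Subgroup.mem_bot] at h5
    have e : z * u * z⁻¹ = (u * z * u⁻¹ * z⁻¹)⁻¹ * u := by group
    rw [e, h5]; group
  obtain ⟨c, hc, hzc⟩ := Cfsg.Agent.S1034.mem_diagonalSubgroup_torus D hD z hzH
  have hχpos : ∀ r, D.IsPosRoot r → chiFun (D := D) c r = 1 := by
    intro r hr
    obtain ⟨t, htG, htr⟩ := hnz r hr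
    have h6 := hcomm _ (prodL_mem_posUnipotent hD l hl t) htG
    rw [torus_conj_prodL hD z c hc hzc l (fun r hr => (hl r hr).1) t] at h6
    have h7 := prodL_injective_of_fintype hD l hl hnd hall _ _ h6
    have h8 := h7 r (hall r hr)
    have h10 : (chiFun (D := D) c r - 1) * t r = 0 := by rw [sub_mul, one_mul, h8, sub_self]
    rcases mul_eq_zero.mp h10 with e | e
    · exact sub_eq_zero.mp e
    · exact absurd e htr
  have hχ : ∀ (r : ℕ) (hr : r < D.nroots), torusFun D c (Sum.inr ⟨r, hr⟩) = 1 := by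
    intro r hr
    by_cases hpos : D.nroots / 2 ≤ r
    · have := hχpos r ((isPosRoot_iff hD r).mpr ⟨hr, hpos⟩)
      unfold chiFun at this
      rwa [dif_pos hr] at this
    · have hev := C.heven
      have hn := C.nroots_eq
      have e1 : D.neg r = D.nroots - 1 - r := by
        rw [C.neg_eq r hr]; unfold FastDatum.neg; omega
      have hnlt : D.neg r < D.nroots := by rw [e1]; omega
      have hnge : D.nroots / 2 ≤ D.neg r := by rw [e1]; omega
      have hnn : D.neg (D.neg r) = r := by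
        rw [C.neg_eq _ hnlt]; unfold FastDatum.neg; rw [e1]; omega
      have h11 := hχpos (D.neg r) ((isPosRoot_iff hD _).mpr ⟨hnlt, hnge⟩)
      unfold chiFun at h11
      rw [dif_pos hnlt] at h11
      have h12 := torusFun_neg D hD c (D.neg r) hnlt (by rw [hnn]; exact hr)
      rw [h11, inv_one] at h12
      have e : (⟨D.neg (D.neg r), by rw [hnn]; exact hr⟩ : Fin D.nroots) = ⟨r, hr⟩ := Fin.ext hnn
      rw [e] at h12
      exact h12
  apply Units.ext
  rw [hzc, Units.val_one, ← Matrix.diagonal_one]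
  congr 1
  funext j
  rcases j with k | s
  · rfl
  · exact hχ s.1 s.2

/-- The core of `B¹` in the form of the statements. -/
theorem normalCore_eq_bot_abs (hD : D ∈ [chevG2, chevB2, chevD4, chevF4, chevE6, chevE7, chevE8]) (C : ChevData.{u} D)
    (G1 : Subgroup (GL D.Idx K)) (ws₀ : List ℕ) (hws : ∀ i ∈ ws₀, i < D.rank) (hn₀G : nW hD C ws₀ ∈ G1)
    (hw₀ : ∀ r < D.nroots, D.nroots / 2 ≤ r → wordRootF C.tabs ws₀ r < D.nroots / 2)
    (l : List ℕ) (hl : ∀ r ∈ l, D.IsPosRoot r) (hnd : l.Nodup) (hall : ∀ r, D.IsPosRoot r → r ∈ l)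
    (hnz : ∀ r, D.IsPosRoot r → ∃ t : ℕ → K, prodL hD l t ∈ G1 ∧ t r ≠ 0) :
    ((D.borelSubgroup K ⊓ G1).subgroupOf G1).normalCore = ⊥ := by
  rw [eq_bot_iff]
  intro z hz
  rw [Subgroup.mem_bot]
  apply Subtype.ext
  show (z : GL D.Idx K) = 1
  apply core_trivial_abs hD C G1 ws₀ hws hn₀G hw₀ l hl hnd hall hnz
  intro y hy
  have := hz ⟨y, hy⟩
  rw [Subgroup.mem_subgroupOf] at this
  exact (Subgroup.mem_inf.mp this).1

end Cfsg.Agent.Lib.Helper18
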