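/-
helper18: the normal core of `B¹` in `²F₄` is trivial.
-/
import Cfsg.Agent.Lib.Helper18.F4I
import Cfsg.Agent.Lib.Helper18.TwAbs2

set_option autoImplicit false

namespace Cfsg.Agent.Lib.Helper18.F4T

open Cfsg.Lie Cfsg.Agent.Lib.Helper18 Cfsg.Agent.Lib.Helper91.ReeF4 Cfsg.Agent.Lib.Helper91.SigAbs
open Cfsg.Agent.Lib.Helper91.ExcAut

universe u

/-- The word in the classes of the longest element. -/
def f4Long : List ℕ := [1, 0, 1, 0, 1, 0, 1, 0]

set_option maxRecDepth 100000 in
theorem f4Long_spec : ∀ r < 48, 24 ≤ r → wordRootF f4tabs (wordJ f4Long) r < 24 := by decide +kernel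

section Cf

variable {K : Type u} [Field K] [CharP K 2]

/-- For every root of a class there are parameters whose class word has a non-zero coefficient at this root. -/
theorem Blk.exists_cf_ne_zero (e : ℕ) (he : e ≠ 0) (B : Blk) (hnd : B.roots.Nodup) (s : ℕ) (hs : s ∈ B.roots) :
    ∃ p : ℕ → K, B.cf e p s ≠ 0 := by
  cases B with
  | pair r rb =>
    refine ⟨fun _ => 1, ?_⟩
    simp only [Blk.cf]
    split_ifs <;> simp
  | quad a b ab aab =>
    simp only [Blk.roots, List.nodup_cons, List.mem_cons, List.not_mem_nil, or_false, not_or, List.nodup_nil,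
      and_true, not_false_eq_true] at hnd
    obtain ⟨⟨n1, n2, n3⟩, ⟨n4, n5⟩, n6⟩ := hnd
    simp only [Blk.roots, List.mem_cons, List.not_mem_nil, or_false] at hs
    by_cases h4 : s = aab
    · refine ⟨fun x => if x = ab then 1 else 0, ?_⟩
      have haaba : s ≠ a := fun h => n3 (h4 ▸ h).symm
      have haabb : s ≠ b := fun h => n5 (h4 ▸ h).symm
      have haabab : s ≠ ab := fun h => n6 (h4 ▸ h).symm
      have hbab : b ≠ ab := n4
      simp only [Blk.cf, if_neg haaba, if_neg haabb, if_neg haabab, if_true, if_neg hbab,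
        zero_pow (Nat.succ_ne_zero e), add_zero, one_pow]
      exact one_ne_zero
    · refine ⟨fun _ => 1, ?_⟩
      rcases hs with rfl | rfl | rfl | rfl
      · simp only [Blk.cf, if_true, one_pow]; exact one_ne_zero
      · have hba : s ≠ a := fun h => n1 h.symm
        simp only [Blk.cf, if_neg hba, if_true]; exact one_ne_zero
      · have haba : s ≠ a := fun h => n2 h.symm
        have habb : s ≠ b := fun h => n4 h.symm
        simp only [Blk.cf, if_neg haba, if_neg habb, if_true]; exact one_ne_zero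
      · exact absurd rfl h4

end Cf

section Fix

variable (K : Type u) [Field K] [Fintype K] [CharP K 2] (m : ℕ) (hq : ∀ t : K, t ^ (2 * 2 ^ m * 2 ^ m) = t)

/-- The normal core of `B¹` in `²F₄` is trivial. -/
theorem normalCore_f4 :
    ((chevF4.borelSubgroup K ⊓ twistedF4 K (2 ^ m)).subgroupOf (twistedF4 K (2 ^ m))).normalCore = ⊥ := by
  have he : (2 : ℕ) ^ m ≠ 0 := pow_ne_zero _ (by norm_num)
  obtain ⟨hok, hnd, hl, hall, hmem⟩ := perm_facts posBlks (List.Perm.refl _)
  have hndB : ∀ B ∈ posBlks, B.roots.Nodup := fun B hB => B.roots_nodup (hok B hB)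
  apply normalCore_eq_bot_abs hD4 chevData_F4.{u} (twistedF4 K (2 ^ m)) (wordJ f4Long) (wordJ_lt _)
    (nW_wordJ_mem K (2 ^ m) he f4Long) (fun r hr h => by rw [f4tabs_eq]; exact f4Long_spec r hr h)
    (rootsL posBlks) hl hnd hall
  intro r hr
  obtain ⟨B, hB, hrB⟩ := (mem_rootsL posBlks r).mp (hall r hr)
  obtain ⟨p, hp⟩ := Blk.exists_cf_ne_zero (K := K) (2 ^ m) he B (hndB B hB) r hrB
  refine ⟨cfL (2 ^ m) posBlks p, prodL_cfL_mem K (2 ^ m) he posBlks hmem hnd hndB p, ?_⟩
  rw [cfL_of_mem (2 ^ m) posBlks hnd p B hB r hrB]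
  exact hp

end Fix

end Cfsg.Agent.Lib.Helper18.F4T
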