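/-
helper18: the Weyl group `N¹ / H¹` of a twisted group (abstract machine): the homomorphism of `N¹` onto the group of
permutations of the roots generated by the permutations of the words `J`, with kernel `H¹`.
-/
import Cfsg.Agent.Lib.Helper18.TwAbs
import Cfsg.Agent.Lib.Helper18.Cox1

set_option autoImplicit false

namespace Cfsg.Agent.Lib.Helper18

open Cfsg.Lie Cfsg.Agent.Lib.Helper17

universe u

variable {K : Type u} [Field K] {D : ChevalleyDatum}

namespace TwAbs

variable {hD : D ∈ [chevG2, chevB2, chevD4, chevF4, chevE6, chevE7, chevE8]} {C : ChevData.{u} D}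
  {G1 : Subgroup (GL D.Idx K)} {Js : List (List ℕ)} (T : TwAbs hD C G1 Js)

/-- The Weyl group of the twisted group, as a group of permutations of the roots. -/
def W1 (_ : TwAbs hD C G1 Js) : Subgroup (Equiv.Perm (Fin D.nroots)) :=
  Subgroup.closure {p | ∃ J ∈ Js, p = wordPerm C J}

include T

theorem permHom_nJ (J : List ℕ) (hJ : J ∈ Js) :
    permHom (F := K) hD C ⟨nW hD C J, nW_mem_monomial hD C _⟩ = wordPerm C J :=
  permHom_apply hD C _ _ (T.Js_lt J hJ) 1 (one_mem _) (by simp)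

/-- The permutation of an element of `N¹` lies in `W¹`. -/
theorem permHom_mem_W1 (x : ↥(D.monomialSubgroup K ⊓ G1)) :
    permHom hD C (Subgroup.inclusion inf_le_left x) ∈ T.W1 := by
  obtain ⟨w, hw, h, hh, e⟩ := T.exists_word_of_mem_monomial x.1 x.2
  have hcl : Subgroup.closure T.S ≤ ((T.W1).comap (permHom (F := K) hD C)).map (D.monomialSubgroup K).subtype := by
    rw [Subgroup.closure_le]
    rintro y ⟨J, hJ, rfl⟩
    refine ⟨⟨nW hD C J, nW_mem_monomial hD C _⟩, ?_, rfl⟩
    show permHom hD C _ ∈ T.W1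
    rw [T.permHom_nJ J hJ]
    exact Subgroup.subset_closure ⟨J, hJ, rfl⟩
  obtain ⟨w', hw', ew⟩ := hcl hw
  have hw'' : permHom hD C w' ∈ T.W1 := hw'
  have hhN : h ∈ D.monomialSubgroup K := diagonal_le_monomial hD hh.1
  have hx : Subgroup.inclusion inf_le_left x = w' * ⟨h, hhN⟩ := by
    apply Subtype.ext
    rw [Subgroup.coe_mul]
    show x.1 = _
    rw [e, ← ew]
    rfl
  rw [hx, map_mul]
  have hker : (⟨h, hhN⟩ : ↥(D.monomialSubgroup K)) ∈ (permHom (F := K) hD C).ker := by
    rw [permHom_ker, Subgroup.mem_subgroupOf]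
    exact hh.1
  rw [MonoidHom.mem_ker.mp hker, mul_one]
  exact hw''

/-- `N¹ / H¹ ≅ W¹`. -/
theorem exists_weyl_hom :
    ∃ f : ↥(D.monomialSubgroup K ⊓ G1) →* ↥T.W1, Function.Surjective f ∧
      f.ker = (D.diagonalSubgroup K ⊓ G1).subgroupOf (D.monomialSubgroup K ⊓ G1) := by
  let π : ↥(D.monomialSubgroup K ⊓ G1) →* Equiv.Perm (Fin D.nroots) :=
    (permHom hD C).comp (Subgroup.inclusion inf_le_left)
  let π' : ↥(D.monomialSubgroup K ⊓ G1) →* ↥T.W1 := π.codRestrict T.W1 T.permHom_mem_W1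
  refine ⟨π', ?_, ?_⟩
  · have hle : T.W1 ≤ π.range := by
      unfold W1
      rw [Subgroup.closure_le]
      rintro _ ⟨J, hJ, rfl⟩
      refine ⟨⟨nW hD C J, Subgroup.mem_inf.mpr ⟨nW_mem_monomial hD C _, T.nJ_mem J hJ⟩⟩, ?_⟩
      exact T.permHom_nJ J hJ
    intro x
    obtain ⟨y, hy⟩ := hle x.2
    exact ⟨y, Subtype.ext hy⟩
  · ext x
    rw [MonoidHom.mem_ker, Subgroup.mem_subgroupOf]
    have h1 : π' x = 1 ↔ permHom hD C (Subgroup.inclusion inf_le_left x) = 1 := by
      constructor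
      · intro h
        exact congrArg Subtype.val h
      · intro h
        exact Subtype.ext h
    rw [h1, ← MonoidHom.mem_ker, permHom_ker, Subgroup.mem_subgroupOf, Subgroup.mem_inf]
    constructor
    · intro h
      exact ⟨h, x.2.2⟩
    · intro h
      exact h.1

end TwAbs

end Cfsg.Agent.Lib.Helper18
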