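/-
helper18: the Weyl group `N¹ / H¹` of `²F₄` is dihedral of order 16.
-/
import Cfsg.Agent.Lib.Helper18.F4I
import Cfsg.Agent.Lib.Helper18.TwAbs3
import Cfsg.Agent.Lib.Helper99.DihGen

set_option autoImplicit false

namespace Cfsg.Agent.Lib.Helper18.F4T

open Cfsg.Lie Cfsg.Agent.Lib.Helper18 Cfsg.Agent.Lib.Helper91.ReeF4 Cfsg.Agent.Lib.Helper91.SigAbs
open Cfsg.Agent.Lib.Helper91.ExcAut

universe u

/-- The word of the product of the two generators of the Weyl group. -/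
def f4cw : List ℕ := [0, 3, 1, 2, 1, 2]

set_option maxRecDepth 100000 in
theorem f4cw_pow8 : ∀ r < 48, wordRootF f4tabs (f4cw ++ (f4cw ++ (f4cw ++ (f4cw ++ (f4cw ++ (f4cw ++ (f4cw ++ f4cw))))))) r = r := by
  decide +kernel

set_option maxRecDepth 100000 in
theorem f4cw_pow4 : wordRootF f4tabs (f4cw ++ (f4cw ++ (f4cw ++ f4cw))) 33 ≠ 33 := by decide +kernel

theorem f4cw_lt : ∀ i ∈ f4cw, i < chevF4.rank := by decide

theorem wordPerm_eq_one (ws : List ℕ) (hws : ∀ i ∈ ws, i < chevF4.rank)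
    (h : ∀ r < 48, wordRootF f4tabs ws r = r) : wordPerm chevData_F4.{u} ws = 1 := by
  ext r
  rw [wordPerm_apply _ _ hws, f4tabs_eq, h r.val r.isLt]
  rfl

theorem f4_aa : wordPerm chevData_F4.{u} [0, 3] * wordPerm chevData_F4.{u} [0, 3] = 1 := by
  rw [← wordPerm_append]
  exact wordPerm_eq_one _ (by decide) (f4Js_sq [0, 3] (by simp [f4Js]))

theorem f4_bb : wordPerm chevData_F4.{u} [1, 2, 1, 2] * wordPerm chevData_F4.{u} [1, 2, 1, 2] = 1 := by
  rw [← wordPerm_append]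
  exact wordPerm_eq_one _ (by decide) (f4Js_sq [1, 2, 1, 2] (by simp [f4Js]))

theorem f4_order : orderOf (wordPerm chevData_F4.{u} [0, 3] * wordPerm chevData_F4.{u} [1, 2, 1, 2]) = 8 := by
  have e : wordPerm chevData_F4.{u} [0, 3] * wordPerm chevData_F4.{u} [1, 2, 1, 2]
      = wordPerm chevData_F4.{u} f4cw := by
    rw [← wordPerm_append]; rfl
  rw [e]
  haveI : Fact (Nat.Prime 2) := ⟨Nat.prime_two⟩
  have h8 : wordPerm chevData_F4.{u} f4cw ^ 2 ^ (2 + 1) = 1 := by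
    have e8 : wordPerm chevData_F4.{u} f4cw ^ 2 ^ (2 + 1)
        = wordPerm chevData_F4.{u} (f4cw ++ (f4cw ++ (f4cw ++ (f4cw ++ (f4cw ++ (f4cw ++ (f4cw ++ f4cw))))))) := by
      rw [show (2 : ℕ) ^ (2 + 1) = 8 by norm_num]
      simp only [wordPerm_append, pow_succ, pow_zero, one_mul, mul_assoc]
    rw [e8]
    exact wordPerm_eq_one _ (by decide) f4cw_pow8
  have h4 : ¬ wordPerm chevData_F4.{u} f4cw ^ 2 ^ 2 = 1 := by
    have e4 : wordPerm chevData_F4.{u} f4cw ^ 2 ^ 2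
        = wordPerm chevData_F4.{u} (f4cw ++ (f4cw ++ (f4cw ++ f4cw))) := by
      rw [show (2 : ℕ) ^ 2 = 4 by norm_num]
      simp only [wordPerm_append, pow_succ, pow_zero, one_mul, mul_assoc]
    rw [e4]
    intro h
    have h1 : ((wordPerm chevData_F4.{u} (f4cw ++ (f4cw ++ (f4cw ++ f4cw)))) ⟨33, by decide⟩).val = 33 := by
      rw [h]; rfl
    rw [wordPerm_apply _ _ (by decide), f4tabs_eq] at h1
    exact f4cw_pow4 h1
  exact orderOf_eq_prime_pow h4 h8

section Fix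

variable (K : Type u) [Field K] [Fintype K] [CharP K 2] (m : ℕ) (hq : ∀ t : K, t ^ (2 * 2 ^ m * 2 ^ m) = t)

include hq in
/-- `N¹ / H¹ ≅ D₁₆`. -/
theorem exists_dihedral_hom :
    ∃ φ : ↥(chevF4.monomialSubgroup K ⊓ twistedF4 K (2 ^ m)) →* DihedralGroup 8, Function.Surjective φ ∧
      φ.ker = (chevF4.diagonalSubgroup K ⊓ twistedF4 K (2 ^ m)).subgroupOf
        (chevF4.monomialSubgroup K ⊓ twistedF4 K (2 ^ m)) := by
  have T := f4TwAbs K m hq
  obtain ⟨f, hf, hker⟩ := T.exists_weyl_hom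
  have hW : T.W1 = Subgroup.closure ({wordPerm chevData_F4.{u} [0, 3], wordPerm chevData_F4.{u} [1, 2, 1, 2]} :
      Set (Equiv.Perm (Fin chevF4.nroots))) := by
    unfold TwAbs.W1
    congr 1
    ext p
    simp [f4Js]
  obtain ⟨e⟩ := Cfsg.Agent.Lib.Helper99.DihGen.exists_mulEquiv_dihedral
    (wordPerm chevData_F4.{u} [0, 3]) (wordPerm chevData_F4.{u} [1, 2, 1, 2]) 8 (by norm_num) f4_aa f4_bb f4_order
  let e' : ↥T.W1 ≃* DihedralGroup 8 := (MulEquiv.subgroupCongr hW).trans e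
  refine ⟨e'.toMonoidHom.comp f, ?_, ?_⟩
  · exact e'.surjective.comp hf
  · rw [← hker]
    ext x
    rw [MonoidHom.mem_ker, MonoidHom.mem_ker, MonoidHom.comp_apply]
    exact e'.map_eq_one_iff

end Fix

end Cfsg.Agent.Lib.Helper18.F4T
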