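/-
helper18: the elements `n_{p_j}(t)`, `h_{p_j}(t)` of the general linear group, the torus element of a class of
fundamental roots of a twisted group, and the resulting commutator expression of the root elements of the class.
-/
import Cfsg.Agent.Lib.Helper18.Tw15
import Cfsg.Agent.Lib.Helper18.HMul
import Cfsg.Agent.S1032

set_option autoImplicit false

namespace Cfsg.Agent.Lib.Helper18

open Cfsg.Lie Cfsg.Agent.Lib.Helper17

universe u

variable {K : Type u} [Field K] {D : ChevalleyDatum}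

section Grp

variable {G : Type*} [Group G]

/-- For families with `B i` commuting with `A j` (`i ≠ j`), `∏ (A_i B_i) = (∏ A_i)(∏ B_i)`. -/
theorem prod_pair {ι : Type*} (L : List ι) (A B : ι → G) (hnd : L.Nodup)
    (hBA : ∀ i ∈ L, ∀ j ∈ L, i ≠ j → Commute (B i) (A j)) :
    (L.map fun i => A i * B i).prod = (L.map A).prod * (L.map B).prod := by
  induction L with
  | nil => simp
  | cons i L ih =>
    rw [List.nodup_cons] at hnd
    have hne : ∀ j ∈ L, i ≠ j := fun j hj e => hnd.1 (e ▸ hj)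
    have ih' := ih hnd.2 (fun a ha b hb => hBA a (List.mem_cons_of_mem _ ha) b (List.mem_cons_of_mem _ hb))
    have c1 : Commute (B i) (L.map A).prod := Commute.list_prod_right _ _ (by
      intro x hx
      rw [List.mem_map] at hx
      obtain ⟨j, hj, rfl⟩ := hx
      exact hBA i List.mem_cons_self j (List.mem_cons_of_mem _ hj) (hne j hj))
    simp only [List.map_cons, List.prod_cons]
    rw [ih']
    calc A i * B i * ((L.map A).prod * (L.map B).prod)
        = A i * (B i * (L.map A).prod) * (L.map B).prod := by group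
      _ = A i * ((L.map A).prod * B i) * (L.map B).prod := by rw [c1.eq]
      _ = _ := by group

end Grp

section

variable (hD : D ∈ [chevG2, chevB2, chevD4, chevF4, chevE6, chevE7, chevE8]) (C : ChevData.{u} D)

/-- `n_{p_j}(t) = x_{p_j}(t) x_{-p_j}(-t⁻¹) x_{p_j}(t)`. -/
noncomputable def nPt (j : ℕ) (t : K) : GL D.Idx K :=
  xG hD (D.simple j) t * xG hD (D.neg (D.simple j)) (-t⁻¹) * xG hD (D.simple j) t

theorem coe_nPt (j : ℕ) (t : K) : ((nPt hD j t : GL D.Idx K) : Matrix D.Idx D.Idx K) = D.nMat K (D.simple j) t := by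
  unfold nPt
  rw [Units.val_mul, Units.val_mul, coe_xG, coe_xG, nMat_eq]

theorem nPt_one (j : ℕ) (hj : j < D.rank) : nPt (K := K) hD j 1 = sG hD C j := by
  rw [sG_eq hD C j hj]
  unfold nPt
  rw [inv_one]

/-- `h_{p_j}(t) = n_{p_j}(t) n_{p_j}(1)⁻¹`. -/
noncomputable def hPt (j : ℕ) (t : K) : GL D.Idx K := nPt hD j t * (sG hD C j)⁻¹

theorem nPt_eq_hPt_mul (j : ℕ) (t : K) : nPt hD j t = hPt hD C j t * sG hD C j := by
  unfold hPt; group

theorem coe_hPt (j : ℕ) (hj : j < D.rank) (t : K) :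
    ((hPt hD C j t : GL D.Idx K) : Matrix D.Idx D.Idx K) = D.hMat K (D.simple j) t := by
  have h1 : ((hPt hD C j t * sG hD C j : GL D.Idx K) : Matrix D.Idx D.Idx K)
      = D.hMat K (D.simple j) t * ((sG hD C j : GL D.Idx K) : Matrix D.Idx D.Idx K) := by
    rw [← nPt_eq_hPt_mul, coe_nPt, coe_sG hD C j hj]
    exact nMat_eq_hMat_mul hD _ (C.simple_lt j hj) t
  rw [Units.val_mul] at h1
  have h2 := congrArg (fun M => M * ((sG hD C j)⁻¹ : GL D.Idx K).1) h1
  simp only [mul_assoc] at h2
  rw [← Units.val_mul, mul_inv_cancel, Units.val_one, mul_one, mul_one] at h2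
  exact h2

theorem hPt_mem_diagonal (j : ℕ) (hj : j < D.rank) (t : K) (ht : t ≠ 0) : hPt hD C j t ∈ D.diagonalSubgroup K :=
  Subgroup.subset_closure ⟨D.simple j, t, C.simple_lt j hj, ht, coe_hPt hD C j hj t⟩

theorem hPt_conj_xG (j : ℕ) (hj : j < D.rank) (t : K) (ht : t ≠ 0) (s : ℕ) (hs : s < D.nroots) (a : K) :
    hPt hD C j t * xG hD s a * (hPt hD C j t)⁻¹ = xG hD s (t ^ (D.cartan j s) * a) := by
  have h1 : hPt hD C j t * xG hD s a = xG hD s (t ^ (D.cartan j s) * a) * hPt hD C j t := by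
    apply Units.ext
    rw [Units.val_mul, Units.val_mul, coe_hPt hD C j hj, coe_xG, coe_xG]
    exact Cfsg.Agent.S1032.result D hD j s hj hs t ht a
  rw [h1]; group

end

end Cfsg.Agent.Lib.Helper18
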