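/-
helper18: the torus element of a class of fundamental roots of a twisted group, and the expression of the root
elements of the class as commutators.
-/
import Cfsg.Agent.Lib.Helper18.Tw16

set_option autoImplicit false

namespace Cfsg.Agent.Lib.Helper18

open Cfsg.Lie Cfsg.Agent.Lib.Helper17

universe u

open scoped commutatorElement

variable {K : Type u} [Field K] {D : ChevalleyDatum}

section Grp

variable {G : Type*} [Group G]

theorem commute_closure (S T : Set G) (h : ∀ x ∈ S, ∀ y ∈ T, Commute x y) :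
    ∀ x ∈ Subgroup.closure S, ∀ y ∈ Subgroup.closure T, Commute x y := by
  have h1 : ∀ x ∈ S, ∀ y ∈ Subgroup.closure T, Commute x y := by
    intro x hx y hy
    induction hy using Subgroup.closure_induction with
    | mem y hy => exact h x hx y hy
    | one => exact Commute.one_right x
    | mul a b _ _ iha ihb => exact iha.mul_right ihb
    | inv a _ iha => exact iha.inv_right
  intro x hx y hy
  induction hx using Subgroup.closure_induction with
  | mem x hx => exact h1 x hx y hy
  | one => exact Commute.one_left y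
  | mul a b _ _ iha ihb => exact iha.mul_left ihb
  | inv a _ iha => exact iha.inv_left

end Grp

namespace TwCfg

variable (cfg : TwCfg)

/-- The Cartan integers inside the classes of fundamental roots, and the classes have no repetition. -/
def torOK (T : FastDatum) (simples : List ℕ) : Bool :=
  (List.range cfg.classes.length).all fun k =>
    let J := cfg.classes.getD k []
    let s := cfg.pgens.getD k 0
    decide (cfg.g.orb cfg.m s).Nodup && decide (cfg.g.orb cfg.m (T.neg s)).Nodup &&
    J.all fun j => J.all fun j' =>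
      (T.cartan j (simples.getD j' 0) == if j = j' then 2 else 0)
      && (T.cartan j (T.neg (simples.getD j' 0)) == if j = j' then -2 else 0)

end TwCfg

section Comm

variable (hD : D ∈ [chevG2, chevB2, chevD4, chevF4, chevE6, chevE7, chevE8]) (C : ChevData.{u} D)
  (cfg : TwCfg) (φ : K ≃+* K)

/-- The image in the general linear group of the commutator subgroup of the twisted group. -/
def twCommImage : Subgroup (GL D.Idx K) :=
  (commutator ↥(Gtw hD C cfg φ)).map (Gtw hD C cfg φ).subtype

theorem tw_commutator_mem (g₁ g₂ : GL D.Idx K) (h₁ : g₁ ∈ Gtw hD C cfg φ) (h₂ : g₂ ∈ Gtw hD C cfg φ) :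
    g₁ * g₂ * g₁⁻¹ * g₂⁻¹ ∈ twCommImage hD C cfg φ := by
  refine ⟨⁅(⟨g₁, h₁⟩ : ↥(Gtw hD C cfg φ)), ⟨g₂, h₂⟩⁆, ?_, rfl⟩
  rw [SetLike.mem_coe, commutator_def]
  exact Subgroup.commutator_mem_commutator (Subgroup.mem_top _) (Subgroup.mem_top _)

theorem tw_conj_mem (g x : GL D.Idx K) (hg : g ∈ Gtw hD C cfg φ) (hx : x ∈ twCommImage hD C cfg φ) :
    g * x * g⁻¹ ∈ twCommImage hD C cfg φ := by
  obtain ⟨x', hx', rfl⟩ := hx
  refine ⟨⟨g, hg⟩ * x' * ⟨g, hg⟩⁻¹, ?_, rfl⟩
  have hn : (commutator ↥(Gtw hD C cfg φ)).Normal := by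
    rw [commutator_def]; infer_instance
  exact hn.conj_mem x' hx' _

theorem twCommImage_le : twCommImage hD C cfg φ ≤ Gtw hD C cfg φ := by
  rintro x ⟨x', -, rfl⟩
  exact x'.2

/-- If every generator is a product of commutators, the twisted group is perfect. -/
theorem tw_commutator_eq_top_of_forall
    (h : ∀ x ∈ twGenSet hD C cfg φ, x ∈ twCommImage hD C cfg φ) : commutator ↥(Gtw hD C cfg φ) = ⊤ := by
  rw [eq_top_iff]
  intro g _
  have h1 : Gtw hD C cfg φ ≤ twCommImage hD C cfg φ := by
    unfold Gtw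
    rw [Subgroup.closure_le]
    exact h
  obtain ⟨g', hg', hgg⟩ := h1 g.2
  have : g' = g := Subtype.ext hgg
  rw [← this]
  exact hg'

end Comm

section

variable (hD : D ∈ [chevG2, chevB2, chevD4, chevF4, chevE6, chevE7, chevE8])

/-- Additivity of the ordered products over a list of pairwise commuting roots. -/
theorem prodL_add (l : List ℕ)
    (hcomm : ∀ r ∈ l, ∀ r' ∈ l, r ≠ r' → ∀ a b : K, Commute (xG hD r a) (xG hD r' b)) (hnd : l.Nodup)
    (t t' : ℕ → K) : prodL hD l (fun r => t r + t' r) = prodL hD l t * prodL hD l t' := by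
  induction l with
  | nil => simp [prodL_nil]
  | cons a l ih =>
    rw [List.nodup_cons] at hnd
    rw [prodL_cons, prodL_cons, prodL_cons, ih (fun r hr r' hr' => hcomm r (List.mem_cons_of_mem _ hr) r'
      (List.mem_cons_of_mem _ hr')) hnd.2, ← xG_mul]
    have c1 : Commute (xG hD a (t' a)) (prodL hD l t) := by
      unfold prodL
      apply Commute.list_prod_right
      intro x hx
      rw [List.mem_map] at hx
      obtain ⟨r, hr, rfl⟩ := hx
      exact hcomm a List.mem_cons_self r (List.mem_cons_of_mem _ hr) (fun e => hnd.1 (e ▸ hr)) _ _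
    calc xG hD a (t a) * xG hD a (t' a) * (prodL hD l t * prodL hD l t')
        = xG hD a (t a) * (xG hD a (t' a) * prodL hD l t) * prodL hD l t' := by group
      _ = xG hD a (t a) * (prodL hD l t * xG hD a (t' a)) * prodL hD l t' := by rw [c1.eq]
      _ = _ := by group

/-- Conjugation of an ordered product by an element acting on the root elements by scalars. -/
theorem conj_prodL_of (h : GL D.Idx K) (χ : ℕ → K) (l : List ℕ)
    (hconj : ∀ r ∈ l, ∀ a : K, h * xG hD r a * h⁻¹ = xG hD r (χ r * a)) (t : ℕ → K) :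
    h * prodL hD l t * h⁻¹ = prodL hD l (fun r => χ r * t r) := by
  induction l with
  | nil => simp [prodL_nil]
  | cons a l ih =>
    rw [prodL_cons, prodL_cons, ← ih fun r hr => hconj r (List.mem_cons_of_mem _ hr),
      ← hconj a List.mem_cons_self]
    group

end

section Fin

variable (hD : D ∈ [chevG2, chevB2, chevD4, chevF4, chevE6, chevE7, chevE8]) (C : ChevData.{u} D)
  (cfg : TwCfg) (φ : K ≃+* K)

/-- The torus trick: if `h ∈ G¹` acts on the root elements of a class by scalars different from one (compatibly with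
the twisting), the elements of the twisted group over this class are commutators. -/
theorem torus_trick (s : ℕ) (hs : s ∈ cfg.genRoots C.T) (h : GL D.Idx K) (hh : h ∈ Gtw hD C cfg φ) (χ : ℕ → K)
    (hconj : ∀ r ∈ cfg.g.orb cfg.m s, ∀ a : K, h * xG hD r a * h⁻¹ = xG hD r (χ r * a))
    (hχ1 : ∀ r ∈ cfg.g.orb cfg.m s, χ r ≠ 1)
    (hχtw : ∀ r ∈ cfg.g.orb cfg.m s, χ r = φ (χ (cfg.g.rho^[cfg.m - 1] r)))
    (hcomm : ∀ r ∈ cfg.g.orb cfg.m s, ∀ r' ∈ cfg.g.orb cfg.m s, r ≠ r' →
      ∀ a b : K, Commute (xG hD r a) (xG hD r' b))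
    (hnd : (cfg.g.orb cfg.m s).Nodup)
    (c : ℕ → K) (hc : ∀ r ∈ cfg.g.orb cfg.m s, c r = twT cfg.g φ cfg.m c r) :
    prodL hD (cfg.g.orb cfg.m s) c ∈ twCommImage hD C cfg φ := by
  set l := cfg.g.orb cfg.m s with hl
  let c' : ℕ → K := fun r => c r / (χ r - 1)
  have hne : ∀ r ∈ l, χ r - 1 ≠ 0 := fun r hr => sub_ne_zero.mpr (hχ1 r hr)
  have hc' : ∀ r ∈ l, c' r = twT cfg.g φ cfg.m c' r := by
    intro r hr
    show c r / (χ r - 1) = _
    unfold twT
    show _ = ((cfg.g.gam (cfg.g.rho^[cfg.m - 1] r) : ℤ) : K)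
      * φ (c (cfg.g.rho^[cfg.m - 1] r) / (χ (cfg.g.rho^[cfg.m - 1] r) - 1))
    rw [map_div₀, map_sub, map_one, ← hχtw r hr, ← mul_div_assoc]
    congr 1
    exact hc r hr
  have hx'G : prodL hD l c' ∈ Gtw hD C cfg φ := Subgroup.subset_closure ⟨s, hs, c', hc', rfl⟩
  have h1 : h * prodL hD l c' * h⁻¹ = prodL hD l (fun r => c r + c' r) := by
    rw [conj_prodL_of hD h χ l hconj c']
    apply prodL_congr
    intro r hr
    show χ r * (c r / (χ r - 1)) = c r + c r / (χ r - 1)
    have := hne r hr
    field_simp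
    ring
  rw [prodL_add hD l hcomm hnd] at h1
  have h2 : prodL hD l c = h * prodL hD l c' * h⁻¹ * (prodL hD l c')⁻¹ := by
    rw [h1]; group
  rw [h2]
  exact tw_commutator_mem hD C cfg φ _ _ hh hx'G

end Fin

end Cfsg.Agent.Lib.Helper18
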