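/-
helper18: the torus element of a class of fundamental roots lies in the twisted group and acts on the root elements of
the class by squares; the root elements of a class which is not fixed are commutators.
-/
import Cfsg.Agent.Lib.Helper18.Tw17

set_option autoImplicit false

namespace Cfsg.Agent.Lib.Helper18

open Cfsg.Lie Cfsg.Agent.Lib.Helper17

universe u

variable {K : Type u} [Field K] {D : ChevalleyDatum}

theorem list_prod_ite_eq {M : Type*} [Monoid M] {ι : Type*} [DecidableEq ι] (L : List ι) (hnd : L.Nodup) (i₀ : ι)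
    (hi₀ : i₀ ∈ L) (x : M) : (L.map fun i => if i = i₀ then x else 1).prod = x := by
  induction L with
  | nil => exact absurd hi₀ (List.not_mem_nil)
  | cons a L ih =>
    rw [List.nodup_cons] at hnd
    rw [List.map_cons, List.prod_cons]
    by_cases ha : a = i₀
    · rw [if_pos ha]
      have : (L.map fun i => if i = i₀ then x else 1).prod = 1 := by
        apply List.prod_eq_one
        intro y hy
        rw [List.mem_map] at hy
        obtain ⟨i, hi, rfl⟩ := hy
        rw [if_neg]
        rintro rfl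
        exact hnd.1 (ha ▸ hi)
      rw [this, mul_one]
    · rw [if_neg ha, one_mul]
      rcases List.mem_cons.mp hi₀ with h | h
      · exact absurd h.symm ha
      · exact ih hnd.2 h

section

variable (hD : D ∈ [chevG2, chevB2, chevD4, chevF4, chevE6, chevE7, chevE8]) (C : ChevData.{u} D)

/-- The torus element `∏_{j ∈ J} h_{p_j}(a(p_j))`. -/
noncomputable def hCls (J : List ℕ) (a : ℕ → K) : GL D.Idx K :=
  (J.map fun j => hPt hD C j (a (D.simple j))).prod

theorem hCls_conj_xG (J : List ℕ) (hJ : ∀ j ∈ J, j < D.rank) (a : ℕ → K) (ha : ∀ j ∈ J, a (D.simple j) ≠ 0)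
    (s : ℕ) (hs : s < D.nroots) (t : K) :
    hCls hD C J a * xG hD s t * (hCls hD C J a)⁻¹
      = xG hD s ((J.map fun j => a (D.simple j) ^ D.cartan j s).prod * t) := by
  induction J generalizing t with
  | nil => simp [hCls]
  | cons j J ih =>
    have e : hCls hD C (j :: J) a = hPt hD C j (a (D.simple j)) * hCls hD C J a := by
      unfold hCls
      rw [List.map_cons, List.prod_cons]
    have e2 : hPt hD C j (a (D.simple j)) * hCls hD C J a * xG hD s t * (hPt hD C j (a (D.simple j)) * hCls hD C J a)⁻¹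
        = hPt hD C j (a (D.simple j)) * (hCls hD C J a * xG hD s t * (hCls hD C J a)⁻¹)
          * (hPt hD C j (a (D.simple j)))⁻¹ := by group
    rw [e, e2, ih (fun i hi => hJ i (List.mem_cons_of_mem _ hi)) (fun i hi => ha i (List.mem_cons_of_mem _ hi)),
      hPt_conj_xG hD C j (hJ j List.mem_cons_self) _ (ha j List.mem_cons_self) s hs, List.map_cons, List.prod_cons,
      mul_assoc]

end

section Fin

variable (hD : D ∈ [chevG2, chevB2, chevD4, chevF4, chevE6, chevE7, chevE8]) (C : ChevData.{u} D)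
  (cfg : TwCfg) (φ : K ≃+* K) (hcfg : cfg.ok C.T C.tabs C.simples = true)
  (htor : cfg.torOK C.T C.simples = true)

include hcfg htor in
theorem torOK_spec (k : ℕ) (hk : k < cfg.classes.length) :
    (cfg.g.orb cfg.m (cfg.pgens.getD k 0)).Nodup ∧ (cfg.g.orb cfg.m (C.T.neg (cfg.pgens.getD k 0))).Nodup ∧
    ∀ j ∈ cfg.classes.getD k [], ∀ j' ∈ cfg.classes.getD k [],
      D.cartan j (D.simple j') = (if j = j' then 2 else 0) ∧
      D.cartan j (D.neg (D.simple j')) = (if j = j' then -2 else 0) := by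
  obtain ⟨-, hJ, -⟩ := classOK_spec C cfg hcfg k hk
  unfold TwCfg.torOK at htor
  rw [List.all_eq_true] at htor
  have h1 := htor k (List.mem_range.mpr hk)
  simp only [Bool.and_eq_true, List.all_eq_true, decide_eq_true_eq, beq_iff_eq] at h1
  refine ⟨h1.1.1, h1.1.2, ?_⟩
  intro j hj j' hj'
  have hp := C.simple_lt j' (hJ j' hj')
  have hnp : D.neg (D.simple j') < D.nroots := by
    rw [C.neg_eq _ hp]
    have := C.nroots_eq
    unfold FastDatum.neg
    omega
  rw [C.T.cartan_eq D C.hag j (hJ j hj) _ hp, C.T.cartan_eq D C.hag j (hJ j hj) _ hnp, C.neg_eq _ hp,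
    C.hsimple j' (hJ j' hj')]
  exact h1.2 j hj j' hj'

include hcfg in
/-- The root elements of different fundamental roots of a class, and of their negatives, commute. -/
theorem class_commute (k : ℕ) (hk : k < cfg.classes.length) (i j : ℕ) (hi : i ∈ cfg.classes.getD k [])
    (hj : j ∈ cfg.classes.getD k []) (hne : i ≠ j) :
    ∀ x ∈ Subgroup.closure {x : GL D.Idx K | ∃ t : K, x = xG hD (D.simple i) t ∨ x = xG hD (D.neg (D.simple i)) t},
    ∀ y ∈ Subgroup.closure {y : GL D.Idx K | ∃ t : K, y = xG hD (D.simple j) t ∨ y = xG hD (D.neg (D.simple j)) t},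
      Commute x y := by
  obtain ⟨-, hJ, -, -, -, -, -, -, hcm⟩ := classOK_spec C cfg hcfg k hk
  obtain ⟨c1, c2, c3, c4⟩ := hcm i hi j hj hne
  rw [← C.hsimple i (hJ i hi), ← C.hsimple j (hJ j hj)] at c1 c2 c3 c4
  rw [← C.neg_eq _ (C.simple_lt j (hJ j hj))] at c2 c4
  rw [← C.neg_eq _ (C.simple_lt i (hJ i hi))] at c3 c4
  apply commute_closure
  rintro x ⟨t, rfl | rfl⟩ y ⟨t', rfl | rfl⟩
  · exact commE_commute hD C _ _ c1 _ _
  · exact commE_commute hD C _ _ c2 _ _
  · exact commE_commute hD C _ _ c3 _ _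
  · exact commE_commute hD C _ _ c4 _ _

theorem nPt_mem_closure (j : ℕ) (t : K) :
    nPt hD j t ∈ Subgroup.closure
      {x : GL D.Idx K | ∃ t : K, x = xG hD (D.simple j) t ∨ x = xG hD (D.neg (D.simple j)) t} := by
  unfold nPt
  exact mul_mem (mul_mem (Subgroup.subset_closure ⟨_, Or.inl rfl⟩) (Subgroup.subset_closure ⟨_, Or.inr rfl⟩))
    (Subgroup.subset_closure ⟨_, Or.inl rfl⟩)

theorem sG_mem_closure (j : ℕ) (hj : j < D.rank) :
    sG hD C j ∈ Subgroup.closure
      {x : GL D.Idx K | ∃ t : K, x = xG hD (D.simple j) t ∨ x = xG hD (D.neg (D.simple j)) t} := by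
  rw [← nPt_one hD C j hj]
  exact nPt_mem_closure hD j 1

theorem hPt_mem_closure (j : ℕ) (hj : j < D.rank) (t : K) :
    hPt hD C j t ∈ Subgroup.closure
      {x : GL D.Idx K | ∃ t : K, x = xG hD (D.simple j) t ∨ x = xG hD (D.neg (D.simple j)) t} := by
  unfold hPt
  exact mul_mem (nPt_mem_closure hD j t) (inv_mem (sG_mem_closure hD C j hj))

include hcfg in
theorem rho_iterate_neg (i r : ℕ) (hr : r < D.nroots) :
    cfg.g.rho^[i] (C.T.neg r) = C.T.neg (cfg.g.rho^[i] r) := by
  have hTw := cfg_twOK C cfg hcfg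
  induction i with
  | zero => rfl
  | succ i ih =>
    rw [Function.iterate_succ_apply', Function.iterate_succ_apply', ih]
    exact (cfg.g.twOK_spec C.T cfg.m hTw _ (C.nroots_eq ▸ rho_iterate_lt C cfg.g cfg.m hTw r hr i)).2.2.1

theorem fast_neg_neg (r : ℕ) (hr : r < D.nroots) : C.T.neg (C.T.neg r) = r := by
  have := C.nroots_eq
  unfold FastDatum.neg
  omega

include hcfg in
/-- The torus element of a class lies in the twisted group. -/
theorem hCls_mem_Gtw (k : ℕ) (hk : k < cfg.classes.length) (a : ℕ → K)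
    (ha0 : ∀ r ∈ cfg.g.orb cfg.m (cfg.pgens.getD k 0), a r ≠ 0)
    (ha : ∀ r ∈ cfg.g.orb cfg.m (cfg.pgens.getD k 0), a r = twT cfg.g φ cfg.m a r) :
    hCls hD C (cfg.classes.getD k []) a ∈ Gtw hD C cfg φ := by
  obtain ⟨-, hJ, hnd, hs, e1, e2, g1, g2, hcm⟩ := classOK_spec C cfg hcfg k hk
  obtain ⟨m1, m2⟩ := pgens_mem_genRoots C cfg hcfg k hk
  have hTw := cfg_twOK C cfg hcfg
  have hm := cfg_m C cfg hcfg
  set J := cfg.classes.getD k [] with hJdef
  set s := cfg.pgens.getD k 0 with hsdef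
  let A : ℕ → GL D.Idx K := fun j => xG hD (D.simple j) (a (D.simple j))
  let B : ℕ → GL D.Idx K := fun j => xG hD (D.neg (D.simple j)) (-(a (D.simple j))⁻¹)
  let b : ℕ → K := fun r' => -(a (C.T.neg r'))⁻¹
  have hAmem : ∀ j, A j ∈ Subgroup.closure
      {x : GL D.Idx K | ∃ t : K, x = xG hD (D.simple j) t ∨ x = xG hD (D.neg (D.simple j)) t} :=
    fun j => Subgroup.subset_closure ⟨_, Or.inl rfl⟩
  have hBmem : ∀ j, B j ∈ Subgroup.closure
      {x : GL D.Idx K | ∃ t : K, x = xG hD (D.simple j) t ∨ x = xG hD (D.neg (D.simple j)) t} :=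
    fun j => Subgroup.subset_closure ⟨_, Or.inr rfl⟩
  have hAA : ∀ i ∈ J, ∀ j ∈ J, i ≠ j → Commute (A i) (A j) := fun i hi j hj hne =>
    class_commute hD C cfg hcfg k hk i j hi hj hne _ (hAmem i) _ (hAmem j)
  have hAB : ∀ i ∈ J, ∀ j ∈ J, i ≠ j → Commute (A i) (B j) := fun i hi j hj hne =>
    class_commute hD C cfg hcfg k hk i j hi hj hne _ (hAmem i) _ (hBmem j)
  have hBB : ∀ i ∈ J, ∀ j ∈ J, i ≠ j → Commute (B i) (B j) := fun i hi j hj hne =>
    class_commute hD C cfg hcfg k hk i j hi hj hne _ (hBmem i) _ (hBmem j)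
  -- the product of the `n_{p_j}(a_j)`
  have e0 : (J.map fun j => nPt hD j (a (D.simple j))).prod = (J.map fun j => A j * B j * A j).prod := rfl
  have hPA : (J.map A).prod = prodL hD (cfg.g.orb cfg.m s) a := by
    rw [← e1]
    unfold prodL
    rw [List.map_map]
    congr 1
    apply List.map_congr_left
    intro j hj
    show xG hD (D.simple j) (a (D.simple j)) = xG hD (C.simples.getD j 0) (a (C.simples.getD j 0))
    rw [C.hsimple j (hJ j hj)]
  have hPB : (J.map B).prod = prodL hD (cfg.g.orb cfg.m (C.T.neg s)) b := by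
    rw [← e2]
    unfold prodL
    rw [List.map_map]
    congr 1
    apply List.map_congr_left
    intro j hj
    have hp := C.simple_lt j (hJ j hj)
    show xG hD (D.neg (D.simple j)) (-(a (D.simple j))⁻¹)
      = xG hD (C.T.neg (C.simples.getD j 0)) (-(a (C.T.neg (C.T.neg (C.simples.getD j 0))))⁻¹)
    rw [← C.hsimple j (hJ j hj), fast_neg_neg C _ hp, C.neg_eq _ hp]
  have hA : (J.map A).prod ∈ Gtw hD C cfg φ := by
    rw [hPA]
    exact Subgroup.subset_closure ⟨s, m1, a, ha, rfl⟩
  have hB : (J.map B).prod ∈ Gtw hD C cfg φ := by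
    rw [hPB]
    apply Subgroup.subset_closure
    refine ⟨C.T.neg s, m2, b, ?_, rfl⟩
    intro r' hr'
    rw [← e2, List.mem_map] at hr'
    obtain ⟨j, hj, rfl⟩ := hr'
    have hp : C.simples.getD j 0 < D.nroots := by
      rw [← C.hsimple j (hJ j hj)]; exact C.simple_lt j (hJ j hj)
    have hpmem : C.simples.getD j 0 ∈ cfg.g.orb cfg.m s := by
      rw [← e1]; exact List.mem_map_of_mem hj
    have hnmem : C.T.neg (C.simples.getD j 0) ∈ cfg.g.orb cfg.m (C.T.neg s) := by
      rw [← e2]; exact List.mem_map_of_mem (f := fun j => C.T.neg (C.simples.getD j 0)) hj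
    unfold twT
    rw [g2 _ hnmem, Int.cast_one, one_mul]
    show -(a (C.T.neg (C.T.neg (C.simples.getD j 0))))⁻¹
      = φ (-(a (C.T.neg (cfg.g.rho^[cfg.m - 1] (C.T.neg (C.simples.getD j 0)))))⁻¹)
    rw [rho_iterate_neg C cfg hcfg _ _ hp, fast_neg_neg C _ hp,
      fast_neg_neg C _ (rho_iterate_lt C cfg.g cfg.m hTw _ hp _), map_neg, map_inv₀]
    have h3 := ha _ hpmem
    unfold twT at h3
    rw [g1 _ hpmem, Int.cast_one, one_mul] at h3
    rw [← h3]
  have hnJ : (J.map fun j => nPt hD j (a (D.simple j))).prod ∈ Gtw hD C cfg φ := by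
    rw [e0, prod_triple J A B hnd hAA hAB hBB]
    exact mul_mem (mul_mem hA hB) hA
  -- `∏ n_{p_j}(a_j) = (∏ h_{p_j}(a_j)) n_J`
  have e3 : (J.map fun j => nPt hD j (a (D.simple j))).prod = hCls hD C J a * nW hD C J := by
    have e4 : (J.map fun j => nPt hD j (a (D.simple j))).prod
        = (J.map fun j => hPt hD C j (a (D.simple j)) * sG hD C j).prod := by
      congr 1
      apply List.map_congr_left
      intro j _
      exact nPt_eq_hPt_mul hD C j _
    rw [e4, prod_pair J (fun j => hPt hD C j (a (D.simple j))) (fun j => sG hD C j) hnd]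
    · rfl
    · intro i hi j hj hne
      exact class_commute hD C cfg hcfg k hk i j hi hj hne _ (sG_mem_closure hD C i (hJ i hi)) _
        (hPt_mem_closure hD C j (hJ j hj) _)
  have e5 : hCls hD C J a = (J.map fun j => nPt hD j (a (D.simple j))).prod * (nW hD C J)⁻¹ := by
    rw [e3]; group
  rw [e5]
  exact mul_mem hnJ (inv_mem (nW_class_mem_Gtw hD C cfg φ hcfg k hk))

end Fin

end Cfsg.Agent.Lib.Helper18
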