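/-
helper18: the root elements of a class of fundamental roots which is not fixed (and of the class of the negatives) are
commutators in the twisted group.
-/
import Cfsg.Agent.Lib.Helper18.Tw18

set_option autoImplicit false

namespace Cfsg.Agent.Lib.Helper18

open Cfsg.Lie Cfsg.Agent.Lib.Helper17

universe u

variable {K : Type u} [Field K] {D : ChevalleyDatum}

theorem orbVal_ne (g : GraphData) (φ : K ≃+* K) (s : ℕ) (μ : K) (hμ0 : μ ≠ 0) (hμ1 : μ ^ 2 ≠ 1) (r : ℕ) :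
    orbVal g φ s μ r ≠ 0 ∧ (orbVal g φ s μ r) ^ 2 ≠ 1 := by
  have hγ : ∀ x : ℕ, ((g.gam x : ℤ) : K) ≠ 0 ∧ ((g.gam x : ℤ) : K) ^ 2 = 1 := by
    intro x
    rcases g.gam_cases x with e | e <;> rw [e] <;> simp
  have hφ1 : ∀ x : K, x ^ 2 ≠ 1 → (φ x) ^ 2 ≠ 1 := by
    intro x hx h
    apply hx
    rw [← map_pow] at h
    exact (map_eq_one_iff φ φ.injective).mp h
  have hφ0 : ∀ x : K, x ≠ 0 → φ x ≠ 0 := fun x hx => (map_ne_zero φ).mpr hx
  unfold orbVal
  split_ifs
  · exact ⟨hμ0, hμ1⟩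
  · refine ⟨mul_ne_zero (hγ _).1 (hφ0 _ hμ0), ?_⟩
    rw [mul_pow, (hγ _).2, one_mul]
    exact hφ1 _ hμ1
  · refine ⟨mul_ne_zero (hγ _).1 (hφ0 _ (mul_ne_zero (hγ _).1 (hφ0 _ hμ0))), ?_⟩
    rw [mul_pow, (hγ _).2, one_mul]
    apply hφ1
    rw [mul_pow, (hγ _).2, one_mul]
    exact hφ1 _ hμ1

section Fin

variable (hD : D ∈ [chevG2, chevB2, chevD4, chevF4, chevE6, chevE7, chevE8]) (C : ChevData.{u} D)
  (cfg : TwCfg) (φ : K ≃+* K) (hcfg : cfg.ok C.T C.tabs C.simples = true)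
  (htor : cfg.torOK C.T C.simples = true)

include hcfg htor in
/-- The elements of the twisted group over a class of fundamental roots which is not fixed are commutators. -/
theorem class_mem_twCommImage (k : ℕ) (hk : k < cfg.classes.length)
    (hnf : cfg.g.rho (cfg.pgens.getD k 0) ≠ cfg.pgens.getD k 0) (hφm : ∀ a : K, φ^[cfg.m] a = a)
    (μ : K) (hμ0 : μ ≠ 0) (hμ1 : μ ^ 2 ≠ 1) :
    (∀ c : ℕ → K, (∀ r ∈ cfg.g.orb cfg.m (cfg.pgens.getD k 0), c r = twT cfg.g φ cfg.m c r) →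
      prodL hD (cfg.g.orb cfg.m (cfg.pgens.getD k 0)) c ∈ twCommImage hD C cfg φ) ∧
    (∀ c : ℕ → K, (∀ r ∈ cfg.g.orb cfg.m (C.T.neg (cfg.pgens.getD k 0)), c r = twT cfg.g φ cfg.m c r) →
      prodL hD (cfg.g.orb cfg.m (C.T.neg (cfg.pgens.getD k 0))) c ∈ twCommImage hD C cfg φ) := by
  classical
  obtain ⟨-, hJ, hnd, hs, e1, e2, g1, g2, hcm⟩ := classOK_spec C cfg hcfg k hk
  obtain ⟨m1, m2⟩ := pgens_mem_genRoots C cfg hcfg k hk
  obtain ⟨t1, t2, t3⟩ := torOK_spec C cfg hcfg htor k hk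
  have hTw := cfg_twOK C cfg hcfg
  have hm := cfg_m C cfg hcfg
  set J := cfg.classes.getD k [] with hJdef
  set s := cfg.pgens.getD k 0 with hsdef
  set a := orbVal cfg.g φ s μ with hadef
  have ha : ∀ r ∈ cfg.g.orb cfg.m s, a r = twT cfg.g φ cfg.m a r :=
    orbVal_tw C cfg.g φ cfg.m hTw hm hφm s hs μ (fun h => absurd h hnf)
  have ha0 : ∀ r, a r ≠ 0 := fun r => (orbVal_ne cfg.g φ s μ hμ0 hμ1 r).1
  have ha1 : ∀ r, (a r) ^ 2 ≠ 1 := fun r => (orbVal_ne cfg.g φ s μ hμ0 hμ1 r).2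
  have hhG : hCls hD C J a ∈ Gtw hD C cfg φ := hCls_mem_Gtw hD C cfg φ hcfg k hk a (fun r _ => ha0 r) ha
  have hsimp : ∀ j ∈ J, C.simples.getD j 0 = D.simple j := fun j hj => (C.hsimple j (hJ j hj)).symm
  -- the relation `a r = φ (a (ρ' r))` on the class
  have ha' : ∀ r ∈ cfg.g.orb cfg.m s, a r = φ (a (cfg.g.rho^[cfg.m - 1] r)) := by
    intro r hr
    have h3 := ha r hr
    unfold twT at h3
    rwa [g1 r hr, Int.cast_one, one_mul] at h3
  constructor
  · -- the positive class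
    intro c hc
    refine torus_trick hD C cfg φ s m1 (hCls hD C J a) hhG (fun r => (a r) ^ 2) ?_ (fun r _ => ha1 r) ?_ ?_ t1 c hc
    · intro r hr u
      rw [← e1, List.mem_map] at hr
      obtain ⟨j₀, hj₀, rfl⟩ := hr
      rw [hsimp j₀ hj₀]
      rw [hCls_conj_xG hD C J hJ a (fun j _ => ha0 _) _ (C.simple_lt j₀ (hJ j₀ hj₀))]
      congr 2
      have e3 : (J.map fun j => a (D.simple j) ^ D.cartan j (D.simple j₀))
          = J.map fun j => if j = j₀ then (a (D.simple j₀)) ^ 2 else 1 := by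
        apply List.map_congr_left
        intro j hj
        rw [(t3 j hj j₀ hj₀).1]
        by_cases hjj : j = j₀
        · rw [if_pos hjj, if_pos hjj, hjj]
          exact zpow_ofNat _ 2
        · rw [if_neg hjj, if_neg hjj, zpow_zero]
      rw [e3, list_prod_ite_eq J hnd j₀ hj₀]
    · intro r hr
      show (a r) ^ 2 = φ ((a (cfg.g.rho^[cfg.m - 1] r)) ^ 2)
      rw [map_pow, ← ha' r hr]
    · intro r hr r' hr' hne u v
      rw [← e1, List.mem_map] at hr hr'
      obtain ⟨i, hi, rfl⟩ := hr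
      obtain ⟨j, hj, rfl⟩ := hr'
      have hij : i ≠ j := fun e => hne (by rw [e])
      rw [hsimp i hi, hsimp j hj]
      exact class_commute hD C cfg hcfg k hk i j hi hj hij _ (Subgroup.subset_closure ⟨_, Or.inl rfl⟩) _
        (Subgroup.subset_closure ⟨_, Or.inl rfl⟩)
  · -- the class of the negatives
    intro c hc
    refine torus_trick hD C cfg φ (C.T.neg s) m2 (hCls hD C J a) hhG (fun r' => ((a (C.T.neg r')) ^ 2)⁻¹) ?_ ?_ ?_ ?_
      t2 c hc
    · intro r hr u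
      rw [← e2, List.mem_map] at hr
      obtain ⟨j₀, hj₀, rfl⟩ := hr
      have hp := C.simple_lt j₀ (hJ j₀ hj₀)
      have hnp : D.neg (D.simple j₀) < D.nroots := by
        rw [C.neg_eq _ hp]
        have := C.nroots_eq
        unfold FastDatum.neg
        omega
      show hCls hD C J a * xG hD (C.T.neg (C.simples.getD j₀ 0)) u * (hCls hD C J a)⁻¹
        = xG hD (C.T.neg (C.simples.getD j₀ 0)) (((a (C.T.neg (C.T.neg (C.simples.getD j₀ 0)))) ^ 2)⁻¹ * u)
      rw [hsimp j₀ hj₀, fast_neg_neg C _ hp, ← C.neg_eq _ hp]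
      rw [hCls_conj_xG hD C J hJ a (fun j _ => ha0 _) _ hnp]
      congr 2
      have e3 : (J.map fun j => a (D.simple j) ^ D.cartan j (D.neg (D.simple j₀)))
          = J.map fun j => if j = j₀ then ((a (D.simple j₀)) ^ 2)⁻¹ else 1 := by
        apply List.map_congr_left
        intro j hj
        rw [(t3 j hj j₀ hj₀).2]
        by_cases hjj : j = j₀
        · rw [if_pos hjj, if_pos hjj, hjj, zpow_neg]
          congr 1
          exact zpow_ofNat _ 2
        · rw [if_neg hjj, if_neg hjj, zpow_zero]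
      rw [e3, list_prod_ite_eq J hnd j₀ hj₀]
    · intro r _
      exact fun h => ha1 _ (inv_eq_one.mp h)
    · intro r hr
      rw [← e2, List.mem_map] at hr
      obtain ⟨j₀, hj₀, rfl⟩ := hr
      have hp : C.simples.getD j₀ 0 < D.nroots := by
        rw [hsimp j₀ hj₀]; exact C.simple_lt j₀ (hJ j₀ hj₀)
      have hpmem : C.simples.getD j₀ 0 ∈ cfg.g.orb cfg.m s := by
        rw [← e1]; exact List.mem_map_of_mem hj₀
      show ((a (C.T.neg (C.T.neg (C.simples.getD j₀ 0)))) ^ 2)⁻¹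
        = φ (((a (C.T.neg (cfg.g.rho^[cfg.m - 1] (C.T.neg (C.simples.getD j₀ 0))))) ^ 2)⁻¹)
      rw [rho_iterate_neg C cfg hcfg _ _ hp, fast_neg_neg C _ hp,
        fast_neg_neg C _ (rho_iterate_lt C cfg.g cfg.m hTw _ hp _), map_inv₀, map_pow, ← ha' _ hpmem]
    · intro r hr r' hr' hne u v
      rw [← e2, List.mem_map] at hr hr'
      obtain ⟨i, hi, rfl⟩ := hr
      obtain ⟨j, hj, rfl⟩ := hr'
      have hij : i ≠ j := fun e => hne (by rw [e])
      show Commute (xG hD (C.T.neg (C.simples.getD i 0)) u) (xG hD (C.T.neg (C.simples.getD j 0)) v)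
      rw [hsimp i hi, hsimp j hj, ← C.neg_eq _ (C.simple_lt i (hJ i hi)), ← C.neg_eq _ (C.simple_lt j (hJ j hj))]
      exact class_commute hD C cfg hcfg k hk i j hi hj hij _ (Subgroup.subset_closure ⟨_, Or.inr rfl⟩) _
        (Subgroup.subset_closure ⟨_, Or.inr rfl⟩)

end Fin

end Cfsg.Agent.Lib.Helper18
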