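/-
helper18: auxiliary facts for the perfectness of the twisted groups: the commutator of two products with central
commutators, and the non-vanishing of a twisted trace form over a finite field.
-/
import Cfsg.Agent.Lib.Helper18.Tw19

set_option autoImplicit false

namespace Cfsg.Agent.Lib.Helper18

open Cfsg.Lie Cfsg.Agent.Lib.Helper17

universe u

section Grp

variable {G : Type*} [Group G]

/-- If `B_i A_i = A_i B_i Z_i`, the `A_i` commute with the `B_j` (`j ≠ i`), and the `Z_i` commute with everything,
then `(∏ B_i)(∏ A_i) = (∏ A_i)(∏ B_i)(∏ Z_i)`. -/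
theorem prod_comm_central {ι : Type*} (L : List ι) (A B Z : ι → G) (hnd : L.Nodup)
    (hAB : ∀ i ∈ L, ∀ j ∈ L, i ≠ j → Commute (A i) (B j))
    (hrel : ∀ i ∈ L, B i * A i = A i * B i * Z i)
    (hZA : ∀ i ∈ L, ∀ j ∈ L, Commute (Z i) (A j)) (hZB : ∀ i ∈ L, ∀ j ∈ L, Commute (Z i) (B j)) :
    (L.map B).prod * (L.map A).prod = (L.map A).prod * (L.map B).prod * (L.map Z).prod := by
  induction L with
  | nil => simp
  | cons i L ih =>
    rw [List.nodup_cons] at hnd
    have hne : ∀ j ∈ L, i ≠ j := fun j hj e => hnd.1 (e ▸ hj)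
    have ih' := ih hnd.2
      (fun a ha b hb => hAB a (List.mem_cons_of_mem _ ha) b (List.mem_cons_of_mem _ hb))
      (fun a ha => hrel a (List.mem_cons_of_mem _ ha))
      (fun a ha b hb => hZA a (List.mem_cons_of_mem _ ha) b (List.mem_cons_of_mem _ hb))
      (fun a ha b hb => hZB a (List.mem_cons_of_mem _ ha) b (List.mem_cons_of_mem _ hb))
    set PA := (L.map A).prod
    set PB := (L.map B).prod
    set PZ := (L.map Z).prod
    -- `A i` commutes with `PB`
    have c1 : Commute (A i) PB := Commute.list_prod_right _ _ (by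
      intro x hx
      rw [List.mem_map] at hx
      obtain ⟨j, hj, rfl⟩ := hx
      exact hAB i List.mem_cons_self j (List.mem_cons_of_mem _ hj) (hne j hj))
    -- `B i` commutes with `PA`
    have c2 : Commute PA (B i) := Commute.list_prod_left _ _ (by
      intro x hx
      rw [List.mem_map] at hx
      obtain ⟨j, hj, rfl⟩ := hx
      exact hAB j (List.mem_cons_of_mem _ hj) i List.mem_cons_self (hne j hj).symm)
    -- `Z i` commutes with `PA` and `PB`
    have c3 : Commute (Z i) PA := Commute.list_prod_right _ _ (by
      intro x hx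
      rw [List.mem_map] at hx
      obtain ⟨j, hj, rfl⟩ := hx
      exact hZA i List.mem_cons_self j (List.mem_cons_of_mem _ hj))
    have c4 : Commute (Z i) PB := Commute.list_prod_right _ _ (by
      intro x hx
      rw [List.mem_map] at hx
      obtain ⟨j, hj, rfl⟩ := hx
      exact hZB i List.mem_cons_self j (List.mem_cons_of_mem _ hj))
    simp only [List.map_cons, List.prod_cons]
    calc B i * PB * (A i * PA) = B i * (PB * A i) * PA := by group
      _ = B i * (A i * PB) * PA := by rw [c1.eq]
      _ = (B i * A i) * (PB * PA) := by group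
      _ = (A i * B i * Z i) * (PA * PB * PZ) := by rw [hrel i List.mem_cons_self, ih']
      _ = A i * B i * (Z i * PA) * PB * PZ := by group
      _ = A i * B i * (PA * Z i) * PB * PZ := by rw [c3.eq]
      _ = A i * (B i * PA) * (Z i * PB) * PZ := by group
      _ = A i * (PA * B i) * (PB * Z i) * PZ := by rw [c2.eq, c4.eq]
      _ = A i * PA * (B i * PB) * (Z i * PZ) := by group

end Grp

section Field

variable {K : Type u} [Field K] [Fintype K]

/-- A twisted trace form `∑_{i<m} ε_i μ^(q^i)` with `ε_{m-1} ≠ 0` does not vanish identically on a field with `q^m`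
elements. -/
theorem exists_trace_ne_zero (q m : ℕ) (hq : 2 ≤ q) (hm : 0 < m) (hK : Fintype.card K = q ^ m) (ε : ℕ → K)
    (hε : ε (m - 1) ≠ 0) : ∃ μ : K, ((List.range m).map fun i => ε i * μ ^ (q ^ i)).sum ≠ 0 := by
  classical
  by_contra hcon
  push_neg at hcon
  let P : Polynomial K := ∑ i ∈ Finset.range m, Polynomial.C (ε i) * Polynomial.X ^ (q ^ i)
  have heval : ∀ μ : K, Polynomial.eval μ P = 0 := by
    intro μ
    have := hcon μ
    rw [← List.sum_toFinset _ (List.nodup_range), List.toFinset_range] at this
    simp only [P, Polynomial.eval_finset_sum, Polynomial.eval_mul, Polynomial.eval_C, Polynomial.eval_pow,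
      Polynomial.eval_X]
    exact this
  have hcoeff : P.coeff (q ^ (m - 1)) = ε (m - 1) := by
    simp only [P, Polynomial.finset_sum_coeff, Polynomial.coeff_C_mul, Polynomial.coeff_X_pow]
    rw [Finset.sum_eq_single (m - 1)]
    · simp
    · intro i _ hi
      rw [if_neg, mul_zero]
      intro h
      exact hi (Nat.pow_right_injective hq h).symm
    · intro h
      exact absurd (Finset.mem_range.mpr (by omega)) h
  have hP0 : P ≠ 0 := by
    intro h
    rw [h, Polynomial.coeff_zero] at hcoeff
    exact hε hcoeff.symm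
  have hdeg : P.natDegree ≤ q ^ (m - 1) := by
    apply Polynomial.natDegree_sum_le_of_forall_le
    intro i hi
    refine (Polynomial.natDegree_C_mul_X_pow_le _ _).trans ?_
    exact Nat.pow_le_pow_right (by omega) (by have := Finset.mem_range.mp hi; omega)
  have hsub : (Finset.univ : Finset K) ⊆ P.roots.toFinset := by
    intro μ _
    rw [Multiset.mem_toFinset, Polynomial.mem_roots hP0]
    exact heval μ
  have h1 : Fintype.card K ≤ q ^ (m - 1) := by
    calc Fintype.card K = (Finset.univ : Finset K).card := Finset.card_univ.symm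
      _ ≤ P.roots.toFinset.card := Finset.card_le_card hsub
      _ ≤ Multiset.card P.roots := Multiset.toFinset_card_le _
      _ ≤ P.natDegree := Polynomial.card_roots' P
      _ ≤ q ^ (m - 1) := hdeg
  rw [hK] at h1
  have h2 : q ^ (m - 1) < q ^ m := Nat.pow_lt_pow_right (by omega) (by omega)
  omega

/-- A field with at least four elements has a non-zero element whose square is not one. -/
theorem exists_sq_ne_one (hK : 4 ≤ Fintype.card K) : ∃ μ : K, μ ≠ 0 ∧ μ ^ 2 ≠ 1 := by
  classical
  have h1 : ({0, 1, -1} : Finset K).card < (Finset.univ : Finset K).card := by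
    rw [Finset.card_univ]
    exact lt_of_le_of_lt (Finset.card_le_three) hK
  obtain ⟨μ, -, hμ⟩ := Finset.exists_mem_notMem_of_card_lt_card h1
  simp only [Finset.mem_insert, Finset.mem_singleton, not_or] at hμ
  refine ⟨μ, hμ.1, ?_⟩
  intro h
  have h2 : (μ - 1) * (μ + 1) = 0 := by ring_nf; rw [h]; ring
  rcases mul_eq_zero.mp h2 with e | e
  · exact hμ.2.1 (sub_eq_zero.mp e)
  · exact hμ.2.2 (eq_neg_of_add_eq_zero_left e)

end Field

end Cfsg.Agent.Lib.Helper18
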