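/-
helper18: a fixed root which is the sum of corresponding roots of two classes: its root elements with fixed coefficients
are commutators in the twisted group.
-/
import Cfsg.Agent.Lib.Helper18.Tw20

set_option autoImplicit false

namespace Cfsg.Agent.Lib.Helper18

open Cfsg.Lie Cfsg.Agent.Lib.Helper17

universe u

variable {K : Type u} [Field K] {D : ChevalleyDatum}

namespace TwCfg

variable (cfg : TwCfg)

/-- The certificate that the fixed root `r₀` is the sum of the corresponding roots of the classes of `s₁` (heading a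
generating class) and of the positive root `s₂`, all other pairs of roots of the two classes commuting. -/
def commCertOK (T : FastDatum) (r₀ s₁ s₂ : ℕ) : Bool :=
  (cfg.genRoots T).contains s₁ && decide (s₁ < T.nroots) && decide (s₂ < T.nroots) && decide (T.nroots / 2 ≤ s₂)
  && decide (r₀ < T.nroots) && (cfg.g.rho r₀ == r₀)
  && (cfg.g.rho s₁ != s₁) && (cfg.g.rho s₂ != s₂)
  && decide (cfg.g.orb cfg.m s₁).Nodup && decide (cfg.g.orb cfg.m s₂).Nodup
  && (List.range cfg.m).all fun i => (List.range cfg.m).all fun j =>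
      commE T r₀ (cfg.g.rho^[i] s₁) && commE T r₀ (cfg.g.rho^[j] s₂) &&
      if i = j then
        (cfg.g.rho^[j] s₂ != cfg.g.rho^[i] s₁ && cfg.g.rho^[j] s₂ != T.neg (cfg.g.rho^[i] s₁)
          && decide (cfg.g.rho^[i] s₁ < T.nroots) && decide (cfg.g.rho^[j] s₂ < T.nroots)
          && (T.commTermsF (cfg.g.rho^[i] s₁) (cfg.g.rho^[j] s₂) == [(r₀, 1, 1, 1)]
            || T.commTermsF (cfg.g.rho^[i] s₁) (cfg.g.rho^[j] s₂) == [(r₀, -1, 1, 1)]))
      else commE T (cfg.g.rho^[i] s₁) (cfg.g.rho^[j] s₂)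

end TwCfg

section

variable (hD : D ∈ [chevG2, chevB2, chevD4, chevF4, chevE6, chevE7, chevE8])

theorem list_prod_xG (r : ℕ) {ι : Type*} (L : List ι) (f : ι → K) :
    (L.map fun i => xG hD r (f i)).prod = xG hD r (L.map f).sum := by
  induction L with
  | nil => simp [xG_zero]
  | cons a L ih => rw [List.map_cons, List.prod_cons, ih, xG_mul, List.map_cons, List.sum_cons]

theorem xG_injective (r : ℕ) (hr : r < D.nroots) (a b : K) (h : xG hD r a = xG hD r b) : a = b := by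
  have h1 : xG hD r (a - b) = 1 := by
    rw [sub_eq_add_neg, ← xG_mul, ← xG_inv, h, mul_inv_cancel]
  have h2 : D.x K r (a - b) = 1 := by
    have := congrArg Units.val h1
    rwa [coe_xG, Units.val_one] at this
  exact sub_eq_zero.mp ((Cfsg.Agent.S1024.result D hD r hr _).mp h2)

end

section

variable (g : GraphData) (φ : K ≃+* K) (m : ℕ)

/-- The coefficients `orbVal` along a class which is not fixed. -/
theorem orbVal_iterate (s : ℕ) (hm : m = 2 ∨ m = 3) (hnf : g.rho s ≠ s) (hnd : (g.orb m s).Nodup) (i : ℕ)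
    (hi : i < m) : ∃ e : K, e ≠ 0 ∧ ∀ μ : K, orbVal g φ s μ (g.rho^[i] s) = e * φ^[i] μ := by
  have hγ : ∀ x : ℕ, ((g.gam x : ℤ) : K) ≠ 0 := by
    intro x
    rcases g.gam_cases x with e | e <;> rw [e] <;> simp
  unfold GraphData.orb at hnd
  rw [if_neg hnf] at hnd
  have hi3 : i = 0 ∨ i = 1 ∨ (i = 2 ∧ m = 3) := by rcases hm with h | h <;> omega
  rcases hi3 with rfl | rfl | ⟨rfl, rfl⟩
  · refine ⟨1, one_ne_zero, fun μ => ?_⟩
    unfold orbVal
    simp
  · refine ⟨((g.gam s : ℤ) : K), hγ _, fun μ => ?_⟩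
    unfold orbVal
    rw [Function.iterate_one, Function.iterate_one, if_neg hnf, if_pos rfl]
  · simp only [List.range_succ, List.range_zero, List.nil_append, List.cons_append, List.map_cons, List.map_nil,
      Function.iterate_zero, id_eq, Function.iterate_succ, Function.comp_apply, List.nodup_cons, List.mem_cons,
      List.not_mem_nil, or_false, not_or] at hnd
    refine ⟨((g.gam (g.rho s) : ℤ) : K) * ((g.gam s : ℤ) : K), mul_ne_zero (hγ _) (hγ _), fun μ => ?_⟩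
    unfold orbVal
    have h1 : g.rho^[2] s ≠ s := fun h => hnd.1.2 h.symm
    have h2 : g.rho^[2] s ≠ g.rho s := fun h => hnd.2.1 h.symm
    rw [if_neg h1, if_neg h2, map_mul, map_intCast]
    simp only [Function.iterate_succ, Function.iterate_zero, Function.comp_apply, id_eq]
    ring

theorem orbVal_smul (s : ℕ) (lam μ : K) (hlam : φ lam = lam) (r : ℕ) :
    orbVal g φ s (lam * μ) r = lam * orbVal g φ s μ r := by
  unfold orbVal
  split_ifs
  · rfl
  · rw [map_mul, hlam]; ring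
  · rw [map_mul, map_mul, map_mul, map_mul, hlam, hlam]; ring

end

section Spec

variable (hD : D ∈ [chevG2, chevB2, chevD4, chevF4, chevE6, chevE7, chevE8]) (C : ChevData.{u} D) (cfg : TwCfg)

theorem commCertOK_spec (r₀ s₁ s₂ : ℕ) (h : cfg.commCertOK C.T r₀ s₁ s₂ = true) :
    s₁ ∈ cfg.genRoots C.T ∧ s₁ < D.nroots ∧ s₂ < D.nroots ∧ D.nroots / 2 ≤ s₂ ∧ r₀ < D.nroots ∧
    cfg.g.rho r₀ = r₀ ∧ cfg.g.rho s₁ ≠ s₁ ∧ cfg.g.rho s₂ ≠ s₂ ∧
    (cfg.g.orb cfg.m s₁).Nodup ∧ (cfg.g.orb cfg.m s₂).Nodup ∧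
    (∀ i < cfg.m, TwCfg.commE C.T r₀ (cfg.g.rho^[i] s₁) = true ∧ TwCfg.commE C.T r₀ (cfg.g.rho^[i] s₂) = true) ∧
    (∀ i < cfg.m, cfg.g.rho^[i] s₂ ≠ cfg.g.rho^[i] s₁ ∧ cfg.g.rho^[i] s₂ ≠ C.T.neg (cfg.g.rho^[i] s₁) ∧
      cfg.g.rho^[i] s₁ < D.nroots ∧ cfg.g.rho^[i] s₂ < D.nroots ∧
      (C.T.commTermsF (cfg.g.rho^[i] s₁) (cfg.g.rho^[i] s₂) = [(r₀, 1, 1, 1)] ∨
        C.T.commTermsF (cfg.g.rho^[i] s₁) (cfg.g.rho^[i] s₂) = [(r₀, -1, 1, 1)])) ∧
    (∀ i < cfg.m, ∀ j < cfg.m, i ≠ j →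
      TwCfg.commE C.T (cfg.g.rho^[i] s₁) (cfg.g.rho^[j] s₂) = true) := by
  unfold TwCfg.commCertOK at h
  simp only [Bool.and_eq_true, List.contains_iff_mem, decide_eq_true_eq, beq_iff_eq, bne_iff_ne, ne_eq,
    List.all_eq_true, List.mem_range] at h
  rw [C.nroots_eq] at h
  obtain ⟨⟨⟨⟨⟨⟨⟨⟨⟨⟨a1, a2⟩, a3⟩, a4⟩, a5⟩, a6⟩, a7⟩, a8⟩, a9⟩, a10⟩, a11⟩ := h
  refine ⟨a1, a2, a3, a4, a5, a6, a7, a8, a9, a10, ?_, ?_, ?_⟩
  · intro i hi
    exact ⟨(a11 i hi i hi).1.1, (a11 i hi i hi).1.2⟩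
  · intro i hi
    have h1 := (a11 i hi i hi).2
    rw [if_pos rfl] at h1
    simp only [Bool.and_eq_true, bne_iff_ne, ne_eq, decide_eq_true_eq, Bool.or_eq_true, beq_iff_eq] at h1
    exact ⟨h1.1.1.1.1, h1.1.1.1.2, h1.1.1.2, h1.1.2, h1.2⟩
  · intro i hi j hj hij
    have h1 := (a11 i hi j hj).2
    rw [if_neg hij] at h1
    exact h1

/-- The commutator formula with a single term. -/
theorem comm_single (a b r₀ : ℕ) (c : ℤ) (ha : a < D.nroots) (hb : b < D.nroots) (hne1 : b ≠ a)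
    (hne2 : b ≠ C.T.neg a) (hterms : C.T.commTermsF a b = [(r₀, c, 1, 1)]) (t t' : K) :
    xG hD b t' * xG hD a t = xG hD a t * xG hD b t' * xG hD r₀ ((c : K) * (-t) * t') := by
  have hcomm := C.comm K a b ha hb hne1 hne2 t t'
  have hterms' : D.commTerms a b = [(r₀, c, 1, 1)] := by
    rw [← C.T.commTermsF_eq D C.hag C.hin a b ha hb]
    exact hterms
  apply Units.ext
  rw [Units.val_mul, Units.val_mul, Units.val_mul, coe_xG, coe_xG, coe_xG, hcomm]
  unfold ChevalleyDatum.commWord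
  rw [hterms']
  simp [ChevalleyDatum.wordMat]

end Spec

end Cfsg.Agent.Lib.Helper18
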