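/-
helper18: `N¹/H¹` of a twisted group is the group presented by a Coxeter matrix whose relations hold between the
permutations of the `n_J` and whose group is not larger than the group these permutations generate.
-/
import Cfsg.Agent.Lib.Helper18.Tw13
import Cfsg.Agent.Lib.Helper18.Cox2

set_option autoImplicit false

namespace Cfsg.Agent.Lib.Helper18

open Cfsg.Lie Cfsg.Agent.Lib.Helper17

universe u

variable {K : Type u} [Field K] {D : ChevalleyDatum}

/-- A word repeated `k` times. -/
def repW (ws : List ℕ) : ℕ → List ℕ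
  | 0 => []
  | k + 1 => ws ++ repW ws k

theorem repW_lt (ws : List ℕ) (n : ℕ) (hws : ∀ x ∈ ws, x < n) (k : ℕ) : ∀ x ∈ repW ws k, x < n := by
  induction k with
  | zero => intro x hx; simp [repW] at hx
  | succ k ih =>
    intro x hx
    simp only [repW, List.mem_append] at hx
    rcases hx with hx | hx
    · exact hws x hx
    · exact ih x hx

theorem wordPerm_repW (C : ChevData.{u} D) (ws : List ℕ) (k : ℕ) :
    wordPerm C (repW ws k) = wordPerm C ws ^ k := by
  induction k with
  | zero => rw [repW, wordPerm_nil, pow_zero]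
  | succ k ih => rw [repW, wordPerm_append, ih, pow_succ']

/-- A strictly increasing chain above `a`. -/
def chainLt : ℕ → List ℕ → Bool
  | _, [] => true
  | a, b :: l => decide (a < b) && chainLt b l

theorem chainLt_spec (a : ℕ) (l : List ℕ) (h : chainLt a l = true) : (∀ x ∈ l, a < x) ∧ l.Nodup := by
  induction l generalizing a with
  | nil => exact ⟨by simp, List.nodup_nil⟩
  | cons b l ih =>
    simp only [chainLt, Bool.and_eq_true, decide_eq_true_eq] at h
    obtain ⟨h1, h2⟩ := ih b h.2
    refine ⟨?_, ?_⟩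
    · intro x hx
      rcases List.mem_cons.mp hx with rfl | hx
      · exact h.1
      · exact h.1.trans (h1 x hx)
    · rw [List.nodup_cons]
      exact ⟨fun hb => lt_irrefl _ (h1 b hb), h2⟩

/-- A strictly increasing list. -/
def sortedKeys : List ℕ → Bool
  | [] => true
  | a :: l => chainLt a l

theorem sortedKeys_nodup (l : List ℕ) (h : sortedKeys l = true) : l.Nodup := by
  cases l with
  | nil => exact List.nodup_nil
  | cons a l =>
    obtain ⟨h1, h2⟩ := chainLt_spec a l h
    rw [List.nodup_cons]
    exact ⟨fun ha => lt_irrefl _ (h1 a ha), h2⟩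

/-- The images of the fundamental roots under a word, packed in a number. -/
def keyOf (tabs simples ws : List ℕ) : ℕ :=
  simples.foldr (fun s acc => wordRootF tabs ws s + 256 * acc) 0

section

variable (C : ChevData.{u} D) (cfg : TwCfg)

/-- The permutation of the roots of the class `idx i`. -/
def twGen {n : ℕ} (idx : Fin n → ℕ) (i : Fin n) : Equiv.Perm (Fin D.nroots) :=
  wordPerm C (cfg.classes.getD (idx i) [])

/-- The group `W¹` of permutations of the roots generated by the classes. -/
def twW {n : ℕ} (idx : Fin n → ℕ) : Subgroup (Equiv.Perm (Fin D.nroots)) :=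
  Subgroup.closure (Set.range (twGen C cfg idx))

/-- The check of the relations `(w_I w_J)^{m_IJ} = 1` on the tables. -/
def TwCfg.relOK (tabs : List ℕ) (nroots n : ℕ) (idx : ℕ → ℕ) (m : ℕ → ℕ → ℕ) : Bool :=
  (List.range n).all fun i => (List.range n).all fun j => (List.range nroots).all fun r =>
    wordRootF tabs (repW (cfg.classes.getD (idx i) [] ++ cfg.classes.getD (idx j) []) (m i j)) r == r

/-- The check of a list of words in the classes with distinct permutations. -/
def TwCfg.listOK (tabs simples : List ℕ) (nroots : ℕ) (wl : List (List ℕ)) : Bool :=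
  wl.all (fun cw => cw.all fun c => decide (c < cfg.classes.length)) &&
    simples.all (fun s => decide (s < nroots)) &&
    sortedKeys (wl.map fun cw => keyOf tabs simples (cfg.wordOf cw))

end

section

variable (C : ChevData.{u} D) (cfg : TwCfg) (hcfg : cfg.ok C.T C.tabs C.simples = true)

include hcfg in
theorem rel_of_relOK {n : ℕ} (idx : Fin n → ℕ) (hidx : ∀ i, idx i < cfg.classes.length) (idx' : ℕ → ℕ)
    (hidx' : ∀ i : Fin n, idx' i = idx i) (m : ℕ → ℕ → ℕ)
    (h : cfg.relOK C.tabs D.nroots n idx' m = true) (i j : Fin n) :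
    (twGen C cfg idx i * twGen C cfg idx j) ^ m i j = 1 := by
  unfold twGen
  rw [← wordPerm_append, ← wordPerm_repW]
  have hlt : ∀ x ∈ repW (cfg.classes.getD (idx i) [] ++ cfg.classes.getD (idx j) []) (m i j), x < D.rank := by
    apply repW_lt
    intro x hx
    rcases List.mem_append.mp hx with hx | hx
    · exact (classOK_spec C cfg hcfg _ (hidx i)).2.1 x hx
    · exact (classOK_spec C cfg hcfg _ (hidx j)).2.1 x hx
  ext r
  rw [wordPerm_apply C _ hlt, Equiv.Perm.one_apply]
  unfold TwCfg.relOK at h
  simp only [List.all_eq_true, List.mem_range, beq_iff_eq] at h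
  have := h i i.isLt j j.isLt r r.isLt
  rw [hidx' i, hidx' j] at this
  exact this

include hcfg in
theorem wordPerm_wordOf_mem {n : ℕ} (idx : Fin n → ℕ) (hsurj : ∀ k < cfg.classes.length, ∃ i, idx i = k)
    (cw : List ℕ) (hcw : ∀ c ∈ cw, c < cfg.classes.length) :
    wordPerm C (cfg.wordOf cw) ∈ twW C cfg idx := by
  induction cw with
  | nil => exact one_mem _
  | cons c cw ih =>
    have e : cfg.wordOf (c :: cw) = cfg.classes.getD c [] ++ cfg.wordOf cw := by
      unfold TwCfg.wordOf
      rw [List.flatMap_cons]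
    rw [e, wordPerm_append]
    refine mul_mem ?_ (ih (fun c' hc' => hcw c' (List.mem_cons_of_mem _ hc')))
    obtain ⟨i, hi⟩ := hsurj c (hcw c (List.mem_cons_self ..))
    apply Subgroup.subset_closure
    exact ⟨i, by unfold twGen; rw [hi]⟩

theorem keyOf_congr (tabs simples ws ws' : List ℕ)
    (h : ∀ s ∈ simples, wordRootF tabs ws s = wordRootF tabs ws' s) :
    keyOf tabs simples ws = keyOf tabs simples ws' := by
  unfold keyOf
  induction simples with
  | nil => rfl
  | cons s l ih =>
    rw [List.foldr_cons, List.foldr_cons, h s (List.mem_cons_self ..),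
      ih (fun s' hs' => h s' (List.mem_cons_of_mem _ hs'))]

include hcfg in
/-- A list of words with distinct keys bounds `|W¹|` from below. -/
theorem length_le_card_twW {n : ℕ} (idx : Fin n → ℕ) (hsurj : ∀ k < cfg.classes.length, ∃ i, idx i = k)
    (wl : List (List ℕ)) (h : cfg.listOK C.tabs C.simples D.nroots wl = true) :
    wl.length ≤ Nat.card ↥(twW C cfg idx) := by
  unfold TwCfg.listOK at h
  simp only [Bool.and_eq_true, List.all_eq_true, decide_eq_true_eq] at h
  obtain ⟨⟨h1, h3⟩, h2⟩ := h
  have hnd := sortedKeys_nodup _ h2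
  let f : Fin wl.length → ↥(twW C cfg idx) := fun i =>
    ⟨wordPerm C (cfg.wordOf wl[i]), wordPerm_wordOf_mem C cfg hcfg idx hsurj _ (h1 _ (List.getElem_mem _))⟩
  have hf : Function.Injective f := by
    intro i j hij
    have e : wordPerm C (cfg.wordOf wl[i]) = wordPerm C (cfg.wordOf wl[j]) := congrArg Subtype.val hij
    have hk : keyOf C.tabs C.simples (cfg.wordOf wl[i]) = keyOf C.tabs C.simples (cfg.wordOf wl[j]) := by
      apply keyOf_congr
      intro s hs
      have hs' : s < D.nroots := h3 s hs
      have e1 := wordPerm_apply C (cfg.wordOf wl[i])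
        (wordOf_lt C cfg hcfg _ (h1 _ (List.getElem_mem _))) ⟨s, hs'⟩
      have e2 := wordPerm_apply C (cfg.wordOf wl[j])
        (wordOf_lt C cfg hcfg _ (h1 _ (List.getElem_mem _))) ⟨s, hs'⟩
      rw [← e1, ← e2, e]
    have hi' : (i : ℕ) < (wl.map fun cw => keyOf C.tabs C.simples (cfg.wordOf cw)).length := by
      rw [List.length_map]; exact i.isLt
    have hj' : (j : ℕ) < (wl.map fun cw => keyOf C.tabs C.simples (cfg.wordOf cw)).length := by
      rw [List.length_map]; exact j.isLt
    have := (List.Nodup.getElem_inj_iff hnd (hi := hi') (hj := hj')).mp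
      (by rw [List.getElem_map, List.getElem_map]; exact hk)
    exact Fin.ext this
  have := Nat.card_le_card_of_injective f hf
  rwa [Nat.card_eq_fintype_card, Fintype.card_fin] at this

end

section Fin

variable [Fintype K] (hD : D ∈ [chevG2, chevB2, chevD4, chevF4, chevE6, chevE7, chevE8]) (C : ChevData.{u} D)
  (cfg : TwCfg) (φ : K ≃+* K) (hcfg : cfg.ok C.T C.tabs C.simples = true)
  (hbn : cfg.bnOK C.T C.tabs C.simples = true)

include hcfg hbn in
/-- `N¹ / H¹` is the group presented by the Coxeter matrix `M`. -/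
theorem exists_coxeter_hom_tw {n : ℕ} (M : CoxeterMatrix (Fin n)) (idx : Fin n → ℕ)
    (hidx : ∀ i, idx i < cfg.classes.length) (hsurj : ∀ k < cfg.classes.length, ∃ i, idx i = k)
    (hrel : ∀ i j : Fin n, (twGen C cfg idx i * twGen C cfg idx j) ^ M.M i j = 1)
    (hne : Nat.card M.Group ≠ 0)
    (hcard : Nat.card M.Group ≤ Nat.card ↥(twW C cfg idx)) :
    ∃ f : ↥(D.monomialSubgroup K ⊓ Gtw hD C cfg φ) →* M.Group, Function.Surjective f ∧
      f.ker = (D.diagonalSubgroup K ⊓ Gtw hD C cfg φ).subgroupOf (D.monomialSubgroup K ⊓ Gtw hD C cfg φ) := by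
  classical
  let ψ : M.Group →* Equiv.Perm (Fin D.nroots) := M.toCoxeterSystem.lift ⟨twGen C cfg idx, hrel⟩
  have hψs : ∀ i, ψ (M.simple i) = twGen C cfg idx i := fun i => by
    rw [← CoxeterMatrix.toCoxeterSystem_simple]
    exact CoxeterSystem.lift_apply_simple _ _ _
  have hrange : ψ.range = twW C cfg idx := by
    unfold twW
    rw [MonoidHom.range_eq_map, ← M.toCoxeterSystem.subgroup_closure_range_simple, MonoidHom.map_closure]
    congr 1
    ext w
    constructor
    · rintro ⟨_, ⟨i, rfl⟩, rfl⟩
      exact ⟨i, by rw [CoxeterMatrix.toCoxeterSystem_simple, hψs]⟩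
    · rintro ⟨i, rfl⟩
      exact ⟨_, ⟨i, rfl⟩, by rw [CoxeterMatrix.toCoxeterSystem_simple, hψs]⟩
  have hfin : Finite M.Group := Nat.finite_of_card_ne_zero hne
  have hinj : Function.Injective ψ := by
    have hle : Nat.card ψ.range ≤ Nat.card M.Group :=
      Nat.card_le_card_of_surjective _ ψ.rangeRestrict_surjective
    have hb : Function.Bijective ψ.rangeRestrict := by
      rw [Nat.bijective_iff_surjective_and_card]
      refine ⟨ψ.rangeRestrict_surjective, le_antisymm ?_ hle⟩
      rw [hrange]
      exact hcard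
    intro a b hab
    apply hb.1
    exact Subtype.ext hab
  let ψ' : M.Group ≃* ψ.range := MonoidHom.ofInjective hinj
  let π : ↥(D.monomialSubgroup K ⊓ Gtw hD C cfg φ) →* Equiv.Perm (Fin D.nroots) :=
    (permHom hD C).comp (Subgroup.inclusion inf_le_left)
  -- the generators
  have hgen : ∀ k (hk : k < cfg.classes.length),
      permHom (F := K) hD C ⟨nW hD C (cfg.classes.getD k []), nW_mem_monomial hD C _⟩
        = wordPerm C (cfg.classes.getD k []) := fun k hk =>
    permHom_apply hD C _ _ (classOK_spec C cfg hcfg k hk).2.1 1 (one_mem _) (by simp)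
  -- the image of `π` lies in `W¹`
  have hπmem : ∀ x, π x ∈ ψ.range := by
    intro x
    rw [hrange]
    obtain ⟨w, hw, h, hh, e⟩ := exists_word_of_mem_monomial_Gtw hD C cfg φ hcfg hbn x.1 x.2
    have hcl : Subgroup.closure (twS (K := K) hD C cfg)
        ≤ ((twW C cfg idx).comap (permHom (F := K) hD C)).map (D.monomialSubgroup K).subtype := by
      rw [Subgroup.closure_le]
      rintro y ⟨k, hk, rfl⟩
      refine ⟨⟨nW hD C (cfg.classes.getD k []), nW_mem_monomial hD C _⟩, ?_, rfl⟩
      show permHom hD C _ ∈ twW C cfg idx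
      rw [hgen k hk]
      obtain ⟨i, hi⟩ := hsurj k hk
      apply Subgroup.subset_closure
      exact ⟨i, by unfold twGen; rw [hi]⟩
    obtain ⟨w', hw', ew⟩ := hcl hw
    have hw'' : permHom hD C w' ∈ twW C cfg idx := hw'
    have hhN : h ∈ D.monomialSubgroup K := diagonal_le_monomial hD hh.1
    have hx : Subgroup.inclusion inf_le_left x = w' * ⟨h, hhN⟩ := by
      apply Subtype.ext
      rw [Subgroup.coe_mul]
      show x.1 = _
      rw [e, ← ew]
      rfl
    show permHom hD C (Subgroup.inclusion inf_le_left x) ∈ _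
    rw [hx, map_mul]
    have hker : (⟨h, hhN⟩ : ↥(D.monomialSubgroup K)) ∈ (permHom (F := K) hD C).ker := by
      rw [permHom_ker, Subgroup.mem_subgroupOf]
      exact hh.1
    rw [MonoidHom.mem_ker.mp hker, mul_one]
    exact hw''
  let π' : ↥(D.monomialSubgroup K ⊓ Gtw hD C cfg φ) →* ψ.range := π.codRestrict ψ.range hπmem
  refine ⟨ψ'.symm.toMonoidHom.comp π', ?_, ?_⟩
  · -- surjective
    have hle : twW C cfg idx ≤ π.range := by
      unfold twW
      rw [Subgroup.closure_le]
      rintro _ ⟨i, rfl⟩
      refine ⟨⟨nW hD C (cfg.classes.getD (idx i) []),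
        twS_le hD C cfg φ hcfg (Subgroup.subset_closure ⟨idx i, hidx i, rfl⟩)⟩, ?_⟩
      exact hgen (idx i) (hidx i)
    intro x
    have hx : ψ x ∈ twW C cfg idx := by rw [← hrange]; exact ⟨x, rfl⟩
    obtain ⟨y, hy⟩ := hle hx
    refine ⟨y, ?_⟩
    show ψ'.symm (π' y) = x
    rw [MulEquiv.symm_apply_eq]
    apply Subtype.ext
    exact hy
  · -- kernel
    ext x
    rw [MonoidHom.mem_ker, Subgroup.mem_subgroupOf]
    show ψ'.symm (π' x) = 1 ↔ _
    rw [MulEquiv.symm_apply_eq, map_one]
    have h1 : π' x = 1 ↔ permHom hD C (Subgroup.inclusion inf_le_left x) = 1 := by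
      constructor
      · intro h
        exact congrArg Subtype.val h
      · intro h
        exact Subtype.ext h
    rw [h1, ← MonoidHom.mem_ker, permHom_ker, Subgroup.mem_subgroupOf, Subgroup.mem_inf]
    constructor
    · intro h
      exact ⟨h, x.2.2⟩
    · intro h
      exact h.1

end Fin

end Cfsg.Agent.Lib.Helper18
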