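/-
helper18: the cells of a twisted group: for a word `w` in the classes, the representatives of the classes of positive
roots are split into those kept positive and those made negative by `w`; the fixed elements of `U` in the ordering
adapted to `w`; every element of `N¹` is `n_w h` with `w` in a complete list of words.
-/
import Cfsg.Agent.Lib.Helper18.Tw25
import Cfsg.Agent.Lib.Helper18.Tw10
import Cfsg.Agent.Lib.Helper18.Tw8

set_option autoImplicit false

namespace Cfsg.Agent.Lib.Helper18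

open Cfsg.Lie Cfsg.Agent.Lib.Helper17

universe u

variable {K : Type u} [Field K] {D : ChevalleyDatum}

section Defs

variable (cfg : TwCfg)

/-- The representatives of the classes of positive roots made negative by the word `cw` in the classes. -/
def TwCfg.negReps (tabs : List ℕ) (nroots : ℕ) (cw : List ℕ) : List ℕ :=
  cfg.reps.filter fun s => decide (wordRootF tabs (cfg.wordOf cw) s < nroots / 2)

/-- The representatives of the classes of positive roots kept positive by the word `cw` in the classes. -/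
def TwCfg.posReps (tabs : List ℕ) (nroots : ℕ) (cw : List ℕ) : List ℕ :=
  cfg.reps.filter fun s => !decide (wordRootF tabs (cfg.wordOf cw) s < nroots / 2)

/-- The representatives in the order adapted to `cw`. -/
def TwCfg.cellReps (tabs : List ℕ) (nroots : ℕ) (cw : List ℕ) : List ℕ :=
  cfg.posReps tabs nroots cw ++ cfg.negReps tabs nroots cw

/-- The number of positive roots made negative by `cw`. -/
def TwCfg.negExp (tabs : List ℕ) (nroots : ℕ) (cw : List ℕ) : ℕ :=
  (cfg.g.clsList cfg.m (cfg.negReps tabs nroots cw)).length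

/-- The check that the words of the list act on the classes: a root of the class of a representative is made
negative if and only if the representative is. -/
def TwCfg.cellOK (tabs : List ℕ) (nroots : ℕ) (wl : List (List ℕ)) : Bool :=
  wl.all fun cw => cfg.reps.all fun s => (cfg.g.orb cfg.m s).all fun r =>
    decide (wordRootF tabs (cfg.wordOf cw) r < nroots / 2) == decide (wordRootF tabs (cfg.wordOf cw) s < nroots / 2)

theorem TwCfg.cellReps_perm (tabs : List ℕ) (nroots : ℕ) (cw : List ℕ) :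
    (cfg.cellReps tabs nroots cw).Perm cfg.reps :=
  List.perm_append_comm.trans (List.filter_append_perm _ cfg.reps)

theorem TwCfg.clsList_cellReps_perm (tabs : List ℕ) (nroots : ℕ) (cw : List ℕ) :
    (cfg.g.clsList cfg.m (cfg.cellReps tabs nroots cw)).Perm (cfg.g.clsList cfg.m cfg.reps) :=
  (cfg.cellReps_perm tabs nroots cw).flatMap_right _

theorem TwCfg.clsList_cellReps (tabs : List ℕ) (nroots : ℕ) (cw : List ℕ) :
    cfg.g.clsList cfg.m (cfg.cellReps tabs nroots cw)
      = cfg.g.clsList cfg.m (cfg.posReps tabs nroots cw) ++ cfg.g.clsList cfg.m (cfg.negReps tabs nroots cw) := by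
  unfold TwCfg.cellReps GraphData.clsList
  rw [List.flatMap_append]

end Defs

section Conj

variable (hD : D ∈ [chevG2, chevB2, chevD4, chevF4, chevE6, chevE7, chevE8]) (C : ChevData.{u} D)

/-- The conjugate by `n_w h` of the root subgroup of `r` lies in `V` or in `U` according to the sign of `w r`. -/
theorem map_conj_rootSubgroup_nW (ws : List ℕ) (hws : ∀ i ∈ ws, i < D.rank) (h : GL D.Idx K)
    (hh : h ∈ D.diagonalSubgroup K) (r : ℕ) (hr : r < D.nroots) :
    (wordRootF C.tabs ws r < D.nroots / 2 →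
      (D.rootSubgroup K r).map (MulAut.conj (nW hD C ws * h)).toMonoidHom ≤ D.negUnipotent K) ∧
    (¬ wordRootF C.tabs ws r < D.nroots / 2 →
      (D.rootSubgroup K r).map (MulAut.conj (nW hD C ws * h)).toMonoidHom ≤ D.posUnipotent K) := by
  have hr' := wordRootF_lt C ws hws r hr
  have hconj : ∀ t : K, ∃ t' : K, (nW hD C ws * h) * xG hD r t * (nW hD C ws * h)⁻¹
      = xG hD (wordRootF C.tabs ws r) t' := by
    intro t
    obtain ⟨t', ht'⟩ := Cfsg.Agent.S1036.conj_root_elem D hD h hh (xG hD r t) r hr t rfl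
    have e1 : h * xG hD r t * h⁻¹ = xG hD r t' := Units.ext ht'
    refine ⟨(wordSignF C.tabs ws r : K) * t', ?_⟩
    have e2 : nW hD C ws * h * xG hD r t * (nW hD C ws * h)⁻¹
        = nW hD C ws * (h * xG hD r t * h⁻¹) * (nW hD C ws)⁻¹ := by group
    rw [e2, e1, nW_conj_xG hD C ws hws r hr]
  have key : ∀ (S : Subgroup (GL D.Idx K)), (∀ t' : K, xG hD (wordRootF C.tabs ws r) t' ∈ S) →
      (D.rootSubgroup K r).map (MulAut.conj (nW hD C ws * h)).toMonoidHom ≤ S := by
    intro S hS
    rw [Subgroup.map_le_iff_le_comap]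
    intro g hg
    obtain ⟨t, rfl⟩ := (mem_rootSubgroup_iff hD r g).mp hg
    rw [Subgroup.mem_comap]
    obtain ⟨t', ht'⟩ := hconj t
    show (nW hD C ws * h) * xG hD r t * (nW hD C ws * h)⁻¹ ∈ S
    rw [ht']
    exact hS t'
  constructor
  · intro hlt
    apply key
    intro t'
    exact Subgroup.subset_closure ⟨_, t', isNegRoot_of_lt D (signOK_of_mem D hD) _ hr' hlt, rfl⟩
  · intro hlt
    apply key
    intro t'
    exact xG_mem_posUnipotent hD _ t' ((isPosRoot_iff hD _).mpr ⟨hr', by omega⟩)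

end Conj

section Fin

variable [Fintype K] (hD : D ∈ [chevG2, chevB2, chevD4, chevF4, chevE6, chevE7, chevE8]) (C : ChevData.{u} D)
  (cfg : TwCfg) (φ : K ≃+* K) (hcfg : cfg.ok C.T C.tabs C.simples = true)
  (hbn : cfg.bnOK C.T C.tabs C.simples = true)

include hD hcfg in
/-- A reordering of the representatives still lists every positive root exactly once. -/
theorem repsOK_spec_perm (reps' : List ℕ) (hp : reps'.Perm cfg.reps) :
    (∀ r ∈ cfg.g.clsList cfg.m reps', D.IsPosRoot r) ∧ (cfg.g.clsList cfg.m reps').Nodup ∧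
      (∀ r, D.IsPosRoot r → r ∈ cfg.g.clsList cfg.m reps') ∧ (∀ s ∈ reps', s ∈ cfg.reps) ∧
      (∀ s ∈ reps', s < D.nroots) := by
  obtain ⟨hl, hnd, hall⟩ := repsOK_spec hD C cfg hcfg
  have hp' : (cfg.g.clsList cfg.m reps').Perm (cfg.g.clsList cfg.m cfg.reps) := hp.flatMap_right _
  refine ⟨fun r hr => hl r (hp'.mem_iff.mp hr), hp'.nodup_iff.mpr hnd, fun r hr => hp'.mem_iff.mpr (hall r hr),
    fun s hs => hp.mem_iff.mp hs, fun s hs => reps_lt hD C cfg hcfg s (hp.mem_iff.mp hs)⟩

include hcfg in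
/-- The coefficients of a fixed element of `U`, in a reordering of the classes. -/
theorem exists_prodL_of_fixed_perm (reps' : List ℕ) (hp : reps'.Perm cfg.reps) (x : GL D.Idx K)
    (hx : x ∈ D.posUnipotent K) (hfix : csig C cfg φ hcfg x = x) :
    ∃ t : ℕ → K, (∀ r ∈ cfg.g.clsList cfg.m reps', t r = twT cfg.g φ cfg.m t r) ∧
      x = prodL hD (cfg.g.clsList cfg.m reps') t := by
  obtain ⟨L⟩ := nonempty_levelData D hD
  obtain ⟨hl, hnd, hall, -, hlt⟩ := repsOK_spec_perm hD C cfg hcfg reps' hp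
  obtain ⟨t, rfl⟩ := exists_prodL hD C L _ hl hnd hall x hx
  refine ⟨t, ?_, rfl⟩
  unfold csig at hfix
  rw [sig_prodL_cls hD C cfg.g (cfg_gok C cfg hcfg) φ cfg.m (cfg_twOK C cfg hcfg) (cfg_m C cfg hcfg) reps' hlt]
    at hfix
  intro r hr
  exact (prodL_injective_of_fintype hD _ hl hnd hall _ _ hfix r hr).symm

include hcfg in
/-- The words of a list with distinct keys have distinct permutations. -/
theorem wordPerm_wordOf_inj (wl : List (List ℕ)) (h : cfg.listOK C.tabs C.simples D.nroots wl = true)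
    (i j : Fin wl.length) (e : wordPerm C (cfg.wordOf wl[i]) = wordPerm C (cfg.wordOf wl[j])) : i = j := by
  unfold TwCfg.listOK at h
  simp only [Bool.and_eq_true, List.all_eq_true, decide_eq_true_eq] at h
  obtain ⟨⟨h1, h3⟩, h2⟩ := h
  have hnd := sortedKeys_nodup _ h2
  have hk : keyOf C.tabs C.simples (cfg.wordOf wl[i]) = keyOf C.tabs C.simples (cfg.wordOf wl[j]) := by
    apply keyOf_congr
    intro s hs
    have hs' : s < D.nroots := h3 s hs
    have e1 := wordPerm_apply C (cfg.wordOf wl[i])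
      (wordOf_lt C cfg hcfg _ (h1 _ (List.getElem_mem _))) ⟨s, hs'⟩
    have e2 := wordPerm_apply C (cfg.wordOf wl[j])
      (wordOf_lt C cfg hcfg _ (h1 _ (List.getElem_mem _))) ⟨s, hs'⟩
    rw [← e1, ← e2, e]
  have hi' : (i : ℕ) < (wl.map fun cw => keyOf C.tabs C.simples (cfg.wordOf cw)).length := by
    rw [List.length_map]; exact i.isLt
  have hj' : (j : ℕ) < (wl.map fun cw => keyOf C.tabs C.simples (cfg.wordOf cw)).length := by
    rw [List.length_map]; exact j.isLt
  have := (List.Nodup.getElem_inj_iff hnd (hi := hi') (hj := hj')).mp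
    (by rw [List.getElem_map, List.getElem_map]; exact hk)
  exact Fin.ext this

theorem listOK_lt (wl : List (List ℕ)) (h : cfg.listOK C.tabs C.simples D.nroots wl = true) :
    ∀ cw ∈ wl, ∀ c ∈ cw, c < cfg.classes.length := by
  unfold TwCfg.listOK at h
  simp only [Bool.and_eq_true, List.all_eq_true, decide_eq_true_eq] at h
  exact h.1.1

include hcfg hbn in
/-- Every element of `N¹` is `n_w h` with `w` in a complete list of words and `h ∈ H¹`. -/
theorem exists_wl_of_mem_monomial_Gtw {n : ℕ} (idx : Fin n → ℕ)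
    (hsurj : ∀ k < cfg.classes.length, ∃ i, idx i = k)
    (wl : List (List ℕ)) (h : cfg.listOK C.tabs C.simples D.nroots wl = true)
    (hW : Nat.card ↥(twW C cfg idx) ≤ wl.length)
    (x : GL D.Idx K) (hx : x ∈ D.monomialSubgroup K ⊓ Gtw hD C cfg φ) :
    ∃ i : Fin wl.length, ∃ h' ∈ D.diagonalSubgroup K ⊓ Gtw hD C cfg φ, x = nW hD C (cfg.wordOf wl[i]) * h' := by
  have hlt := listOK_lt C cfg wl h
  -- the words of the list exhaust `W¹`
  let f : Fin wl.length → ↥(twW C cfg idx) := fun i =>
    ⟨wordPerm C (cfg.wordOf wl[i]), wordPerm_wordOf_mem C cfg hcfg idx hsurj _ (hlt _ (List.getElem_mem _))⟩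
  have hf : Function.Injective f := fun i j hij =>
    wordPerm_wordOf_inj C cfg hcfg wl h i j (congrArg Subtype.val hij)
  have hfb : Function.Bijective f := hf.bijective_of_nat_card_le (by
    rw [Nat.card_fin]; exact hW)
  -- the permutation of `x`
  obtain ⟨w, hw, h₁, hh₁, e⟩ := exists_word_of_mem_monomial_Gtw hD C cfg φ hcfg hbn x hx
  have hgen : ∀ k (hk : k < cfg.classes.length),
      permHom (F := K) hD C ⟨nW hD C (cfg.classes.getD k []), nW_mem_monomial hD C _⟩
        = wordPerm C (cfg.classes.getD k []) := fun k hk =>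
    permHom_apply hD C _ _ (classOK_spec C cfg hcfg k hk).2.1 1 (one_mem _) (by simp)
  have hcl : Subgroup.closure (twS (K := K) hD C cfg)
      ≤ ((twW C cfg idx).comap (permHom (F := K) hD C)).map (D.monomialSubgroup K).subtype := by
    rw [Subgroup.closure_le]
    rintro y ⟨k, hk, rfl⟩
    refine ⟨⟨nW hD C (cfg.classes.getD k []), nW_mem_monomial hD C _⟩, ?_, rfl⟩
    show permHom hD C _ ∈ twW C cfg idx
    rw [hgen k hk]
    obtain ⟨i, hi⟩ := hsurj k hk
    apply Subgroup.subset_closure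
    exact ⟨i, by unfold twGen; rw [hi]⟩
  obtain ⟨w', hw', ew⟩ := hcl hw
  have hw'' : permHom hD C w' ∈ twW C cfg idx := hw'
  obtain ⟨i, hi⟩ := hfb.2 ⟨permHom hD C w', hw''⟩
  have hi' : wordPerm C (cfg.wordOf wl[i]) = permHom hD C w' := congrArg Subtype.val hi
  obtain ⟨ws₀, h₀, hws₀, hh₀, e₀⟩ := isWordH_of_mem_monomial hD C w'.1 w'.2
  rw [permHom_apply hD C w' ws₀ hws₀ h₀ hh₀ e₀] at hi'
  have hwsi := wordOf_lt C cfg hcfg wl[i] (hlt _ (List.getElem_mem _))
  have hm := nW_inv_mul_nW_mem (F := K) hD C _ ws₀ hwsi hws₀ hi'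
  have hwG : w ∈ Gtw hD C cfg φ := (twS_le hD C cfg φ hcfg hw).2
  have hnG : nW hD C (cfg.wordOf wl[i]) ∈ Gtw hD C cfg φ :=
    nW_wordOf_mem_Gtw hD C cfg φ hcfg _ (hlt _ (List.getElem_mem _))
  have ew' : w = nW hD C ws₀ * h₀ := by rw [← e₀, ← ew]; rfl
  refine ⟨i, (nW hD C (cfg.wordOf wl[i]))⁻¹ * w * h₁, Subgroup.mem_inf.mpr ⟨?_, ?_⟩, ?_⟩
  · rw [ew']
    have : (nW hD C (cfg.wordOf wl[i]))⁻¹ * (nW hD C ws₀ * h₀) * h₁
        = ((nW hD C (cfg.wordOf wl[i]))⁻¹ * nW hD C ws₀) * h₀ * h₁ := by group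
    rw [this]
    exact mul_mem (mul_mem hm hh₀) hh₁.1
  · exact mul_mem (mul_mem (inv_mem hnG) hwG) hh₁.2
  · rw [e]; group

end Fin

end Cfsg.Agent.Lib.Helper18
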