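/-
helper18: the longest element inverts the torus (generic); for `²F₄`: `V ∩ Fix σ ≤ ²F₄`, `H ∩ Fix σ` normalises `²F₄`
and lies in it; `|H¹| = (q - 1)²`.
-/
import Cfsg.Agent.Lib.Helper18.F4J
import Cfsg.Agent.Lib.Helper18.Tw21
import Cfsg.Agent.Lib.Helper18.Tw28
import Cfsg.Agent.Lib.Helper61.Ree.F4HFix

set_option autoImplicit false

namespace Cfsg.Agent.Lib.Helper18.F4T

open Cfsg.Lie Cfsg.Agent.Lib.Helper18 Cfsg.Agent.Lib.Helper91.ReeF4 Cfsg.Agent.Lib.Helper91.SigAbs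
open Cfsg.Agent.Lib.Helper91.ExcAut

universe u

section Gen

variable {K : Type u} [Field K] {D : ChevalleyDatum}
  (hD : D ∈ [chevG2, chevB2, chevD4, chevF4, chevE6, chevE7, chevE8]) (C : ChevData.{u} D)

include hD in
/-- A diagonal element is determined by its action on the root elements. -/
theorem diag_eq_of_conj (z z' : GL D.Idx K) (hz : z ∈ D.diagonalSubgroup K) (hz' : z' ∈ D.diagonalSubgroup K)
    (h : ∀ r < D.nroots, z * xG hD r 1 * z⁻¹ = z' * xG hD r 1 * z'⁻¹) : z = z' := by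
  rw [← range_torusHom D hD] at hz hz'
  obtain ⟨c, rfl⟩ := hz
  obtain ⟨c', rfl⟩ := hz'
  have hc : ∀ i < D.rank, extC D.rank c i ≠ 0 := fun i _ => extC_ne_zero _ c i
  have hc' : ∀ i < D.rank, extC D.rank c' i ≠ 0 := fun i _ => extC_ne_zero _ c' i
  apply Units.ext
  rw [coe_torusHom, coe_torusHom]
  congr 1
  funext j
  rcases j with j | s
  · rfl
  · have h1 := h s.1 s.2
    rw [torus_conj_xG hD _ _ hc (coe_torusHom D c) s.1 s.2,
      torus_conj_xG hD _ _ hc' (coe_torusHom D c') s.1 s.2] at h1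
    have h2 := xG_injective hD s.1 s.2 _ _ h1
    unfold chiFun at h2
    rw [dif_pos s.2, dif_pos s.2, mul_one, mul_one] at h2
    exact h2

include hD in
/-- A word acting as `-1` on the roots inverts the torus. -/
theorem nW_conj_diag_inv (ws : List ℕ) (hws : ∀ i ∈ ws, i < D.rank)
    (hneg : ∀ r < D.nroots, wordRootF C.tabs ws r = D.neg r) (z : GL D.Idx K) (hz : z ∈ D.diagonalSubgroup K) :
    nW hD C ws * z * (nW hD C ws)⁻¹ = z⁻¹ := by
  have hz1 : nW hD C ws * z * (nW hD C ws)⁻¹ ∈ D.diagonalSubgroup K := nW_conj_H hD C ws z hz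
  have key : nW hD C ws * z * (nW hD C ws)⁻¹ * z = 1 := by
    apply diag_eq_of_conj hD _ _ (mul_mem hz1 hz) (one_mem _)
    intro r hr
    rw [← range_torusHom D hD] at hz
    obtain ⟨c, rfl⟩ := hz
    have hc : ∀ i < D.rank, extC D.rank c i ≠ 0 := fun i _ => extC_ne_zero _ c i
    have hs : D.neg r < D.nroots := neg_lt_nroots D hD r hr
    have hws_s : wordRootF C.tabs ws (D.neg r) = r := by
      have h1 := hneg (D.neg r) hs
      have h2 := hneg r hr
      -- `w (w r) = r`?  use `neg (neg r) = r`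
      rw [h1]
      have hn := C.nroots_eq
      have e1 : D.neg r = D.nroots - 1 - r := by
        rw [C.neg_eq r hr]; unfold FastDatum.neg; omega
      rw [C.neg_eq _ hs]; unfold FastDatum.neg; rw [e1]; omega
    set n : GL D.Idx K := nW hD C ws with hn
    set ε : K := ((wordSignF C.tabs ws (D.neg r) : ℤ) : K) with hε
    have hεε : ε * ε = 1 := by
      rcases wordSignF_cases C.tabs ws (D.neg r) with h | h <;> simp [hε, h]
    -- `n⁻¹ x_r(t) n = x_{-r}(ε t)`
    have e1 : ∀ t : K, xG hD r t = n * xG hD (D.neg r) (ε * t) * n⁻¹ := by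
      intro t
      rw [hn, nW_conj_xG hD C ws hws (D.neg r) hs, hws_s, ← mul_assoc, hεε, one_mul]
    have e2 : ∀ t : K, n * torusHom D K c * n⁻¹ * xG hD r t * (n * torusHom D K c * n⁻¹)⁻¹
        = xG hD r (chiFun (D := D) (extC D.rank c) (D.neg r) * t) := by
      intro t
      rw [e1 t]
      have : n * torusHom D K c * n⁻¹ * (n * xG hD (D.neg r) (ε * t) * n⁻¹) * (n * torusHom D K c * n⁻¹)⁻¹
          = n * (torusHom D K c * xG hD (D.neg r) (ε * t) * (torusHom D K c)⁻¹) * n⁻¹ := by group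
      rw [this, torus_conj_xG hD _ _ hc (coe_torusHom D c) (D.neg r) hs, e1]
      congr 2
      ring
    have e3 : n * torusHom D K c * n⁻¹ * torusHom D K c * xG hD r 1 * (n * torusHom D K c * n⁻¹ * torusHom D K c)⁻¹
        = n * torusHom D K c * n⁻¹ * (torusHom D K c * xG hD r 1 * (torusHom D K c)⁻¹)
          * (n * torusHom D K c * n⁻¹)⁻¹ := by group
    rw [e3, torus_conj_xG hD _ _ hc (coe_torusHom D c) r hr, e2]
    simp only [one_mul, inv_one, mul_one]
    congr 1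
    unfold chiFun
    rw [dif_pos hs, dif_pos hr, torusFun_neg D hD _ r hr hs]
    exact inv_mul_cancel₀ (torusFun_ne_zero D _ hc _)
  exact eq_inv_of_mul_eq_one_left key

/-- A negative root element lies in `V`. -/
theorem xG_mem_negUnipotent' (hD : D ∈ [chevG2, chevB2, chevD4, chevF4, chevE6, chevE7, chevE8]) (s : ℕ) (t : K)
    (hs : s < D.nroots ∧ s < D.nroots / 2) : xG hD s t ∈ D.negUnipotent K :=
  Subgroup.subset_closure ⟨s, t, isNegRoot_of_lt D (signOK_of_mem D hD) s hs.1 hs.2, rfl⟩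

include hD in
/-- A word making all the negative roots positive conjugates `V` into `U`. -/
theorem nW_conj_neg_mem_pos (ws : List ℕ) (hws : ∀ i ∈ ws, i < D.rank)
    (hpos : ∀ r < D.nroots, r < D.nroots / 2 → D.nroots / 2 ≤ wordRootF C.tabs ws r)
    (v : GL D.Idx K) (hv : v ∈ D.negUnipotent K) : nW hD C ws * v * (nW hD C ws)⁻¹ ∈ D.posUnipotent K := by
  have hle : D.negUnipotent K ≤ (D.posUnipotent K).comap (MulAut.conj (nW (F := K) hD C ws)).toMonoidHom := by
    unfold ChevalleyDatum.negUnipotent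
    rw [Subgroup.closure_le]
    rintro g ⟨r, t, hr, hg⟩
    have hg' : g = xG hD r t := Units.ext hg
    have hr2 := (negOK_spec (negOK_of_mem D hD) r hr).1
    show nW hD C ws * g * (nW hD C ws)⁻¹ ∈ D.posUnipotent K
    rw [hg', nW_conj_xG hD C ws hws r hr.1]
    exact xG_mem_posUnipotent hD _ _ ((isPosRoot_iff hD _).mpr ⟨wordRootF_lt C ws hws r hr.1, hpos r hr.1 hr2⟩)
  exact hle hv

end Gen

section Fix

variable (K : Type u) [Field K] [Fintype K] [CharP K 2] (m : ℕ) (hq : ∀ t : K, t ^ (2 * 2 ^ m * 2 ^ m) = t)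

set_option maxRecDepth 100000 in
theorem f4Long_neg : ∀ r < 48, wordRootF f4tabs (wordJ f4Long) r = 47 - r := by decide +kernel

theorem f4_neg_eq : ∀ r < 48, chevF4.neg r = 47 - r := by decide

/-- The representative of the longest element. -/
noncomputable def f4n0 : GL chevF4.Idx K := nW hD4 chevData_F4.{u} (wordJ f4Long)

omit [Fintype K] in
theorem f4n0_mem : f4n0 K ∈ twistedF4 K (2 ^ m) :=
  nW_wordJ_mem K (2 ^ m) (pow_ne_zero _ (by norm_num)) f4Long

omit [Fintype K] [CharP K 2] in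
theorem f4n0_conj_diag (z : GL chevF4.Idx K) (hz : z ∈ chevF4.diagonalSubgroup K) :
    f4n0 K * z * (f4n0 K)⁻¹ = z⁻¹ := by
  apply nW_conj_diag_inv hD4 chevData_F4.{u} (wordJ f4Long) (wordJ_lt _) _ z hz
  intro r hr
  rw [f4tabs_eq, f4Long_neg r hr, f4_neg_eq r hr]

omit [Fintype K] [CharP K 2] in
theorem f4n0_conj_V (v : GL chevF4.Idx K) (hv : v ∈ chevF4.negUnipotent K) :
    f4n0 K * v * (f4n0 K)⁻¹ ∈ chevF4.posUnipotent K := by
  apply nW_conj_neg_mem_pos hD4 chevData_F4.{u} (wordJ f4Long) (wordJ_lt _) _ v hv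
  intro r hr hr2
  rw [f4tabs_eq, f4Long_neg r hr]
  have : chevF4.nroots = 48 := rfl
  omega

include hq in
/-- The fixed elements of `V` lie in `²F₄`. -/
theorem fixV_le (x : GL chevF4.Idx K) (hxV : x ∈ chevF4.negUnipotent K)
    (hxF : x ∈ (f4Fix K m).map (chevF4.group K).subtype) : x ∈ twistedF4 K (2 ^ m) := by
  have hn := f4n0_mem K m
  have hnF := twistedF4_le_f4Fix K m hq hn
  have h1 := fixU_le K m hq _ (f4n0_conj_V K x hxV) (mul_mem (mul_mem hnF hxF) (inv_mem hnF))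
  have e : x = (f4n0 K)⁻¹ * (f4n0 K * x * (f4n0 K)⁻¹) * f4n0 K := by group
  rw [e]
  exact mul_mem (mul_mem (inv_mem hn) h1) hn

include hq in
/-- The fixed elements of `H` normalise `²F₄`. -/
theorem fixH_conj_mem (h : GL chevF4.Idx K) (hH : h ∈ chevF4.diagonalSubgroup K)
    (hF : h ∈ (f4Fix K m).map (chevF4.group K).subtype) (g : GL chevF4.Idx K) (hg : g ∈ twistedF4 K (2 ^ m)) :
    h * g * h⁻¹ ∈ twistedF4 K (2 ^ m) := by
  have hle : twistedF4 K (2 ^ m) ≤ (twistedF4 K (2 ^ m)).comap (MulAut.conj h).toMonoidHom := by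
    conv_lhs => unfold twistedF4 ChevalleyDatum.genSubgroup
    rw [Subgroup.closure_le]
    rintro g ⟨w, hw, hgw⟩
    have hg' : g = wordG hD4 w := gen_eq_wordG g w hgw
    have hgG : g ∈ twistedF4 K (2 ^ m) := Subgroup.subset_closure ⟨w, hw, hgw⟩
    have hgF := twistedF4_le_f4Fix K m hq hgG
    have hcF : h * g * h⁻¹ ∈ (f4Fix K m).map (chevF4.group K).subtype := mul_mem (mul_mem hF hgF) (inv_mem hF)
    show h * g * h⁻¹ ∈ twistedF4 K (2 ^ m)
    have hUn := (Cfsg.Agent.S1036.result (F := K) chevF4 hD4).1 hH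
    have hVn := diagonal_le_normalizer_negUnipotent (F := K) chevF4 hD4 hH
    rcases hw with ⟨t, rfl | rfl⟩ | ⟨t, υ, rfl | rfl⟩
    · apply fixU_le K m hq _ _ hcF
      apply (Subgroup.mem_normalizer_iff.mp hUn g).mp
      rw [hg']
      simp only [f4PairWord, wordG_cons, wordG_nil, mul_one]
      exact mul_mem (xG_mem_posUnipotent hD4 _ _ ((isPosRoot_iff hD4 _).mpr (by decide)))
        (xG_mem_posUnipotent hD4 _ _ ((isPosRoot_iff hD4 _).mpr (by decide)))
    · apply fixV_le K m hq _ _ hcF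
      apply (Subgroup.mem_normalizer_iff.mp hVn g).mp
      rw [hg']
      simp only [f4PairWord, wordG_cons, wordG_nil, mul_one]
      exact mul_mem (xG_mem_negUnipotent' hD4 _ _ (by decide)) (xG_mem_negUnipotent' hD4 _ _ (by decide))
    · apply fixU_le K m hq _ _ hcF
      apply (Subgroup.mem_normalizer_iff.mp hUn g).mp
      rw [hg']
      simp only [b2ClassWord, wordG_cons, wordG_nil, mul_one]
      exact mul_mem (xG_mem_posUnipotent hD4 _ _ ((isPosRoot_iff hD4 _).mpr (by decide)))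
        (mul_mem (xG_mem_posUnipotent hD4 _ _ ((isPosRoot_iff hD4 _).mpr (by decide)))
          (mul_mem (xG_mem_posUnipotent hD4 _ _ ((isPosRoot_iff hD4 _).mpr (by decide)))
            (xG_mem_posUnipotent hD4 _ _ ((isPosRoot_iff hD4 _).mpr (by decide)))))
    · apply fixV_le K m hq _ _ hcF
      apply (Subgroup.mem_normalizer_iff.mp hVn g).mp
      rw [hg']
      simp only [b2ClassWord, wordG_cons, wordG_nil, mul_one]
      exact mul_mem (xG_mem_negUnipotent' hD4 _ _ (by decide)) (mul_mem (xG_mem_negUnipotent' hD4 _ _ (by decide))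
        (mul_mem (xG_mem_negUnipotent' hD4 _ _ (by decide)) (xG_mem_negUnipotent' hD4 _ _ (by decide))))
  exact hle hg

include hq in
/-- The squares of the fixed elements of `H` lie in `²F₄`. -/
theorem fixH_sq_mem (h : GL chevF4.Idx K) (hH : h ∈ chevF4.diagonalSubgroup K)
    (hF : h ∈ (f4Fix K m).map (chevF4.group K).subtype) : h * h ∈ twistedF4 K (2 ^ m) := by
  have hn := f4n0_mem K m
  have h1 := fixH_conj_mem K m hq h hH hF _ hn
  have h2 := f4n0_conj_diag K h⁻¹ (inv_mem hH)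
  rw [inv_inv] at h2
  have e : h * h = h * f4n0 K * h⁻¹ * (f4n0 K)⁻¹ := by
    have : h * f4n0 K * h⁻¹ * (f4n0 K)⁻¹ = h * (f4n0 K * h⁻¹ * (f4n0 K)⁻¹) := by group
    rw [this, h2]
  rw [e]
  exact mul_mem h1 (inv_mem hn)

include hq in
/-- The fixed elements of `H` lie in `²F₄`. -/
theorem fixH_le (h : GL chevF4.Idx K) (hH : h ∈ chevF4.diagonalSubgroup K)
    (hF : h ∈ (f4Fix K m).map (chevF4.group K).subtype) : h ∈ twistedF4 K (2 ^ m) := by
  obtain ⟨c, d, rfl⟩ := Cfsg.Agent.Lib.Helper61.ReeF4.f4H_surj m hq h hH hF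
  have hsq : ∀ c : Kˣ, c = c ^ (2 ^ m * 2 ^ m) * c ^ (2 ^ m * 2 ^ m) := by
    intro c
    apply Units.ext
    rw [← pow_add, Units.val_pow_eq_pow_val]
    have := hq (c : K)
    rw [show 2 * 2 ^ m * 2 ^ m = 2 ^ m * 2 ^ m + 2 ^ m * 2 ^ m by ring] at this
    exact this.symm
  rw [hsq c, hsq d, Cfsg.Agent.Lib.Helper61.ReeF4.f4H_mul]
  exact fixH_sq_mem K m hq _ (Cfsg.Agent.Lib.Helper61.ReeF4.f4H_mem_H _ _ _)
    (Cfsg.Agent.Lib.Helper61.ReeF4.f4H_mem_F m hq _ _)

include hq in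
/-- `H¹ = H ∩ Fix σ`. -/
theorem diag_inf_twisted_eq : chevF4.diagonalSubgroup K ⊓ twistedF4 K (2 ^ m)
    = chevF4.diagonalSubgroup K ⊓ (f4Fix K m).map (chevF4.group K).subtype := by
  apply le_antisymm
  · exact Cfsg.Agent.Lib.Helper61.ReeF4.diag_twisted_le m hq
  · rintro h ⟨hH, hF⟩
    exact ⟨hH, fixH_le K m hq h hH hF⟩

end Fix

end Cfsg.Agent.Lib.Helper18.F4T
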