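/-
helper18: the cells of `²F₄`: for each of the 16 words `w` in the two classes, the elements of `U_w^- ∩ ²F₄` are
parametrised by the parameters of the classes made negative by `w`.
-/
import Cfsg.Agent.Lib.Helper18.F4L
import Cfsg.Agent.Lib.Helper18.Tw10
import Cfsg.Agent.S1037

set_option autoImplicit false

namespace Cfsg.Agent.Lib.Helper18.F4T

open Cfsg.Lie Cfsg.Agent.Lib.Helper18 Cfsg.Agent.Lib.Helper91.ReeF4 Cfsg.Agent.Lib.Helper91.SigAbs
open Cfsg.Agent.Lib.Helper91.ExcAut

universe u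

/-- The first root of a class. -/
def Blk.hd : Blk → ℕ
  | .pair r _ => r
  | .quad a _ _ _ => a

/-- Whether the word in the classes makes the class negative. -/
def isNegB (cw : List ℕ) (B : Blk) : Bool := decide (wordRootF f4tabs (wordJ cw) B.hd < 24)

/-- The positive classes made negative. -/
def negBl (cw : List ℕ) : List Blk := posBlks.filter (isNegB cw)

/-- The positive classes kept positive. -/
def posBl (cw : List ℕ) : List Blk := posBlks.filter (fun B => !isNegB cw B)

/-- The positive classes, those kept positive first. -/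
def cellBl (cw : List ℕ) : List Blk := posBl cw ++ negBl cw

theorem cellBl_perm (cw : List ℕ) : (cellBl cw).Perm posBlks := by
  unfold cellBl posBl negBl
  exact List.perm_append_comm.trans (List.filter_append_perm _ _)

theorem rootsL_append (l l' : List Blk) : rootsL (l ++ l') = rootsL l ++ rootsL l' := by
  unfold rootsL
  rw [List.flatMap_append]

theorem paramsL_append (l l' : List Blk) : paramsL (l ++ l') = paramsL l ++ paramsL l' := by
  unfold paramsL
  rw [List.flatMap_append]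

/-- The 16 words in the two classes. -/
def f4wl : List (List ℕ) := [[], [0], [1], [0, 1], [1, 0], [0, 1, 0], [1, 0, 1], [0, 1, 0, 1], [1, 0, 1, 0],
  [0, 1, 0, 1, 0], [1, 0, 1, 0, 1], [0, 1, 0, 1, 0, 1], [1, 0, 1, 0, 1, 0], [0, 1, 0, 1, 0, 1, 0],
  [1, 0, 1, 0, 1, 0, 1], [1, 0, 1, 0, 1, 0, 1, 0]]

set_option maxRecDepth 100000 in
theorem cellOK : ∀ cw ∈ f4wl, ∀ B ∈ posBlks, ∀ r ∈ B.roots,
    decide (wordRootF f4tabs (wordJ cw) r < 24) = isNegB cw B := by decide +kernel

set_option maxRecDepth 100000 in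
theorem f4wl_nodup : (f4wl.map fun cw => (List.range 48).map (wordRootF f4tabs (wordJ cw))).Nodup := by
  decide +kernel

set_option maxRecDepth 100000 in
theorem f4wl_exp : f4wl.map (fun cw => (paramsL (negBl cw)).length)
    = [0, 1, 2, 3, 3, 4, 5, 6, 6, 7, 8, 9, 9, 10, 11, 12] := by decide +kernel

theorem negBl_spec (cw : List ℕ) (hcw : cw ∈ f4wl) : ∀ r ∈ rootsL (negBl cw),
    wordRootF f4tabs (wordJ cw) r < 24 := by
  intro r hr
  obtain ⟨B, hB, hrB⟩ := (mem_rootsL _ r).mp hr
  unfold negBl at hB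
  rw [List.mem_filter] at hB
  have := cellOK cw hcw B hB.1 r hrB
  rw [hB.2, decide_eq_true_eq] at this
  exact this

theorem posBl_spec (cw : List ℕ) (hcw : cw ∈ f4wl) : ∀ r ∈ rootsL (posBl cw),
    ¬ wordRootF f4tabs (wordJ cw) r < 24 := by
  intro r hr
  obtain ⟨B, hB, hrB⟩ := (mem_rootsL _ r).mp hr
  unfold posBl at hB
  rw [List.mem_filter, Bool.not_eq_true'] at hB
  have := cellOK cw hcw B hB.1 r hrB
  rw [hB.2, decide_eq_false_iff_not] at this
  exact this

section Cf

variable {K : Type u} [Field K]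

theorem Blk.cf_zero (e : ℕ) (he : e ≠ 0) (B : Blk) (p : ℕ → K) (hp : ∀ s ∈ B.params, p s = 0) (s : ℕ) :
    B.cf e p s = 0 := by
  cases B with
  | pair r rb =>
    have h1 := hp rb (by simp [Blk.params])
    simp only [Blk.cf, h1, zero_pow he, ite_self]
  | quad a b ab aab =>
    have h1 := hp b (by simp [Blk.params])
    have h2 := hp ab (by simp [Blk.params])
    have he2 : 2 * e ≠ 0 := by omega
    simp only [Blk.cf, h1, h2, zero_pow he, zero_pow (Nat.succ_ne_zero e), add_zero, zero_pow he2, ite_self]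

theorem cfL_congr (e : ℕ) (bl : List Blk) (hnd : (rootsL bl).Nodup) (p p' : ℕ → K)
    (h : ∀ s ∈ paramsL bl, p s = p' s) : ∀ s ∈ rootsL bl, cfL e bl p s = cfL e bl p' s := by
  intro s hs
  obtain ⟨B, hB, hsB⟩ := (mem_rootsL bl s).mp hs
  rw [cfL_of_mem e bl hnd p B hB s hsB, cfL_of_mem e bl hnd p' B hB s hsB]
  apply Blk.cf_congr
  intro s' hs'
  apply h
  unfold paramsL
  rw [List.mem_flatMap]
  exact ⟨B, hB, hs'⟩

theorem cfL_params (e : ℕ) (bl : List Blk) (hnd : (rootsL bl).Nodup) (hndB : ∀ B ∈ bl, B.roots.Nodup)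
    (p : ℕ → K) : ∀ s ∈ paramsL bl, cfL e bl p s = p s := by
  intro s hs
  unfold paramsL at hs
  rw [List.mem_flatMap] at hs
  obtain ⟨B, hB, hsB⟩ := hs
  rw [cfL_of_mem e bl hnd p B hB s (B.params_sub s hsB)]
  exact B.cf_params e (hndB B hB) p s hsB

end Cf

section Cell

variable (K : Type u) [Field K] [Fintype K] [CharP K 2]

/-- The element of `U_w^- ∩ ²F₄` with given parameters. -/
noncomputable def cellU (e : ℕ) (cw : List ℕ) (a : {s // s ∈ paramsL (negBl cw)} → K) : GL chevF4.Idx K :=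
  prodL hD4 (rootsL (cellBl cw)) (cfL e (cellBl cw) (extL (paramsL (negBl cw)) a))

omit [Fintype K] [CharP K 2] in
/-- The part of `cellU` over the classes kept positive is trivial. -/
theorem cellU_eq (e : ℕ) (he : e ≠ 0) (cw : List ℕ) (a : {s // s ∈ paramsL (negBl cw)} → K) :
    cellU K e cw a
      = prodL hD4 (rootsL (negBl cw)) (cfL e (cellBl cw) (extL (paramsL (negBl cw)) a)) := by
  obtain ⟨hok, hnd, hl, hall, hmem⟩ := perm_facts (cellBl cw) (cellBl_perm cw)
  unfold cellU
  have hsplit : rootsL (cellBl cw) = rootsL (posBl cw) ++ rootsL (negBl cw) := rootsL_append _ _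
  have hnd' := hnd
  rw [hsplit, List.nodup_append] at hnd'
  obtain ⟨-, -, hdisj⟩ := hnd'
  rw [hsplit, prodL_append]
  have h0 : prodL hD4 (rootsL (posBl cw)) (cfL e (cellBl cw) (extL (paramsL (negBl cw)) a))
      = prodL hD4 (rootsL (posBl cw)) (fun _ => 0) := by
    apply prodL_congr
    intro r hr
    obtain ⟨B, hB, hrB⟩ := (mem_rootsL _ r).mp hr
    rw [cfL_of_mem e (cellBl cw) hnd _ B (List.mem_append_left _ hB) r hrB]
    apply Blk.cf_zero e he
    intro s hs
    unfold extL
    rw [dif_neg]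
    intro hsn
    have h1 : s ∈ rootsL (posBl cw) := (mem_rootsL _ s).mpr ⟨B, hB, B.params_sub s hs⟩
    have h2 : s ∈ rootsL (negBl cw) := paramsL_sub _ s hsn
    exact hdisj s h1 s h2 rfl
  rw [h0, prodL_zero, one_mul]

omit [Fintype K] [CharP K 2] in
/-- Ordered products over the classes made negative lie in `U_n^-` for `n = n_w h`. -/
theorem prodL_negBl_mem_closure (cw : List ℕ) (hcw : cw ∈ f4wl) (h : GL chevF4.Idx K)
    (hh : h ∈ chevF4.diagonalSubgroup K) (t : ℕ → K) :
    prodL hD4 (rootsL (negBl cw)) t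
      ∈ Subgroup.closure (UnegSet chevF4 K (nW hD4 chevData_F4.{u} (wordJ cw) * h)) := by
  obtain ⟨hok, hnd, hl, hall, hmem⟩ := perm_facts (cellBl cw) (cellBl_perm cw)
  have hP : ∀ r ∈ rootsL (negBl cw), chevF4.IsPosRoot r ∧
      (chevF4.rootSubgroup K r).map (MulAut.conj (nW hD4 chevData_F4.{u} (wordJ cw) * h)).toMonoidHom
        ≤ chevF4.negUnipotent K := by
    intro r hr
    have hr' : r ∈ rootsL (cellBl cw) := by
      unfold cellBl
      rw [rootsL_append]
      exact List.mem_append_right _ hr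
    have hpos := hl r hr'
    refine ⟨hpos, (map_conj_rootSubgroup_nW hD4 chevData_F4.{u} _ (wordJ_lt cw) h hh r hpos.1).1 ?_⟩
    rw [f4tabs_eq]
    exact negBl_spec cw hcw r hr
  refine Subgroup.closure_mono ?_ (prodL_mem_closure hD4 _ _ hP _)
  rintro g ⟨s, t, ⟨h1, h2⟩, h3⟩
  exact ⟨s, t, h1, h2, h3⟩

omit [Fintype K] [CharP K 2] in
/-- `cellU` lies in `U_n^-` for `n = n_w h`. -/
theorem cellU_mem_closure (e : ℕ) (he : e ≠ 0) (cw : List ℕ) (hcw : cw ∈ f4wl) (h : GL chevF4.Idx K)
    (hh : h ∈ chevF4.diagonalSubgroup K) (a : {s // s ∈ paramsL (negBl cw)} → K) :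
    cellU K e cw a ∈ Subgroup.closure (UnegSet chevF4 K (nW hD4 chevData_F4.{u} (wordJ cw) * h)) := by
  rw [cellU_eq K e he]
  exact prodL_negBl_mem_closure K cw hcw h hh _

omit [Fintype K] in
/-- `cellU` lies in `²F₄`. -/
theorem cellU_mem (e : ℕ) (he : e ≠ 0) (cw : List ℕ) (a : {s // s ∈ paramsL (negBl cw)} → K) :
    cellU K e cw a ∈ twistedF4 K e := by
  obtain ⟨hok, hnd, hl, hall, hmem⟩ := perm_facts (cellBl cw) (cellBl_perm cw)
  exact prodL_cfL_mem K e he (cellBl cw) hmem hnd (fun B hB => B.roots_nodup (hok B hB)) _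

omit [CharP K 2] in
theorem cellU_injective (e : ℕ) (cw : List ℕ) (a a' : {s // s ∈ paramsL (negBl cw)} → K)
    (h : cellU K e cw a = cellU K e cw a') : a = a' := by
  obtain ⟨hok, hnd, hl, hall, hmem⟩ := perm_facts (cellBl cw) (cellBl_perm cw)
  have hndB : ∀ B ∈ cellBl cw, B.roots.Nodup := fun B hB => B.roots_nodup (hok B hB)
  have h2 := prodL_injective_of_fintype hD4 _ hl hnd hall _ _ h
  funext s
  have hs' : s.1 ∈ paramsL (cellBl cw) := by
    unfold cellBl
    rw [paramsL_append]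
    exact List.mem_append_right _ s.2
  have h3 := h2 s.1 (paramsL_sub _ s.1 hs')
  rw [cfL_params e _ hnd hndB _ s.1 hs', cfL_params e _ hnd hndB _ s.1 hs', extL_of_mem _ _ _ s.2,
    extL_of_mem _ _ _ s.2] at h3
  exact h3

variable (m : ℕ) (hq : ∀ t : K, t ^ (2 * 2 ^ m * 2 ^ m) = t)

include hq in
/-- Every element of `U_n^- ∩ ²F₄`, `n = n_w h`, is a `cellU`. -/
theorem exists_cellU (cw : List ℕ) (hcw : cw ∈ f4wl) (h : GL chevF4.Idx K)
    (hh : h ∈ chevF4.diagonalSubgroup K) (x : GL chevF4.Idx K)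
    (hx : x ∈ Subgroup.closure (UnegSet chevF4 K (nW hD4 chevData_F4.{u} (wordJ cw) * h)))
    (hxG : x ∈ twistedF4 K (2 ^ m)) :
    ∃ a : {s // s ∈ paramsL (negBl cw)} → K, x = cellU K (2 ^ m) cw a := by
  obtain ⟨hok, hnd, hl, hall, hmem⟩ := perm_facts (cellBl cw) (cellBl_perm cw)
  have hndB : ∀ B ∈ cellBl cw, B.roots.Nodup := fun B hB => B.roots_nodup (hok B hB)
  set n := nW hD4 chevData_F4.{u} (wordJ cw) * h with hn
  have hxU := closure_UnegSet_le chevF4 _ hx
  obtain ⟨t, rfl, ht⟩ := exists_cfL_of_fixed K m hq (cellBl cw) (cellBl_perm cw) x hxU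
    (twistedF4_le_f4Fix K m hq hxG)
  set lp := rootsL (posBl cw) with hlp
  set ln := rootsL (negBl cw) with hln
  have hsplit : rootsL (cellBl cw) = lp ++ ln := rootsL_append _ _
  have hnd' := hnd
  rw [hsplit, List.nodup_append] at hnd'
  obtain ⟨-, -, hdisj⟩ := hnd'
  have hmemp : ∀ r ∈ lp, r ∈ rootsL (cellBl cw) := fun r hr => by
    rw [hsplit]; exact List.mem_append_left _ hr
  -- the positive part is trivial
  have hneg : prodL hD4 ln t ∈ Subgroup.closure (UnegSet chevF4 K n) :=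
    prodL_negBl_mem_closure K cw hcw h hh t
  have hpe : prodL hD4 lp t = prodL hD4 (lp ++ ln) t * (prodL hD4 ln t)⁻¹ := by
    rw [prodL_append]; group
  have hpos : prodL hD4 lp t ∈ Subgroup.closure (UnegSet chevF4 K n) := by
    rw [hpe, ← hsplit]
    exact mul_mem hx (inv_mem hneg)
  have h1 : n * prodL hD4 lp t * n⁻¹ ∈ chevF4.negUnipotent K := conj_mem_negUnipotent hD4 n _ hpos
  have h2 : n * prodL hD4 lp t * n⁻¹ ∈ chevF4.posUnipotent K := by
    apply conj_prodL_mem_posUnipotent hD4 n lp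
    intro r hr
    refine (map_conj_rootSubgroup_nW hD4 chevData_F4.{u} _ (wordJ_lt cw) h hh r (hl r (hmemp r hr)).1).2 ?_
    rw [f4tabs_eq]
    exact posBl_spec cw hcw r hr
  have h3 : n * prodL hD4 lp t * n⁻¹ ∈ chevF4.borelSubgroup K ⊓ chevF4.negUnipotent K :=
    Subgroup.mem_inf.mpr ⟨borel_of_posUnipotent _ h2, h1⟩
  rw [(Cfsg.Agent.S1037.result chevF4 hD4).1, Subgroup.mem_bot] at h3
  have h4 : prodL hD4 lp t = 1 := by
    have : prodL hD4 lp t = n⁻¹ * (n * prodL hD4 lp t * n⁻¹) * n := by group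
    rw [this, h3]; group
  -- the coefficients on the positive part vanish
  classical
  let t' : ℕ → K := fun r => if r ∈ lp then 0 else t r
  have h5 : prodL hD4 (lp ++ ln) t = prodL hD4 (lp ++ ln) t' := by
    rw [prodL_append, prodL_append, h4]
    have e1 : prodL hD4 lp t' = 1 := by
      rw [← prodL_zero (F := K) hD4 lp]
      apply prodL_congr
      intro r hr
      show (if r ∈ lp then 0 else t r) = 0
      rw [if_pos hr]
    have e2 : prodL hD4 ln t' = prodL hD4 ln t := by
      apply prodL_congr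
      intro r hr
      show (if r ∈ lp then 0 else t r) = t r
      rw [if_neg fun hrp => hdisj r hrp r hr rfl]
    rw [e1, e2]
  rw [← hsplit] at h5
  have h6 := prodL_injective_of_fintype hD4 _ hl hnd hall _ _ h5
  have hvan : ∀ r ∈ lp, t r = 0 := by
    intro r hr
    have := h6 r (hmemp r hr)
    rw [this]
    show (if r ∈ lp then 0 else t r) = 0
    rw [if_pos hr]
  refine ⟨fun s => t s.1, ?_⟩
  unfold cellU
  apply prodL_congr
  intro s hs
  rw [ht s hs]
  refine cfL_congr (2 ^ m) (cellBl cw) hnd _ _ ?_ s hs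
  intro s' hs'
  unfold extL
  split_ifs with hmem'
  · rfl
  · unfold cellBl at hs'
    rw [paramsL_append, List.mem_append] at hs'
    rcases hs' with hs' | hs'
    · exact hvan s' (paramsL_sub _ s' hs')
    · exact absurd hs' hmem'

end Cell

end Cfsg.Agent.Lib.Helper18.F4T
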