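/-
helper18: the order of `²F₄(q)`: `N¹ = ⊔_w n_w H¹` over the 16 words, the parametrisation of `²F₄` by the cells, and
`|²F₄(q)| = q¹² (q - 1)(q³ + 1)(q⁴ - 1)(q⁶ + 1)`.
-/
import Cfsg.Agent.Lib.Helper18.F4M
import Cfsg.Agent.Lib.Helper18.F4K

set_option autoImplicit false

namespace Cfsg.Agent.Lib.Helper18.F4T

open Cfsg.Lie Cfsg.Agent.Lib.Helper18 Cfsg.Agent.Lib.Helper91.ReeF4 Cfsg.Agent.Lib.Helper91.SigAbs
open Cfsg.Agent.Lib.Helper91.ExcAut

universe u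

/-- The 16 words have distinct permutations. -/
theorem wordPerm_wordJ_inj (i j : Fin f4wl.length)
    (e : wordPerm chevData_F4.{u} (wordJ f4wl[i]) = wordPerm chevData_F4.{u} (wordJ f4wl[j])) : i = j := by
  have hk : (List.range 48).map (wordRootF f4tabs (wordJ f4wl[i]))
      = (List.range 48).map (wordRootF f4tabs (wordJ f4wl[j])) := by
    apply List.map_congr_left
    intro r hr
    have hr' : r < chevF4.nroots := List.mem_range.mp hr
    have e1 := wordPerm_apply chevData_F4.{u} (wordJ f4wl[i]) (wordJ_lt _) ⟨r, hr'⟩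
    have e2 := wordPerm_apply chevData_F4.{u} (wordJ f4wl[j]) (wordJ_lt _) ⟨r, hr'⟩
    rw [f4tabs_eq] at e1 e2
    rw [← e1, ← e2, e]
  have hi' : (i : ℕ) < (f4wl.map fun cw => (List.range 48).map (wordRootF f4tabs (wordJ cw))).length := by
    rw [List.length_map]; exact i.isLt
  have hj' : (j : ℕ) < (f4wl.map fun cw => (List.range 48).map (wordRootF f4tabs (wordJ cw))).length := by
    rw [List.length_map]; exact j.isLt
  have := (List.Nodup.getElem_inj_iff f4wl_nodup (hi := hi') (hj := hj')).mp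
    (by rw [List.getElem_map, List.getElem_map]; exact hk)
  exact Fin.ext this

set_option maxRecDepth 100000 in
theorem f4wl_params_nodup : ∀ cw ∈ f4wl, (paramsL (negBl cw)).Nodup := by decide +kernel

section Fix

variable (K : Type u) [Field K] [Fintype K] [CharP K 2] (m : ℕ) (hq : ∀ t : K, t ^ (2 * 2 ^ m * 2 ^ m) = t)

include hq in
/-- The Weyl group of `²F₄` has 16 elements. -/
theorem card_W1 : Nat.card ↥(f4TwAbs K m hq).W1 = 16 := by
  have T := f4TwAbs K m hq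
  have hW : (f4TwAbs K m hq).W1
      = Subgroup.closure ({wordPerm chevData_F4.{u} [0, 3], wordPerm chevData_F4.{u} [1, 2, 1, 2]} :
      Set (Equiv.Perm (Fin chevF4.nroots))) := by
    unfold TwAbs.W1
    congr 1
    ext p
    simp [f4Js]
  obtain ⟨e⟩ := Cfsg.Agent.Lib.Helper99.DihGen.exists_mulEquiv_dihedral
    (wordPerm chevData_F4.{u} [0, 3]) (wordPerm chevData_F4.{u} [1, 2, 1, 2]) 8 (by norm_num) f4_aa f4_bb f4_order
  rw [Nat.card_congr ((MulEquiv.subgroupCongr hW).trans e).toEquiv, DihedralGroup.nat_card]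

include hq in
theorem wordPerm_wordJ_mem_W1 (cw : List ℕ) : wordPerm chevData_F4.{u} (wordJ cw) ∈ (f4TwAbs K m hq).W1 := by
  induction cw with
  | nil => exact one_mem _
  | cons k cw ih =>
    rw [wordJ_cons, wordPerm_append]
    refine mul_mem ?_ ih
    unfold clsJ
    split_ifs
    · exact Subgroup.subset_closure ⟨[0, 3], by simp [f4Js], rfl⟩
    · exact Subgroup.subset_closure ⟨[1, 2, 1, 2], by simp [f4Js], rfl⟩
    · exact one_mem _

include hq in
/-- Every element of `N¹` is `n_w h` with `w` one of the 16 words and `h ∈ H¹`. -/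
theorem exists_wl_of_mem_N1 (x : GL chevF4.Idx K) (hx : x ∈ chevF4.monomialSubgroup K ⊓ twistedF4 K (2 ^ m)) :
    ∃ i : Fin f4wl.length, ∃ h' ∈ chevF4.diagonalSubgroup K ⊓ twistedF4 K (2 ^ m),
      x = nW hD4 chevData_F4.{u} (wordJ f4wl[i]) * h' := by
  have he : (2 : ℕ) ^ m ≠ 0 := pow_ne_zero _ (by norm_num)
  let f : Fin f4wl.length → ↥(f4TwAbs K m hq).W1 := fun i =>
    ⟨wordPerm chevData_F4.{u} (wordJ f4wl[i]), wordPerm_wordJ_mem_W1 K m hq _⟩
  have hf : Function.Injective f := fun i j hij => wordPerm_wordJ_inj i j (congrArg Subtype.val hij)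
  have hfb : Function.Bijective f := hf.bijective_of_nat_card_le (by
    rw [Nat.card_fin, card_W1 K m hq]; decide)
  have hp := (f4TwAbs K m hq).permHom_mem_W1 ⟨x, hx⟩
  obtain ⟨i, hi⟩ := hfb.2 ⟨_, hp⟩
  have hi' : wordPerm chevData_F4.{u} (wordJ f4wl[i])
      = permHom hD4 chevData_F4.{u} (Subgroup.inclusion inf_le_left
        (⟨x, hx⟩ : ↥(chevF4.monomialSubgroup K ⊓ twistedF4 K (2 ^ m)))) := congrArg Subtype.val hi
  obtain ⟨ws₀, h₀, hws₀, hh₀, e₀⟩ := isWordH_of_mem_monomial hD4 chevData_F4.{u} x hx.1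
  rw [permHom_apply hD4 chevData_F4.{u} _ ws₀ hws₀ h₀ hh₀ e₀] at hi'
  have hm := nW_inv_mul_nW_mem (F := K) hD4 chevData_F4.{u} _ ws₀ (wordJ_lt _) hws₀ hi'
  have hnG : nW hD4 chevData_F4.{u} (wordJ f4wl[i]) ∈ twistedF4 K (2 ^ m) := nW_wordJ_mem K (2 ^ m) he _
  refine ⟨i, (nW hD4 chevData_F4.{u} (wordJ f4wl[i]))⁻¹ * x, Subgroup.mem_inf.mpr ⟨?_, ?_⟩, ?_⟩
  · rw [e₀]
    have : (nW hD4 chevData_F4.{u} (wordJ f4wl[i]))⁻¹ * (nW hD4 chevData_F4.{u} ws₀ * h₀)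
        = ((nW hD4 chevData_F4.{u} (wordJ f4wl[i]))⁻¹ * nW hD4 chevData_F4.{u} ws₀) * h₀ := by group
    rw [this]
    exact mul_mem hm hh₀
  · exact mul_mem (inv_mem hnG) hx.2
  · group

/-- The parametrisation of `²F₄` by the cells. -/
noncomputable def f4CellMap :
    (Σ i : Fin f4wl.length, (↥(chevF4.posUnipotent K ⊓ twistedF4 K (2 ^ m))
        × ↥(chevF4.diagonalSubgroup K ⊓ twistedF4 K (2 ^ m)))
      × ({s // s ∈ paramsL (negBl f4wl[i])} → K)) → ↥(twistedF4 K (2 ^ m)) :=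
  fun x => ⟨(x.2.1.1 : GL chevF4.Idx K) * (nW hD4 chevData_F4.{u} (wordJ f4wl[x.1]) * (x.2.1.2 : GL chevF4.Idx K))
      * cellU K (2 ^ m) f4wl[x.1] x.2.2,
    mul_mem (mul_mem x.2.1.1.2.2 (mul_mem (nW_wordJ_mem K (2 ^ m) (pow_ne_zero _ (by norm_num)) _) x.2.1.2.2.2))
      (cellU_mem K (2 ^ m) (pow_ne_zero _ (by norm_num)) _ _)⟩

theorem f4CellMap_injective : Function.Injective (f4CellMap K m) := by
  have he : (2 : ℕ) ^ m ≠ 0 := pow_ne_zero _ (by norm_num)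
  rintro ⟨i, ⟨u₀, h⟩, a⟩ ⟨i', ⟨u₀', h'⟩, a'⟩ heq
  have h0 : (u₀ : GL chevF4.Idx K) * (nW hD4 chevData_F4.{u} (wordJ f4wl[i]) * (h : GL chevF4.Idx K))
        * cellU K (2 ^ m) f4wl[i] a
      = (u₀' : GL chevF4.Idx K) * (nW hD4 chevData_F4.{u} (wordJ f4wl[i']) * (h' : GL chevF4.Idx K))
        * cellU K (2 ^ m) f4wl[i'] a' :=
    congrArg Subtype.val heq
  obtain ⟨e1, e2, e3⟩ := bruhat_strong_unique hD4 chevData_F4.{u} _ _ _ _ _ _ u₀.2.1 u₀'.2.1
    (mul_mem (nW_mem_monomial hD4 chevData_F4.{u} _) (diagonal_le_monomial hD4 h.2.1))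
    (mul_mem (nW_mem_monomial hD4 chevData_F4.{u} _) (diagonal_le_monomial hD4 h'.2.1))
    (cellU_mem_closure K (2 ^ m) he _ (List.getElem_mem _) _ h.2.1 a)
    (cellU_mem_closure K (2 ^ m) he _ (List.getElem_mem _) _ h'.2.1 a') h0
  have hii : i = i' := wordPerm_wordJ_inj i i'
    (wordPerm_eq_of_eq hD4 chevData_F4.{u} _ _ (wordJ_lt _) (wordJ_lt _) _ _ h.2.1 h'.2.1 e2)
  subst hii
  have e4 : (h : GL chevF4.Idx K) = h' := mul_left_cancel e2
  have e5 : a = a' := cellU_injective K _ _ _ _ e3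
  have hu : u₀ = u₀' := Subtype.ext e1
  have hh : h = h' := Subtype.ext e4
  rw [hu, hh, e5]

include hq in
theorem f4CellMap_surjective : Function.Surjective (f4CellMap K m) := by
  rintro ⟨g, hg⟩
  obtain ⟨u₀, hu₀, n, hn, u, hu, huG, e⟩ := exists_form K m hq g hg
  obtain ⟨i, h', hh', en⟩ := exists_wl_of_mem_N1 K m hq n hn
  rw [en] at hu
  obtain ⟨a, eu⟩ := exists_cellU K m hq _ (List.getElem_mem _) h' hh'.1 u hu huG
  refine ⟨⟨i, (⟨u₀, hu₀⟩, ⟨h', hh'⟩), a⟩, ?_⟩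
  apply Subtype.ext
  show u₀ * (nW hD4 chevData_F4.{u} (wordJ f4wl[i]) * h') * cellU K (2 ^ m) f4wl[i] a = g
  rw [e, en, eu]
  rfl

include hq in
/-- `|²F₄| = q¹² |H¹| ∑_w q^{N(w)}`. -/
theorem card_twistedF4_aux :
    Nat.card ↥(twistedF4 K (2 ^ m)) = Fintype.card K ^ 12
      * Nat.card ↥(chevF4.diagonalSubgroup K ⊓ twistedF4 K (2 ^ m))
      * (f4wl.map fun cw => Fintype.card K ^ (paramsL (negBl cw)).length).sum := by
  classical
  rw [← Nat.card_congr (Equiv.ofBijective (f4CellMap K m)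
    ⟨f4CellMap_injective K m, f4CellMap_surjective K m hq⟩), Nat.card_sigma]
  have hfun : ∀ i : Fin f4wl.length, Nat.card ({s // s ∈ paramsL (negBl f4wl[i])} → K)
      = Fintype.card K ^ (paramsL (negBl f4wl[i])).length := by
    intro i
    rw [Nat.card_eq_fintype_card, Fintype.card_fun,
      Fintype.card_of_subtype (paramsL (negBl f4wl[i])).toFinset (by simp)]
    congr 1
    exact List.toFinset_card_of_nodup (f4wl_params_nodup _ (List.getElem_mem _))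
  simp only [Nat.card_prod, hfun, card_U1 K m hq]
  rw [← Finset.mul_sum]
  exact congrArg _ (Fin.sum_univ_fun_getElem f4wl (fun cw => Fintype.card K ^ (paramsL (negBl cw)).length))

end Fix

/-- `|²F₄(q)| = q¹² (q - 1)(q³ + 1)(q⁴ - 1)(q⁶ + 1)`. -/
theorem card_twistedF4 {K : Type u} [Field K] [Fintype K] {m : ℕ} (hK : Fintype.card K = 2 ^ (2 * m + 1)) :
    Nat.card ↥(twistedF4 K (2 ^ m)) =
      (2 ^ (2 * m + 1)) ^ 12 * (2 ^ (2 * m + 1) - 1) * ((2 ^ (2 * m + 1)) ^ 3 + 1) * ((2 ^ (2 * m + 1)) ^ 4 - 1)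
        * ((2 ^ (2 * m + 1)) ^ 6 + 1) := by
  have := charP_two_of_card hK
  have hq := hq_of_card hK
  rw [card_twistedF4_aux K m hq, diag_inf_twisted_eq K m hq, Cfsg.Agent.Lib.Helper61.ReeF4.card_H_inf_F m hK, hK]
  generalize (2 : ℕ) ^ (2 * m + 1) = q
  have hsum : (f4wl.map fun cw => q ^ (paramsL (negBl cw)).length).sum
      = q ^ 0 + q ^ 1 + q ^ 2 + q ^ 3 + q ^ 3 + q ^ 4 + q ^ 5 + q ^ 6 + q ^ 6 + q ^ 7 + q ^ 8 + q ^ 9 + q ^ 9
        + q ^ 10 + q ^ 11 + q ^ 12 := by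
    have : (f4wl.map fun cw => q ^ (paramsL (negBl cw)).length)
        = (f4wl.map (fun cw => (paramsL (negBl cw)).length)).map (fun e => q ^ e) := by
      rw [List.map_map]
      rfl
    rw [this, f4wl_exp]
    simp only [List.map_cons, List.map_nil, List.sum_cons, List.sum_nil]
    ring
  rw [hsum]
  rcases Nat.eq_zero_or_pos q with rfl | hpos
  · simp
  obtain ⟨k, rfl⟩ : ∃ k, q = k + 1 := ⟨q - 1, by omega⟩
  have e4 : (k + 1) ^ 4 - 1 = k * ((k + 1) ^ 3 + (k + 1) ^ 2 + (k + 1) + 1) := by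
    apply Nat.sub_eq_of_eq_add
    ring
  rw [Nat.add_sub_cancel, e4]
  ring

end Cfsg.Agent.Lib.Helper18.F4T
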