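/-
helper18: the order of the diagonal subgroup H over a finite field.
-/
import Cfsg.Agent.Lib.Helper18.CartanSNF

set_option autoImplicit false

namespace Cfsg.Agent.Lib.Helper18

open Cfsg Cfsg.Lie

section Count

variable {G : Type*} [CommGroup G] {l : ℕ}

theorem mpow_diagOfList (c : Fin l → G) (ds : List ℕ) :
    mpow c (diagOfList l ds) = fun j => c j ^ (ds.getD j 0) := by
  funext j
  unfold mpow diagOfList
  rw [Finset.prod_eq_single j]
  · simp
  · intro i _ hij
    rw [Matrix.diagonal_apply_ne _ hij, zpow_zero]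
  · intro h; exact absurd (Finset.mem_univ j) h

theorem card_ker_mpow_diag [Finite G] [IsCyclic G] (ds : List ℕ) :
    Nat.card (mpowHom (G := G) (diagOfList l ds)).ker = ∏ j : Fin l, (Nat.card G).gcd (ds.getD j 0) := by
  have e : ↥(mpowHom (G := G) (diagOfList l ds)).ker
      ≃ ((j : Fin l) → ↥(powMonoidHom (ds.getD j 0) : G →* G).ker) :=
    { toFun := fun c j => ⟨c.1 j, by
        have := c.2
        rw [MonoidHom.mem_ker, mpowHom_apply, mpow_diagOfList] at this
        rw [MonoidHom.mem_ker, powMonoidHom_apply]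
        exact congrFun this j⟩
      invFun := fun c => ⟨fun j => (c j).1, by
        rw [MonoidHom.mem_ker, mpowHom_apply, mpow_diagOfList]
        funext j
        have := (c j).2
        rw [MonoidHom.mem_ker, powMonoidHom_apply] at this
        exact this⟩
      left_inv := fun c => rfl
      right_inv := fun c => rfl }
  rw [Nat.card_congr e, Nat.card_pi]
  apply Finset.prod_congr rfl
  intro j _
  exact IsCyclic.card_powMonoidHom_ker G _

end Count

variable {F : Type*} [Field F] [Fintype F]

/-- `(∏_j gcd(q - 1, d_j)) |H| = (q - 1)^l`, where the `d_j` are the elementary divisors of the Cartan matrix. -/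
theorem card_diagonal (D : ChevalleyDatum)
    (hD : D ∈ [chevG2, chevB2, chevD4, chevF4, chevE6, chevE7, chevE8]) (m : ℕ → ℕ → ℤ) (hm : RootComb D m)
    (P P' Q Q' : List (List ℤ)) (ds : List ℕ) (hsnf : SNFCert D.rank (cartanMat D) P P' Q Q' ds) :
    (∏ j : Fin D.rank, (Fintype.card F - 1).gcd (ds.getD j 0)) * Nat.card (D.diagonalSubgroup F)
      = (Fintype.card F - 1) ^ D.rank := by
  classical
  have hcardU : Nat.card Fˣ = Fintype.card F - 1 := by
    rw [Nat.card_eq_fintype_card, Fintype.card_units]
  have hs : ∀ j : Fin D.rank, D.simple j < D.nroots := fun j => simple_lt' D hD j j.2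
  rw [← range_torusHom (F := F) D hD]
  have h1 := Subgroup.card_mul_index (torusHom D F).ker
  rw [Subgroup.index_ker] at h1
  rw [ker_torusHom D m hm hs, card_ker_mpow_eq (G := Fˣ) _ _ (matOfList D.rank P') _ _ (matOfList D.rank Q') hsnf.1 hsnf.2.1 hsnf.2.2.1 hsnf.2.2.2,
    card_ker_mpow_diag, hcardU] at h1
  rw [h1, Nat.card_pi]
  simp only [hcardU, Finset.prod_const, Finset.card_univ, Fintype.card_fin]

end Cfsg.Agent.Lib.Helper18
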