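/-
helper18: n_r preserves the Cartan part, for all roots of type E8.
-/
import Cfsg.Agent.Lib.Helper18.NChkHE8p0
import Cfsg.Agent.Lib.Helper18.NChkHE8p1
import Cfsg.Agent.Lib.Helper18.NChkHE8p2

set_option autoImplicit false

namespace Cfsg.Agent.Lib.Helper18

open Cfsg.Lie

theorem nCheckH_E8 (r : ℕ) (hr : r < 240) : fastE8.nCheckH r = true := by
  by_cases h0 : r < 80
  · exact of_allRange nCheckH_E8_0 r (by omega) (by omega)
  by_cases h1 : r < 160
  · exact of_allRange nCheckH_E8_1 r (by omega) (by omega)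
  exact of_allRange nCheckH_E8_2 r (by omega) (by omega)

end Cfsg.Agent.Lib.Helper18
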