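/-
helper18: the explicit signed monomial matrix of `n_p(1)` for a fundamental root `p`, with the relations between the
signs, from checks on the packed tables.
-/
import Cfsg.Agent.Lib.Helper18.BN1

set_option autoImplicit false

namespace Cfsg.Agent.Lib.Helper18

open Cfsg.Lie

namespace FastDatum

variable (T : FastDatum)

/-- The expected column of `n_p(1)` at `h_{p_j}`: `h_{p_j} - A_{p_j, p} h_{p_i}`. -/
def expColH (i p j : ℕ) : MVec :=
  [(Sum.inl j, ((1, 0, 0, 0, 0) : Mono4)), (Sum.inl i, ((-(T.cartan j p), 0, 0, 0, 0) : Mono4))]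

/-- The check of the columns of `n_p(1)` at the Cartan part. -/
def npColH (i p : ℕ) : Bool :=
  (List.range T.rank).all fun j0 => forceNat j0 fun j =>
    (normM (T.nCol1 p (Sum.inl j) ++ negM (T.expColH i p j))).isEmpty

/-- The check of the signs. -/
def npSigns (i p tab : ℕ) : Bool :=
  T.tabValid tab && (tabSign tab p == -1) && (tabSign tab (T.neg p) == -1) &&
  (List.range T.nroots).all fun s =>
    (tabSign tab s * tabSign tab (tabRoot tab s) == (-1) ^ (T.cartan i s).natAbs) &&
      (tabSign tab s * tabSign tab (T.neg s) == 1)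

/-- The complete check. -/
def npOK (tabs simples : List ℕ) : Bool :=
  (List.range T.rank).all fun i =>
    T.npColH i (simples.getD i 0) && T.npSigns i (simples.getD i 0) (tabs.getD i 0)

end FastDatum

section Sound

variable {F : Type*} [Field F]

theorem evM_const (ρ : ℕ → F) (a : ℤ) : evM ρ ((a, 0, 0, 0, 0) : Mono4) = (a : F) := by
  simp [evM]

/-- The explicit matrix of `n_{p_i}(1)`. -/
theorem np_matrix.{u} {F : Type u} [Field F] {D : ChevalleyDatum} (C : ChevData.{u} D)
    (hOK : C.T.npOK C.tabs C.simples = true) (i : ℕ) (hi : i < D.rank) :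
    ∃ η : ℕ → ℤ, (∀ s < D.nroots, η s = 1 ∨ η s = -1) ∧ η (D.simple i) = -1 ∧ η (D.neg (D.simple i)) = -1 ∧
      (∀ s < D.nroots, η s * η (D.reflectRoot i s) = (-1) ^ (D.cartan i s).natAbs ∧ η s * η (D.neg s) = 1) ∧
      D.nMat F (D.simple i) 1 = Matrix.of (fun (row col : D.Idx) =>
        Sum.elim
          (fun j' : Fin D.rank => Sum.elim
            (fun j : Fin D.rank => (if j' = j then (1 : F) else 0) - (if (j' : ℕ) = i then ((D.cartan j (D.simple i) : ℤ) : F) else 0))
            (fun _ => (0 : F)) col)
          (fun s' : Fin D.nroots => Sum.elim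
            (fun _ => (0 : F))
            (fun s : Fin D.nroots => if (s' : ℕ) = D.reflectRoot i s then ((η s : ℤ) : F) else 0) col)
          row) := by
  have hn := C.T.nroots_eq D C.hag
  have hl := C.T.rank_eq D C.hag
  have hp : D.simple i < D.nroots := C.simple_lt i hi
  unfold FastDatum.npOK at hOK
  rw [List.all_eq_true] at hOK
  have h0 := hOK i (List.mem_range.mpr (hl ▸ hi))
  rw [← C.hsimple i hi, Bool.and_eq_true] at h0
  obtain ⟨hH, hS⟩ := h0
  unfold FastDatum.npSigns at hS
  simp only [Bool.and_eq_true, beq_iff_eq, List.all_eq_true, List.mem_range] at hS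
  obtain ⟨⟨⟨hv, hs1⟩, hs2⟩, hs3⟩ := hS
  have htab : C.tabs.getD i 0 = C.T.rootTab (D.simple i) := C.htabs i hi
  refine ⟨tabSign (C.tabs.getD i 0), fun s _ => tabSign_cases _ _, hs1, ?_, ?_, ?_⟩
  · rw [C.neg_eq _ hp]
    exact hs2
  · intro s hs
    have h3 := hs3 s (hn ▸ hs)
    rw [C.hrefl i hi s hs, C.T.cartan_eq D C.hag i hi s hs, C.neg_eq s hs]
    exact h3
  · -- the matrix
    have hρ : (fun _ : ℕ => (1 : F)) 0 * (fun _ : ℕ => (1 : F)) 1 = 1 := by simp
    ext row col
    rw [Matrix.of_apply]
    have hcol : D.nMat F (D.simple i) 1 row col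
        = ((D.nMat F (D.simple i) 1).mulVec (Pi.single col 1)) row := by
      rw [Matrix.mulVec_single_one]
      rfl
    rw [hcol]
    rcases col with j | s
    · -- a column of the Cartan part
      rw [← C.T.evMVec_nCol1 D C.hag (D.simple i) hp (fun _ => 1) hρ (Sum.inl j)]
      unfold FastDatum.npColH at hH
      rw [List.all_eq_true] at hH
      have h1 := hH j.1 (List.mem_range.mpr (by rw [hl]; exact j.2))
      rw [forceNat_eq, List.isEmpty_iff] at h1
      have h2 : evMVec D (fun _ : ℕ => (1 : F)) (C.T.nCol1 (D.simple i) (Sum.inl j.1)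
          ++ negM (C.T.expColH i (D.simple i) j.1)) = 0 := by
        rw [← evMVec_normM D _ hρ, h1]
        rfl
      rw [evMVec_append, evMVec_negM, add_neg_eq_zero] at h2
      have hcode : code D (Sum.inl j) = Sum.inl j.1 := rfl
      rw [hcode, h2]
      unfold FastDatum.expColH
      rw [evMVec_cons, Pi.add_apply, evMVec_single_apply, evMVec_single_apply, evM_const, evM_const,
        ← C.T.cartan_eq D C.hag j.1 j.2 (D.simple i) hp]
      rcases row with j' | s'
      · simp only [Sum.elim_inl, code, Sum.map_inl, Sum.inl.injEq]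
        have e1 : (j.1 = j'.1) ↔ (j' = j) := by
          constructor
          · intro h; exact (Fin.ext h).symm
          · intro h; rw [h]
        have e2 : (i = j'.1) ↔ (j'.1 = i) := eq_comm
        simp only [e1, e2]
        split_ifs <;> simp [sub_eq_add_neg]
      · simp [code]
    · -- a column of the root part
      rw [← C.T.evMVec_colOf D C.hag (D.simple i) hp (by rw [← htab]; exact hv) (fun _ => 1) hρ (Sum.inr s)]
      have hcode : code D (Sum.inr s) = Sum.inr s.1 := rfl
      have hsT : s.1 < C.T.nroots := by rw [hn]; exact s.2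
      have hcolOf : C.T.colOf (D.simple i) (C.T.rootTab (D.simple i)) (Sum.inr s.1)
          = [(Sum.inr (tabRoot (C.tabs.getD i 0) s.1), ((tabSign (C.tabs.getD i 0) s.1, 0, 0, 0, 0) : Mono4))] := by
        show (if s.1 < C.T.nroots then decCol (unpackL 1024 (C.T.rootTab (D.simple i)) s.1) else []) = _
        rw [if_pos hsT, htab]
        unfold FastDatum.tabValid at hv
        rw [List.all_eq_true] at hv
        have h2 := hv s.1 (List.mem_range.mpr hsT)
        rw [decide_eq_true_eq, htab] at h2
        unfold decCol tabRoot tabSign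
        rw [if_neg (by omega)]
      have hs' : tabRoot (C.tabs.getD i 0) s.1 < D.nroots := by
        rw [htab]
        exact (C.nx F i hi s.1 s.2).1
      rw [hcode, hcolOf, FastDatum.evMVec_single_inr D _ _ hs', evM_const]
      rcases row with j' | s'
      · simp
      · simp only [Sum.elim_inr, Pi.smul_apply, smul_eq_mul, Pi.single_apply, Sum.inr.injEq]
        rw [C.hrefl i hi s.1 s.2]
        have e1 : (s' = ⟨tabRoot (C.tabs.getD i 0) s.1, hs'⟩) ↔ (s'.1 = tabRoot (C.tabs.getD i 0) s.1) := by
          constructor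
          · intro h; rw [h]
          · intro h; exact Fin.ext h
        simp only [e1]
        split_ifs <;> simp

end Sound

end Cfsg.Agent.Lib.Helper18
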