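/-
helper18: certificates for the factorisation of the Poincaré sum of the Weyl group of type B2.
Generated by tools/gen_weylcert.py.
-/
import Cfsg.Agent.Lib.Helper18.WeylSum4

set_option autoImplicit false

namespace Cfsg.Agent.Lib.Helper18

open Cfsg.Lie

/-- Step 0 of the chain for type B2: `J = [0, 1]`, `J' = [1]`, 4 cosets. -/
def weylCert_B2_0 : LevelCert where
  J := [0, 1]
  J' := [1]
  theta := 0
  mask := 0x18
  words := [[], [0], [1, 0], [0, 1, 0]]
  ptabs := [0x706050403020100, 0x406020700050103, 0x305010700060204, 0x2010403060507]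
  cert := [[(1, 0), (0, 2)], [(0, 0), (2, 0)], [(3, 0), (1, 0)], [(2, 0), (3, 2)]]

set_option maxRecDepth 1000000 in
theorem weylCert_B2_0_ok : weylCert_B2_0.ok wTabs_B2 simples_B2 8 2 = true := by decide +kernel

/-- The numbers of inversions of the coset representatives of step 0. -/
def weylCounts_B2_0 : List ℕ := [0, 1, 2, 3]

set_option maxRecDepth 1000000 in
theorem weylCounts_B2_0_eq : weylCert_B2_0.ptabs.map (cntTab 8) = weylCounts_B2_0 := by decide +kernel

/-- Step 1 of the chain for type B2: `J = [1]`, `J' = []`, 2 cosets. -/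
def weylCert_B2_1 : LevelCert where
  J := [1]
  J' := []
  theta := 1
  mask := 0x0
  words := [[], [1]]
  ptabs := [0x706050403020100, 0x705060304010200]
  cert := [[(1, 0)], [(0, 0)]]

set_option maxRecDepth 1000000 in
theorem weylCert_B2_1_ok : weylCert_B2_1.ok wTabs_B2 simples_B2 8 2 = true := by decide +kernel

/-- The numbers of inversions of the coset representatives of step 1. -/
def weylCounts_B2_1 : List ℕ := [0, 1]

set_option maxRecDepth 1000000 in
theorem weylCounts_B2_1_eq : weylCert_B2_1.ptabs.map (cntTab 8) = weylCounts_B2_1 := by decide +kernel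

end Cfsg.Agent.Lib.Helper18
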