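/-
helper18: part 2 of the check of step 0 for type E8.
Generated by tools/gen_weylcert.py.
-/
import Cfsg.Agent.Lib.Helper18.WeylCertE8D

set_option autoImplicit false

namespace Cfsg.Agent.Lib.Helper18

open Cfsg.Lie

set_option maxRecDepth 1000000 in
theorem weylCert_E8_0_chunk2 : weylCert_E8_0.chkChunk wTabs_E8 240 60 30 = true := by decide +kernel

end Cfsg.Agent.Lib.Helper18
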