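/-
helper18: the check of the steps after step 0 for type E8.
Generated by tools/gen_weylcert.py.
-/
import Cfsg.Agent.Lib.Helper18.WeylCertE8D

set_option autoImplicit false

namespace Cfsg.Agent.Lib.Helper18

open Cfsg.Lie

set_option maxRecDepth 1000000 in
theorem weylCert_E8_0_rest : weylCert_E8_0.okRest wTabs_E8 simples_E8 240 8 = true := by decide +kernel

set_option maxRecDepth 1000000 in
theorem weylCert_E8_1_ok : weylCert_E8_1.ok wTabs_E8 simples_E8 240 8 = true := by decide +kernel

set_option maxRecDepth 1000000 in
theorem weylCert_E8_2_ok : weylCert_E8_2.ok wTabs_E8 simples_E8 240 8 = true := by decide +kernel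

set_option maxRecDepth 1000000 in
theorem weylCert_E8_3_ok : weylCert_E8_3.ok wTabs_E8 simples_E8 240 8 = true := by decide +kernel

set_option maxRecDepth 1000000 in
theorem weylCert_E8_4_ok : weylCert_E8_4.ok wTabs_E8 simples_E8 240 8 = true := by decide +kernel

set_option maxRecDepth 1000000 in
theorem weylCert_E8_5_ok : weylCert_E8_5.ok wTabs_E8 simples_E8 240 8 = true := by decide +kernel

set_option maxRecDepth 1000000 in
theorem weylCert_E8_6_ok : weylCert_E8_6.ok wTabs_E8 simples_E8 240 8 = true := by decide +kernel

end Cfsg.Agent.Lib.Helper18
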