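/-
helper18: certificates for the factorisation of the Poincaré sum of the Weyl group of type E8.
Generated by tools/gen_weylcert.py.
-/
import Cfsg.Agent.Lib.Helper18.WeylCertE8R
import Cfsg.Agent.Lib.Helper18.WeylCertE8C0
import Cfsg.Agent.Lib.Helper18.WeylCertE8C1
import Cfsg.Agent.Lib.Helper18.WeylCertE8C2
import Cfsg.Agent.Lib.Helper18.WeylCertE8C3
import Cfsg.Agent.Lib.Helper18.WeylCertE8C4
import Cfsg.Agent.Lib.Helper18.WeylCertE8C5
import Cfsg.Agent.Lib.Helper18.WeylCertE8C6
import Cfsg.Agent.Lib.Helper18.WeylCertE8C7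

set_option autoImplicit false

namespace Cfsg.Agent.Lib.Helper18

open Cfsg.Lie

set_option maxRecDepth 1000000 in
theorem weylCert_E8_0_cover : ∀ k < weylCert_E8_0.words.length, ∃ c ∈ [(0, 30), (30, 30), (60, 30), (90, 30), (120, 30), (150, 30), (180, 30), (210, 30)], c.1 ≤ k ∧ k < c.1 + c.2 := by
  decide +kernel

theorem weylCert_E8_0_ok : weylCert_E8_0.ok wTabs_E8 simples_E8 240 8 = true := by
  refine LevelCert.ok_of_chunks _ _ _ _ _ [(0, 30), (30, 30), (60, 30), (90, 30), (120, 30), (150, 30), (180, 30), (210, 30)] weylCert_E8_0_rest ?_ weylCert_E8_0_cover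
  intro c hc
  simp only [List.mem_cons, List.not_mem_nil, or_false] at hc
  rcases hc with rfl | rfl | rfl | rfl | rfl | rfl | rfl | rfl
  · exact weylCert_E8_0_chunk0
  · exact weylCert_E8_0_chunk1
  · exact weylCert_E8_0_chunk2
  · exact weylCert_E8_0_chunk3
  · exact weylCert_E8_0_chunk4
  · exact weylCert_E8_0_chunk5
  · exact weylCert_E8_0_chunk6
  · exact weylCert_E8_0_chunk7

end Cfsg.Agent.Lib.Helper18
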