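/-
helper18: the Poincaré sum of the Weyl group of type F4 is the product of the geometric sums `1 + q + ⋯ + q^(d - 1)` over
the degrees `d` of the basic invariants.
Generated by tools/gen_order.py.
-/
import Cfsg.Agent.Lib.Helper18.Order5
import Cfsg.Agent.Lib.Helper18.WeylCertF4

set_option autoImplicit false

namespace Cfsg.Agent.Lib.Helper18

open Cfsg.Lie

universe u

set_option maxRecDepth 1000000 in
theorem weylPoly_F4 : prodLL ([2, 6, 8, 12].map geomL) = prodLL [polyOfCounts weylCounts_F4_0, polyOfCounts weylCounts_F4_1, polyOfCounts weylCounts_F4_2, polyOfCounts weylCounts_F4_3] := by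
  decide +kernel

theorem wsum_F4 (q : ℕ) :
    wsum chevData_F4.{u} (List.range chevF4.rank) q = evalL (prodLL ([2, 6, 8, 12].map geomL)) q := by
  have hD : chevF4 ∈ [chevG2, chevB2, chevD4, chevF4, chevE6, chevE7, chevE8] := by simp
  have h0 : wsum chevData_F4.{u} weylCert_F4_0.J q = (weylCert_F4_0.ptabs.map fun tab => q ^ cntTab 48 tab).sum *
      wsum chevData_F4.{u} weylCert_F4_0.J' q := wsum_level hD chevData_F4.{u} weylCert_F4_0 weylCert_F4_0_ok q
  rw [level_sum_eq _ _ _ weylCounts_F4_0_eq] at h0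
  have h1 : wsum chevData_F4.{u} weylCert_F4_1.J q = (weylCert_F4_1.ptabs.map fun tab => q ^ cntTab 48 tab).sum *
      wsum chevData_F4.{u} weylCert_F4_1.J' q := wsum_level hD chevData_F4.{u} weylCert_F4_1 weylCert_F4_1_ok q
  rw [level_sum_eq _ _ _ weylCounts_F4_1_eq] at h1
  have h2 : wsum chevData_F4.{u} weylCert_F4_2.J q = (weylCert_F4_2.ptabs.map fun tab => q ^ cntTab 48 tab).sum *
      wsum chevData_F4.{u} weylCert_F4_2.J' q := wsum_level hD chevData_F4.{u} weylCert_F4_2 weylCert_F4_2_ok q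
  rw [level_sum_eq _ _ _ weylCounts_F4_2_eq] at h2
  have h3 : wsum chevData_F4.{u} weylCert_F4_3.J q = (weylCert_F4_3.ptabs.map fun tab => q ^ cntTab 48 tab).sum *
      wsum chevData_F4.{u} weylCert_F4_3.J' q := wsum_level hD chevData_F4.{u} weylCert_F4_3 weylCert_F4_3_ok q
  rw [level_sum_eq _ _ _ weylCounts_F4_3_eq] at h3
  rw [weylPoly_F4, evalL_prodLL]
  simp only [List.map_cons, List.map_nil, List.prod_cons, List.prod_nil, mul_one]
  have e0 : List.range chevF4.rank = weylCert_F4_0.J := by decide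
  have e1 : weylCert_F4_0.J' = weylCert_F4_1.J := rfl
  have e2 : weylCert_F4_1.J' = weylCert_F4_2.J := rfl
  have e3 : weylCert_F4_2.J' = weylCert_F4_3.J := rfl
  have e4 : weylCert_F4_3.J' = [] := rfl
  rw [e0, h0, e1, h1, e2, h2, e3, h3, e4, wsum_nil, mul_one]

end Cfsg.Agent.Lib.Helper18
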