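/-
helper18: certificates for the factorisation of the Poincaré sum of the Weyl group of type G2.
Generated by tools/gen_weylcert.py.
-/
import Cfsg.Agent.Lib.Helper18.WeylSum4

set_option autoImplicit false

namespace Cfsg.Agent.Lib.Helper18

open Cfsg.Lie

/-- Step 0 of the chain for type G2: `J = [0, 1]`, `J' = [0]`, 6 cosets. -/
def weylCert_G2_0 : LevelCert where
  J := [0, 1]
  J' := [0]
  theta := 0
  mask := 0x90
  words := [[], [1], [0, 1], [1, 0, 1], [0, 1, 0, 1], [1, 0, 1, 0, 1]]
  ptabs := [0xb0a09080706050403020100, 0xa0b09070805060304020001, 0x60b080409010a0207030005, 0x50a070309000b0208040106, 0x106040208000b030907050a, 0x5030207010a040908060b]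
  cert := [[(0, 1), (1, 0)], [(2, 0), (0, 0)], [(1, 0), (3, 0)], [(4, 0), (2, 0)], [(3, 0), (5, 0)], [(5, 1), (4, 0)]]

set_option maxRecDepth 1000000 in
theorem weylCert_G2_0_ok : weylCert_G2_0.ok wTabs_G2 simples_G2 12 2 = true := by decide +kernel

/-- The numbers of inversions of the coset representatives of step 0. -/
def weylCounts_G2_0 : List ℕ := [0, 1, 2, 3, 4, 5]

set_option maxRecDepth 1000000 in
theorem weylCounts_G2_0_eq : weylCert_G2_0.ptabs.map (cntTab 12) = weylCounts_G2_0 := by decide +kernel

/-- Step 1 of the chain for type G2: `J = [0]`, `J' = []`, 2 cosets. -/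
def weylCert_G2_1 : LevelCert where
  J := [0]
  J' := []
  theta := 1
  mask := 0x0
  words := [[], [0]]
  ptabs := [0xb0a09080706050403020100, 0xb060809040a010702030500]
  cert := [[(1, 0)], [(0, 0)]]

set_option maxRecDepth 1000000 in
theorem weylCert_G2_1_ok : weylCert_G2_1.ok wTabs_G2 simples_G2 12 2 = true := by decide +kernel

/-- The numbers of inversions of the coset representatives of step 1. -/
def weylCounts_G2_1 : List ℕ := [0, 1]

set_option maxRecDepth 1000000 in
theorem weylCounts_G2_1_eq : weylCert_G2_1.ptabs.map (cntTab 12) = weylCounts_G2_1 := by decide +kernel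

end Cfsg.Agent.Lib.Helper18
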