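/-
helper18: the Poincaré sum of the Weyl group of type G2 is the product of the geometric sums `1 + q + ⋯ + q^(d - 1)` over
the degrees `d` of the basic invariants.
Generated by tools/gen_order.py.
-/
import Cfsg.Agent.Lib.Helper18.Order5
import Cfsg.Agent.Lib.Helper18.WeylCertG2

set_option autoImplicit false

namespace Cfsg.Agent.Lib.Helper18

open Cfsg.Lie

universe u

set_option maxRecDepth 1000000 in
theorem weylPoly_G2 : prodLL ([2, 6].map geomL) = prodLL [polyOfCounts weylCounts_G2_0, polyOfCounts weylCounts_G2_1] := by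
  decide +kernel

theorem wsum_G2 (q : ℕ) :
    wsum chevData_G2.{u} (List.range chevG2.rank) q = evalL (prodLL ([2, 6].map geomL)) q := by
  have hD : chevG2 ∈ [chevG2, chevB2, chevD4, chevF4, chevE6, chevE7, chevE8] := by simp
  have h0 : wsum chevData_G2.{u} weylCert_G2_0.J q = (weylCert_G2_0.ptabs.map fun tab => q ^ cntTab 12 tab).sum *
      wsum chevData_G2.{u} weylCert_G2_0.J' q := wsum_level hD chevData_G2.{u} weylCert_G2_0 weylCert_G2_0_ok q
  rw [level_sum_eq _ _ _ weylCounts_G2_0_eq] at h0
  have h1 : wsum chevData_G2.{u} weylCert_G2_1.J q = (weylCert_G2_1.ptabs.map fun tab => q ^ cntTab 12 tab).sum *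
      wsum chevData_G2.{u} weylCert_G2_1.J' q := wsum_level hD chevData_G2.{u} weylCert_G2_1 weylCert_G2_1_ok q
  rw [level_sum_eq _ _ _ weylCounts_G2_1_eq] at h1
  rw [weylPoly_G2, evalL_prodLL]
  simp only [List.map_cons, List.map_nil, List.prod_cons, List.prod_nil, mul_one]
  have e0 : List.range chevG2.rank = weylCert_G2_0.J := by decide
  have e1 : weylCert_G2_0.J' = weylCert_G2_1.J := rfl
  have e2 : weylCert_G2_1.J' = [] := rfl
  rw [e0, h0, e1, h1, e2, wsum_nil, mul_one]

end Cfsg.Agent.Lib.Helper18
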