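/-
helper18: module REE-[W0] of helper19's tower for the Ree groups of type G2: an element of `N` fixed by the twisting
automorphism `reeSigma` (helper91) lies in `H` or in `n₀ H`, `n₀` the element of the longest word.
-/
import Cfsg.Agent.Lib.Helper18.Tw10
import Cfsg.Agent.Lib.Helper91.ReeFixed

set_option autoImplicit false

namespace Cfsg.Agent.Lib.Helper18.ReeW0

open Cfsg.Lie Cfsg.Agent.Lib.Helper18 Cfsg.Agent.Lib.Helper91.Ree Cfsg.Agent.S1099

universe u

/-- The permutations of the twelve roots of the twelve elements of the Weyl group of type G2. -/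
def g2Imgs : List (List ℕ) :=
  [[0, 1, 2, 3, 4, 5, 6, 7, 8, 9, 10, 11], [0, 5, 3, 2, 7, 1, 10, 4, 9, 8, 6, 11],
    [1, 0, 2, 4, 3, 6, 5, 8, 7, 9, 11, 10], [1, 6, 4, 2, 8, 0, 11, 3, 9, 7, 5, 10],
    [5, 0, 3, 7, 2, 10, 1, 9, 4, 8, 11, 6], [5, 10, 7, 3, 9, 0, 11, 2, 8, 4, 1, 6],
    [6, 1, 4, 8, 2, 11, 0, 9, 3, 7, 10, 5], [6, 11, 8, 4, 9, 1, 10, 2, 7, 3, 0, 5],
    [10, 5, 7, 9, 3, 11, 0, 8, 2, 4, 6, 1], [10, 11, 9, 7, 8, 5, 6, 3, 4, 2, 0, 1],
    [11, 6, 8, 9, 4, 10, 1, 7, 2, 3, 5, 0], [11, 10, 9, 8, 7, 6, 5, 4, 3, 2, 1, 0]]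

set_option maxRecDepth 100000 in
theorem g2Imgs_closed : ∀ l ∈ g2Imgs, ∀ i < 2, l.map (tabRoot (wTabs_G2.getD i 0)) ∈ g2Imgs := by decide +kernel

theorem wordImg_mem (ws : List ℕ) (hws : ∀ i ∈ ws, i < 2) :
    (List.range 12).map (wordRootF wTabs_G2 ws) ∈ g2Imgs := by
  induction ws with
  | nil => simp [wordRootF, g2Imgs, List.range, List.range.loop]
  | cons i ws ih =>
    have h1 := g2Imgs_closed _ (ih fun j hj => hws j (List.mem_cons_of_mem _ hj)) i (hws i List.mem_cons_self)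
    rw [List.map_map] at h1
    exact h1

set_option maxRecDepth 100000 in
/-- Only the identity and `-1` commute with the permutation of the roots of the graph automorphism. -/
theorem g2Imgs_comm : ∀ l ∈ g2Imgs, (∀ r < 12, l.getD (g2rho r) 0 = g2rho (l.getD r 0)) →
    l = [0, 1, 2, 3, 4, 5, 6, 7, 8, 9, 10, 11] ∨ l = [11, 10, 9, 8, 7, 6, 5, 4, 3, 2, 1, 0] := by decide +kernel

theorem tabs_eq : (chevData_G2.{u}).tabs = wTabs_G2 := rfl

set_option maxRecDepth 100000 in
theorem long_img : (List.range 12).map (wordRootF wTabs_G2 [0, 1, 0, 1, 0, 1])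
    = [11, 10, 9, 8, 7, 6, 5, 4, 3, 2, 1, 0] := by decide +kernel

theorem getD_map_range (f : ℕ → ℕ) (r : ℕ) (hr : r < 12) : ((List.range 12).map f).getD r 0 = f r := by
  rw [List.getD_eq_getElem _ _ (by simpa using hr), List.getElem_map, List.getElem_range]

variable (K : Type u) [Field K] [Fintype K] [CharP K 3] (m : ℕ)

/-- A fixed element of `N` lies in `H` or in `n₀ H`. -/
theorem fixN (n : GL chevG2.Idx K) (hn : n ∈ chevG2.monomialSubgroup K)
    (hF : n ∈ (reeFix K m).map (chevG2.group K).subtype) :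
    n ∈ chevG2.diagonalSubgroup K ∨
      ∃ h ∈ chevG2.diagonalSubgroup K, n = nW (F := K) hD2 chevData_G2 [0, 1, 0, 1, 0, 1] * h := by
  obtain ⟨x, hx, hxn⟩ := hF
  have hx' : reeSigma K m x = x := hx
  have hxn' : (x : GL chevG2.Idx K) = n := hxn
  obtain ⟨ws, h, hws, hh, e⟩ := isWordH_of_mem_monomial hD2 chevData_G2 n hn
  have hws2 : ∀ i ∈ ws, i < 2 := hws
  -- the permutation of `n` commutes with the permutation of the graph automorphism
  have hcomm : ∀ r < 12, wordRootF wTabs_G2 ws (g2rho r) = g2rho (wordRootF wTabs_G2 ws r) := by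
    intro r hr
    have hr' : r < chevG2.nroots := hr
    obtain ⟨t₁, -, h1⟩ := word_conj_xG hD2 chevData_G2 ws hws h hh r hr' (1 : K)
    rw [← e, tabs_eq] at h1
    have hπ : wordRootF wTabs_G2 ws r < 12 := by
      have := wordRootF_lt chevData_G2.{u} ws hws r hr'
      rwa [tabs_eq] at this
    have h1' : x * ⟨xG hD2 r 1, xG_mem r hr 1⟩ * x⁻¹
        = ⟨xG hD2 (wordRootF wTabs_G2 ws r) t₁, xG_mem _ hπ t₁⟩ := by
      apply Subtype.ext
      rw [Subgroup.coe_mul, Subgroup.coe_mul, Subgroup.coe_inv, hxn']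
      exact h1
    have h2 := congrArg (reeSigma K m) h1'
    rw [map_mul, map_mul, map_inv, hx', reeSigma_xG K m r hr, reeSigma_xG K m _ hπ] at h2
    have h2' := congrArg Subtype.val h2
    rw [Subgroup.coe_mul, Subgroup.coe_mul, Subgroup.coe_inv, hxn'] at h2'
    have hρ : g2rho r < chevG2.nroots := g2rho_lt r hr
    obtain ⟨t₂, ht₂, h3⟩ := word_conj_xG hD2 chevData_G2 ws hws h hh (g2rho r) hρ
      ((1 : K) ^ (g2lam r * 3 ^ m))
    rw [← e, tabs_eq] at h3
    have h4 : xG hD2 (wordRootF wTabs_G2 ws (g2rho r)) t₂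
        = xG hD2 (g2rho (wordRootF wTabs_G2 ws r)) (t₁ ^ (g2lam (wordRootF wTabs_G2 ws r) * 3 ^ m)) := by
      rw [← h3]
      exact h2'
    have hπρ : wordRootF wTabs_G2 ws (g2rho r) < chevG2.nroots := by
      have := wordRootF_lt chevData_G2.{u} ws hws (g2rho r) hρ
      rwa [tabs_eq] at this
    have hρπ : g2rho (wordRootF wTabs_G2 ws r) < chevG2.nroots := g2rho_lt _ hπ
    exact (xG_inj_root hD2 _ _ hπρ hρπ t₂ _ (ht₂ (by simp)) h4).symm
  have hmem := wordImg_mem ws hws2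
  have hc := g2Imgs_comm _ hmem (by
    intro r hr
    rw [getD_map_range _ _ (g2rho_lt r hr), getD_map_range _ r hr]
    exact hcomm r hr)
  have hval : ∀ l : List ℕ, (List.range 12).map (wordRootF wTabs_G2 ws) = l → ∀ r < 12,
      wordRootF wTabs_G2 ws r = l.getD r 0 := by
    intro l hl r hr
    rw [← hl, getD_map_range _ r hr]
  rcases hc with hc | hc
  · -- the identity
    left
    have hpos : ∀ r, chevG2.IsPosRoot r → chevG2.nroots / 2 ≤ wordRootF chevData_G2.{u}.tabs ws r := by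
      intro r hr
      obtain ⟨hr1, hr2⟩ := (isPosRoot_iff hD2 r).mp hr
      have hr1' : r < 12 := hr1
      have hr2' : 6 ≤ r := hr2
      rw [tabs_eq, hval _ hc r hr1]
      show 6 ≤ _
      interval_cases r <;> decide
    rw [e]
    exact mul_mem (mem_diagonal_of_pos hD2 chevData_G2 ws hws hpos) hh
  · -- the longest element
    right
    have hws0 : ∀ i ∈ [0, 1, 0, 1, 0, 1], i < chevG2.rank := by decide
    have hperm : wordPerm chevData_G2.{u} [0, 1, 0, 1, 0, 1] = wordPerm chevData_G2.{u} ws := by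
      ext r
      rw [wordPerm_apply _ _ hws0, wordPerm_apply _ _ hws, tabs_eq, hval _ hc r.val r.isLt,
        hval' r.val r.isLt]
    have hm := nW_inv_mul_nW_mem (F := K) hD2 chevData_G2 _ ws hws0 hws hperm
    refine ⟨(nW hD2 chevData_G2 [0, 1, 0, 1, 0, 1])⁻¹ * nW hD2 chevData_G2 ws * h, mul_mem hm hh, ?_⟩
    rw [e]
    group
where
  hval' : ∀ r < 12, wordRootF wTabs_G2 [0, 1, 0, 1, 0, 1] r = [11, 10, 9, 8, 7, 6, 5, 4, 3, 2, 1, 0].getD r 0 := by
    intro r hr
    rw [← long_img, getD_map_range _ r hr]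

end Cfsg.Agent.Lib.Helper18.ReeW0
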