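/-
helper18: the Tits group, part 3: the derived subgroup of `²F₄(2)` has index at most 2.
-/
import Cfsg.Agent.Lib.Helper18.Tits2

set_option autoImplicit false

namespace Cfsg.Agent.Lib.Helper18.Tits

open Cfsg.Lie Cfsg.Agent.Lib.Helper18 Cfsg.Agent.Lib.Helper18.F4T Cfsg.Agent.Lib.Helper91.ReeF4
open Cfsg.Agent.Lib.Helper91.SigAbs Cfsg.Agent.Lib.Helper91.ExcAut Cfsg.Agent.Lib.Helper61.ReeF4

instance commutator_normal_G2 : (commutator ↥G2).Normal := by
  rw [commutator_def]; infer_instance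

/-- The generator of the abelianisation. -/
noncomputable def qG : ↥G2 := ⟨W [27, 25, 28], Q10_mem⟩

theorem mk_eq_one_of_mem (x : GL chevF4.Idx (ZMod 2)) (hx : x ∈ G2) (h : x ∈ F4T.commImage G2) :
    (QuotientGroup.mk' (commutator ↥G2)) ⟨x, hx⟩ = 1 := by
  obtain ⟨y, hy, hyx⟩ := h
  have : y = ⟨x, hx⟩ := Subtype.ext hyx
  rw [← this]
  exact (QuotientGroup.eq_one_iff y).mpr hy

theorem mk_eq_of_mem (x : GL chevF4.Idx (ZMod 2)) (hx : x ∈ G2)
    (h : x * (W [27, 25, 28])⁻¹ ∈ F4T.commImage G2) :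
    (QuotientGroup.mk' (commutator ↥G2)) ⟨x, hx⟩ = (QuotientGroup.mk' (commutator ↥G2)) qG := by
  have hx' : x * (W [27, 25, 28])⁻¹ ∈ G2 := mul_mem hx (inv_mem Q10_mem)
  have e : (⟨x, hx⟩ : ↥G2) = ⟨x * (W [27, 25, 28])⁻¹, hx'⟩ * qG := by
    apply Subtype.ext
    show x = x * (W [27, 25, 28])⁻¹ * W [27, 25, 28]
    group
  rw [e, map_mul, mk_eq_one_of_mem _ hx' h, one_mul]

/-- The subgroup of the elements whose class modulo the derived subgroup is a power of the class of `y(1,0)`. -/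
noncomputable def NN : Subgroup (GL chevF4.Idx (ZMod 2)) :=
  ((Subgroup.zpowers ((QuotientGroup.mk' (commutator ↥G2)) qG)).comap
    (QuotientGroup.mk' (commutator ↥G2))).map G2.subtype

theorem mem_NN_of_comm (x : GL chevF4.Idx (ZMod 2)) (hx : x ∈ G2) (h : x ∈ F4T.commImage G2) : x ∈ NN := by
  refine ⟨⟨x, hx⟩, ?_, rfl⟩
  rw [SetLike.mem_coe, Subgroup.mem_comap, mk_eq_one_of_mem x hx h]
  exact one_mem _

theorem mem_NN_of_mul (x : GL chevF4.Idx (ZMod 2)) (hx : x ∈ G2)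
    (h : x * (W [27, 25, 28])⁻¹ ∈ F4T.commImage G2) : x ∈ NN := by
  refine ⟨⟨x, hx⟩, ?_, rfl⟩
  rw [SetLike.mem_coe, Subgroup.mem_comap, mk_eq_of_mem x hx h]
  exact Subgroup.mem_zpowers _

theorem one_mem_comm : (1 : GL chevF4.Idx (ZMod 2)) ∈ F4T.commImage G2 := one_mem _

theorem Q11_eq : W [27, 25, 30] = W [27, 25, 28] * W [28, 30] := by
  rw [← W_append]
  exact (W_eq_of_chk _ _ chk_Q11).symm

theorem Qm11_eq : W [20, 22, 17] = W [20, 22, 19] * W [19, 17] := by
  rw [← W_append]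
  exact (W_eq_of_chk _ _ chk_Qm11).symm

theorem G2_le_NN : G2 ≤ NN := by
  show twistedF4 (ZMod 2) 1 ≤ NN
  unfold twistedF4 ChevalleyDatum.genSubgroup
  rw [Subgroup.closure_le]
  rintro g ⟨w, hw, hgw⟩
  have hg : g = wordG hD4 w := Units.ext (by rw [hgw, coe_wordG])
  rw [SetLike.mem_coe, hg]
  have hq : W [27, 25, 28] * (W [27, 25, 28])⁻¹ ∈ F4T.commImage G2 := by
    rw [mul_inv_cancel]; exact one_mem _
  rcases hw with ⟨t, rfl | rfl⟩ | ⟨t, u, rfl | rfl⟩
  · rcases z2_cases t with rfl | rfl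
    · rw [pairWord_zero]; exact one_mem _
    · rw [pairWord_one]
      exact mem_NN_of_comm _ (mem_pair 33 24 (by decide)) P_mem_comm
  · rcases z2_cases t with rfl | rfl
    · rw [pairWord_zero]; exact one_mem _
    · rw [pairWord_one]
      exact mem_NN_of_comm _ (mem_pair 14 23 (by decide)) Pm_mem_comm
  · rcases z2_cases t with rfl | rfl <;> rcases z2_cases u with rfl | rfl
    · rw [quadWord_00]; exact one_mem _
    · rw [quadWord_01]
      exact mem_NN_of_comm _ (mem_blk01 27 25 28 30 (by decide)) Q01_mem_comm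
    · rw [quadWord_10]
      exact mem_NN_of_mul _ Q10_mem hq
    · rw [quadWord_11]
      refine mem_NN_of_mul _ (mem_blk11 27 25 28 30 (by decide)) ?_
      show W [27, 25, 30] * (W [27, 25, 28])⁻¹ ∈ F4T.commImage G2
      rw [Q11_eq]
      exact F4T.commImage_conj_mem G2 _ _ Q10_mem Q01_mem_comm
  · rcases z2_cases t with rfl | rfl <;> rcases z2_cases u with rfl | rfl
    · rw [quadWord_00]; exact one_mem _
    · rw [quadWord_01]
      exact mem_NN_of_comm _ (mem_blk01 20 22 19 17 (by decide)) Qm01_mem_comm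
    · rw [quadWord_10]
      exact mem_NN_of_mul _ (mem_blk10 20 22 19 17 (by decide)) Qm10_mul_inv_mem_comm
    · rw [quadWord_11]
      refine mem_NN_of_mul _ (mem_blk11 20 22 19 17 (by decide)) ?_
      show W [20, 22, 17] * (W [27, 25, 28])⁻¹ ∈ F4T.commImage G2
      rw [Qm11_eq]
      have h1 := Qm10_mul_inv_mem_comm
      have h2 := F4T.commImage_conj_mem G2 _ _ Q10_mem Qm01_mem_comm
      have e : W [20, 22, 19] * W [19, 17] * (W [27, 25, 28])⁻¹
          = W [20, 22, 19] * (W [27, 25, 28])⁻¹ * (W [27, 25, 28] * W [19, 17] * (W [27, 25, 28])⁻¹) := by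
        group
      rw [e]
      exact mul_mem h1 h2

theorem mk_mem_zpowers (y : ↥G2) :
    (QuotientGroup.mk' (commutator ↥G2)) y ∈ Subgroup.zpowers ((QuotientGroup.mk' (commutator ↥G2)) qG) := by
  obtain ⟨y', hy', hyy⟩ := G2_le_NN y.2
  have : y' = y := Subtype.ext hyy
  rw [← this]
  exact hy'

theorem qG_sq : (QuotientGroup.mk' (commutator ↥G2)) qG ^ 2 = 1 := by
  rw [← map_pow]
  have e : qG ^ 2 = ⟨W [28, 30], mem_blk01 27 25 28 30 (by decide)⟩ := by
    apply Subtype.ext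
    show (W [27, 25, 28]) ^ 2 = W [28, 30]
    rw [pow_two, ← W_append]
    exact W_eq_of_chk _ _ chk_sq
  rw [e]
  exact mk_eq_one_of_mem _ _ Q01_mem_comm

/-- The derived subgroup of `²F₄(2)` has index at most 2. -/
theorem index_le_two : (commutator ↥G2).index ≤ 2 := by
  rw [Subgroup.index_eq_card]
  have htop : Subgroup.zpowers ((QuotientGroup.mk' (commutator ↥G2)) qG) = ⊤ := by
    rw [eq_top_iff]
    intro z _
    obtain ⟨y, rfl⟩ := QuotientGroup.mk'_surjective _ z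
    exact mk_mem_zpowers y
  have h1 : Nat.card (↥G2 ⧸ commutator ↥G2)
      = orderOf ((QuotientGroup.mk' (commutator ↥G2)) qG) := by
    rw [← Nat.card_zpowers, htop, Subgroup.card_top]
  rw [h1]
  exact Nat.le_of_dvd (by norm_num) (orderOf_dvd_of_pow_eq_one qG_sq)

end Cfsg.Agent.Lib.Helper18.Tits
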