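/-
helper18: the Tits group, part 4: soundness of the packed computations (search trees, packed action of matrices over
the field with two elements, tables).
-/
import Mathlib
import Cfsg.Prelude.Def_ChevF4
import Cfsg.Agent.Lib.Helper18.TitsData.Defs

set_option autoImplicit false

namespace Cfsg.Agent.Lib.Helper18.Tits


/-- The keys of a tree. -/
def BT.keys : BT → List ℕ
  | .leaf => []
  | .node l k r => l.keys ++ k :: r.keys

theorem BT.mem_node (l r : BT) (k x : ℕ) :
    (BT.node l k r).mem x = (bif Nat.beq x k then true else bif Nat.ble k x then r.mem x else l.mem x) := rfl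

theorem BT.all_node (l r : BT) (k : ℕ) (f : ℕ → Bool) :
    (BT.node l k r).all f = (bif l.all f then (bif f k then r.all f else false) else false) := rfl

theorem BT.mem_sound (t : BT) (x : ℕ) (h : t.mem x = true) : x ∈ t.keys := by
  induction t with
  | leaf =>
    have e : BT.leaf.mem x = false := rfl
    rw [e] at h
    exact absurd h (by decide)
  | node l k r ihl ihr =>
    rw [BT.mem_node] at h
    unfold BT.keys
    by_cases h1 : Nat.beq x k = true
    · have : x = k := Nat.eq_of_beq_eq_true h1
      rw [this]; simp
    · rw [Bool.not_eq_true] at h1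
      rw [h1, cond_false] at h
      by_cases h2 : Nat.ble k x = true
      · rw [h2, cond_true] at h
        have := ihr h
        simp [this]
      · rw [Bool.not_eq_true] at h2
        rw [h2, cond_false] at h
        have := ihl h
        simp [this]

theorem BT.all_sound (t : BT) (f : ℕ → Bool) (h : t.all f = true) : ∀ x ∈ t.keys, f x = true := by
  induction t with
  | leaf => intro x hx; simp [BT.keys] at hx
  | node l k r ihl ihr =>
    rw [BT.all_node] at h
    have h1 : l.all f = true := by
      by_contra hc
      rw [Bool.not_eq_true] at hc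
      rw [hc, cond_false] at h
      exact absurd h (by decide)
    rw [h1, cond_true] at h
    have h2 : f k = true := by
      by_contra hc
      rw [Bool.not_eq_true] at hc
      rw [hc, cond_false] at h
      exact absurd h (by decide)
    rw [h2, cond_true] at h
    intro x hx
    unfold BT.keys at hx
    rw [List.mem_append, List.mem_cons] at hx
    rcases hx with hx | rfl | hx
    · exact ihl h1 x hx
    · exact h2
    · exact ihr h x hx

theorem chkMap_sound (src tgt : BT) (f : ℕ → ℕ) (h : chkMap src tgt f = true) :
    ∀ x ∈ src.keys, f x ∈ tgt.keys := by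
  intro x hx
  exact BT.mem_sound tgt (f x) (BT.all_sound src _ h x hx)



open Cfsg.Lie

/-- The vectors. -/
abbrev V : Type := chevF4.Idx → ZMod 2

/-- The position of a coordinate. -/
def idxNat : chevF4.Idx → ℕ
  | Sum.inl i => i.val
  | Sum.inr s => 4 + s.val

theorem idxNat_lt (i : chevF4.Idx) : idxNat i < 52 := by
  rcases i with i | s
  · have := i.2; show i.val < 52; have : chevF4.rank = 4 := rfl; omega
  · have := s.2; show 4 + s.val < 52; have : chevF4.nroots = 48 := rfl; omega

theorem idxNat_injective : Function.Injective idxNat := by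
  intro i j h
  rcases i with i | s <;> rcases j with j | t
  · exact congrArg Sum.inl (Fin.ext h)
  · exfalso; have := i.2; have h4 : chevF4.rank = 4 := rfl; simp only [idxNat] at h; omega
  · exfalso; have := j.2; have h4 : chevF4.rank = 4 := rfl; simp only [idxNat] at h; omega
  · exact congrArg Sum.inr (Fin.ext (by simp only [idxNat] at h; omega))

/-- The vector of a packed vector. -/
def unpack (n : ℕ) : V := fun i => if n.testBit (idxNat i) then 1 else 0

theorem unpack_zero : unpack 0 = 0 := by
  funext i; simp [unpack]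

theorem unpack_xor (a b : ℕ) : unpack (a ^^^ b) = unpack a + unpack b := by
  funext i
  simp only [unpack, Nat.testBit_xor, Pi.add_apply]
  cases Nat.testBit a (idxNat i) <;> cases Nat.testBit b (idxNat i) <;> decide

theorem unpack_two_pow (i : chevF4.Idx) : unpack (Nat.shiftLeft 1 (idxNat i)) = Pi.single i 1 := by
  funext j
  have e : Nat.shiftLeft 1 (idxNat i) = 2 ^ idxNat i := Nat.one_shiftLeft _
  simp only [unpack, e, Nat.testBit_two_pow, Pi.single_apply]
  by_cases h : j = i
  · subst h; simp
  · have : idxNat i ≠ idxNat j := fun hc => h (idxNat_injective hc.symm)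
    simp [h, this]

theorem unpack_injective (a b : ℕ) (ha : a < 2 ^ 52) (hb : b < 2 ^ 52) (h : unpack a = unpack b) : a = b := by
  apply Nat.eq_of_testBit_eq
  intro n
  by_cases hn : n < 52
  · have hex : ∃ i : chevF4.Idx, idxNat i = n := by
      by_cases h4 : n < 4
      · exact ⟨Sum.inl ⟨n, h4⟩, rfl⟩
      · refine ⟨Sum.inr ⟨n - 4, ?_⟩, ?_⟩
        · show n - 4 < 48; omega
        · show 4 + (n - 4) = n; omega
    obtain ⟨i, rfl⟩ := hex
    have h1 := congrFun h i
    simp only [unpack] at h1
    cases ha' : Nat.testBit a (idxNat i) <;> cases hb' : Nat.testBit b (idxNat i) <;> simp_all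
  · have h2 : (2 : ℕ) ^ 52 ≤ 2 ^ n := Nat.pow_le_pow_right (by norm_num) (by omega)
    rw [Nat.testBit_eq_false_of_lt (lt_of_lt_of_le ha h2), Nat.testBit_eq_false_of_lt (lt_of_lt_of_le hb h2)]

/-- The linear combination computed by `appAux`. -/
def lc : List ℕ → ℕ → ℕ → ℕ
  | [], _, _ => 0
  | c :: cs, v, j => (if v.testBit j then c else 0) ^^^ lc cs v (j + 1)

theorem appAux_eq (cs : List ℕ) (v j acc : ℕ) : appAux cs v j acc = acc ^^^ lc cs v j := by
  induction cs generalizing j acc with
  | nil => simp [appAux, lc]
  | cons c cs ih =>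
    unfold appAux lc
    rw [ih]
    cases Nat.testBit v j
    · simp
    · simp only [cond_true, if_true]
      show (acc ^^^ c) ^^^ lc cs v (j + 1) = acc ^^^ (c ^^^ lc cs v (j + 1))
      rw [Nat.xor_assoc]

theorem appCols_eq (cs : List ℕ) (v : ℕ) : appCols cs v = lc cs v 0 := by
  unfold appCols; rw [appAux_eq]; simp

theorem unpack_lc (cs : List ℕ) (v j : ℕ) (r : chevF4.Idx) :
    unpack (lc cs v j) r
      = ∑ k ∈ Finset.range cs.length, if v.testBit (j + k) then unpack (cs.getD k 0) r else 0 := by
  induction cs generalizing j with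
  | nil => simp [lc, unpack_zero]
  | cons c cs ih =>
    unfold lc
    rw [unpack_xor, Pi.add_apply, ih, List.length_cons, Finset.sum_range_succ']
    rw [add_comm]
    congr 1
    · apply Finset.sum_congr rfl
      intro k _
      have e : j + 1 + k = j + (k + 1) := by omega
      rw [e]
      simp
    · simp only [add_zero, List.getD_cons_zero]
      split_ifs <;> simp [unpack_zero]

/-- The packed action computes the action of the matrix. -/
theorem mulVec_unpack (M : Matrix chevF4.Idx chevF4.Idx (ZMod 2)) (cols : List ℕ) (hlen : cols.length = 52)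
    (hcols : ∀ i r : chevF4.Idx, M r i = unpack (cols.getD (idxNat i) 0) r) (v : ℕ) :
    M.mulVec (unpack v) = unpack (appCols cols v) := by
  funext r
  rw [appCols_eq, unpack_lc, hlen]
  simp only [Matrix.mulVec, dotProduct, zero_add]
  have h1 : ∀ i : chevF4.Idx, M r i * unpack v i
      = if v.testBit (idxNat i) then unpack (cols.getD (idxNat i) 0) r else 0 := by
    intro i
    rw [hcols i r]
    simp only [unpack]
    split_ifs <;> simp
  simp only [h1]
  rw [Fintype.sum_sum_type]
  have e52 : (52 : ℕ) = 4 + 48 := rfl
  rw [e52, Finset.sum_range_add]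
  have h4 := Fin.sum_univ_eq_sum_range (fun k => if v.testBit k then unpack (cols.getD k 0) r else 0) 4
  have h48 := Fin.sum_univ_eq_sum_range
    (fun k => if v.testBit (4 + k) then unpack (cols.getD (4 + k) 0) r else 0) 48
  rw [← h4, ← h48]
  rfl



/-- The `k`-th chunk of seven bits of `v`, in place. -/
def chunk (v k : ℕ) : ℕ := Nat.shiftLeft (Nat.land (Nat.shiftRight v (7 * k)) 127) (7 * k)

theorem testBit_chunk (v k i : ℕ) :
    (chunk v k).testBit i = (decide (7 * k ≤ i) && decide (i < 7 * k + 7) && v.testBit i) := by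
  unfold chunk
  show ((v >>> (7 * k) &&& 127) <<< (7 * k)).testBit i = _
  rw [Nat.testBit_shiftLeft, Nat.testBit_and, Nat.testBit_shiftRight]
  have h127 : (127 : ℕ) = 2 ^ 7 - 1 := by norm_num
  rw [h127, Nat.testBit_two_pow_sub_one]
  by_cases h1 : 7 * k ≤ i
  · have e : 7 * k + (i - 7 * k) = i := by omega
    rw [e]
    by_cases h2 : i < 7 * k + 7
    · have : i - 7 * k < 7 := by omega
      simp [h1, h2, this]
    · have : ¬ (i - 7 * k < 7) := by omega
      simp [h1, h2, this]
  · simp [h1]

theorem xor_chunks (v : ℕ) (hv : v < 2 ^ 56) :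
    v = chunk v 0 ^^^ (chunk v 1 ^^^ (chunk v 2 ^^^ (chunk v 3 ^^^ (chunk v 4 ^^^ (chunk v 5 ^^^
      (chunk v 6 ^^^ chunk v 7)))))) := by
  apply Nat.eq_of_testBit_eq
  intro i
  simp only [Nat.testBit_xor, testBit_chunk]
  by_cases hi : i < 56
  · interval_cases i <;> cases v.testBit _ <;> decide
  · have h2 : (2 : ℕ) ^ 56 ≤ 2 ^ i := Nat.pow_le_pow_right (by norm_num) (by omega)
    rw [Nat.testBit_eq_false_of_lt (lt_of_lt_of_le hv h2)]
    simp

theorem chunk_lt (v k : ℕ) : Nat.land (Nat.shiftRight v (7 * k)) 127 < 128 := by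
  show (v >>> (7 * k)) &&& 127 < 128
  exact Nat.lt_succ_of_le Nat.and_le_right

/-- `look` reads the table at the chunk. -/
theorem look_eq (cs : List ℕ) (T k : ℕ)
    (h : chkTab cs T (7 * k) = true) (v : ℕ) : look T v (7 * k) = appCols cs (chunk v k) := by
  unfold chkTab at h
  rw [List.all_eq_true] at h
  have h1 := h _ (List.mem_range.mpr (chunk_lt v k))
  exact Nat.eq_of_beq_eq_true h1


end Cfsg.Agent.Lib.Helper18.Tits
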