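/-
helper18: the Tits group, part 5: the packed computations describe the action of the four generators of `²F₄(2)`
on the vectors of the adjoint module; every element of `²F₄(2)` preserves or exchanges the two colour classes.
-/
import Cfsg.Agent.Lib.Helper18.Tits3
import Cfsg.Agent.Lib.Helper18.Tits4
import Cfsg.Agent.Lib.Helper18.TitsData.ChkTab
import Cfsg.Agent.Lib.Helper18.TitsData.ChkMapP
import Cfsg.Agent.Lib.Helper18.TitsData.ChkMapPm
import Cfsg.Agent.Lib.Helper18.TitsData.ChkMapQ
import Cfsg.Agent.Lib.Helper18.TitsData.ChkMapQm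
import Cfsg.Agent.Lib.Helper18.TitsData.ChkMisc

set_option autoImplicit false

namespace Cfsg.Agent.Lib.Helper18.Tits

open Cfsg.Lie Cfsg.Agent.Lib.Helper18 Cfsg.Agent.Lib.Helper18.F4T

/-! ### The root elements -/

/-- The packed columns `cs` describe the root element `x_r(1)`. -/
def RootCols (r : ℕ) (cs : List ℕ) : Prop :=
  ∀ v : ℕ, (chevF4.x (ZMod 2) r 1).mulVec (unpack v) = unpack (appCols cs v)

theorem rootCols_of_chk (r : ℕ) (hr : r < chevF4.nroots) (cs : List ℕ) (hlen : cs.length = 52)
    (h : ∀ i j : chevF4.Idx, chevF4.xMat (ZMod 2) ⟨r, hr⟩ 1 j i = unpack (cs.getD (idxNat i) 0) j) :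
    RootCols r cs := by
  intro v
  unfold ChevalleyDatum.x
  rw [dif_pos hr]
  exact mulVec_unpack _ cs hlen h v

set_option maxRecDepth 1000000 in
theorem cols33_sem : ∀ i j : chevF4.Idx,
    chevF4.xMat (ZMod 2) ⟨33, by decide⟩ 1 j i = unpack (cols33.getD (idxNat i) 0) j := by decide +kernel

theorem rootCols_33 : RootCols 33 cols33 := rootCols_of_chk 33 (by decide) cols33 rfl cols33_sem

set_option maxRecDepth 1000000 in
theorem cols24_sem : ∀ i j : chevF4.Idx,
    chevF4.xMat (ZMod 2) ⟨24, by decide⟩ 1 j i = unpack (cols24.getD (idxNat i) 0) j := by decide +kernel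

theorem rootCols_24 : RootCols 24 cols24 := rootCols_of_chk 24 (by decide) cols24 rfl cols24_sem

set_option maxRecDepth 1000000 in
theorem cols14_sem : ∀ i j : chevF4.Idx,
    chevF4.xMat (ZMod 2) ⟨14, by decide⟩ 1 j i = unpack (cols14.getD (idxNat i) 0) j := by decide +kernel

theorem rootCols_14 : RootCols 14 cols14 := rootCols_of_chk 14 (by decide) cols14 rfl cols14_sem

set_option maxRecDepth 1000000 in
theorem cols23_sem : ∀ i j : chevF4.Idx,
    chevF4.xMat (ZMod 2) ⟨23, by decide⟩ 1 j i = unpack (cols23.getD (idxNat i) 0) j := by decide +kernel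

theorem rootCols_23 : RootCols 23 cols23 := rootCols_of_chk 23 (by decide) cols23 rfl cols23_sem

set_option maxRecDepth 1000000 in
theorem cols27_sem : ∀ i j : chevF4.Idx,
    chevF4.xMat (ZMod 2) ⟨27, by decide⟩ 1 j i = unpack (cols27.getD (idxNat i) 0) j := by decide +kernel

theorem rootCols_27 : RootCols 27 cols27 := rootCols_of_chk 27 (by decide) cols27 rfl cols27_sem

set_option maxRecDepth 1000000 in
theorem cols25_sem : ∀ i j : chevF4.Idx,
    chevF4.xMat (ZMod 2) ⟨25, by decide⟩ 1 j i = unpack (cols25.getD (idxNat i) 0) j := by decide +kernel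

theorem rootCols_25 : RootCols 25 cols25 := rootCols_of_chk 25 (by decide) cols25 rfl cols25_sem

set_option maxRecDepth 1000000 in
theorem cols28_sem : ∀ i j : chevF4.Idx,
    chevF4.xMat (ZMod 2) ⟨28, by decide⟩ 1 j i = unpack (cols28.getD (idxNat i) 0) j := by decide +kernel

theorem rootCols_28 : RootCols 28 cols28 := rootCols_of_chk 28 (by decide) cols28 rfl cols28_sem

set_option maxRecDepth 1000000 in
theorem cols20_sem : ∀ i j : chevF4.Idx,
    chevF4.xMat (ZMod 2) ⟨20, by decide⟩ 1 j i = unpack (cols20.getD (idxNat i) 0) j := by decide +kernel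

theorem rootCols_20 : RootCols 20 cols20 := rootCols_of_chk 20 (by decide) cols20 rfl cols20_sem

set_option maxRecDepth 1000000 in
theorem cols22_sem : ∀ i j : chevF4.Idx,
    chevF4.xMat (ZMod 2) ⟨22, by decide⟩ 1 j i = unpack (cols22.getD (idxNat i) 0) j := by decide +kernel

theorem rootCols_22 : RootCols 22 cols22 := rootCols_of_chk 22 (by decide) cols22 rfl cols22_sem

set_option maxRecDepth 1000000 in
theorem cols19_sem : ∀ i j : chevF4.Idx,
    chevF4.xMat (ZMod 2) ⟨19, by decide⟩ 1 j i = unpack (cols19.getD (idxNat i) 0) j := by decide +kernel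

theorem rootCols_19 : RootCols 19 cols19 := rootCols_of_chk 19 (by decide) cols19 rfl cols19_sem

/-! ### Words -/

/-- The action of the general linear group on the vectors. -/
def act (g : GL chevF4.Idx (ZMod 2)) (u : V) : V := (g : Matrix chevF4.Idx chevF4.Idx (ZMod 2)).mulVec u

theorem act_one (u : V) : act 1 u = u := by
  unfold act; rw [Units.val_one, Matrix.one_mulVec]

theorem act_mul (g h : GL chevF4.Idx (ZMod 2)) (u : V) : act (g * h) u = act g (act h u) := by
  unfold act; rw [Units.val_mul, Matrix.mulVec_mulVec]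

theorem act_add (g : GL chevF4.Idx (ZMod 2)) (u u' : V) : act g (u + u') = act g u + act g u' := by
  unfold act; rw [Matrix.mulVec_add]

theorem act_W (rc : List (ℕ × List ℕ)) (h : ∀ p ∈ rc, RootCols p.1 p.2) (v : ℕ) :
    act (W (rc.map Prod.fst)) (unpack v) = unpack (appWord (rc.map Prod.snd) v) := by
  induction rc with
  | nil =>
    simp only [List.map_nil, W_nil, act_one, appWord, List.foldr_nil]
  | cons p rc ih =>
    rw [List.map_cons, List.map_cons, W_cons, act_mul, ih fun q hq => h q (List.mem_cons_of_mem _ hq)]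
    unfold act
    rw [coe_xG]
    exact h p List.mem_cons_self _

/-- The packed columns `cs` describe the matrix `g`. -/
def MatCols (g : GL chevF4.Idx (ZMod 2)) (cs : List ℕ) : Prop := ∀ v : ℕ, act g (unpack v) = unpack (appCols cs v)

theorem matCols_of_chk (g : GL chevF4.Idx (ZMod 2)) (f : ℕ → ℕ) (hf : ∀ v, act g (unpack v) = unpack (f v))
    (cs : List ℕ) (hcs : (List.range 52).map (fun j => f (Nat.shiftLeft 1 j)) = cs) : MatCols g cs := by
  intro v
  have hlen : cs.length = 52 := by rw [← hcs]; simp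
  apply mulVec_unpack _ cs hlen
  intro i r
  have h1 : (g : Matrix chevF4.Idx chevF4.Idx (ZMod 2)) r i = act g (Pi.single i 1) r := by
    unfold act
    rw [Matrix.mulVec_single_one]
    rfl
  rw [h1, ← unpack_two_pow, hf, ← hcs]
  have hi := idxNat_lt i
  rw [List.getD_eq_getElem _ _ (by simp [hi])]
  simp

/-- The tables describe the matrix. -/
theorem act_eq_unpack_appT (g : GL chevF4.Idx (ZMod 2)) (cs : List ℕ) (hg : MatCols g cs)
    (T0 T1 T2 T3 T4 T5 T6 T7 : ℕ) (h0 : chkTab cs T0 (7 * 0) = true) (h1 : chkTab cs T1 (7 * 1) = true)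
    (h2 : chkTab cs T2 (7 * 2) = true) (h3 : chkTab cs T3 (7 * 3) = true) (h4 : chkTab cs T4 (7 * 4) = true)
    (h5 : chkTab cs T5 (7 * 5) = true) (h6 : chkTab cs T6 (7 * 6) = true) (h7 : chkTab cs T7 (7 * 7) = true)
    (v : ℕ) (hv : v < 2 ^ 56) : act g (unpack v) = unpack (appT T0 T1 T2 T3 T4 T5 T6 T7 v) := by
  have e : appT T0 T1 T2 T3 T4 T5 T6 T7 v = look T0 v (7 * 0) ^^^ (look T1 v (7 * 1) ^^^ (look T2 v (7 * 2) ^^^
      (look T3 v (7 * 3) ^^^ (look T4 v (7 * 4) ^^^ (look T5 v (7 * 5) ^^^ (look T6 v (7 * 6) ^^^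
        look T7 v (7 * 7))))))) := rfl
  rw [e, look_eq cs T0 0 h0, look_eq cs T1 1 h1, look_eq cs T2 2 h2, look_eq cs T3 3 h3, look_eq cs T4 4 h4,
    look_eq cs T5 5 h5, look_eq cs T6 6 h6, look_eq cs T7 7 h7]
  conv_lhs => rw [xor_chunks v hv]
  simp only [unpack_xor, act_add]
  rw [hg, hg, hg, hg, hg, hg, hg, hg]

/-! ### The generators -/

theorem matCols_P : MatCols (W [33, 24]) colsP := by
  apply matCols_of_chk (W [33, 24]) (appWord [cols33, cols24]) _ colsP colsP_chk
  intro v
  have h := act_W [(33, cols33), (24, cols24)] (by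
    intro p hp
    simp only [List.mem_cons, List.not_mem_nil, or_false] at hp
    rcases hp with rfl | rfl
    · exact rootCols_33
    · exact rootCols_24) v
  exact h

theorem act_P (v : ℕ) (hv : v < 2 ^ 56) : act (W [33, 24]) (unpack v) = unpack (appP v) :=
  act_eq_unpack_appT (W [33, 24]) colsP matCols_P _ _ _ _ _ _ _ _ tabP0_chk tabP1_chk tabP2_chk tabP3_chk
    tabP4_chk tabP5_chk tabP6_chk tabP7_chk v hv

theorem matCols_Pm : MatCols (W [14, 23]) colsPm := by
  apply matCols_of_chk (W [14, 23]) (appWord [cols14, cols23]) _ colsPm colsPm_chk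
  intro v
  have h := act_W [(14, cols14), (23, cols23)] (by
    intro p hp
    simp only [List.mem_cons, List.not_mem_nil, or_false] at hp
    rcases hp with rfl | rfl
    · exact rootCols_14
    · exact rootCols_23) v
  exact h

theorem act_Pm (v : ℕ) (hv : v < 2 ^ 56) : act (W [14, 23]) (unpack v) = unpack (appPm v) :=
  act_eq_unpack_appT (W [14, 23]) colsPm matCols_Pm _ _ _ _ _ _ _ _ tabPm0_chk tabPm1_chk tabPm2_chk tabPm3_chk
    tabPm4_chk tabPm5_chk tabPm6_chk tabPm7_chk v hv

theorem matCols_Q : MatCols (W [27, 25, 28]) colsQ := by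
  apply matCols_of_chk (W [27, 25, 28]) (appWord [cols27, cols25, cols28]) _ colsQ colsQ_chk
  intro v
  have h := act_W [(27, cols27), (25, cols25), (28, cols28)] (by
    intro p hp
    simp only [List.mem_cons, List.not_mem_nil, or_false] at hp
    rcases hp with rfl | rfl | rfl
    · exact rootCols_27
    · exact rootCols_25
    · exact rootCols_28) v
  exact h

theorem act_Q (v : ℕ) (hv : v < 2 ^ 56) : act (W [27, 25, 28]) (unpack v) = unpack (appQ v) :=
  act_eq_unpack_appT (W [27, 25, 28]) colsQ matCols_Q _ _ _ _ _ _ _ _ tabQ0_chk tabQ1_chk tabQ2_chk tabQ3_chk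
    tabQ4_chk tabQ5_chk tabQ6_chk tabQ7_chk v hv

theorem matCols_Qm : MatCols (W [20, 22, 19]) colsQm := by
  apply matCols_of_chk (W [20, 22, 19]) (appWord [cols20, cols22, cols19]) _ colsQm colsQm_chk
  intro v
  have h := act_W [(20, cols20), (22, cols22), (19, cols19)] (by
    intro p hp
    simp only [List.mem_cons, List.not_mem_nil, or_false] at hp
    rcases hp with rfl | rfl | rfl
    · exact rootCols_20
    · exact rootCols_22
    · exact rootCols_19) v
  exact h

theorem act_Qm (v : ℕ) (hv : v < 2 ^ 56) : act (W [20, 22, 19]) (unpack v) = unpack (appQm v) :=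
  act_eq_unpack_appT (W [20, 22, 19]) colsQm matCols_Qm _ _ _ _ _ _ _ _ tabQm0_chk tabQm1_chk tabQm2_chk tabQm3_chk
    tabQm4_chk tabQm5_chk tabQm6_chk tabQm7_chk v hv

end Cfsg.Agent.Lib.Helper18.Tits
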