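/-
helper18: the Tits group, part 6: every element of `²F₄(2)` preserves or exchanges the two colour classes of the
orbit of `h₁`; the commutators preserve them and `y(1,0)` exchanges them, so the derived subgroup has index 2.
-/
import Cfsg.Agent.Lib.Helper18.Tits5

set_option autoImplicit false

namespace Cfsg.Agent.Lib.Helper18.Tits

open Cfsg.Lie Cfsg.Agent.Lib.Helper18 Cfsg.Agent.Lib.Helper18.F4T Cfsg.Agent.Lib.Helper91.ReeF4
open Cfsg.Agent.Lib.Helper91.SigAbs Cfsg.Agent.Lib.Helper91.ExcAut Cfsg.Agent.Lib.Helper61.ReeF4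

/-- The two colour classes, packed. -/
def cls (c : Bool) : BT := bif c then tree1 else tree0

/-- The two colour classes. -/
def X (c : Bool) : Set V := {u | ∃ x ∈ (cls c).keys, unpack x = u}

/-- `g` maps the class `c` into the class `c + ε`. -/
def HasType (g : GL chevF4.Idx (ZMod 2)) (ε : Bool) : Prop := ∀ c, ∀ u ∈ X c, act g u ∈ X (xor c ε)

theorem key_bound (c : Bool) (x : ℕ) (hx : x ∈ (cls c).keys) : x < 2 ^ 52 := by
  have h : Nat.ble x 4503599627370495 = true := by
    cases c
    · exact BT.all_sound tree0 _ bound0_chk x hx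
    · exact BT.all_sound tree1 _ bound1_chk x hx
  have := Nat.le_of_ble_eq_true h
  omega

theorem hasType_one : HasType 1 false := by
  intro c u hu
  rw [act_one, Bool.xor_false]
  exact hu

theorem hasType_mul (g h : GL chevF4.Idx (ZMod 2)) (a b : Bool) (hg : HasType g a) (hh : HasType h b) :
    HasType (g * h) (xor a b) := by
  intro c u hu
  rw [act_mul]
  have h1 := hg _ _ (hh c u hu)
  have e : xor (xor c b) a = xor c (xor a b) := by cases a <;> cases b <;> cases c <;> rfl
  rw [e] at h1
  exact h1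

theorem exists_type_pow (g : GL chevF4.Idx (ZMod 2)) (a : Bool) (hg : HasType g a) (n : ℕ) :
    ∃ b, HasType (g ^ n) b := by
  induction n with
  | zero => exact ⟨false, by rw [pow_zero]; exact hasType_one⟩
  | succ n ih =>
    obtain ⟨b, hb⟩ := ih
    exact ⟨xor b a, by rw [pow_succ]; exact hasType_mul _ _ _ _ hb hg⟩

theorem exists_type_inv (g : GL chevF4.Idx (ZMod 2)) (a : Bool) (hg : HasType g a) : ∃ b, HasType g⁻¹ b := by
  have hpos : 0 < orderOf g := orderOf_pos g
  have e : g⁻¹ = g ^ (orderOf g - 1) := by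
    apply inv_eq_of_mul_eq_one_right
    rw [← pow_succ', Nat.sub_add_cancel hpos, pow_orderOf_eq_one]
  rw [e]
  exact exists_type_pow g a hg _

/-- The witness: `h₁` lies in the class 0 and not in the class 1. -/
theorem not_hasType_one_true : ¬ HasType 1 true := by
  intro h
  have h0 : unpack 1 ∈ X false := ⟨1, BT.mem_sound tree0 1 one_mem_chk, rfl⟩
  have h1 := h false _ h0
  rw [act_one] at h1
  obtain ⟨y, hy, hy1⟩ := h1
  have hyb := key_bound true y hy
  have hy' : y = 1 := unpack_injective y 1 hyb (by norm_num) hy1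
  have h2 := BT.all_sound tree1 _ one_not_mem_chk y hy
  rw [hy'] at h2
  exact absurd h2 (by decide)

/-- The type of an element is unique. -/
theorem type_unique (g : GL chevF4.Idx (ZMod 2)) (a b : Bool) (ha : HasType g a) (hb : HasType g b) : a = b := by
  obtain ⟨c, hc⟩ := exists_type_inv g a ha
  have h1 := hasType_mul _ _ _ _ hc ha
  have h2 := hasType_mul _ _ _ _ hc hb
  rw [inv_mul_cancel] at h1 h2
  by_contra hab
  cases a <;> cases b <;> cases c <;> simp_all [not_hasType_one_true]

theorem type_inv (g : GL chevF4.Idx (ZMod 2)) (a : Bool) (ha : HasType g a) : HasType g⁻¹ a := by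
  obtain ⟨c, hc⟩ := exists_type_inv g a ha
  have h1 := hasType_mul _ _ _ _ hc ha
  rw [inv_mul_cancel] at h1
  have : xor c a = false := type_unique 1 _ _ h1 hasType_one
  have hca : c = a := by cases a <;> cases c <;> simp_all
  rw [← hca]
  exact hc

/-! ### The generators -/

theorem hasType_of_maps (g : GL chevF4.Idx (ZMod 2)) (f : ℕ → ℕ)
    (hf : ∀ v, v < 2 ^ 56 → act g (unpack v) = unpack (f v)) (ε : Bool)
    (h0 : chkMap tree0 (cls ε) f = true) (h1 : chkMap tree1 (cls (!ε)) f = true) : HasType g ε := by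
  intro c u hu
  obtain ⟨x, hx, rfl⟩ := hu
  have hxb : x < 2 ^ 56 := lt_of_lt_of_le (key_bound c x hx) (Nat.pow_le_pow_right (by norm_num) (by norm_num))
  rw [hf x hxb]
  cases c
  · exact ⟨f x, by rw [Bool.false_xor]; exact chkMap_sound _ _ f h0 x hx, rfl⟩
  · exact ⟨f x, by rw [Bool.true_xor]; exact chkMap_sound _ _ f h1 x hx, rfl⟩

theorem hasType_P : HasType (W [33, 24]) false := hasType_of_maps _ appP act_P false mapP0_chk mapP1_chk

theorem hasType_Pm : HasType (W [14, 23]) false := hasType_of_maps _ appPm act_Pm false mapPm0_chk mapPm1_chk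

theorem hasType_Q : HasType (W [27, 25, 28]) true := hasType_of_maps _ appQ act_Q true mapQ0_chk mapQ1_chk

theorem hasType_Qm : HasType (W [20, 22, 19]) true := hasType_of_maps _ appQm act_Qm true mapQm0_chk mapQm1_chk

set_option maxRecDepth 100000 in
theorem chk_sqm : wordEqChk chevF4 2 ([20, 22, 19, 20, 22, 19].map cw1) ([19, 17].map cw1) = true := by
  decide +kernel

theorem hasType_Q01 : HasType (W [28, 30]) false := by
  have e : W [28, 30] = W [27, 25, 28] * W [27, 25, 28] := by
    rw [← W_append]; exact (W_eq_of_chk _ _ chk_sq).symm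
  rw [e]
  exact hasType_mul _ _ _ _ hasType_Q hasType_Q

theorem hasType_Qm01 : HasType (W [19, 17]) false := by
  have e : W [19, 17] = W [20, 22, 19] * W [20, 22, 19] := by
    rw [← W_append]; exact (W_eq_of_chk _ _ chk_sqm).symm
  rw [e]
  exact hasType_mul _ _ _ _ hasType_Qm hasType_Qm

theorem hasType_Q11 : HasType (W [27, 25, 30]) true := by
  rw [Q11_eq]
  exact hasType_mul _ _ _ _ hasType_Q hasType_Q01

theorem hasType_Qm11 : HasType (W [20, 22, 17]) true := by
  rw [Qm11_eq]
  exact hasType_mul _ _ _ _ hasType_Qm hasType_Qm01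

theorem exists_type' (g : GL chevF4.Idx (ZMod 2))
    (hg' : g ∈ Subgroup.closure {g : GL chevF4.Idx (ZMod 2) | ∃ w ∈ f4Words (ZMod 2) 1,
      (g : Matrix chevF4.Idx chevF4.Idx (ZMod 2)) = chevF4.wordMat (ZMod 2) w}) : ∃ a, HasType g a := by
  induction hg' using Subgroup.closure_induction with
  | mem g hgen =>
    obtain ⟨w, hw, hgw⟩ := hgen
    have hgW : g = wordG hD4 w := Units.ext (by rw [hgw, coe_wordG])
    rw [hgW]
    rcases hw with ⟨t, rfl | rfl⟩ | ⟨t, u, rfl | rfl⟩
    · rcases z2_cases t with rfl | rfl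
      · rw [pairWord_zero]; exact ⟨_, hasType_one⟩
      · rw [pairWord_one]; exact ⟨_, hasType_P⟩
    · rcases z2_cases t with rfl | rfl
      · rw [pairWord_zero]; exact ⟨_, hasType_one⟩
      · rw [pairWord_one]; exact ⟨_, hasType_Pm⟩
    · rcases z2_cases t with rfl | rfl <;> rcases z2_cases u with rfl | rfl
      · rw [quadWord_00]; exact ⟨_, hasType_one⟩
      · rw [quadWord_01]; exact ⟨_, hasType_Q01⟩
      · rw [quadWord_10]; exact ⟨_, hasType_Q⟩
      · rw [quadWord_11]; exact ⟨_, hasType_Q11⟩
    · rcases z2_cases t with rfl | rfl <;> rcases z2_cases u with rfl | rfl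
      · rw [quadWord_00]; exact ⟨_, hasType_one⟩
      · rw [quadWord_01]; exact ⟨_, hasType_Qm01⟩
      · rw [quadWord_10]; exact ⟨_, hasType_Qm⟩
      · rw [quadWord_11]; exact ⟨_, hasType_Qm11⟩
  | one => exact ⟨_, hasType_one⟩
  | mul x y _ _ hx hy =>
    obtain ⟨a, ha⟩ := hx
    obtain ⟨b, hb⟩ := hy
    exact ⟨_, hasType_mul _ _ _ _ ha hb⟩
  | inv x _ hx =>
    obtain ⟨a, ha⟩ := hx
    exact ⟨a, type_inv x a ha⟩

theorem exists_type (g : GL chevF4.Idx (ZMod 2)) (hg : g ∈ G2) : ∃ a, HasType g a := exists_type' g hg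

/-- The elements of the derived subgroup preserve the two classes. -/
theorem hasType_of_mem_commutator (x : ↥G2) (hx : x ∈ commutator ↥G2) :
    HasType (x : GL chevF4.Idx (ZMod 2)) false := by
  rw [commutator_eq_closure] at hx
  induction hx using Subgroup.closure_induction with
  | mem y hy =>
    obtain ⟨a, b, rfl⟩ := hy
    obtain ⟨α, hα⟩ := exists_type (a : GL chevF4.Idx (ZMod 2)) a.2
    obtain ⟨β, hβ⟩ := exists_type (b : GL chevF4.Idx (ZMod 2)) b.2
    have h := hasType_mul _ _ _ _ (hasType_mul _ _ _ _ (hasType_mul _ _ _ _ hα hβ) (type_inv _ _ hα))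
      (type_inv _ _ hβ)
    have e : xor (xor (xor α β) α) β = false := by cases α <;> cases β <;> rfl
    rw [e] at h
    exact h
  | one => exact hasType_one
  | mul y z _ _ hy hz =>
    have h := hasType_mul _ _ _ _ hy hz
    exact h
  | inv y _ hy => exact type_inv _ _ hy

theorem qG_not_mem : qG ∉ commutator ↥G2 := by
  intro h
  have h1 := hasType_of_mem_commutator qG h
  have h2 : true = false := type_unique _ _ _ hasType_Q h1
  exact absurd h2 (by decide)

/-- The derived subgroup of `²F₄(2)` has index 2. -/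
theorem index_eq_two : (commutator ↥G2).index = 2 := by
  have h1 := index_le_two
  have h0 : (commutator ↥G2).index ≠ 0 := Subgroup.index_ne_zero_of_finite
  have h2 : (commutator ↥G2).index ≠ 1 := by
    intro h
    rw [Subgroup.index_eq_one] at h
    apply qG_not_mem
    rw [h]
    exact Subgroup.mem_top _
  omega

end Cfsg.Agent.Lib.Helper18.Tits
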