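/-
helper18: the Tits group, part 7: Tits' dichotomy for the normal subgroups of `²F₄(2)`, the group `B = U` is a
2-group, the order; the Tits group is simple.
-/
import Cfsg.Agent.Lib.Helper18.Tits6
import Cfsg.Agent.Lib.Helper9.TitsAbs
import Cfsg.Agent.S1027
import Cfsg.Agent.Lib.Helper18.F4N
import Cfsg.Agent.Lib.Helper91.ExcAut2

set_option autoImplicit false

namespace Cfsg.Agent.Lib.Helper18.Tits

open Cfsg.Lie Cfsg.Agent.Lib.Helper18 Cfsg.Agent.Lib.Helper18.F4T Cfsg.Agent.Lib.Helper91.ReeF4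
open Cfsg.Agent.Lib.Helper91.SigAbs Cfsg.Agent.Lib.Helper91.ExcAut Cfsg.Agent.Lib.Helper61.ReeF4

theorem hq2 : ∀ t : ZMod 2, t ^ (2 * 2 ^ 0 * 2 ^ 0) = t := by decide

/-- The diagonal subgroup over the field with two elements is trivial. -/
theorem diagonal_eq_bot : chevF4.diagonalSubgroup (ZMod 2) = ⊥ := by
  unfold ChevalleyDatum.diagonalSubgroup
  rw [Subgroup.closure_eq_bot_iff]
  rintro g ⟨r, t, hr, ht, hg⟩
  rw [Set.mem_singleton_iff]
  have ht1 : t = 1 := by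
    rcases z2_cases t with h | h
    · exact absurd h ht
    · exact h
  apply Units.ext
  rw [hg, ht1, hMat_one chevF4 hD4 r hr, Units.val_one]

theorem borel_eq : chevF4.borelSubgroup (ZMod 2) = chevF4.posUnipotent (ZMod 2) := by
  unfold ChevalleyDatum.borelSubgroup
  rw [diagonal_eq_bot, sup_bot_eq]

theorem isPGroup_posUnipotent : IsPGroup 2 ↥(chevF4.posUnipotent (ZMod 2)) := by
  have h := Cfsg.Agent.S1027.result (F := ZMod 2) chevF4 hD4
  rw [ZMod.card] at h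
  exact IsPGroup.of_card h

/-- The order of `²F₄(2)`. -/
theorem card_G2 : Nat.card ↥G2 = 35942400 := by
  have h := card_twistedF4 (K := ZMod 2) (m := 0) (by rw [ZMod.card]; norm_num)
  have e : twistedF4 (ZMod 2) (2 ^ 0) = G2 := rfl
  rw [e] at h
  rw [h]
  norm_num

/-- Tits' dichotomy for `²F₄(2)`, with the 2-group `B = U`. -/
theorem exists_dich : ∃ U : Subgroup ↥G2, IsPGroup 2 ↥U ∧
    ∀ X : Subgroup ↥G2, X.Normal → X = ⊥ ∨ U ⊔ X = ⊤ := by
  have he : (2 : ℕ) ^ 0 ≠ 0 := by norm_num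
  obtain ⟨P, hPB, hPN, hPS⟩ := exists_bnPair_f4 (ZMod 2) 0 hq2
  have hn1 : nW hD4 chevData_F4.{0} [0, 3] ∈ twistedF4 (ZMod 2) (2 ^ 0) := nW_J1_mem (ZMod 2) (2 ^ 0)
  have hn2 : nW hD4 chevData_F4.{0} [1, 2, 1, 2] ∈ twistedF4 (ZMod 2) (2 ^ 0) := nW_J2_mem (ZMod 2) (2 ^ 0) he
  let s₁ : ↥(twistedF4 (ZMod 2) (2 ^ 0)) := ⟨nW hD4 chevData_F4.{0} [0, 3], hn1⟩
  let s₂ : ↥(twistedF4 (ZMod 2) (2 ^ 0)) := ⟨nW hD4 chevData_F4.{0} [1, 2, 1, 2], hn2⟩
  have hs₁ : s₁ ∈ P.S := by rw [hPS]; exact ⟨[0, 3], by simp [f4Js], rfl⟩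
  have hs₂ : s₂ ∈ P.S := by rw [hPS]; exact ⟨[1, 2, 1, 2], by simp [f4Js], rfl⟩
  have hS : ∀ s ∈ P.S, s = s₁ ∨ s = s₂ := by
    intro s hs
    rw [hPS] at hs
    obtain ⟨J, hJ, hsJ⟩ := hs
    simp only [f4Js, List.mem_cons, List.not_mem_nil, or_false] at hJ
    rcases hJ with rfl | rfl
    · exact Or.inl (Subtype.ext hsJ)
    · exact Or.inr (Subtype.ext hsJ)
  have hc12 : s₁ * s₂ * s₁⁻¹ * s₂⁻¹ ∉ P.B := by
    rw [hPB, Subgroup.mem_subgroupOf]
    intro hmem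
    exact nJ_comm_not_mem_borel (ZMod 2) 0 hq2 (Subgroup.mem_inf.mp hmem).1
  have hc21 : s₂ * s₁ * s₂⁻¹ * s₁⁻¹ ∉ P.B := by
    intro hmem
    apply hc12
    have : s₁ * s₂ * s₁⁻¹ * s₂⁻¹ = (s₂ * s₁ * s₂⁻¹ * s₁⁻¹)⁻¹ := by group
    rw [this]
    exact inv_mem hmem
  have hirr' : P.Irreducible := by
    intro J hJ hJne hJc
    obtain ⟨s, hs⟩ := hJne
    obtain ⟨s', hs', hs'J⟩ := hJc
    rcases hS s (hJ hs) with rfl | rfl <;> rcases hS s' hs' with rfl | rfl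
    · exact absurd hs hs'J
    · exact ⟨_, hs, _, ⟨hs', hs'J⟩, hc12⟩
    · exact ⟨_, hs, _, ⟨hs', hs'J⟩, hc21⟩
    · exact absurd hs hs'J
  have hcore' : P.B.normalCore = ⊥ := by rw [hPB]; exact normalCore_f4 (ZMod 2) 0
  refine ⟨P.B, ?_, ?_⟩
  · rw [hPB]
    let f : ↥((chevF4.borelSubgroup (ZMod 2) ⊓ twistedF4 (ZMod 2) (2 ^ 0)).subgroupOf
        (twistedF4 (ZMod 2) (2 ^ 0))) →* ↥(chevF4.posUnipotent (ZMod 2)) :=
      { toFun := fun x => ⟨((x : ↥(twistedF4 (ZMod 2) (2 ^ 0))) : GL chevF4.Idx (ZMod 2)), by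
          have h := (Subgroup.mem_inf.mp (Subgroup.mem_subgroupOf.mp x.2)).1
          exact borel_eq ▸ h⟩
        map_one' := rfl
        map_mul' := fun _ _ => rfl }
    have hf : Function.Injective f := by
      intro x y hxy
      apply Subtype.ext
      apply Subtype.ext
      exact congrArg (fun z : ↥(chevF4.posUnipotent (ZMod 2)) => (z : GL chevF4.Idx (ZMod 2))) hxy
    exact isPGroup_posUnipotent.of_injective f hf
  · intro X hX
    haveI := hX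
    exact normal_eq_bot_or_sup_eq_top P hirr' hcore' X

/-- The Tits group is simple, of index 2 in `²F₄(2)`. -/
theorem tits_main : (commutator ↥G2).index = 2 ∧ IsSimpleGroup ↥(commutator ↥G2) ∧
    ¬ IsMulCommutative ↥(commutator ↥G2) ∧ Nat.card ↥(commutator ↥G2) = 2 ^ 11 * 3 ^ 3 * 5 ^ 2 * 13 := by
  obtain ⟨U, hU, hdich⟩ := exists_dich
  have hidx := index_eq_two
  have hcardG := card_G2
  haveI : Finite ↥G2 := Nat.finite_of_card_ne_zero (by rw [hcardG]; norm_num)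
  have hsimple := Cfsg.Agent.Lib.Helper9.TitsAbs.isSimpleGroup_commutator_of_index_two U hU hdich hidx 13
    (by norm_num) (by norm_num) (by rw [hcardG]; norm_num) (by rw [hcardG]; norm_num)
  have hcard : Nat.card ↥(commutator ↥G2) = 2 ^ 11 * 3 ^ 3 * 5 ^ 2 * 13 := by
    have h := Subgroup.card_mul_index (commutator ↥G2)
    rw [hidx, hcardG] at h
    omega
  refine ⟨hidx, hsimple, ?_, hcard⟩
  intro hcomm
  haveI := hsimple
  letI : CommGroup ↥(commutator ↥G2) := { (inferInstance : Group ↥(commutator ↥G2)) with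
    mul_comm := fun a b => hcomm.is_comm.comm a b }
  have hprime := IsSimpleGroup.prime_card (α := ↥(commutator ↥G2))
  rw [hcard] at hprime
  norm_num at hprime

end Cfsg.Agent.Lib.Helper18.Tits
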