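/-
helper18: involutions of `²F₄(2)`, part 1: soundness of the cheaper table check (linearity of the packed action).
-/
import Cfsg.Agent.Lib.Helper18.Tits4
import Cfsg.Agent.Lib.Helper18.TitsU.Defs

set_option autoImplicit false

namespace Cfsg.Agent.Lib.Helper18.Tits

theorem lc_xor (cs : List ℕ) (a b j : ℕ) : lc cs (a ^^^ b) j = lc cs a j ^^^ lc cs b j := by
  induction cs generalizing j with
  | nil => simp [lc]
  | cons c cs ih =>
    unfold lc
    rw [ih, Nat.testBit_xor]
    cases Nat.testBit a j <;> cases Nat.testBit b j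
    · simp
    · simp only [Bool.false_xor, if_true, Bool.false_eq_true, if_false, Nat.zero_xor]
      ac_rfl
    · simp only [Bool.xor_false, if_true, Bool.false_eq_true, if_false, Nat.zero_xor]
      ac_rfl
    · simp only [Bool.xor_self, Bool.false_eq_true, if_false, if_true, Nat.zero_xor]
      have e : (c ^^^ lc cs a (j + 1)) ^^^ (c ^^^ lc cs b (j + 1))
          = c ^^^ (c ^^^ (lc cs a (j + 1) ^^^ lc cs b (j + 1))) := by ac_rfl
      rw [e, Nat.xor_xor_cancel_left]

theorem appCols_xor (cs : List ℕ) (a b : ℕ) : appCols cs (a ^^^ b) = appCols cs a ^^^ appCols cs b := by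
  rw [appCols_eq, appCols_eq, appCols_eq, lc_xor]

theorem lc_zero (cs : List ℕ) (j : ℕ) : lc cs 0 j = 0 := by
  induction cs generalizing j with
  | nil => rfl
  | cons c cs ih => unfold lc; rw [ih]; simp

theorem appCols_zero (cs : List ℕ) : appCols cs 0 = 0 := by
  rw [appCols_eq, lc_zero]

/-- Every non-zero `u < 128` is `2^b xor w` with `w < 2^b`. -/
def decompChk : Bool :=
  (List.range 128).all fun u => Nat.beq u 0 || (List.range 7).any fun b => (List.range 64).any fun w =>
    Nat.blt w (Nat.shiftLeft 1 b) && Nat.blt w u && Nat.beq u (Nat.xor (Nat.shiftLeft 1 b) w)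

set_option maxRecDepth 100000 in
theorem decompChk_eq : decompChk = true := by decide +kernel

theorem decomp128 (u : ℕ) (hu : u < 128) (hu0 : u ≠ 0) : ∃ b, b < 7 ∧ ∃ w,
    w < Nat.shiftLeft 1 b ∧ w < u ∧ u = Nat.xor (Nat.shiftLeft 1 b) w := by
  have h := decompChk_eq
  unfold decompChk at h
  rw [List.all_eq_true] at h
  have h1 := h u (List.mem_range.mpr hu)
  rw [Bool.or_eq_true] at h1
  rcases h1 with h1 | h1
  · exact absurd (Nat.eq_of_beq_eq_true h1) hu0
  · rw [List.any_eq_true] at h1
    obtain ⟨b, hb, h2⟩ := h1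
    rw [List.any_eq_true] at h2
    obtain ⟨w, -, h3⟩ := h2
    simp only [Bool.and_eq_true] at h3
    obtain ⟨⟨h4, h5⟩, h6⟩ := h3
    refine ⟨b, List.mem_range.mp hb, w, ?_, ?_, Nat.eq_of_beq_eq_true h6⟩
    · exact Nat.le_of_ble_eq_true h4
    · exact Nat.le_of_ble_eq_true h5

theorem chkTab2_sound (cs : List ℕ) (T s : ℕ) (h : chkTab2 cs T s = true) :
    ∀ u, u < 128 → tabEntry T u = appCols cs (Nat.shiftLeft u s) := by
  unfold chkTab2 at h
  simp only [Bool.and_eq_true, List.all_eq_true, List.mem_range] at h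
  obtain ⟨⟨h0, h1⟩, h2⟩ := h
  intro u
  induction u using Nat.strong_induction_on with
  | _ u ih =>
    intro hu
    by_cases hu0 : u = 0
    · subst hu0
      rw [Nat.eq_of_beq_eq_true h0]
      show 0 = appCols cs (0 <<< s)
      rw [Nat.zero_shiftLeft, appCols_zero]
    · obtain ⟨b, hb, w, hwb, hwu, huw⟩ := decomp128 u hu hu0
      have e1 := Nat.eq_of_beq_eq_true (h2 b hb w hwb)
      have e2 := Nat.eq_of_beq_eq_true (h1 b hb)
      have e3 := ih w hwu (lt_trans hwu hu)
      rw [huw, e1, e2, e3]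
      show appCols cs ((1 <<< b) <<< s) ^^^ appCols cs (w <<< s)
        = appCols cs (((1 <<< b) ^^^ w) <<< s)
      rw [← appCols_xor, Nat.shiftLeft_xor_distrib]

theorem chkTab_of_chkTab2 (cs : List ℕ) (T s : ℕ) (h : chkTab2 cs T s = true) : chkTab cs T s = true := by
  unfold chkTab
  rw [List.all_eq_true]
  intro u hu
  rw [List.mem_range] at hu
  have := chkTab2_sound cs T s h u hu
  unfold tabEntry at this
  rw [this]
  exact Nat.beq_refl _

theorem allB_sound (f : Bool → Bool) (h : allB f = true) (b : Bool) : f b = true := by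
  unfold allB at h
  rw [Bool.and_eq_true] at h
  cases b
  · exact h.1
  · exact h.2

end Cfsg.Agent.Lib.Helper18.Tits
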