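/-
helper18: involutions of `²F₄(2)`, part 2: the packed action of the words in the positive root elements; the elements
of `U ∩ ²F₄(2)` which exchange the colour classes are not involutions.
-/
import Cfsg.Agent.Lib.Helper18.Tits7
import Cfsg.Agent.Lib.Helper18.TitsU1
import Cfsg.Agent.Lib.Helper18.TitsU.ChkTab0
import Cfsg.Agent.Lib.Helper18.TitsU.ChkTab1
import Cfsg.Agent.Lib.Helper18.TitsU.ChkTab2
import Cfsg.Agent.Lib.Helper18.TitsU.ChkSem0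
import Cfsg.Agent.Lib.Helper18.TitsU.ChkSem1
import Cfsg.Agent.Lib.Helper18.TitsU.ChkSem2
import Cfsg.Agent.Lib.Helper18.TitsU.ChkInv

set_option autoImplicit false

namespace Cfsg.Agent.Lib.Helper18.Tits

open Cfsg.Lie Cfsg.Agent.Lib.Helper18 Cfsg.Agent.Lib.Helper18.F4T Cfsg.Agent.Lib.Helper91.ReeF4
open Cfsg.Agent.Lib.Helper91.SigAbs Cfsg.Agent.Lib.Helper91.ExcAut Cfsg.Agent.Lib.Helper61.ReeF4

theorem look_lt (T v s : ℕ) : look T v s < 2 ^ 52 := by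
  unfold look
  show (T >>> ((v >>> s &&& 127) <<< 6)) &&& 4503599627370495 < 2 ^ 52
  exact Nat.lt_succ_of_le Nat.and_le_right

theorem appT_lt (T0 T1 T2 T3 T4 T5 T6 T7 v : ℕ) : appT T0 T1 T2 T3 T4 T5 T6 T7 v < 2 ^ 52 := by
  unfold appT
  exact Nat.xor_lt_two_pow (look_lt _ _ _) (Nat.xor_lt_two_pow (look_lt _ _ _) (Nat.xor_lt_two_pow (look_lt _ _ _)
    (Nat.xor_lt_two_pow (look_lt _ _ _) (Nat.xor_lt_two_pow (look_lt _ _ _) (Nat.xor_lt_two_pow (look_lt _ _ _)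
      (Nat.xor_lt_two_pow (look_lt _ _ _) (look_lt _ _ _)))))))

/-- The packed action of a root element given by its columns and tables. -/
theorem act_xG_of_chk (r : ℕ) (hr : r < chevF4.nroots) (cs : List ℕ) (hlen : cs.length = 52)
    (hsem : ∀ i j : chevF4.Idx, chevF4.xMat (ZMod 2) ⟨r, hr⟩ 1 j i = unpack (cs.getD (idxNat i) 0) j)
    (T0 T1 T2 T3 T4 T5 T6 T7 : ℕ) (h0 : chkTab2 cs T0 (7 * 0) = true) (h1 : chkTab2 cs T1 (7 * 1) = true)
    (h2 : chkTab2 cs T2 (7 * 2) = true) (h3 : chkTab2 cs T3 (7 * 3) = true) (h4 : chkTab2 cs T4 (7 * 4) = true)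
    (h5 : chkTab2 cs T5 (7 * 5) = true) (h6 : chkTab2 cs T6 (7 * 6) = true) (h7 : chkTab2 cs T7 (7 * 7) = true)
    (v : ℕ) (hv : v < 2 ^ 52) :
    act (xG hD4 r 1) (unpack v) = unpack (appT T0 T1 T2 T3 T4 T5 T6 T7 v) := by
  have hm : MatCols (xG hD4 r 1) cs := by
    intro w
    unfold act
    rw [coe_xG]
    exact rootCols_of_chk r hr cs hlen hsem w
  exact act_eq_unpack_appT _ cs hm _ _ _ _ _ _ _ _ (chkTab_of_chkTab2 _ _ _ h0) (chkTab_of_chkTab2 _ _ _ h1)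
    (chkTab_of_chkTab2 _ _ _ h2) (chkTab_of_chkTab2 _ _ _ h3) (chkTab_of_chkTab2 _ _ _ h4)
    (chkTab_of_chkTab2 _ _ _ h5) (chkTab_of_chkTab2 _ _ _ h6) (chkTab_of_chkTab2 _ _ _ h7) v
    (lt_of_lt_of_le hv (Nat.pow_le_pow_right (by norm_num) (by norm_num)))

/-- The positive roots. -/
def posList : List ℕ := [33, 24, 27, 25, 28, 30, 34, 26, 36, 42, 37, 32, 35, 31, 40, 46, 38, 43, 29, 41, 44, 47, 39, 45]

theorem appR_sem (r : ℕ) (hr : r ∈ posList) (v : ℕ) (hv : v < 2 ^ 52) :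
    act (xG hD4 r 1) (unpack v) = unpack (appR r v) ∧ appR r v < 2 ^ 52 := by
  simp only [posList, List.mem_cons, List.not_mem_nil, or_false] at hr
  rcases hr with rfl | rfl | rfl | rfl | rfl | rfl | rfl | rfl | rfl | rfl | rfl | rfl | rfl | rfl | rfl | rfl | rfl | rfl | rfl | rfl | rfl | rfl | rfl | rfl
  · have e : appR 33 v = pa33 v := rfl
    rw [e]
    exact ⟨act_xG_of_chk 33 (by decide) pc33 rfl pc33_sem _ _ _ _ _ _ _ _ pt33_0_chk pt33_1_chk pt33_2_chk pt33_3_chk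
      pt33_4_chk pt33_5_chk pt33_6_chk pt33_7_chk v hv, appT_lt _ _ _ _ _ _ _ _ _⟩
  · have e : appR 24 v = pa24 v := rfl
    rw [e]
    exact ⟨act_xG_of_chk 24 (by decide) pc24 rfl pc24_sem _ _ _ _ _ _ _ _ pt24_0_chk pt24_1_chk pt24_2_chk pt24_3_chk
      pt24_4_chk pt24_5_chk pt24_6_chk pt24_7_chk v hv, appT_lt _ _ _ _ _ _ _ _ _⟩
  · have e : appR 27 v = pa27 v := rfl
    rw [e]
    exact ⟨act_xG_of_chk 27 (by decide) pc27 rfl pc27_sem _ _ _ _ _ _ _ _ pt27_0_chk pt27_1_chk pt27_2_chk pt27_3_chk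
      pt27_4_chk pt27_5_chk pt27_6_chk pt27_7_chk v hv, appT_lt _ _ _ _ _ _ _ _ _⟩
  · have e : appR 25 v = pa25 v := rfl
    rw [e]
    exact ⟨act_xG_of_chk 25 (by decide) pc25 rfl pc25_sem _ _ _ _ _ _ _ _ pt25_0_chk pt25_1_chk pt25_2_chk pt25_3_chk
      pt25_4_chk pt25_5_chk pt25_6_chk pt25_7_chk v hv, appT_lt _ _ _ _ _ _ _ _ _⟩
  · have e : appR 28 v = pa28 v := rfl
    rw [e]
    exact ⟨act_xG_of_chk 28 (by decide) pc28 rfl pc28_sem _ _ _ _ _ _ _ _ pt28_0_chk pt28_1_chk pt28_2_chk pt28_3_chk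
      pt28_4_chk pt28_5_chk pt28_6_chk pt28_7_chk v hv, appT_lt _ _ _ _ _ _ _ _ _⟩
  · have e : appR 30 v = pa30 v := rfl
    rw [e]
    exact ⟨act_xG_of_chk 30 (by decide) pc30 rfl pc30_sem _ _ _ _ _ _ _ _ pt30_0_chk pt30_1_chk pt30_2_chk pt30_3_chk
      pt30_4_chk pt30_5_chk pt30_6_chk pt30_7_chk v hv, appT_lt _ _ _ _ _ _ _ _ _⟩
  · have e : appR 34 v = pa34 v := rfl
    rw [e]
    exact ⟨act_xG_of_chk 34 (by decide) pc34 rfl pc34_sem _ _ _ _ _ _ _ _ pt34_0_chk pt34_1_chk pt34_2_chk pt34_3_chk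
      pt34_4_chk pt34_5_chk pt34_6_chk pt34_7_chk v hv, appT_lt _ _ _ _ _ _ _ _ _⟩
  · have e : appR 26 v = pa26 v := rfl
    rw [e]
    exact ⟨act_xG_of_chk 26 (by decide) pc26 rfl pc26_sem _ _ _ _ _ _ _ _ pt26_0_chk pt26_1_chk pt26_2_chk pt26_3_chk
      pt26_4_chk pt26_5_chk pt26_6_chk pt26_7_chk v hv, appT_lt _ _ _ _ _ _ _ _ _⟩
  · have e : appR 36 v = pa36 v := rfl
    rw [e]
    exact ⟨act_xG_of_chk 36 (by decide) pc36 rfl pc36_sem _ _ _ _ _ _ _ _ pt36_0_chk pt36_1_chk pt36_2_chk pt36_3_chk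
      pt36_4_chk pt36_5_chk pt36_6_chk pt36_7_chk v hv, appT_lt _ _ _ _ _ _ _ _ _⟩
  · have e : appR 42 v = pa42 v := rfl
    rw [e]
    exact ⟨act_xG_of_chk 42 (by decide) pc42 rfl pc42_sem _ _ _ _ _ _ _ _ pt42_0_chk pt42_1_chk pt42_2_chk pt42_3_chk
      pt42_4_chk pt42_5_chk pt42_6_chk pt42_7_chk v hv, appT_lt _ _ _ _ _ _ _ _ _⟩
  · have e : appR 37 v = pa37 v := rfl
    rw [e]
    exact ⟨act_xG_of_chk 37 (by decide) pc37 rfl pc37_sem _ _ _ _ _ _ _ _ pt37_0_chk pt37_1_chk pt37_2_chk pt37_3_chk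
      pt37_4_chk pt37_5_chk pt37_6_chk pt37_7_chk v hv, appT_lt _ _ _ _ _ _ _ _ _⟩
  · have e : appR 32 v = pa32 v := rfl
    rw [e]
    exact ⟨act_xG_of_chk 32 (by decide) pc32 rfl pc32_sem _ _ _ _ _ _ _ _ pt32_0_chk pt32_1_chk pt32_2_chk pt32_3_chk
      pt32_4_chk pt32_5_chk pt32_6_chk pt32_7_chk v hv, appT_lt _ _ _ _ _ _ _ _ _⟩
  · have e : appR 35 v = pa35 v := rfl
    rw [e]
    exact ⟨act_xG_of_chk 35 (by decide) pc35 rfl pc35_sem _ _ _ _ _ _ _ _ pt35_0_chk pt35_1_chk pt35_2_chk pt35_3_chk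
      pt35_4_chk pt35_5_chk pt35_6_chk pt35_7_chk v hv, appT_lt _ _ _ _ _ _ _ _ _⟩
  · have e : appR 31 v = pa31 v := rfl
    rw [e]
    exact ⟨act_xG_of_chk 31 (by decide) pc31 rfl pc31_sem _ _ _ _ _ _ _ _ pt31_0_chk pt31_1_chk pt31_2_chk pt31_3_chk
      pt31_4_chk pt31_5_chk pt31_6_chk pt31_7_chk v hv, appT_lt _ _ _ _ _ _ _ _ _⟩
  · have e : appR 40 v = pa40 v := rfl
    rw [e]
    exact ⟨act_xG_of_chk 40 (by decide) pc40 rfl pc40_sem _ _ _ _ _ _ _ _ pt40_0_chk pt40_1_chk pt40_2_chk pt40_3_chk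
      pt40_4_chk pt40_5_chk pt40_6_chk pt40_7_chk v hv, appT_lt _ _ _ _ _ _ _ _ _⟩
  · have e : appR 46 v = pa46 v := rfl
    rw [e]
    exact ⟨act_xG_of_chk 46 (by decide) pc46 rfl pc46_sem _ _ _ _ _ _ _ _ pt46_0_chk pt46_1_chk pt46_2_chk pt46_3_chk
      pt46_4_chk pt46_5_chk pt46_6_chk pt46_7_chk v hv, appT_lt _ _ _ _ _ _ _ _ _⟩
  · have e : appR 38 v = pa38 v := rfl
    rw [e]
    exact ⟨act_xG_of_chk 38 (by decide) pc38 rfl pc38_sem _ _ _ _ _ _ _ _ pt38_0_chk pt38_1_chk pt38_2_chk pt38_3_chk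
      pt38_4_chk pt38_5_chk pt38_6_chk pt38_7_chk v hv, appT_lt _ _ _ _ _ _ _ _ _⟩
  · have e : appR 43 v = pa43 v := rfl
    rw [e]
    exact ⟨act_xG_of_chk 43 (by decide) pc43 rfl pc43_sem _ _ _ _ _ _ _ _ pt43_0_chk pt43_1_chk pt43_2_chk pt43_3_chk
      pt43_4_chk pt43_5_chk pt43_6_chk pt43_7_chk v hv, appT_lt _ _ _ _ _ _ _ _ _⟩
  · have e : appR 29 v = pa29 v := rfl
    rw [e]
    exact ⟨act_xG_of_chk 29 (by decide) pc29 rfl pc29_sem _ _ _ _ _ _ _ _ pt29_0_chk pt29_1_chk pt29_2_chk pt29_3_chk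
      pt29_4_chk pt29_5_chk pt29_6_chk pt29_7_chk v hv, appT_lt _ _ _ _ _ _ _ _ _⟩
  · have e : appR 41 v = pa41 v := rfl
    rw [e]
    exact ⟨act_xG_of_chk 41 (by decide) pc41 rfl pc41_sem _ _ _ _ _ _ _ _ pt41_0_chk pt41_1_chk pt41_2_chk pt41_3_chk
      pt41_4_chk pt41_5_chk pt41_6_chk pt41_7_chk v hv, appT_lt _ _ _ _ _ _ _ _ _⟩
  · have e : appR 44 v = pa44 v := rfl
    rw [e]
    exact ⟨act_xG_of_chk 44 (by decide) pc44 rfl pc44_sem _ _ _ _ _ _ _ _ pt44_0_chk pt44_1_chk pt44_2_chk pt44_3_chk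
      pt44_4_chk pt44_5_chk pt44_6_chk pt44_7_chk v hv, appT_lt _ _ _ _ _ _ _ _ _⟩
  · have e : appR 47 v = pa47 v := rfl
    rw [e]
    exact ⟨act_xG_of_chk 47 (by decide) pc47 rfl pc47_sem _ _ _ _ _ _ _ _ pt47_0_chk pt47_1_chk pt47_2_chk pt47_3_chk
      pt47_4_chk pt47_5_chk pt47_6_chk pt47_7_chk v hv, appT_lt _ _ _ _ _ _ _ _ _⟩
  · have e : appR 39 v = pa39 v := rfl
    rw [e]
    exact ⟨act_xG_of_chk 39 (by decide) pc39 rfl pc39_sem _ _ _ _ _ _ _ _ pt39_0_chk pt39_1_chk pt39_2_chk pt39_3_chk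
      pt39_4_chk pt39_5_chk pt39_6_chk pt39_7_chk v hv, appT_lt _ _ _ _ _ _ _ _ _⟩
  · have e : appR 45 v = pa45 v := rfl
    rw [e]
    exact ⟨act_xG_of_chk 45 (by decide) pc45 rfl pc45_sem _ _ _ _ _ _ _ _ pt45_0_chk pt45_1_chk pt45_2_chk pt45_3_chk
      pt45_4_chk pt45_5_chk pt45_6_chk pt45_7_chk v hv, appT_lt _ _ _ _ _ _ _ _ _⟩

theorem appW_sem (l : List ℕ) (hl : ∀ r ∈ l, r ∈ posList) (v : ℕ) (hv : v < 2 ^ 52) :
    act (W l) (unpack v) = unpack (appW l v) ∧ appW l v < 2 ^ 52 := by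
  induction l with
  | nil =>
    rw [W_nil, act_one]
    exact ⟨rfl, hv⟩
  | cons r l ih =>
    obtain ⟨h1, h2⟩ := ih fun s hs => hl s (List.mem_cons_of_mem _ hs)
    rw [W_cons, act_mul, h1]
    have e : appW (r :: l) v = appR r (appW l v) := rfl
    rw [e]
    exact appR_sem r (hl r List.mem_cons_self) _ h2

theorem blkP_mem (r rb : ℕ) (hr : r ∈ posList) (hrb : rb ∈ posList) (τ : Bool) :
    ∀ s ∈ blkP r rb τ, s ∈ posList := by
  intro s hs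
  cases τ
  · exact absurd hs List.not_mem_nil
  · simp only [blkP, cond_true, List.mem_cons, List.not_mem_nil, or_false] at hs
    rcases hs with rfl | rfl
    · exact hr
    · exact hrb

theorem blkQ_mem (a b ab aab : ℕ) (ha : a ∈ posList) (hb : b ∈ posList) (hab : ab ∈ posList)
    (haab : aab ∈ posList) (τ υ : Bool) : ∀ s ∈ blkQ a b ab aab τ υ, s ∈ posList := by
  intro s hs
  cases τ <;> cases υ <;>
    simp only [blkQ, cond_true, cond_false, List.mem_cons, List.not_mem_nil, or_false] at hs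
  · rcases hs with rfl | rfl
    · exact hab
    · exact haab
  · rcases hs with rfl | rfl | rfl
    · exact ha
    · exact hb
    · exact hab
  · rcases hs with rfl | rfl | rfl
    · exact ha
    · exact hb
    · exact haab

theorem uW_mem (b0 b1 b2 b3 b4 b5 b6 b7 b8 b9 b10 b11 : Bool) :
    ∀ s ∈ uW b0 b1 b2 b3 b4 b5 b6 b7 b8 b9 b10 b11, s ∈ posList := by
  intro s hs
  unfold uW at hs
  simp only [List.mem_append] at hs
  rcases hs with hs | hs | hs | hs | hs | hs | hs | hs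
  · exact blkP_mem 33 24 (by decide) (by decide) _ s hs
  · exact blkQ_mem 27 25 28 30 (by decide) (by decide) (by decide) (by decide) _ _ s hs
  · exact blkQ_mem 34 26 36 42 (by decide) (by decide) (by decide) (by decide) _ _ s hs
  · exact blkP_mem 37 32 (by decide) (by decide) _ s hs
  · exact blkQ_mem 35 31 40 46 (by decide) (by decide) (by decide) (by decide) _ _ s hs
  · exact blkP_mem 38 43 (by decide) (by decide) _ s hs
  · exact blkQ_mem 29 41 44 47 (by decide) (by decide) (by decide) (by decide) _ _ s hs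
  · exact blkP_mem 39 45 (by decide) (by decide) _ s hs

/-- The elements of `U` whose parameters of the classes of type `B₂` have odd sum are not involutions. -/
theorem uW_sq_ne_one (b0 b1 b2 b3 b4 b5 b6 b7 b8 b9 b10 b11 : Bool) (hb : xor b1 (xor b3 (xor b6 b9)) = true) :
    W (uW b0 b1 b2 b3 b4 b5 b6 b7 b8 b9 b10 b11) * W (uW b0 b1 b2 b3 b4 b5 b6 b7 b8 b9 b10 b11) ≠ 1 := by
  intro h
  have hc := invChk_eq
  unfold invChk at hc
  have h1 := allB_sound _ (allB_sound _ (allB_sound _ (allB_sound _ (allB_sound _ (allB_sound _ (allB_sound _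
    (allB_sound _ (allB_sound _ (allB_sound _ (allB_sound _ (allB_sound _ hc b0) b1) b2) b3) b4) b5) b6) b7) b8) b9)
      b10) b11
  rw [hb, cond_true] at h1
  set l := uW b0 b1 b2 b3 b4 b5 b6 b7 b8 b9 b10 b11 with hl
  have hmem := uW_mem b0 b1 b2 b3 b4 b5 b6 b7 b8 b9 b10 b11
  obtain ⟨e1, hlt1⟩ := appW_sem l hmem 64 (by norm_num)
  obtain ⟨e2, hlt2⟩ := appW_sem l hmem _ hlt1
  have h2 : act (W l * W l) (unpack 64) = unpack 64 := by rw [h, act_one]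
  rw [act_mul, e1, e2] at h2
  have h3 := unpack_injective _ _ hlt2 (by norm_num) h2
  rw [h3] at h1
  exact absurd h1 (by decide)

end Cfsg.Agent.Lib.Helper18.Tits
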