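/-
helper18: involutions of `²F₄(2)`, part 3: the elements of `U ∩ ²F₄(2)` are the words `uW`; their types.
-/
import Cfsg.Agent.Lib.Helper18.TitsU2

set_option autoImplicit false

namespace Cfsg.Agent.Lib.Helper18.Tits

open Cfsg.Lie Cfsg.Agent.Lib.Helper18 Cfsg.Agent.Lib.Helper18.F4T Cfsg.Agent.Lib.Helper91.ReeF4
open Cfsg.Agent.Lib.Helper91.SigAbs Cfsg.Agent.Lib.Helper91.ExcAut Cfsg.Agent.Lib.Helper61.ReeF4

/-- The product over the classes of the class words. -/
theorem prodL_cfL_eq {K : Type} [Field K] [CharP K 2] (e : ℕ) (bl : List Blk) (hnd : (rootsL bl).Nodup)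
    (hnd' : ∀ B ∈ bl, B.roots.Nodup) (p : ℕ → K) :
    prodL hD4 (rootsL bl) (F4T.cfL e bl p)
      = (bl.map fun B => wordG hD4 (B.word e (p B.p1) (p B.p2 + p B.p1 ^ (e + 1)))).prod := by
  induction bl with
  | nil => simp [rootsL, prodL]
  | cons B bl ih =>
    have hnd0 := hnd
    rw [rootsL_cons, List.nodup_append] at hnd
    obtain ⟨-, hnd1, hdis⟩ := hnd
    rw [rootsL_cons, prodL_append, List.map_cons, List.prod_cons]
    have e1 : prodL hD4 B.roots (F4T.cfL e (B :: bl) p) = prodL hD4 B.roots (B.cf e p) := by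
      apply prodL_congr
      intro s hs
      show (if s ∈ B.roots then B.cf e p s else F4T.cfL e bl p s) = B.cf e p s
      rw [if_pos hs]
    have e2 : prodL hD4 (rootsL bl) (F4T.cfL e (B :: bl) p) = prodL hD4 (rootsL bl) (F4T.cfL e bl p) := by
      apply prodL_congr
      intro s hs
      show (if s ∈ B.roots then B.cf e p s else F4T.cfL e bl p s) = F4T.cfL e bl p s
      rw [if_neg fun h => hdis s h s hs rfl]
    rw [e1, e2, prodL_cf e B (hnd' B List.mem_cons_self),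
      ih hnd1 fun B' hB' => hnd' B' (List.mem_cons_of_mem _ hB')]

theorem pair_toW (r rb : ℕ) (τ υ : ZMod 2) :
    wordG hD4 ((Blk.pair r rb).word (2 ^ 0) τ υ) = W (blkP r rb (decide (τ = 1))) := by
  show wordG hD4 (f4PairWord 1 r rb τ) = _
  rcases z2_cases τ with rfl | rfl
  · rw [pairWord_zero]
    have : decide ((0 : ZMod 2) = 1) = false := by decide
    rw [this]
    exact W_nil.symm
  · rw [pairWord_one]
    have : decide ((1 : ZMod 2) = 1) = true := by decide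
    rw [this]
    rfl

theorem quad_toW (a b ab aab : ℕ) (τ υ : ZMod 2) :
    wordG hD4 ((Blk.quad a b ab aab).word (2 ^ 0) τ υ)
      = W (blkQ a b ab aab (decide (τ = 1)) (decide (υ = 1))) := by
  show wordG hD4 (b2ClassWord 1 a b ab aab τ υ) = _
  have h0 : decide ((0 : ZMod 2) = 1) = false := by decide
  have h1 : decide ((1 : ZMod 2) = 1) = true := by decide
  rcases z2_cases τ with rfl | rfl <;> rcases z2_cases υ with rfl | rfl
  · rw [quadWord_00, h0]; exact W_nil.symm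
  · rw [quadWord_01, h0, h1]; rfl
  · rw [quadWord_10, h0, h1]; rfl
  · rw [quadWord_11, h1]; rfl

/-- Every element of `U ∩ ²F₄(2)` is one of the words `uW`. -/
theorem exists_uW (x : GL chevF4.Idx (ZMod 2)) (hxU : x ∈ chevF4.posUnipotent (ZMod 2)) (hxG : x ∈ G2) :
    ∃ b0 b1 b2 b3 b4 b5 b6 b7 b8 b9 b10 b11 : Bool, x = W (uW b0 b1 b2 b3 b4 b5 b6 b7 b8 b9 b10 b11) := by
  have hxG' : x ∈ twistedF4 (ZMod 2) (2 ^ 0) := hxG
  obtain ⟨t, rfl, ht⟩ := exists_cfL_of_fixed (ZMod 2) 0 hq2 posBlks (List.Perm.refl _) x hxU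
    (twistedF4_le_f4Fix (ZMod 2) 0 hq2 hxG')
  obtain ⟨hok, hnd, hl, hall, hmem⟩ := perm_facts posBlks (List.Perm.refl _)
  rw [prodL_congr hD4 _ _ _ ht, prodL_cfL_eq (2 ^ 0) posBlks hnd (fun B hB => B.roots_nodup (hok B hB)) t]
  unfold posBlks
  simp only [List.map_cons, List.map_nil, List.prod_cons, List.prod_nil, mul_one, pair_toW, quad_toW]
  refine ⟨decide (t (Blk.pair 33 24).p1 = 1),
    decide (t (Blk.quad 27 25 28 30).p1 = 1), decide (t (Blk.quad 27 25 28 30).p2 + t (Blk.quad 27 25 28 30).p1 ^ (2 ^ 0 + 1) = 1),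
    decide (t (Blk.quad 34 26 36 42).p1 = 1), decide (t (Blk.quad 34 26 36 42).p2 + t (Blk.quad 34 26 36 42).p1 ^ (2 ^ 0 + 1) = 1),
    decide (t (Blk.pair 37 32).p1 = 1),
    decide (t (Blk.quad 35 31 40 46).p1 = 1), decide (t (Blk.quad 35 31 40 46).p2 + t (Blk.quad 35 31 40 46).p1 ^ (2 ^ 0 + 1) = 1),
    decide (t (Blk.pair 38 43).p1 = 1),
    decide (t (Blk.quad 29 41 44 47).p1 = 1), decide (t (Blk.quad 29 41 44 47).p2 + t (Blk.quad 29 41 44 47).p1 ^ (2 ^ 0 + 1) = 1),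
    decide (t (Blk.pair 39 45).p1 = 1), ?_⟩
  unfold uW
  simp only [W_append]

end Cfsg.Agent.Lib.Helper18.Tits
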