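/-
helper18: involutions of `²F₄(2)`, part 4: the types of the elements of `U ∩ ²F₄(2)`, Sylow's theorem, and the
involutions of `²F₄(2)` lie in the Tits group.
-/
import Cfsg.Agent.Lib.Helper18.TitsU3

set_option autoImplicit false

namespace Cfsg.Agent.Lib.Helper18.Tits

open Cfsg.Lie Cfsg.Agent.Lib.Helper18 Cfsg.Agent.Lib.Helper18.F4T Cfsg.Agent.Lib.Helper91.ReeF4
open Cfsg.Agent.Lib.Helper91.SigAbs Cfsg.Agent.Lib.Helper91.ExcAut Cfsg.Agent.Lib.Helper61.ReeF4

/-- The type is invariant under conjugation by elements of `²F₄(2)`. -/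
theorem hasType_conj (n g : GL chevF4.Idx (ZMod 2)) (hn : n ∈ G2) (ε : Bool) (hg : HasType g ε) :
    HasType (n * g * n⁻¹) ε := by
  obtain ⟨α, hα⟩ := exists_type n hn
  have h := hasType_mul _ _ _ _ (hasType_mul _ _ _ _ hα hg) (type_inv _ _ hα)
  have e : xor (xor α ε) α = ε := by cases α <;> cases ε <;> rfl
  rw [e] at h
  exact h

/-- The type of the class words of a class. -/
def typeB : Blk → ZMod 2 → Bool
  | .pair _ _, _ => false
  | .quad _ _ _ _, τ => decide (τ = 1)

theorem typeB_map (f : ℕ → ℕ) (B : Blk) (τ : ZMod 2) : typeB (B.map f) τ = typeB B τ := by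
  cases B <;> rfl

theorem nW_wordJ_mem_G2 (cw : List ℕ) : nW (F := ZMod 2) hD4 chevData_F4.{0} (wordJ cw) ∈ G2 :=
  nW_wordJ_mem (ZMod 2) 1 one_ne_zero cw

theorem typeB_blkAct (cw : List ℕ) (B : Blk) (τ : ZMod 2) : typeB (blkAct cw B) τ = typeB B τ :=
  typeB_map _ B τ

theorem hasType_blkAct (cw : List ℕ) (B : Blk) (hB : ∀ s ∈ B.roots, s < 48) (τ υ : ZMod 2)
    (h : HasType (wordG hD4 (B.word (2 ^ 0) τ υ)) (typeB B τ)) :
    HasType (wordG hD4 ((blkAct cw B).word (2 ^ 0) τ υ)) (typeB (blkAct cw B) τ) := by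
  have e := nW_conj_wordG (K := ZMod 2) (wordJ cw) (wordJ_lt cw) (B.word (2 ^ 0) τ υ)
    (Blk.word_lt (2 ^ 0) B hB τ υ)
  have e2 : (blkAct cw B).word (2 ^ 0) τ υ
      = (B.word (2 ^ 0) τ υ).map fun a => (wordRootF f4tabs (wordJ cw) a.1, a.2) :=
    Blk.word_map (2 ^ 0) _ B τ υ
  rw [e2, ← e, typeB_blkAct]
  exact hasType_conj _ _ (nW_wordJ_mem_G2 cw) _ h

theorem hasType_base_pair (τ υ : ZMod 2) :
    HasType (wordG hD4 ((Blk.pair 33 24).word (2 ^ 0) τ υ)) (typeB (Blk.pair 33 24) τ) := by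
  rw [pair_toW]
  show HasType _ false
  rcases z2_cases τ with rfl | rfl
  · have : decide ((0 : ZMod 2) = 1) = false := by decide
    rw [this]
    show HasType (W []) false
    rw [W_nil]
    exact hasType_one
  · have : decide ((1 : ZMod 2) = 1) = true := by decide
    rw [this]
    exact hasType_P

theorem hasType_base_quad (τ υ : ZMod 2) :
    HasType (wordG hD4 ((Blk.quad 27 25 28 30).word (2 ^ 0) τ υ)) (typeB (Blk.quad 27 25 28 30) τ) := by
  rw [quad_toW]
  show HasType _ (decide (τ = 1))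
  have h0 : decide ((0 : ZMod 2) = 1) = false := by decide
  have h1 : decide ((1 : ZMod 2) = 1) = true := by decide
  rcases z2_cases τ with rfl | rfl <;> rcases z2_cases υ with rfl | rfl
  · rw [h0]
    show HasType (W []) false
    rw [W_nil]
    exact hasType_one
  · rw [h0, h1]
    exact hasType_Q01
  · rw [h0, h1]
    exact hasType_Q
  · rw [h1]
    exact hasType_Q11

/-- The types of the class words of the positive classes. -/
theorem hasType_word (B : Blk) (hB : B ∈ posBlks) (τ υ : ZMod 2) :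
    HasType (wordG hD4 (B.word (2 ^ 0) τ υ)) (typeB B τ) := by
  have hP : ∀ s ∈ (Blk.pair 33 24).roots, s < 48 := by decide
  have hQ : ∀ s ∈ (Blk.quad 27 25 28 30).roots, s < 48 := by decide
  rw [posBlks_eq] at hB
  simp only [List.mem_cons, List.not_mem_nil, or_false] at hB
  rcases hB with rfl | rfl | rfl | rfl | rfl | rfl | rfl | rfl
  · exact hasType_blkAct _ _ hP τ υ (hasType_base_pair τ υ)
  · exact hasType_blkAct _ _ hQ τ υ (hasType_base_quad τ υ)
  · exact hasType_blkAct _ _ hQ τ υ (hasType_base_quad τ υ)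
  · exact hasType_blkAct _ _ hP τ υ (hasType_base_pair τ υ)
  · exact hasType_blkAct _ _ hQ τ υ (hasType_base_quad τ υ)
  · exact hasType_blkAct _ _ hP τ υ (hasType_base_pair τ υ)
  · exact hasType_blkAct _ _ hQ τ υ (hasType_base_quad τ υ)
  · exact hasType_blkAct _ _ hP τ υ (hasType_base_pair τ υ)

/-- The element of the field with two elements of a Boolean. -/
def bz (β : Bool) : ZMod 2 := bif β then 1 else 0

theorem decide_bz (β : Bool) : decide (bz β = 1) = β := by
  cases β <;> decide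

theorem hasType_blkP (r rb : ℕ) (hB : Blk.pair r rb ∈ posBlks) (β : Bool) : HasType (W (blkP r rb β)) false := by
  have h := hasType_word _ hB (bz β) 0
  rw [pair_toW, decide_bz] at h
  exact h

theorem hasType_blkQ (a b ab aab : ℕ) (hB : Blk.quad a b ab aab ∈ posBlks) (β γ : Bool) :
    HasType (W (blkQ a b ab aab β γ)) β := by
  have h := hasType_word _ hB (bz β) (bz γ)
  rw [quad_toW, decide_bz, decide_bz] at h
  have e : typeB (Blk.quad a b ab aab) (bz β) = β := decide_bz β
  rw [e] at h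
  exact h

theorem hasType_uW (b0 b1 b2 b3 b4 b5 b6 b7 b8 b9 b10 b11 : Bool) :
    HasType (W (uW b0 b1 b2 b3 b4 b5 b6 b7 b8 b9 b10 b11)) (xor b1 (xor b3 (xor b6 b9))) := by
  unfold uW
  simp only [W_append]
  have h := hasType_mul _ _ _ _ (hasType_blkP 33 24 (by decide) b0) (hasType_mul _ _ _ _
    (hasType_blkQ 27 25 28 30 (by decide) b1 b2) (hasType_mul _ _ _ _ (hasType_blkQ 34 26 36 42 (by decide) b3 b4)
    (hasType_mul _ _ _ _ (hasType_blkP 37 32 (by decide) b5) (hasType_mul _ _ _ _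
    (hasType_blkQ 35 31 40 46 (by decide) b6 b7) (hasType_mul _ _ _ _ (hasType_blkP 38 43 (by decide) b8)
    (hasType_mul _ _ _ _ (hasType_blkQ 29 41 44 47 (by decide) b9 b10) (hasType_blkP 39 45 (by decide) b11)))))))
  have e : xor false (xor b1 (xor b3 (xor false (xor b6 (xor false (xor b9 false))))))
      = xor b1 (xor b3 (xor b6 b9)) := by
    cases b1 <;> cases b3 <;> cases b6 <;> cases b9 <;> rfl
  rw [e] at h
  exact h

/-- The involutions of `U ∩ ²F₄(2)` preserve the colour classes. -/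
theorem hasType_of_sq_eq_one (x : GL chevF4.Idx (ZMod 2)) (hxU : x ∈ chevF4.posUnipotent (ZMod 2))
    (hxG : x ∈ G2) (hx : x * x = 1) : HasType x false := by
  obtain ⟨b0, b1, b2, b3, b4, b5, b6, b7, b8, b9, b10, b11, rfl⟩ := exists_uW x hxU hxG
  have h := hasType_uW b0 b1 b2 b3 b4 b5 b6 b7 b8 b9 b10 b11
  cases hb : xor b1 (xor b3 (xor b6 b9))
  · rw [hb] at h
    exact h
  · exact absurd hx (uW_sq_ne_one b0 b1 b2 b3 b4 b5 b6 b7 b8 b9 b10 b11 hb)

/-- The elements of `²F₄(2)` which preserve the colour classes lie in the derived subgroup. -/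
theorem mem_commutator_of_hasType (g : ↥G2) (h : HasType (g : GL chevF4.Idx (ZMod 2)) false) :
    g ∈ commutator ↥G2 := by
  by_contra hg
  have h1 := (Subgroup.mul_mem_iff_of_index_two index_eq_two (a := qG) (b := g)).mpr
    ⟨fun hq => absurd hq qG_not_mem, fun hg' => absurd hg' hg⟩
  have h2 := hasType_of_mem_commutator _ h1
  have h3 : HasType ((qG * g : ↥G2) : GL chevF4.Idx (ZMod 2)) (xor true false) :=
    hasType_mul _ _ _ _ hasType_Q h
  have h4 := type_unique _ _ _ h2 h3
  exact absurd h4 (by decide)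

end Cfsg.Agent.Lib.Helper18.Tits
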