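/-
helper18: involutions of `²F₄(2)`, part 5: Sylow's theorem; the involutions of `²F₄(2)` lie in the Tits group.
-/
import Cfsg.Agent.Lib.Helper18.TitsU4
import Cfsg.Agent.Lib.Helper18.Tits7

set_option autoImplicit false

namespace Cfsg.Agent.Lib.Helper18.Tits

open Cfsg.Lie Cfsg.Agent.Lib.Helper18 Cfsg.Agent.Lib.Helper18.F4T Cfsg.Agent.Lib.Helper91.ReeF4
open Cfsg.Agent.Lib.Helper91.SigAbs Cfsg.Agent.Lib.Helper91.ExcAut Cfsg.Agent.Lib.Helper61.ReeF4

open scoped Pointwise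

theorem conj_sq_aux {G : Type*} [Group G] (h g : G) (hgg : g * g = 1) : (h * g * h⁻¹) * (h * g * h⁻¹) = 1 := by
  have : (h * g * h⁻¹) * (h * g * h⁻¹) = h * (g * g) * h⁻¹ := by group
  rw [this, hgg, mul_one, mul_inv_cancel]

theorem conj_inv_aux {G : Type*} [Group G] (h g : G) : h⁻¹ * (h * g * h⁻¹) * h⁻¹⁻¹ = g := by group

/-- `U ∩ ²F₄(2)` as a subgroup of `²F₄(2)`. -/
noncomputable def U1 : Subgroup ↥G2 := (chevF4.posUnipotent (ZMod 2) ⊓ G2).subgroupOf G2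

theorem card_U1_two : Nat.card ↥U1 = 2 ^ 12 := by
  have h := card_U1 (ZMod 2) 0 hq2
  rw [ZMod.card] at h
  have e : Nat.card ↥U1 = Nat.card ↥(chevF4.posUnipotent (ZMod 2) ⊓ G2) :=
    Nat.card_congr (Subgroup.subgroupOfEquivOfLe inf_le_right).toEquiv
  rw [e]
  exact h

theorem factorization_card_G2 : (Nat.card ↥G2).factorization 2 = 12 := by
  rw [card_G2]
  have h1 : (35942400 : ℕ) = 2 ^ 12 * 8775 := by norm_num
  rw [h1, Nat.factorization_mul (by norm_num) (by norm_num), Nat.Prime.factorization_pow Nat.prime_two]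
  have : (8775 : ℕ).factorization 2 = 0 := Nat.factorization_eq_zero_of_not_dvd (by norm_num)
  simp [this]

/-- Every involution of `²F₄(2)` is conjugate to an element of `U ∩ ²F₄(2)`. -/
theorem exists_conj_mem_U1 (g : ↥G2) (hg : orderOf g = 2) : ∃ h : ↥G2, h * g * h⁻¹ ∈ U1 := by
  haveI : Finite ↥G2 := Nat.finite_of_card_ne_zero (by rw [card_G2]; norm_num)
  haveI : Fact (Nat.Prime 2) := ⟨Nat.prime_two⟩
  let P : Sylow 2 ↥G2 := Sylow.ofCard U1 (by rw [card_U1_two, factorization_card_G2])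
  have hz : IsPGroup 2 ↥(Subgroup.zpowers g) :=
    IsPGroup.of_card (n := 1) (by rw [Nat.card_zpowers, hg, pow_one])
  obtain ⟨Q, hQ⟩ := hz.exists_le_sylow
  obtain ⟨h, hh⟩ := MulAction.exists_smul_eq ↥G2 Q P
  refine ⟨h, ?_⟩
  have hgQ : g ∈ (Q : Subgroup ↥G2) := hQ (Subgroup.mem_zpowers g)
  have h1 := Subgroup.smul_mem_pointwise_smul g (MulAut.conj h) (Q : Subgroup ↥G2) hgQ
  have h2 : (MulAut.conj h • (Q : Subgroup ↥G2)) = ((h • Q : Sylow 2 ↥G2) : Subgroup ↥G2) := by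
    rw [Sylow.smul_def]
    rfl
  rw [h2, hh] at h1
  exact h1

/-- The involutions of `²F₄(2)` lie in the Tits group. -/
theorem involution_mem_commutator (g : ↥G2) (hg : orderOf g = 2) : g ∈ commutator ↥G2 := by
  obtain ⟨h, hh⟩ := exists_conj_mem_U1 g hg
  have hy : ((h * g * h⁻¹ : ↥G2) : GL chevF4.Idx (ZMod 2)) ∈ chevF4.posUnipotent (ZMod 2) ⊓ G2 :=
    Subgroup.mem_subgroupOf.mp hh
  have hgg : g * g = 1 := by
    have h0 := pow_orderOf_eq_one g
    rw [hg, sq] at h0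
    exact h0
  have hsq : (h * g * h⁻¹) * (h * g * h⁻¹) = 1 := conj_sq_aux h g hgg
  have hsq' : ((h * g * h⁻¹ : ↥G2) : GL chevF4.Idx (ZMod 2)) * ((h * g * h⁻¹ : ↥G2) : GL chevF4.Idx (ZMod 2)) = 1 :=
    by rw [← Subgroup.coe_mul, hsq, Subgroup.coe_one]
  have ht := hasType_of_sq_eq_one _ (Subgroup.mem_inf.mp hy).1 (Subgroup.mem_inf.mp hy).2 hsq'
  have hc := mem_commutator_of_hasType _ ht
  have hn : (commutator ↥G2).Normal := inferInstance
  have h3 := hn.conj_mem _ hc h⁻¹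
  have e : h⁻¹ * (h * g * h⁻¹) * h⁻¹⁻¹ = g := conj_inv_aux h g
  rw [e] at h3
  exact h3

end Cfsg.Agent.Lib.Helper18.Tits
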