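/-
helper18: the root elements (with fixed coefficients) of a fixed root which is a sum of corresponding roots of two
classes are commutators in the twisted group.
-/
import Cfsg.Agent.Lib.Helper18.Tw21

set_option autoImplicit false

namespace Cfsg.Agent.Lib.Helper18

open Cfsg.Lie Cfsg.Agent.Lib.Helper17

universe u

variable {K : Type u} [Field K] {D : ChevalleyDatum}

section Fin

variable [Fintype K] (hD : D ∈ [chevG2, chevB2, chevD4, chevF4, chevE6, chevE7, chevE8]) (C : ChevData.{u} D)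
  (cfg : TwCfg) (φ : K ≃+* K) (hcfg : cfg.ok C.T C.tabs C.simples = true)

include hcfg in
theorem fixed_root_comm (r₀ s₁ s₂ : ℕ) (hcert : cfg.commCertOK C.T r₀ s₁ s₂ = true) (q : ℕ) (hq : 2 ≤ q)
    (hK : Fintype.card K = q ^ cfg.m) (hφ : ∀ t : K, φ t = t ^ q) :
    ∀ c : K, φ c = c → xG hD r₀ c ∈ twCommImage hD C cfg φ := by
  classical
  obtain ⟨h1, hs₁, hs₂, hpos₂, hr₀, hfix₀, hnf₁, hnf₂, hnd₁, hnd₂, hZ, hpair, hoff⟩ :=
    commCertOK_spec C cfg r₀ s₁ s₂ hcert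
  have hTw := cfg_twOK C cfg hcfg
  have hm := cfg_m C cfg hcfg
  have hm0 : 0 < cfg.m := by rcases hm with h | h <;> omega
  have hφm : ∀ a : K, φ^[cfg.m] a = a := fun a => by rw [frob_iterate φ q hφ, pow_card_pow_eq hK]
  set L := List.range cfg.m with hL
  have hLmem : ∀ i ∈ L, i < cfg.m := fun i hi => List.mem_range.mp hi
  -- the structure constants
  let cI : ℕ → ℤ := fun i =>
    if C.T.commTermsF (cfg.g.rho^[i] s₁) (cfg.g.rho^[i] s₂) = [(r₀, 1, 1, 1)] then 1 else -1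
  have hcI : ∀ i < cfg.m, C.T.commTermsF (cfg.g.rho^[i] s₁) (cfg.g.rho^[i] s₂) = [(r₀, cI i, 1, 1)] := by
    intro i hi
    show _ = [(r₀, (if _ then 1 else -1), 1, 1)]
    rcases (hpair i hi).2.2.2.2 with e | e
    · rw [if_pos e]; exact e
    · rw [if_neg]
      · exact e
      · rw [e]
        intro h
        have h2 := (List.cons.inj h).1
        have h3 : (-1 : ℤ) = 1 := (Prod.mk.inj (Prod.mk.inj h2).2).1
        omega
  have hcI0 : ∀ i, ((cI i : ℤ) : K) ≠ 0 := by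
    intro i
    show (((if _ then 1 else -1 : ℤ)) : K) ≠ 0
    split_ifs <;> simp
  set v := orbVal cfg.g φ s₂ (1 : K) with hv
  have hvtw : ∀ r ∈ cfg.g.orb cfg.m s₂, v r = twT cfg.g φ cfg.m v r :=
    orbVal_tw C cfg.g φ cfg.m hTw hm hφm s₂ hs₂ 1 (fun h => absurd h hnf₂)
  -- the positive class element
  have hpos : ∀ j, D.IsPosRoot (cfg.g.rho^[j] s₂) := by
    intro j
    induction j with
    | zero => exact (isPosRoot_iff hD s₂).mpr ⟨hs₂, hpos₂⟩
    | succ j ih =>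
      rw [Function.iterate_succ_apply']
      exact rho_pos hD C cfg.g cfg.m hTw _ ih
  have hx₂U : prodL hD (cfg.g.orb cfg.m s₂) v ∈ D.posUnipotent K := by
    apply prodL_mem_posUnipotent
    intro r hr
    obtain ⟨j, rfl⟩ := (mem_orb_iff C cfg.g cfg.m hTw hm s₂ hs₂ r).mp hr
    exact hpos j
  have hx₂G : prodL hD (cfg.g.orb cfg.m s₂) v ∈ Gtw hD C cfg φ := by
    apply fixed_mem_Gtw hD C cfg φ hcfg _ hx₂U
    unfold csig
    rw [sig_prodL_orb hD C cfg.g (cfg_gok C cfg hcfg) φ cfg.m hTw hm s₂ hs₂ v]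
    apply prodL_congr
    intro r hr
    exact (hvtw r hr).symm
  -- the scalar of the commutator
  let F : K → K := fun μ => (L.map fun i => ((cI i : ℤ) : K) * (-(orbVal cfg.g φ s₁ μ (cfg.g.rho^[i] s₁)))
    * v (cfg.g.rho^[i] s₂)).sum
  have key1 : ∀ μ : K, xG hD r₀ (F μ) ∈ twCommImage hD C cfg φ := by
    intro μ
    set w := orbVal cfg.g φ s₁ μ with hw
    have hwtw : ∀ r ∈ cfg.g.orb cfg.m s₁, w r = twT cfg.g φ cfg.m w r :=
      orbVal_tw C cfg.g φ cfg.m hTw hm hφm s₁ hs₁ μ (fun h => absurd h hnf₁)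
    have hx₁G : prodL hD (cfg.g.orb cfg.m s₁) w ∈ Gtw hD C cfg φ :=
      Subgroup.subset_closure ⟨s₁, h1, w, hwtw, rfl⟩
    let A : ℕ → GL D.Idx K := fun i => xG hD (cfg.g.rho^[i] s₁) (w (cfg.g.rho^[i] s₁))
    let B : ℕ → GL D.Idx K := fun i => xG hD (cfg.g.rho^[i] s₂) (v (cfg.g.rho^[i] s₂))
    let Z : ℕ → GL D.Idx K := fun i => xG hD r₀ (((cI i : ℤ) : K) * (-(w (cfg.g.rho^[i] s₁))) * v (cfg.g.rho^[i] s₂))
    have hprod := prod_comm_central L A B Z List.nodup_range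
      (fun i hi j hj hij => commE_commute hD C _ _ (hoff i (hLmem i hi) j (hLmem j hj) hij) _ _)
      (fun i hi => comm_single hD C _ _ r₀ (cI i) (hpair i (hLmem i hi)).2.2.1 (hpair i (hLmem i hi)).2.2.2.1
        (hpair i (hLmem i hi)).1 (hpair i (hLmem i hi)).2.1 (hcI i (hLmem i hi)) _ _)
      (fun i _ j hj => commE_commute hD C _ _ (hZ j (hLmem j hj)).1 _ _)
      (fun i _ j hj => commE_commute hD C _ _ (hZ j (hLmem j hj)).2 _ _)
    have eA : (L.map A).prod = prodL hD (cfg.g.orb cfg.m s₁) w := by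
      unfold GraphData.orb prodL
      rw [if_neg hnf₁, List.map_map]
      rfl
    have eB : (L.map B).prod = prodL hD (cfg.g.orb cfg.m s₂) v := by
      unfold GraphData.orb prodL
      rw [if_neg hnf₂, List.map_map]
      rfl
    have eZ : (L.map Z).prod = xG hD r₀ (F μ) := list_prod_xG hD r₀ L _
    rw [eA, eB, eZ] at hprod
    set x₁ := prodL hD (cfg.g.orb cfg.m s₁) w
    set x₂ := prodL hD (cfg.g.orb cfg.m s₂) v
    have e : xG hD r₀ (F μ) = x₂⁻¹ * x₁⁻¹ * (x₂⁻¹)⁻¹ * (x₁⁻¹)⁻¹ := by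
      have : xG hD r₀ (F μ) = (x₁ * x₂)⁻¹ * (x₂ * x₁) := by rw [hprod]; group
      rw [this]; group
    rw [e]
    exact tw_commutator_mem hD C cfg φ _ _ (inv_mem hx₂G) (inv_mem hx₁G)
  -- the scalar is fixed
  have key2 : ∀ μ : K, φ (F μ) = F μ := by
    intro μ
    have hG := twCommImage_le hD C cfg φ (key1 μ)
    have hfix := csig_eq_of_mem_Gtw hD C cfg φ hcfg _ hG
    unfold csig at hfix
    rw [sig_xG hD C cfg.g (cfg_gok C cfg hcfg) φ r₀ hr₀, hfix₀,
      (cfg.g.twOK_spec C.T cfg.m hTw r₀ (C.nroots_eq ▸ hr₀)).2.2.2.2.2.2.1 hfix₀, Int.cast_one, one_mul] at hfix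
    exact xG_injective hD r₀ hr₀ _ _ hfix
  -- homogeneity
  have key3 : ∀ lam μ : K, φ lam = lam → F (lam * μ) = lam * F μ := by
    intro lam μ hlam
    show (L.map fun i => ((cI i : ℤ) : K) * (-(orbVal cfg.g φ s₁ (lam * μ) (cfg.g.rho^[i] s₁)))
      * v (cfg.g.rho^[i] s₂)).sum = lam * (L.map fun i => ((cI i : ℤ) : K)
        * (-(orbVal cfg.g φ s₁ μ (cfg.g.rho^[i] s₁))) * v (cfg.g.rho^[i] s₂)).sum
    rw [← List.sum_map_mul_left]
    congr 1
    apply List.map_congr_left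
    intro i _
    rw [orbVal_smul cfg.g φ s₁ lam μ hlam]
    ring
  -- the scalar does not vanish identically
  have key4 : ∃ μ₀ : K, F μ₀ ≠ 0 := by
    have hex : ∀ i, i < cfg.m → ∃ e : K, e ≠ 0 ∧ ∀ μ : K,
        orbVal cfg.g φ s₁ μ (cfg.g.rho^[i] s₁) = e * φ^[i] μ :=
      fun i hi => orbVal_iterate cfg.g φ cfg.m s₁ hm hnf₁ hnd₁ i hi
    choose e he0 he using hex
    let ε : ℕ → K := fun i =>
      if h : i < cfg.m then ((cI i : ℤ) : K) * (-(e i h)) * v (cfg.g.rho^[i] s₂) else 0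
    have hε : ε (cfg.m - 1) ≠ 0 := by
      have hlt : cfg.m - 1 < cfg.m := by omega
      show (if h : cfg.m - 1 < cfg.m then _ else _) ≠ 0
      rw [dif_pos hlt]
      exact mul_ne_zero (mul_ne_zero (hcI0 _) (neg_ne_zero.mpr (he0 _ hlt))) (orbVal_one_ne_zero cfg.g φ s₂ _)
    obtain ⟨μ₀, hμ₀⟩ := exists_trace_ne_zero q cfg.m hq hm0 hK ε hε
    refine ⟨μ₀, ?_⟩
    have : F μ₀ = ((List.range cfg.m).map fun i => ε i * μ₀ ^ (q ^ i)).sum := by
      show (L.map fun i => ((cI i : ℤ) : K) * (-(orbVal cfg.g φ s₁ μ₀ (cfg.g.rho^[i] s₁)))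
        * v (cfg.g.rho^[i] s₂)).sum = _
      congr 1
      apply List.map_congr_left
      intro i hi
      have hlt := hLmem i hi
      show _ = (if h : i < cfg.m then _ else _) * _
      rw [dif_pos hlt, he i hlt, frob_iterate φ q hφ]
      ring
    rw [this]
    exact hμ₀
  obtain ⟨μ₀, hμ₀⟩ := key4
  intro c hc
  have hlam : φ (c / F μ₀) = c / F μ₀ := by rw [map_div₀, hc, key2]
  have := key1 ((c / F μ₀) * μ₀)
  rw [key3 _ _ hlam, div_mul_cancel₀ _ hμ₀] at this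
  exact this

end Fin

end Cfsg.Agent.Lib.Helper18
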