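/-
helper18: the twisted group of a configuration is perfect, given that the root elements of the fixed generating roots
are commutators; transport of this property along the elements `n_w`.
-/
import Cfsg.Agent.Lib.Helper18.Tw22

set_option autoImplicit false

namespace Cfsg.Agent.Lib.Helper18

open Cfsg.Lie Cfsg.Agent.Lib.Helper17

universe u

variable {K : Type u} [Field K] {D : ChevalleyDatum}

section Fin

variable [Fintype K] (hD : D ∈ [chevG2, chevB2, chevD4, chevF4, chevE6, chevE7, chevE8]) (C : ChevData.{u} D)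
  (cfg : TwCfg) (φ : K ≃+* K) (hcfg : cfg.ok C.T C.tabs C.simples = true)

include hcfg in
omit [Fintype K] in
/-- Transport along `n_w`, `w` a word in the classes. -/
theorem fixed_root_transport (r r' : ℕ) (hr : r < D.nroots) (cw : List ℕ) (hcw : ∀ c ∈ cw, c < cfg.classes.length)
    (hw : wordRootF C.tabs (cfg.wordOf cw) r = r')
    (h : ∀ c : K, φ c = c → xG hD r c ∈ twCommImage hD C cfg φ) :
    ∀ c : K, φ c = c → xG hD r' c ∈ twCommImage hD C cfg φ := by
  intro c hc
  have hws := wordOf_lt C cfg hcfg cw hcw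
  have hnG := nW_wordOf_mem_Gtw hD C cfg φ hcfg cw hcw
  have hconj := nW_conj_xG (F := K) hD C (cfg.wordOf cw) hws r hr
    ((wordSignF C.tabs (cfg.wordOf cw) r : K) * c)
  rw [hw] at hconj
  have hsq : (wordSignF C.tabs (cfg.wordOf cw) r : K) * ((wordSignF C.tabs (cfg.wordOf cw) r : K) * c) = c := by
    rcases wordSignF_cases C.tabs (cfg.wordOf cw) r with e | e <;> rw [e] <;> simp
  rw [hsq] at hconj
  rw [← hconj]
  apply tw_conj_mem hD C cfg φ _ _ hnG
  apply h
  rcases wordSignF_cases C.tabs (cfg.wordOf cw) r with e | e <;> rw [e] <;> simp [hc]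

include hcfg in
/-- The twisted group is perfect, given that the root elements of the fixed generating roots are commutators. -/
theorem tw_perfect (htor : cfg.torOK C.T C.simples = true) (q : ℕ) (hq : 2 ≤ q)
    (hK : Fintype.card K = q ^ cfg.m) (hφ : ∀ t : K, φ t = t ^ q)
    (hfix : ∀ s ∈ cfg.genRoots C.T, cfg.g.rho s = s → ∀ c : K, φ c = c → xG hD s c ∈ twCommImage hD C cfg φ) :
    commutator ↥(Gtw hD C cfg φ) = ⊤ := by
  have hTw := cfg_twOK C cfg hcfg
  have hm := cfg_m C cfg hcfg
  have hφm : ∀ a : K, φ^[cfg.m] a = a := fun a => by rw [frob_iterate φ q hφ, pow_card_pow_eq hK]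
  have hcard : 4 ≤ Fintype.card K := by
    rw [hK]
    calc 4 = 2 ^ 2 := by norm_num
      _ ≤ q ^ 2 := Nat.pow_le_pow_left hq 2
      _ ≤ q ^ cfg.m := Nat.pow_le_pow_right (by omega) (by rcases hm with h | h <;> omega)
  obtain ⟨μ, hμ0, hμ1⟩ := exists_sq_ne_one hcard
  have hlen : cfg.classes.length = cfg.pgens.length := by
    have := cfg_classOK C cfg hcfg
    unfold TwCfg.classOK at this
    rw [Bool.and_eq_true, decide_eq_true_eq] at this
    exact this.1
  apply tw_commutator_eq_top_of_forall
  rintro x ⟨s, hs, c, hc, rfl⟩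
  have hslt : s < D.nroots := genRoots_lt C cfg hcfg s hs
  by_cases hfx : cfg.g.rho s = s
  · -- a fixed generating root
    have e : cfg.g.orb cfg.m s = [s] := by
      unfold GraphData.orb
      rw [if_pos hfx]
    rw [e, prodL_cons, prodL_nil, mul_one]
    apply hfix s hs hfx
    have h1 := hc s (by rw [e]; exact List.mem_singleton.mpr rfl)
    unfold twT at h1
    rw [Function.iterate_fixed hfx, (cfg.g.twOK_spec C.T cfg.m hTw s (C.nroots_eq ▸ hslt)).2.2.2.2.2.2.1 hfx,
      Int.cast_one, one_mul] at h1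
    exact h1.symm
  · -- a generating root which is not fixed
    have hs' := hs
    unfold TwCfg.genRoots at hs'
    rcases List.mem_append.mp hs' with h | h
    · obtain ⟨k, hk, rfl⟩ := List.mem_iff_getElem.mp h
      have hk' : k < cfg.classes.length := hlen ▸ hk
      have e : cfg.pgens[k] = cfg.pgens.getD k 0 := (List.getD_eq_getElem _ _ hk).symm
      rw [e] at hfx hc ⊢
      exact (class_mem_twCommImage hD C cfg φ hcfg htor k hk' hfx hφm μ hμ0 hμ1).1 c hc
    · rw [List.mem_map] at h
      obtain ⟨s₀, hs₀, rfl⟩ := h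
      obtain ⟨k, hk, rfl⟩ := List.mem_iff_getElem.mp hs₀
      have hk' : k < cfg.classes.length := hlen ▸ hk
      have e : cfg.pgens[k] = cfg.pgens.getD k 0 := (List.getD_eq_getElem _ _ hk).symm
      rw [e] at hfx hc ⊢
      have hs₀lt := (classOK_spec C cfg hcfg k hk').2.2.2.1
      have hnf : cfg.g.rho (cfg.pgens.getD k 0) ≠ cfg.pgens.getD k 0 := by
        intro h0
        apply hfx
        rw [(cfg.g.twOK_spec C.T cfg.m hTw _ (C.nroots_eq ▸ hs₀lt)).2.2.1, h0]
      exact (class_mem_twCommImage hD C cfg φ hcfg htor k hk' hnf hφm μ hμ0 hμ1).2 c hc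

end Fin

end Cfsg.Agent.Lib.Helper18
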