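/-
helper18: simplicity of the twisted group of a configuration: irreducibility of its (B,N)-pair from a connectivity
check on the classes of fundamental roots, solvability of `B¹`, and Tits' criterion.
-/
import Cfsg.Agent.Lib.Helper18.Tw23
import Cfsg.Agent.Lib.Helper18.Irred
import Cfsg.Agent.S0319
import Cfsg.Agent.S1050

set_option autoImplicit false

namespace Cfsg.Agent.Lib.Helper18

open Cfsg.Lie Cfsg.Agent.Lib.Helper17

universe u

variable {K : Type u} [Field K] {D : ChevalleyDatum}

/-- The nodes in the order `ord` exhaust `0, …, n - 1`, and each is adjacent (both ways) to an earlier one. -/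
def connOK (n : ℕ) (adj : ℕ → ℕ → Bool) (ord : List ℕ) : Bool :=
  ((List.range n).all fun i => ord.contains i) && (ord.all fun i => decide (i < n)) &&
  (List.range ord.length).all fun k =>
    k == 0 || (List.range k).any fun j => adj (ord.getD j 0) (ord.getD k 0) && adj (ord.getD k 0) (ord.getD j 0)

/-- Connectivity: a property of the nodes which holds somewhere and fails somewhere changes along an edge. -/
theorem exists_adj_of_connOK (n : ℕ) (adj : ℕ → ℕ → Bool) (ord : List ℕ) (h : connOK n adj ord = true)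
    (f : ℕ → Prop) (h1 : ∃ i < n, f i) (h2 : ∃ j < n, ¬ f j) :
    ∃ i j, i < n ∧ j < n ∧ adj i j = true ∧ f i ∧ ¬ f j := by
  classical
  unfold connOK at h
  simp only [Bool.and_eq_true, List.all_eq_true, List.mem_range, List.contains_iff_mem, decide_eq_true_eq,
    Bool.or_eq_true, beq_iff_eq, List.any_eq_true] at h
  obtain ⟨⟨hall, hlt⟩, hadj⟩ := h
  by_contra hcon
  push_neg at hcon
  have hconst : ∀ k, k < ord.length → (f (ord.getD k 0) ↔ f (ord.getD 0 0)) := by
    intro k
    induction k using Nat.strong_induction_on with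
    | _ k ih =>
      intro hk
      rcases hadj k hk with h0 | ⟨j, hj, hjk, hkj⟩
      · rw [h0]
      · have ihj := ih j hj (by omega)
        have hjr : ord.getD j 0 < n := hlt _ (by rw [List.getD_eq_getElem _ _ (by omega)]; exact List.getElem_mem _)
        have hkr : ord.getD k 0 < n := hlt _ (by rw [List.getD_eq_getElem _ _ hk]; exact List.getElem_mem _)
        constructor
        · intro hfk
          by_contra hf0
          have hfj : ¬ f (ord.getD j 0) := fun h => hf0 (ihj.mp h)
          exact hfj (hcon _ _ hkr hjr hkj hfk)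
        · intro hf0
          have hfj : f (ord.getD j 0) := ihj.mpr hf0
          exact hcon _ _ hjr hkr hjk hfj
  have hconst' : ∀ i < n, (f i ↔ f (ord.getD 0 0)) := by
    intro i hi
    have := hall i hi
    obtain ⟨k, hk, hki⟩ := List.getElem_of_mem this
    have := hconst k hk
    rw [List.getD_eq_getElem _ _ hk, hki] at this
    exact this
  obtain ⟨i, hi, hfi⟩ := h1
  obtain ⟨j, hj, hfj⟩ := h2
  exact hfj ((hconst' j hj).mpr ((hconst' i hi).mp hfi))

namespace TwCfg

variable (cfg : TwCfg)

/-- Two classes of fundamental roots are adjacent: the word `J J' J J'` sends a positive root to a negative root. -/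
def adjC (T : FastDatum) (tabs : List ℕ) (k k' : ℕ) : Bool :=
  forceList (cfg.classes.getD k [] ++ cfg.classes.getD k' [] ++ cfg.classes.getD k [] ++ cfg.classes.getD k' [])
    fun ws => (List.range T.nroots).any fun r =>
      decide (T.nroots / 2 ≤ r) && decide (wordRootF tabs ws r < T.nroots / 2)

/-- The check of the connectivity of the diagram of the classes. -/
def irrOK (T : FastDatum) (tabs : List ℕ) (ord : List ℕ) : Bool :=
  connOK cfg.classes.length (cfg.adjC T tabs) ord

end TwCfg

section Fin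

variable [Fintype K] (hD : D ∈ [chevG2, chevB2, chevD4, chevF4, chevE6, chevE7, chevE8]) (C : ChevData.{u} D)
  (cfg : TwCfg) (φ : K ≃+* K) (hcfg : cfg.ok C.T C.tabs C.simples = true)
  (hbn : cfg.bnOK C.T C.tabs C.simples = true)

include hcfg hbn in
/-- For adjacent classes the commutator of `n_J` and `n_{J'}` is not in `B`. -/
theorem nW_class_comm_not_mem_borel (k k' : ℕ) (hk : k < cfg.classes.length) (hk' : k' < cfg.classes.length)
    (hadj : cfg.adjC C.T C.tabs k k' = true) :
    nW (F := K) hD C (cfg.classes.getD k []) * nW hD C (cfg.classes.getD k' [])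
      * (nW hD C (cfg.classes.getD k []))⁻¹ * (nW hD C (cfg.classes.getD k' []))⁻¹ ∉ D.borelSubgroup K := by
  intro hmem
  obtain ⟨-, hJ, -⟩ := classOK_spec C cfg hcfg k hk
  obtain ⟨-, hJ', -⟩ := classOK_spec C cfg hcfg k' hk'
  set J := cfg.classes.getD k [] with hJdef
  set J' := cfg.classes.getD k' [] with hJ'def
  unfold TwCfg.adjC at hadj
  rw [forceList_eq] at hadj
  simp only [List.any_eq_true, List.mem_range, Bool.and_eq_true, decide_eq_true_eq] at hadj
  rw [C.nroots_eq] at hadj
  obtain ⟨r, hr, hpos, hneg⟩ := hadj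
  have hws : ∀ i ∈ J ++ J' ++ J ++ J', i < D.rank := by
    intro i hi
    simp only [List.mem_append] at hi
    rcases hi with ((h | h) | h) | h
    · exact hJ i h
    · exact hJ' i h
    · exact hJ i h
    · exact hJ' i h
  have hH : nW (F := K) hD C J' * (nW hD C J * nW hD C J) * (nW hD C J')⁻¹ * (nW hD C J' * nW hD C J')
      ∈ D.borelSubgroup K :=
    borel_of_diagonal _ (mul_mem (monomial_conj_diagonal hD C _ _ (nW_mem_monomial hD C J')
      (nW_class_sq_mem hD C cfg hcfg hbn k hk)) (nW_class_sq_mem hD C cfg hcfg hbn k' hk'))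
  have e : nW (F := K) hD C (J ++ J' ++ J ++ J') = nW hD C J * nW hD C J' * (nW hD C J)⁻¹ * (nW hD C J')⁻¹
      * (nW hD C J' * (nW hD C J * nW hD C J) * (nW hD C J')⁻¹ * (nW hD C J' * nW hD C J')) := by
    simp only [nW_append]
    group
  have hw : nW (F := K) hD C (J ++ J' ++ J ++ J') ∈ D.borelSubgroup K := by
    rw [e]; exact mul_mem hmem hH
  exact nW_not_mem_borel hD C _ hws r hr hpos hneg hw

include hcfg hbn in
/-- The twisted group is simple, given that it is perfect, the core of `B¹` is trivial and the diagram of the classes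
is connected. -/
theorem tw_simple (ord : List ℕ) (hirr : cfg.irrOK C.T C.tabs ord = true) (hne : 0 < cfg.classes.length)
    (hperf : commutator ↥(Gtw hD C cfg φ) = ⊤)
    (hcore : ((D.borelSubgroup K ⊓ Gtw hD C cfg φ).subgroupOf (Gtw hD C cfg φ)).normalCore = ⊥) :
    IsSimpleGroup ↥(Gtw hD C cfg φ) ∧ ¬ IsMulCommutative ↥(Gtw hD C cfg φ) := by
  -- the group is not trivial
  obtain ⟨-, -, -, -, -, -, g1, -⟩ := classOK_spec C cfg hcfg 0 hne
  obtain ⟨m1, -⟩ := pgens_mem_genRoots C cfg hcfg 0 hne
  have hxG : prodL (F := K) hD (cfg.g.orb cfg.m (cfg.pgens.getD 0 0)) (fun _ => 1) ∈ Gtw hD C cfg φ := by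
    apply Subgroup.subset_closure
    refine ⟨_, m1, fun _ => 1, ?_, rfl⟩
    intro r hr
    unfold twT
    rw [g1 r hr]
    simp
  haveI : Nontrivial ↥(Gtw hD C cfg φ) :=
    ⟨⟨⟨_, hxG⟩, 1, fun h => pos_gen_ne_one (K := K) hD C cfg hcfg hbn 0 hne (congrArg Subtype.val h)⟩⟩
  obtain ⟨P, hPB, hPN, hPS⟩ := exists_bnPair_Gtw hD C cfg φ hcfg hbn
  -- irreducibility
  have hirr' : P.Irreducible := by
    intro J hJ hJne hJc
    have hnG : ∀ k < cfg.classes.length, nW hD C (cfg.classes.getD k []) ∈ Gtw hD C cfg φ :=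
      fun k hk => nW_class_mem_Gtw hD C cfg φ hcfg k hk
    let el : ℕ → ↥(Gtw hD C cfg φ) := fun k =>
      if hk : k < cfg.classes.length then ⟨nW hD C (cfg.classes.getD k []), hnG k hk⟩ else 1
    have hel : ∀ k (hk : k < cfg.classes.length), (el k : GL D.Idx K) = nW hD C (cfg.classes.getD k []) := by
      intro k hk
      show ((if hk : k < cfg.classes.length then _ else _ : ↥(Gtw hD C cfg φ)) : GL D.Idx K) = _
      rw [dif_pos hk]
    have hsS : ∀ k < cfg.classes.length, el k ∈ P.S := by
      intro k hk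
      rw [hPS]
      exact ⟨k, hk, hel k hk⟩
    have hSs : ∀ s ∈ P.S, ∃ k < cfg.classes.length, s = el k := by
      intro s hs
      rw [hPS] at hs
      obtain ⟨k, hk, hsk⟩ := hs
      exact ⟨k, hk, Subtype.ext (by rw [hsk, hel k hk])⟩
    have h1 : ∃ k < cfg.classes.length, el k ∈ J := by
      obtain ⟨s, hs⟩ := hJne
      obtain ⟨k, hk, rfl⟩ := hSs s (hJ hs)
      exact ⟨k, hk, hs⟩
    have h2 : ∃ k < cfg.classes.length, ¬ el k ∈ J := by
      obtain ⟨s, hs, hsJ⟩ := hJc
      obtain ⟨k, hk, rfl⟩ := hSs s hs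
      exact ⟨k, hk, hsJ⟩
    obtain ⟨i, j, hi, hj, hadj, hfi, hfj⟩ := exists_adj_of_connOK _ _ ord hirr (fun k => el k ∈ J) h1 h2
    refine ⟨_, hfi, _, ⟨hsS j hj, hfj⟩, ?_⟩
    rw [hPB, Subgroup.mem_subgroupOf]
    intro hmem
    have hmem' := (Subgroup.mem_inf.mp hmem).1
    push_cast at hmem'
    rw [hel i hi, hel j hj] at hmem'
    exact nW_class_comm_not_mem_borel hD C cfg hcfg hbn i j hi hj hadj hmem'
  -- solvability of `B¹`
  have hsolv : Group.IsSolvable ↥P.B := by
    rw [hPB]
    haveI := Cfsg.Agent.S1050.result (F := K) D hD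
    let f : ↥((D.borelSubgroup K ⊓ Gtw hD C cfg φ).subgroupOf (Gtw hD C cfg φ)) →* ↥(D.borelSubgroup K) :=
      { toFun := fun x => ⟨((x : ↥(Gtw hD C cfg φ)) : GL D.Idx K),
          (Subgroup.mem_inf.mp (Subgroup.mem_subgroupOf.mp x.2)).1⟩
        map_one' := rfl
        map_mul' := fun _ _ => rfl }
    have hf : Function.Injective f := by
      intro x y hxy
      apply Subtype.ext
      apply Subtype.ext
      exact congrArg (fun z : ↥(D.borelSubgroup K) => (z : GL D.Idx K)) hxy
    exact Group.isSolvable_of_isSolvable_injective hf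
  have hcore' : P.B.normalCore = ⊥ := by rw [hPB]; exact hcore
  have hsimple := Cfsg.Agent.S0319.result P hirr' hsolv hperf hcore'
  refine ⟨hsimple, ?_⟩
  intro hcomm
  have hcen : Subgroup.center ↥(Gtw hD C cfg φ) = ⊤ := by
    rw [eq_top_iff]
    intro g _
    rw [Subgroup.mem_center_iff]
    intro z
    exact hcomm.is_comm.comm z g
  have : commutator ↥(Gtw hD C cfg φ) = ⊥ := by
    rw [commutator_def, Subgroup.commutator_top_right_eq_bot_iff_le_center, hcen]
  rw [hperf] at this
  exact top_ne_bot this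

end Fin

end Cfsg.Agent.Lib.Helper18
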