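/-
helper18: the torus `H¹ = H ∩ G¹` of a twisted group: its elements are the images of the parameters fixed by the
twisting automorphism, provided the first cohomology of the kernel of the torus homomorphism vanishes.
-/
import Cfsg.Agent.Lib.Helper18.Tw21
import Cfsg.Agent.Lib.Helper18.HCard

set_option autoImplicit false

namespace Cfsg.Agent.Lib.Helper18

open Cfsg.Lie Cfsg.Agent.Lib.Helper17

universe u

variable {K : Type u} [Field K] {D : ChevalleyDatum}

/-- The action of the twisting automorphism on the parameters of the torus (`e` is the inverse of the permutation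
of the fundamental roots). -/
def sigT (φ : K ≃+* K) (e : Equiv.Perm (Fin D.rank)) : (Fin D.rank → Kˣ) →* (Fin D.rank → Kˣ) where
  toFun c j := Units.map ((φ : K →+* K) : K →* K) (c (e j))
  map_one' := by funext j; simp
  map_mul' a b := by funext j; simp

theorem coe_sigT (φ : K ≃+* K) (e : Equiv.Perm (Fin D.rank)) (c : Fin D.rank → Kˣ) (j : Fin D.rank) :
    ((sigT φ e c j : Kˣ) : K) = φ ((c (e j) : Kˣ) : K) := rfl

/-- The parameters fixed by the twisting automorphism. -/
def fixT (φ : K ≃+* K) (e : Equiv.Perm (Fin D.rank)) : Subgroup (Fin D.rank → Kˣ) :=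
  MonoidHom.eqLocus (sigT φ e) (MonoidHom.id _)

theorem mem_fixT (φ : K ≃+* K) (e : Equiv.Perm (Fin D.rank)) (c : Fin D.rank → Kˣ) :
    c ∈ fixT φ e ↔ sigT φ e c = c := Iff.rfl

section

variable (hD : D ∈ [chevG2, chevB2, chevD4, chevF4, chevE6, chevE7, chevE8]) (C : ChevData.{u} D)
  (cfg : TwCfg) (φ : K ≃+* K) (hcfg : cfg.ok C.T C.tabs C.simples = true)

include hD in
/-- The characters of a fixed element of the torus are compatible with the twisting. -/
theorem chiU_rho_of_fixed (c : Fin D.rank → Kˣ)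
    (hfix : csig C cfg φ hcfg (torusHom D K c) = torusHom D K c) (s : ℕ) (hs : s < D.nroots) :
    ((chiU D c (cfg.g.rho s) : Kˣ) : K) = φ ((chiU D c s : Kˣ) : K) := by
  have hrs := rho_lt C cfg.g cfg.m (cfg_twOK C cfg hcfg) s hs
  have hc : ∀ i < D.rank, extC D.rank c i ≠ 0 := fun i _ => extC_ne_zero _ c i
  have h1 := torus_conj_xG hD (torusHom D K c) (extC D.rank c) hc (coe_torusHom D c) s hs 1
  have h2 := congrArg (csig C cfg φ hcfg) h1
  rw [map_mul, map_mul, map_inv, hfix] at h2
  unfold csig at h2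
  rw [sig_xG hD C cfg.g _ φ s hs, sig_xG hD C cfg.g _ φ s hs,
    torus_conj_xG hD (torusHom D K c) (extC D.rank c) hc (coe_torusHom D c) (cfg.g.rho s) hrs] at h2
  have h3 := xG_injective hD _ hrs _ _ h2
  unfold chiFun at h3
  rw [dif_pos hrs, dif_pos hs, ← coe_chiU, ← coe_chiU, mul_one, map_one, mul_one] at h3
  change ((chiU D c (cfg.g.rho s) : Kˣ) : K) * _ = _ * φ ((chiU D c s : Kˣ) : K) at h3
  rcases cfg.g.gam_cases s with hg | hg
  · rw [hg] at h3
    simpa using h3
  · rw [hg] at h3
    simpa using h3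

/-- The action on the parameters commutes with the exponent action of an invariant matrix. -/
theorem mpow_sigT (e : Equiv.Perm (Fin D.rank)) (X : Matrix (Fin D.rank) (Fin D.rank) ℤ)
    (hX : ∀ i j : Fin D.rank, X (e i) (e j) = X i j) (c : Fin D.rank → Kˣ) :
    mpow (sigT φ e c) X = sigT φ e (mpow c X) := by
  funext j
  show ∏ i, (sigT φ e c i) ^ X i j = Units.map ((φ : K →+* K) : K →* K) (∏ i, c i ^ X i (e j))
  rw [map_prod, ← Equiv.prod_comp e (fun i => Units.map ((φ : K →+* K) : K →* K) (c i ^ X i (e j)))]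
  apply Finset.prod_congr rfl
  intro i _
  rw [map_zpow, hX]
  rfl

variable (e : Equiv.Perm (Fin D.rank))
  (he : ∀ j : Fin D.rank, cfg.g.rho (D.simple (e j)) = D.simple j)
  (hA : ∀ i j : Fin D.rank, cartanMat D (e i) (e j) = cartanMat D i j)
  (hker : (torusHom D K).ker = (mpowHom (G := Kˣ) (cartanMat D)).ker)

include hA hker in
/-- The kernel of the torus homomorphism is stable under the action on the parameters. -/
theorem sigT_mem_ker (z : Fin D.rank → Kˣ) (hz : z ∈ (torusHom D K).ker) : sigT φ e z ∈ (torusHom D K).ker := by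
  rw [hker, MonoidHom.mem_ker, mpowHom_apply] at hz ⊢
  rw [mpow_sigT φ e _ hA, hz, map_one]

include hD he hA hker in
/-- The parameters of a fixed element of the torus are fixed modulo the kernel. -/
theorem sigT_div_mem_ker (c : Fin D.rank → Kˣ)
    (hfix : csig C cfg φ hcfg (torusHom D K c) = torusHom D K c) :
    sigT φ e c / c ∈ (torusHom D K).ker := by
  rw [hker, MonoidHom.mem_ker, map_div, div_eq_one, mpowHom_apply, mpowHom_apply, mpow_sigT φ e _ hA]
  funext j
  apply Units.ext
  rw [coe_sigT]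
  have h1 := chiU_rho_of_fixed hD C cfg φ hcfg c hfix (D.simple (e j)) (simple_lt' D hD _ (e j).isLt)
  rw [he j] at h1
  exact h1.symm

end

section

variable (hD : D ∈ [chevG2, chevB2, chevD4, chevF4, chevE6, chevE7, chevE8]) (C : ChevData.{u} D)

theorem hCls_append (J J' : List ℕ) (a : ℕ → K) : hCls hD C (J ++ J') a = hCls hD C J a * hCls hD C J' a := by
  unfold hCls
  rw [List.map_append, List.prod_append]

theorem hCls_flatten (Js : List (List ℕ)) (a : ℕ → K) :
    hCls hD C Js.flatten a = (Js.map fun J => hCls hD C J a).prod := by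
  induction Js with
  | nil => simp [hCls]
  | cons J Js ih => rw [List.flatten_cons, hCls_append, ih, List.map_cons, List.prod_cons]

/-- The matrix of a product of `h_{p_j}(a_j)`. -/
theorem coe_hCls (J : List ℕ) (hJ : ∀ j ∈ J, j < D.rank) (a : ℕ → K) (ha : ∀ j ∈ J, a (D.simple j) ≠ 0) :
    ((hCls hD C J a : GL D.Idx K) : Matrix D.Idx D.Idx K)
      = Matrix.diagonal (Sum.elim (fun _ => (1 : K))
          (fun s : Fin D.nroots => (J.map fun j => a (D.simple j) ^ D.cartan j s).prod)) := by
  induction J with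
  | nil =>
    have : hCls hD C [] a = 1 := by simp [hCls]
    rw [this, Units.val_one, ← Matrix.diagonal_one]
    congr 1
    funext x
    rcases x with k | s <;> simp
  | cons j J ih =>
    have e : hCls hD C (j :: J) a = hPt hD C j (a (D.simple j)) * hCls hD C J a := by
      unfold hCls
      rw [List.map_cons, List.prod_cons]
    rw [e, Units.val_mul, coe_hPt hD C j (hJ j List.mem_cons_self),
      ih (fun j' hj' => hJ j' (List.mem_cons_of_mem _ hj')) (fun j' hj' => ha j' (List.mem_cons_of_mem _ hj')),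
      Cfsg.Agent.S1033.result D hD j (hJ j List.mem_cons_self) _ (ha j List.mem_cons_self),
      Matrix.diagonal_mul_diagonal]
    congr 1
    funext x
    rcases x with k | s <;> simp

/-- The torus element of the parameters `c` as a product of `h_{p_j}(c_j)` in any order. -/
theorem torusHom_eq_hCls (c : Fin D.rank → Kˣ) (L : List ℕ) (hperm : L.Perm (List.range D.rank)) (a : ℕ → K)
    (ha : ∀ j < D.rank, a (D.simple j) = extC D.rank c j) : torusHom D K c = hCls hD C L a := by
  have hL : ∀ j ∈ L, j < D.rank := fun j hj => List.mem_range.mp (hperm.mem_iff.mp hj)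
  apply Units.ext
  rw [coe_torusHom, coe_hCls hD C L hL a (fun j hj => by rw [ha j (hL j hj)]; exact extC_ne_zero _ c j)]
  congr 1
  funext x
  rcases x with k | s
  · rfl
  · show ((List.range D.rank).map fun i => extC D.rank c i ^ D.cartan i s).prod
      = (L.map fun j => a (D.simple j) ^ D.cartan j s).prod
    rw [← (hperm.map _).prod_eq]
    congr 1
    apply List.map_congr_left
    intro j hj
    rw [ha j (hL j hj)]

end

section Fin

variable [Fintype K] (hD : D ∈ [chevG2, chevB2, chevD4, chevF4, chevE6, chevE7, chevE8]) (C : ChevData.{u} D)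
  (cfg : TwCfg) (φ : K ≃+* K) (hcfg : cfg.ok C.T C.tabs C.simples = true)
  (e : Equiv.Perm (Fin D.rank))
  (he : ∀ j : Fin D.rank, cfg.g.rho (D.simple (e j)) = D.simple j)
  (hA : ∀ i j : Fin D.rank, cartanMat D (e i) (e j) = cartanMat D i j)
  (hker : (torusHom D K).ker = (mpowHom (G := Kˣ) (cartanMat D)).ker)
  (hidx : ∀ j < D.rank, C.simples.idxOf (D.simple j) = j)
  (hperm : cfg.classes.flatten.Perm (List.range D.rank))

include hcfg he hidx hperm in
/-- The torus elements with fixed parameters lie in the twisted group. -/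
theorem torusHom_fixT_mem_Gtw (c : Fin D.rank → Kˣ) (hc : c ∈ fixT φ e) : torusHom D K c ∈ Gtw hD C cfg φ := by
  have hTw := cfg_twOK C cfg hcfg
  have hm := cfg_m C cfg hcfg
  let a : ℕ → K := fun r => extC D.rank c (C.simples.idxOf r)
  have ha : ∀ j < D.rank, a (D.simple j) = extC D.rank c j := fun j hj => by
    show extC D.rank c (C.simples.idxOf (D.simple j)) = _
    rw [hidx j hj]
  rw [torusHom_eq_hCls hD C c _ hperm a ha, hCls_flatten]
  apply Subgroup.list_prod_mem
  intro x hx
  rw [List.mem_map] at hx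
  obtain ⟨J, hJ, rfl⟩ := hx
  obtain ⟨k, hk, rfl⟩ := List.mem_iff_getElem.mp hJ
  rw [← List.getD_eq_getElem _ [] hk]
  obtain ⟨-, hJlt, -, -, e1, -, g1, -, -⟩ := classOK_spec C cfg hcfg k hk
  apply hCls_mem_Gtw hD C cfg φ hcfg k hk a
  · intro r _
    exact extC_ne_zero _ c _
  · intro r hr
    have hg := g1 r hr
    rw [← e1, List.mem_map] at hr
    obtain ⟨j, hj, rfl⟩ := hr
    have hjlt := hJlt j hj
    rw [← C.hsimple j hjlt] at hg ⊢
    have hit : cfg.g.rho^[cfg.m - 1] (D.simple j) = D.simple (e ⟨j, hjlt⟩) := by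
      have h1 := he ⟨j, hjlt⟩
      have h2 : cfg.g.rho^[cfg.m - 1] (cfg.g.rho (D.simple (e ⟨j, hjlt⟩))) = D.simple (e ⟨j, hjlt⟩) := by
        rw [← Function.iterate_succ_apply]
        have : (cfg.m - 1).succ = cfg.m := by rcases hm with h | h <;> omega
        rw [this]
        exact rho_iterate_m C cfg.g cfg.m hTw _ (simple_lt' D hD _ (e ⟨j, hjlt⟩).isLt)
      rw [h1] at h2
      exact h2
    unfold twT
    rw [hit] at hg ⊢
    rw [hg, Int.cast_one, one_mul, ha j hjlt, ha _ (e ⟨j, hjlt⟩).isLt, extC_of_lt _ _ j hjlt,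
      extC_of_lt _ _ _ (e ⟨j, hjlt⟩).isLt]
    have h3 := congrFun ((mem_fixT φ e c).mp hc) ⟨j, hjlt⟩
    rw [← h3]
    rfl

include hcfg he hA hker hidx hperm in
/-- `H¹ = H ∩ G¹` is the image of the fixed parameters, if the first cohomology of the kernel vanishes. -/
theorem diagonal_inf_Gtw_eq
    (hLang : ∀ c : Fin D.rank → Kˣ, sigT φ e c / c ∈ (torusHom D K).ker →
      ∃ z ∈ (torusHom D K).ker, c / z ∈ fixT φ e) :
    D.diagonalSubgroup K ⊓ Gtw hD C cfg φ = (fixT φ e).map (torusHom D K) := by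
  apply le_antisymm
  · intro x hx
    obtain ⟨hxH, hxG⟩ := Subgroup.mem_inf.mp hx
    rw [← range_torusHom D hD] at hxH
    obtain ⟨c₀, rfl⟩ := hxH
    have hfix := csig_eq_of_mem_Gtw hD C cfg φ hcfg _ hxG
    obtain ⟨z, hz, hcz⟩ := hLang c₀ (sigT_div_mem_ker hD C cfg φ hcfg e he hA hker c₀ hfix)
    refine ⟨c₀ / z, hcz, ?_⟩
    rw [map_div, MonoidHom.mem_ker.mp hz, div_one]
  · rintro x ⟨c, hc, rfl⟩
    refine Subgroup.mem_inf.mpr ⟨?_, torusHom_fixT_mem_Gtw hD C cfg φ hcfg e he hidx hperm c hc⟩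
    rw [← range_torusHom D hD]
    exact ⟨c, rfl⟩

include hcfg he hA hker hidx hperm in
/-- `|H¹| |Z^σ| = |T^σ|`. -/
theorem card_diagonal_inf_Gtw
    (hLang : ∀ c : Fin D.rank → Kˣ, sigT φ e c / c ∈ (torusHom D K).ker →
      ∃ z ∈ (torusHom D K).ker, c / z ∈ fixT φ e) :
    Nat.card ↥((torusHom D K).ker.subgroupOf (fixT φ e)) * Nat.card ↥(D.diagonalSubgroup K ⊓ Gtw hD C cfg φ)
      = Nat.card ↥(fixT φ e) := by
  rw [diagonal_inf_Gtw_eq hD C cfg φ hcfg e he hA hker hidx hperm hLang, ← MonoidHom.restrict_range,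
    ← MonoidHom.ker_restrict, ← Subgroup.index_ker]
  exact Subgroup.card_mul_index _

end Fin

end Cfsg.Agent.Lib.Helper18
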