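/-
helper18: the vanishing of the first cohomology of the kernel of the torus homomorphism, for twists of order 2
(kernel of exponent 3) and of order 3 (kernel of exponent 2); the number of elements of a finite field fixed by
the Frobenius map.
-/
import Cfsg.Agent.Lib.Helper18.Tw26
import Cfsg.Agent.Lib.Helper18.TwFrob

set_option autoImplicit false

namespace Cfsg.Agent.Lib.Helper18

open Cfsg.Lie Cfsg.Agent.Lib.Helper17

universe u

variable {K : Type u} [Field K] {D : ChevalleyDatum}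

section

variable (φ : K ≃+* K) (e : Equiv.Perm (Fin D.rank))

theorem sigT_sigT (hφ2 : ∀ a : K, φ (φ a) = a) (he2 : ∀ j, e (e j) = j) (c : Fin D.rank → Kˣ) :
    sigT φ e (sigT φ e c) = c := by
  funext j
  apply Units.ext
  rw [coe_sigT, coe_sigT, hφ2, he2]

theorem sigT_sigT_sigT (hφ3 : ∀ a : K, φ (φ (φ a)) = a) (he3 : ∀ j, e (e (e j)) = j) (c : Fin D.rank → Kˣ) :
    sigT φ e (sigT φ e (sigT φ e c)) = c := by
  funext j
  apply Units.ext
  rw [coe_sigT, coe_sigT, coe_sigT, hφ3, he3]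

/-- Twist of order 2, kernel of exponent 3. -/
theorem lang_two (hφ2 : ∀ a : K, φ (φ a) = a) (he2 : ∀ j, e (e j) = j)
    (Z : Subgroup (Fin D.rank → Kˣ)) (hZ3 : ∀ z ∈ Z, z ^ 3 = 1)
    (c : Fin D.rank → Kˣ) (hc : sigT φ e c / c ∈ Z) : ∃ z ∈ Z, c / z ∈ fixT φ e := by
  refine ⟨sigT φ e c / c, hc, ?_⟩
  rw [mem_fixT, map_div, map_div, sigT_sigT φ e hφ2 he2]
  have h3 := hZ3 _ hc
  generalize sigT φ e c = d at h3 ⊢
  have h4 : (d / c) ^ 3 = d ^ 3 / c ^ 3 := div_pow d c 3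
  rw [h4, div_eq_one] at h3
  rw [div_div_eq_mul_div, div_div_eq_mul_div, div_eq_div_iff_mul_eq_mul]
  calc d * d * d = d ^ 3 := by rw [pow_succ, pow_two]
    _ = c ^ 3 := h3
    _ = c * c * c := by rw [pow_succ, pow_two]

/-- Twist of order 3, kernel of exponent 2. -/
theorem lang_three (hφ3 : ∀ a : K, φ (φ (φ a)) = a) (he3 : ∀ j, e (e (e j)) = j)
    (Z : Subgroup (Fin D.rank → Kˣ)) (hZs : ∀ z ∈ Z, sigT φ e z ∈ Z) (hZ2 : ∀ z ∈ Z, z ^ 2 = 1)
    (c : Fin D.rank → Kˣ) (hc : sigT φ e c / c ∈ Z) : ∃ z ∈ Z, c / z ∈ fixT φ e := by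
  refine ⟨sigT φ e (sigT φ e c / c), hZs _ hc, ?_⟩
  rw [mem_fixT, map_div, map_div, map_div, sigT_sigT_sigT φ e hφ3 he3]
  have h2 := hZ2 _ hc
  have h2' := hZ2 _ (hZs _ hc)
  rw [map_div] at h2'
  generalize sigT φ e (sigT φ e c) = d2 at h2' ⊢
  generalize sigT φ e c = d at h2 h2' ⊢
  rw [div_pow, div_eq_one] at h2 h2'
  rw [div_div_eq_mul_div, div_div_eq_mul_div, div_eq_div_iff_mul_eq_mul]
  calc d * d2 * d2 = d * d2 ^ 2 := by rw [pow_two, mul_assoc]
    _ = d * c ^ 2 := by rw [h2', h2]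
    _ = c * d * c := by rw [pow_two, mul_comm c d, mul_assoc]

end

end Cfsg.Agent.Lib.Helper18
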