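/-
helper18: the cells of a twisted group, continued: the elements of `U_w^- ∩ G¹` are parametrised by the leading
coefficients on the classes made negative by `w`.
-/
import Cfsg.Agent.Lib.Helper18.Tw28

set_option autoImplicit false

namespace Cfsg.Agent.Lib.Helper18

open Cfsg.Lie Cfsg.Agent.Lib.Helper17

universe u

variable {K : Type u} [Field K] {D : ChevalleyDatum}

theorem orbVal_zero (g : GraphData) (φ : K ≃+* K) (s r : ℕ) : orbVal g φ s 0 r = 0 := by
  unfold orbVal
  split_ifs <;> simp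

/-- The coefficient function vanishes on the classes with vanishing leading coefficient. -/
theorem cfL_eq_zero (g : GraphData) (φ : K ≃+* K) (m : ℕ) (reps : List ℕ) (a : ℕ → K) (r : ℕ)
    (h : ∀ s ∈ reps, r ∈ g.orb m s → a s = 0) : cfL g φ m reps a r = 0 := by
  induction reps with
  | nil => rfl
  | cons s reps ih =>
    show (if r ∈ g.orb m s then orbVal g φ s (a s) r else cfL g φ m reps a r) = 0
    split_ifs with hr
    · rw [h s List.mem_cons_self hr, orbVal_zero]
    · exact ih fun s' hs' => h s' (List.mem_cons_of_mem _ hs')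

section Fin

variable [Fintype K] (hD : D ∈ [chevG2, chevB2, chevD4, chevF4, chevE6, chevE7, chevE8]) (C : ChevData.{u} D)
  (cfg : TwCfg) (φ : K ≃+* K) (hcfg : cfg.ok C.T C.tabs C.simples = true)

/-- The element of `U_w^- ∩ G¹` with given leading coefficients. -/
noncomputable def cellU (cw : List ℕ) (a : {s // s ∈ cfg.negReps C.tabs D.nroots cw} → K) : GL D.Idx K :=
  prodL hD (cfg.g.clsList cfg.m (cfg.cellReps C.tabs D.nroots cw))
    (cfL cfg.g φ cfg.m (cfg.cellReps C.tabs D.nroots cw) (extL (cfg.negReps C.tabs D.nroots cw) a))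

theorem cellOK_spec (wl : List (List ℕ)) (hcell : cfg.cellOK C.tabs D.nroots wl = true) (cw : List ℕ)
    (hcw : cw ∈ wl) :
    (∀ r ∈ cfg.g.clsList cfg.m (cfg.negReps C.tabs D.nroots cw),
      wordRootF C.tabs (cfg.wordOf cw) r < D.nroots / 2) ∧
    (∀ r ∈ cfg.g.clsList cfg.m (cfg.posReps C.tabs D.nroots cw),
      ¬ wordRootF C.tabs (cfg.wordOf cw) r < D.nroots / 2) := by
  unfold TwCfg.cellOK at hcell
  simp only [List.all_eq_true, beq_iff_eq] at hcell
  constructor
  · intro r hr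
    unfold GraphData.clsList at hr
    rw [List.mem_flatMap] at hr
    obtain ⟨s, hs, hrs⟩ := hr
    unfold TwCfg.negReps at hs
    rw [List.mem_filter] at hs
    have := hcell cw hcw s hs.1 r hrs
    rw [hs.2, decide_eq_true_eq] at this
    exact this
  · intro r hr
    unfold GraphData.clsList at hr
    rw [List.mem_flatMap] at hr
    obtain ⟨s, hs, hrs⟩ := hr
    unfold TwCfg.posReps at hs
    rw [List.mem_filter, Bool.not_eq_true'] at hs
    have := hcell cw hcw s hs.1 r hrs
    rw [hs.2, decide_eq_false_iff_not] at this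
    exact this

include hcfg in
/-- The part of `cellU` over the classes kept positive is trivial. -/
theorem cellU_eq (cw : List ℕ) (a : {s // s ∈ cfg.negReps C.tabs D.nroots cw} → K) :
    cellU hD C cfg φ cw a = prodL hD (cfg.g.clsList cfg.m (cfg.negReps C.tabs D.nroots cw))
      (cfL cfg.g φ cfg.m (cfg.cellReps C.tabs D.nroots cw) (extL (cfg.negReps C.tabs D.nroots cw) a)) := by
  obtain ⟨hl, hnd, hall, hmem, hlt⟩ := repsOK_spec_perm hD C cfg hcfg _ (cfg.cellReps_perm C.tabs D.nroots cw)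
  unfold cellU
  rw [cfg.clsList_cellReps, prodL_append]
  rw [cfg.clsList_cellReps, List.nodup_append] at hnd
  obtain ⟨-, -, hdisj⟩ := hnd
  have h0 : prodL hD (cfg.g.clsList cfg.m (cfg.posReps C.tabs D.nroots cw))
      (cfL cfg.g φ cfg.m (cfg.cellReps C.tabs D.nroots cw) (extL (cfg.negReps C.tabs D.nroots cw) a))
      = prodL hD (cfg.g.clsList cfg.m (cfg.posReps C.tabs D.nroots cw)) (fun _ => 0) := by
    apply prodL_congr
    intro r hr
    apply cfL_eq_zero
    intro s _ hrs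
    unfold extL
    rw [dif_neg]
    intro hsn
    have : r ∈ cfg.g.clsList cfg.m (cfg.negReps C.tabs D.nroots cw) := by
      unfold GraphData.clsList
      rw [List.mem_flatMap]
      exact ⟨s, hsn, hrs⟩
    exact hdisj r hr r this rfl
  rw [h0, prodL_zero, one_mul]

include hcfg in
/-- `cellU` lies in `U_n^-` for `n = n_w h`. -/
theorem cellU_mem_closure (wl : List (List ℕ)) (hlt : ∀ cw ∈ wl, ∀ c ∈ cw, c < cfg.classes.length)
    (hcell : cfg.cellOK C.tabs D.nroots wl = true) (cw : List ℕ)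
    (hcw : cw ∈ wl) (h : GL D.Idx K) (hh : h ∈ D.diagonalSubgroup K)
    (a : {s // s ∈ cfg.negReps C.tabs D.nroots cw} → K) :
    cellU hD C cfg φ cw a ∈ Subgroup.closure (UnegSet D K (nW hD C (cfg.wordOf cw) * h)) := by
  obtain ⟨hl, hnd, hall, hmem, hlt'⟩ := repsOK_spec_perm hD C cfg hcfg _ (cfg.cellReps_perm C.tabs D.nroots cw)
  have hws := wordOf_lt C cfg hcfg cw (hlt cw hcw)
  rw [cellU_eq hD C cfg φ hcfg]
  have hP : ∀ r ∈ cfg.g.clsList cfg.m (cfg.negReps C.tabs D.nroots cw), D.IsPosRoot r ∧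
      (D.rootSubgroup K r).map (MulAut.conj (nW hD C (cfg.wordOf cw) * h)).toMonoidHom ≤ D.negUnipotent K := by
    intro r hr
    have hr' : r ∈ cfg.g.clsList cfg.m (cfg.cellReps C.tabs D.nroots cw) := by
      rw [cfg.clsList_cellReps]
      exact List.mem_append_right _ hr
    have hpos := hl r hr'
    exact ⟨hpos, (map_conj_rootSubgroup_nW hD C _ hws h hh r hpos.1).1
      ((cellOK_spec C cfg wl hcell cw hcw).1 r hr)⟩
  refine Subgroup.closure_mono ?_ (prodL_mem_closure hD _ _ hP _)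
  rintro g ⟨s, t, ⟨h1, h2⟩, h3⟩
  exact ⟨s, t, h1, h2, h3⟩

include hcfg in
/-- Ordered products over the classes made negative lie in `U_n^-` for `n = n_w h`. -/
theorem prodL_negL_mem_closure (wl : List (List ℕ)) (hlt : ∀ cw ∈ wl, ∀ c ∈ cw, c < cfg.classes.length)
    (hcell : cfg.cellOK C.tabs D.nroots wl = true) (cw : List ℕ)
    (hcw : cw ∈ wl) (h : GL D.Idx K) (hh : h ∈ D.diagonalSubgroup K) (t : ℕ → K) :
    prodL hD (cfg.g.clsList cfg.m (cfg.negReps C.tabs D.nroots cw)) t
      ∈ Subgroup.closure (UnegSet D K (nW hD C (cfg.wordOf cw) * h)) := by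
  obtain ⟨hl, hnd, hall, hmem, hlt'⟩ := repsOK_spec_perm hD C cfg hcfg _ (cfg.cellReps_perm C.tabs D.nroots cw)
  have hws := wordOf_lt C cfg hcfg cw (hlt cw hcw)
  have hP : ∀ r ∈ cfg.g.clsList cfg.m (cfg.negReps C.tabs D.nroots cw), D.IsPosRoot r ∧
      (D.rootSubgroup K r).map (MulAut.conj (nW hD C (cfg.wordOf cw) * h)).toMonoidHom ≤ D.negUnipotent K := by
    intro r hr
    have hr' : r ∈ cfg.g.clsList cfg.m (cfg.cellReps C.tabs D.nroots cw) := by
      rw [cfg.clsList_cellReps]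
      exact List.mem_append_right _ hr
    have hpos := hl r hr'
    exact ⟨hpos, (map_conj_rootSubgroup_nW hD C _ hws h hh r hpos.1).1
      ((cellOK_spec C cfg wl hcell cw hcw).1 r hr)⟩
  refine Subgroup.closure_mono ?_ (prodL_mem_closure hD _ _ hP _)
  rintro g ⟨s, t, ⟨h1, h2⟩, h3⟩
  exact ⟨s, t, h1, h2, h3⟩

variable (hφm : ∀ a : K, φ^[cfg.m] a = a)

include hcfg hφm in
/-- `cellU` lies in `U ∩ G¹`. -/
theorem cellU_mem (cw : List ℕ) (a : {s // s ∈ cfg.negReps C.tabs D.nroots cw} → K)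
    (ha : ∀ s, cfg.g.rho s.1 = s.1 → φ (a s) = a s) :
    cellU hD C cfg φ cw a ∈ Gtw hD C cfg φ := by
  obtain ⟨hl, hnd, hall, hmem, hlt'⟩ := repsOK_spec_perm hD C cfg hcfg _ (cfg.cellReps_perm C.tabs D.nroots cw)
  have hTw := cfg_twOK C cfg hcfg
  have hm := cfg_m C cfg hcfg
  apply prodL_cls_mem_Gtw hD C cfg φ hcfg _ hmem
  apply cfL_tw C cfg.g φ cfg.m hTw hm hφm _ hlt' hnd
  intro s _ hfx
  unfold extL
  split_ifs with hs
  · exact ha ⟨s, hs⟩ hfx
  · exact map_zero φ

include hcfg in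
theorem cellU_injective (cw : List ℕ) (a a' : {s // s ∈ cfg.negReps C.tabs D.nroots cw} → K)
    (h : cellU hD C cfg φ cw a = cellU hD C cfg φ cw a') : a = a' := by
  obtain ⟨hl, hnd, hall, hmem, hlt'⟩ := repsOK_spec_perm hD C cfg hcfg _ (cfg.cellReps_perm C.tabs D.nroots cw)
  have hTw := cfg_twOK C cfg hcfg
  have hm := cfg_m C cfg hcfg
  have h2 := prodL_injective_of_fintype hD _ hl hnd hall _ _ h
  funext s
  have hs' : s.1 ∈ cfg.cellReps C.tabs D.nroots cw := List.mem_append_right _ s.2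
  have hs'' : s.1 ∈ cfg.g.clsList cfg.m (cfg.cellReps C.tabs D.nroots cw) := by
    unfold GraphData.clsList
    rw [List.mem_flatMap]
    exact ⟨s.1, hs', self_mem_orb C cfg.g cfg.m hTw hm s.1 (hlt' s.1 hs')⟩
  have h3 := h2 s.1 hs''
  rw [cfL_head C cfg.g φ cfg.m hTw hm _ hlt' hnd _ s.1 hs', cfL_head C cfg.g φ cfg.m hTw hm _ hlt' hnd _ s.1 hs',
    extL_of_mem _ _ _ s.2, extL_of_mem _ _ _ s.2] at h3
  exact h3

include hcfg hφm in
/-- Every element of `U_n^- ∩ G¹`, `n = n_w h`, is a `cellU`. -/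
theorem exists_cellU (wl : List (List ℕ)) (hlt : ∀ cw ∈ wl, ∀ c ∈ cw, c < cfg.classes.length)
    (hcell : cfg.cellOK C.tabs D.nroots wl = true) (cw : List ℕ)
    (hcw : cw ∈ wl) (h : GL D.Idx K) (hh : h ∈ D.diagonalSubgroup K) (x : GL D.Idx K)
    (hx : x ∈ Subgroup.closure (UnegSet D K (nW hD C (cfg.wordOf cw) * h))) (hxG : x ∈ Gtw hD C cfg φ) :
    ∃ a : {s // s ∈ cfg.negReps C.tabs D.nroots cw} → K, (∀ s, cfg.g.rho s.1 = s.1 → φ (a s) = a s) ∧
      x = cellU hD C cfg φ cw a := by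
  obtain ⟨hl, hnd, hall, hmem, hlt'⟩ := repsOK_spec_perm hD C cfg hcfg _ (cfg.cellReps_perm C.tabs D.nroots cw)
  have hTw := cfg_twOK C cfg hcfg
  have hm := cfg_m C cfg hcfg
  have hws := wordOf_lt C cfg hcfg cw (hlt cw hcw)
  set n := nW hD C (cfg.wordOf cw) * h with hn
  have hfix := csig_eq_of_mem_Gtw hD C cfg φ hcfg x hxG
  have hxU := closure_UnegSet_le D _ hx
  obtain ⟨t, ht, rfl⟩ := exists_prodL_of_fixed_perm hD C cfg φ hcfg _ (cfg.cellReps_perm C.tabs D.nroots cw) x hxU hfix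
  set lp := cfg.g.clsList cfg.m (cfg.posReps C.tabs D.nroots cw) with hlp
  set ln := cfg.g.clsList cfg.m (cfg.negReps C.tabs D.nroots cw) with hln
  have hsplit : cfg.g.clsList cfg.m (cfg.cellReps C.tabs D.nroots cw) = lp ++ ln := cfg.clsList_cellReps _ _ _
  have hnd' := hnd
  rw [hsplit, List.nodup_append] at hnd'
  obtain ⟨-, -, hdisj⟩ := hnd'
  have hmemp : ∀ r ∈ lp, r ∈ cfg.g.clsList cfg.m (cfg.cellReps C.tabs D.nroots cw) := fun r hr => by
    rw [hsplit]; exact List.mem_append_left _ hr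
  -- the positive part is trivial
  have hneg : prodL hD ln t ∈ Subgroup.closure (UnegSet D K n) :=
    prodL_negL_mem_closure hD C cfg hcfg wl hlt hcell cw hcw h hh t
  have hpe : prodL hD lp t = prodL hD (lp ++ ln) t * (prodL hD ln t)⁻¹ := by
    rw [prodL_append]; group
  have hpos : prodL hD lp t ∈ Subgroup.closure (UnegSet D K n) := by
    rw [hpe, ← hsplit]
    exact mul_mem hx (inv_mem hneg)
  have h1 : n * prodL hD lp t * n⁻¹ ∈ D.negUnipotent K := conj_mem_negUnipotent hD n _ hpos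
  have h2 : n * prodL hD lp t * n⁻¹ ∈ D.posUnipotent K := by
    apply conj_prodL_mem_posUnipotent hD n lp
    intro r hr
    exact (map_conj_rootSubgroup_nW hD C _ hws h hh r (hl r (hmemp r hr)).1).2
      ((cellOK_spec C cfg wl hcell cw hcw).2 r hr)
  have h3 : n * prodL hD lp t * n⁻¹ ∈ D.borelSubgroup K ⊓ D.negUnipotent K :=
    Subgroup.mem_inf.mpr ⟨borel_of_posUnipotent _ h2, h1⟩
  rw [(Cfsg.Agent.S1037.result D hD).1, Subgroup.mem_bot] at h3
  have h4 : prodL hD lp t = 1 := by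
    have : prodL hD lp t = n⁻¹ * (n * prodL hD lp t * n⁻¹) * n := by group
    rw [this, h3]; group
  -- the coefficients on the positive part vanish
  classical
  let t' : ℕ → K := fun r => if r ∈ lp then 0 else t r
  have h5 : prodL hD (lp ++ ln) t = prodL hD (lp ++ ln) t' := by
    rw [prodL_append, prodL_append, h4]
    have e1 : prodL hD lp t' = 1 := by
      rw [← prodL_zero (F := K) hD lp]
      apply prodL_congr
      intro r hr
      show (if r ∈ lp then 0 else t r) = 0
      rw [if_pos hr]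
    have e2 : prodL hD ln t' = prodL hD ln t := by
      apply prodL_congr
      intro r hr
      show (if r ∈ lp then 0 else t r) = t r
      rw [if_neg fun hrp => hdisj r hrp r hr rfl]
    rw [e1, e2]
  rw [← hsplit] at h5
  have h6 := prodL_injective_of_fintype hD _ hl hnd hall _ _ h5
  have hzero : ∀ r ∈ lp, t r = 0 := by
    intro r hr
    rw [h6 r (hmemp r hr)]
    show (if r ∈ lp then 0 else t r) = 0
    rw [if_pos hr]
  -- the parameters
  have hself : ∀ s ∈ cfg.cellReps C.tabs D.nroots cw,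
      s ∈ cfg.g.clsList cfg.m (cfg.cellReps C.tabs D.nroots cw) := by
    intro s hs
    unfold GraphData.clsList
    rw [List.mem_flatMap]
    exact ⟨s, hs, self_mem_orb C cfg.g cfg.m hTw hm s (hlt' s hs)⟩
  have hrepsPos : ∀ s ∈ cfg.cellReps C.tabs D.nroots cw, D.IsPosRoot s := fun s hs => hl s (hself s hs)
  have hta : ∀ s : {s // s ∈ cfg.negReps C.tabs D.nroots cw}, cfg.g.rho s.1 = s.1 → φ (t s.1) = t s.1 := by
    intro s hfx
    have hs' : s.1 ∈ cfg.cellReps C.tabs D.nroots cw := List.mem_append_right _ s.2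
    have h1 := ht s.1 (hself s.1 hs')
    unfold twT at h1
    have hslt : s.1 < C.T.nroots := by rw [C.nroots_eq]; exact hlt' s.1 hs'
    rw [Function.iterate_fixed hfx, (cfg.g.twOK_spec C.T cfg.m hTw s.1 hslt).2.2.2.2.2.2.1 hfx] at h1
    simpa using h1.symm
  refine ⟨fun s => t s.1, hta, ?_⟩
  unfold cellU
  apply prodL_congr
  apply tw_ext hD C cfg.g φ cfg.m hTw hm _ hrepsPos hall _ _ ht
    (cfL_tw C cfg.g φ cfg.m hTw hm hφm _ hlt' hnd _ (by
      intro s _ hfx
      unfold extL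
      split_ifs with hs
      · exact hta ⟨s, hs⟩ hfx
      · exact map_zero φ))
  intro s hs
  rw [cfL_head C cfg.g φ cfg.m hTw hm _ hlt' hnd _ s hs]
  unfold extL
  split_ifs with hsn
  · rfl
  · have hsp : s ∈ cfg.posReps C.tabs D.nroots cw := by
      rcases List.mem_append.mp hs with h | h
      · exact h
      · exact absurd h hsn
    apply hzero
    show s ∈ cfg.g.clsList cfg.m (cfg.posReps C.tabs D.nroots cw)
    unfold GraphData.clsList
    rw [List.mem_flatMap]
    exact ⟨s, hsp, self_mem_orb C cfg.g cfg.m hTw hm s (hlt' s hs)⟩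

end Fin

end Cfsg.Agent.Lib.Helper18
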