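/-
helper18: the order of a twisted group: `|G¹| = q^N |H¹| ∑_w q^{N(w)}`, the sum over a complete list of words in the
classes.
-/
import Cfsg.Agent.Lib.Helper18.Tw29

set_option autoImplicit false

namespace Cfsg.Agent.Lib.Helper18

open Cfsg.Lie Cfsg.Agent.Lib.Helper17

universe u

variable {K : Type u} [Field K] {D : ChevalleyDatum}

section Fin

variable [Fintype K] (hD : D ∈ [chevG2, chevB2, chevD4, chevF4, chevE6, chevE7, chevE8]) (C : ChevData.{u} D)
  (cfg : TwCfg) (φ : K ≃+* K) (hcfg : cfg.ok C.T C.tabs C.simples = true)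
  (hbn : cfg.bnOK C.T C.tabs C.simples = true)

/-- The leading coefficients of the elements of `U_w^- ∩ G¹`. -/
def CellPar (cw : List ℕ) : Type u :=
  {a : {s // s ∈ cfg.negReps C.tabs D.nroots cw} → K // ∀ s, cfg.g.rho s.1 = s.1 → φ (a s) = a s}

instance (cw : List ℕ) : Finite (CellPar C cfg φ cw) := by
  unfold CellPar
  infer_instance

variable (hφm : ∀ a : K, φ^[cfg.m] a = a) (wl : List (List ℕ))
  (hlist : cfg.listOK C.tabs C.simples D.nroots wl = true) (hcell : cfg.cellOK C.tabs D.nroots wl = true)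

/-- The parametrisation of the twisted group by the cells. -/
noncomputable def twCellMap :
    (Σ i : Fin wl.length, (↥(D.posUnipotent K ⊓ Gtw hD C cfg φ) × ↥(D.diagonalSubgroup K ⊓ Gtw hD C cfg φ))
      × CellPar C cfg φ wl[i]) → ↥(Gtw hD C cfg φ) :=
  fun x => ⟨(x.2.1.1 : GL D.Idx K) * (nW hD C (cfg.wordOf wl[x.1]) * (x.2.1.2 : GL D.Idx K))
      * cellU hD C cfg φ wl[x.1] x.2.2.1,
    mul_mem (mul_mem x.2.1.1.2.2 (mul_mem
      (nW_wordOf_mem_Gtw hD C cfg φ hcfg _ (listOK_lt C cfg wl hlist _ (List.getElem_mem _))) x.2.1.2.2.2))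
      (cellU_mem hD C cfg φ hcfg hφm _ _ x.2.2.2)⟩

include hcell in
theorem twCellMap_injective : Function.Injective (twCellMap hD C cfg φ hcfg hφm wl hlist) := by
  have hlt := listOK_lt C cfg wl hlist
  rintro ⟨i, ⟨u₀, h⟩, a⟩ ⟨i', ⟨u₀', h'⟩, a'⟩ heq
  have h0 : (u₀ : GL D.Idx K) * (nW hD C (cfg.wordOf wl[i]) * (h : GL D.Idx K)) * cellU hD C cfg φ wl[i] a.1
      = (u₀' : GL D.Idx K) * (nW hD C (cfg.wordOf wl[i']) * (h' : GL D.Idx K)) * cellU hD C cfg φ wl[i'] a'.1 :=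
    congrArg Subtype.val heq
  have hwsi := wordOf_lt C cfg hcfg wl[i] (hlt _ (List.getElem_mem _))
  have hwsi' := wordOf_lt C cfg hcfg wl[i'] (hlt _ (List.getElem_mem _))
  obtain ⟨e1, e2, e3⟩ := bruhat_strong_unique hD C _ _ _ _ _ _ u₀.2.1 u₀'.2.1
    (mul_mem (nW_mem_monomial hD C _) (diagonal_le_monomial hD h.2.1))
    (mul_mem (nW_mem_monomial hD C _) (diagonal_le_monomial hD h'.2.1))
    (cellU_mem_closure hD C cfg φ hcfg wl hlt hcell _ (List.getElem_mem _) _ h.2.1 a.1)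
    (cellU_mem_closure hD C cfg φ hcfg wl hlt hcell _ (List.getElem_mem _) _ h'.2.1 a'.1) h0
  have hii : i = i' := wordPerm_wordOf_inj C cfg hcfg wl hlist i i'
    (wordPerm_eq_of_eq hD C _ _ hwsi hwsi' _ _ h.2.1 h'.2.1 e2)
  subst hii
  have e4 : (h : GL D.Idx K) = h' := mul_left_cancel e2
  have e5 : a.1 = a'.1 := cellU_injective hD C cfg φ hcfg _ _ _ e3
  have hu : u₀ = u₀' := Subtype.ext e1
  have hh : h = h' := Subtype.ext e4
  have ha : a = a' := Subtype.ext e5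
  rw [hu, hh, ha]

include hbn hcell in
theorem twCellMap_surjective {n : ℕ} (idx : Fin n → ℕ) (hsurj : ∀ k < cfg.classes.length, ∃ i, idx i = k)
    (hW : Nat.card ↥(twW C cfg idx) ≤ wl.length) :
    Function.Surjective (twCellMap hD C cfg φ hcfg hφm wl hlist) := by
  have hlt := listOK_lt C cfg wl hlist
  rintro ⟨g, hg⟩
  obtain ⟨u₀, hu₀, n, hn, u, hu, huG, e⟩ := exists_Gtw_form hD C cfg φ hcfg g hg
  obtain ⟨i, h', hh', en⟩ := exists_wl_of_mem_monomial_Gtw hD C cfg φ hcfg hbn idx hsurj wl hlist hW n hn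
  rw [en] at hu
  obtain ⟨a, ha, eu⟩ := exists_cellU hD C cfg φ hcfg hφm wl hlt hcell _ (List.getElem_mem _) h' hh'.1 u hu huG
  refine ⟨⟨i, (⟨u₀, hu₀⟩, ⟨h', hh'⟩), ⟨a, ha⟩⟩, ?_⟩
  apply Subtype.ext
  show u₀ * (nW hD C (cfg.wordOf wl[i]) * h') * cellU hD C cfg φ wl[i] a = g
  rw [e, en, eu]
  rfl

include hD hcfg in
/-- The number of parameters of a cell. -/
theorem card_cellPar (q : ℕ) (hq : 2 ≤ q) (hK : Fintype.card K = q ^ cfg.m) (hφ : ∀ t : K, φ t = t ^ q)
    (cw : List ℕ) : Nat.card (CellPar C cfg φ cw) = q ^ cfg.negExp C.tabs D.nroots cw := by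
  classical
  set reps := cfg.negReps C.tabs D.nroots cw with hreps
  have e1 : CellPar C cfg φ cw ≃ ((s : {s // s ∈ reps}) → {b : K // cfg.g.rho s.1 = s.1 → φ b = b}) :=
    Equiv.subtypePiEquivPi (β := fun _ : {s // s ∈ reps} => K)
      (p := fun (s : {s // s ∈ reps}) (b : K) => cfg.g.rho s.1 = s.1 → φ b = b)
  rw [Nat.card_congr e1, Nat.card_pi]
  have hone : ∀ s : {s // s ∈ reps},
      Nat.card {b : K // cfg.g.rho s.1 = s.1 → φ b = b} = q ^ (cfg.g.orb cfg.m s.1).length := by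
    intro s
    unfold GraphData.orb
    by_cases hfx : cfg.g.rho s.1 = s.1
    · rw [if_pos hfx, List.length_singleton, pow_one]
      have e2 : {b : K // cfg.g.rho s.1 = s.1 → φ b = b} ≃ {b : K // b ^ q = b} :=
        Equiv.subtypeEquivRight fun b => by
          rw [hφ b]
          exact ⟨fun h => h hfx, fun h _ => h⟩
      rw [Nat.card_congr e2]
      exact card_fixed_pow hq hK
    · rw [if_neg hfx, List.length_map, List.length_range]
      have e2 : {b : K // cfg.g.rho s.1 = s.1 → φ b = b} ≃ K :=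
        (Equiv.subtypeEquivRight fun b => ⟨fun _ => trivial, fun _ h => absurd h hfx⟩).trans
          (Equiv.subtypeUnivEquiv fun _ => trivial)
      rw [Nat.card_congr e2, Nat.card_eq_fintype_card, hK]
  rw [Finset.prod_congr rfl fun s _ => hone s, Finset.prod_pow_eq_pow_sum]
  congr 1
  unfold TwCfg.negExp GraphData.clsList
  rw [List.length_flatMap]
  have hnd : reps.Nodup := (reps_nodup hD C cfg hcfg).filter _
  rw [← Finset.sum_subtype reps.toFinset (fun x => List.mem_toFinset)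
    (fun s => (cfg.g.orb cfg.m s).length), List.sum_toFinset _ hnd]

include hcfg hlist hbn hcell in
/-- `|G¹| = q^N |H¹| ∑_w q^{N(w)}`. -/
theorem card_Gtw (q : ℕ) (hq : 2 ≤ q) (hK : Fintype.card K = q ^ cfg.m) (hφ : ∀ t : K, φ t = t ^ q)
    {n : ℕ} (idx : Fin n → ℕ) (hsurj : ∀ k < cfg.classes.length, ∃ i, idx i = k)
    (hW : Nat.card ↥(twW C cfg idx) ≤ wl.length) :
    Nat.card ↥(Gtw hD C cfg φ) = q ^ (D.nroots / 2) * Nat.card ↥(D.diagonalSubgroup K ⊓ Gtw hD C cfg φ)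
      * (wl.map fun cw => q ^ cfg.negExp C.tabs D.nroots cw).sum := by
  have hφm : ∀ a : K, φ^[cfg.m] a = a := fun a => by
    rw [frob_iterate φ q hφ, pow_card_pow_eq hK]
  rw [← Nat.card_congr (Equiv.ofBijective (twCellMap hD C cfg φ hcfg hφm wl hlist)
    ⟨twCellMap_injective hD C cfg φ hcfg hφm wl hlist hcell,
      twCellMap_surjective hD C cfg φ hcfg hbn hφm wl hlist hcell idx hsurj hW⟩), Nat.card_sigma]
  simp only [Nat.card_prod, card_cellPar hD C cfg φ hcfg q hq hK hφ,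
    card_posUnipotent_inf_Gtw hD C cfg φ hcfg q hq hK hφ]
  rw [← Finset.mul_sum]
  congr 1
  exact Fin.sum_univ_fun_getElem wl (fun cw => q ^ cfg.negExp C.tabs D.nroots cw)

end Fin

end Cfsg.Agent.Lib.Helper18
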