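/-
helper18: the group `W¹` generated by the permutations of the classes is not larger than the Coxeter group whose
relations they satisfy.
-/
import Cfsg.Agent.Lib.Helper18.Tw30

set_option autoImplicit false

namespace Cfsg.Agent.Lib.Helper18

open Cfsg.Lie Cfsg.Agent.Lib.Helper17

universe u

variable {D : ChevalleyDatum}

theorem card_twW_le (C : ChevData.{u} D) (cfg : TwCfg) {n : ℕ} (M : CoxeterMatrix (Fin n)) (idx : Fin n → ℕ)
    (hrel : ∀ i j : Fin n, (twGen C cfg idx i * twGen C cfg idx j) ^ M.M i j = 1)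
    (hne : Nat.card M.Group ≠ 0) : Nat.card ↥(twW C cfg idx) ≤ Nat.card M.Group := by
  classical
  let ψ : M.Group →* Equiv.Perm (Fin D.nroots) := M.toCoxeterSystem.lift ⟨twGen C cfg idx, hrel⟩
  have hψs : ∀ i, ψ (M.simple i) = twGen C cfg idx i := fun i => by
    rw [← CoxeterMatrix.toCoxeterSystem_simple]
    exact CoxeterSystem.lift_apply_simple _ _ _
  have hrange : ψ.range = twW C cfg idx := by
    unfold twW
    rw [MonoidHom.range_eq_map, ← M.toCoxeterSystem.subgroup_closure_range_simple, MonoidHom.map_closure]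
    congr 1
    ext w
    constructor
    · rintro ⟨_, ⟨i, rfl⟩, rfl⟩
      exact ⟨i, by rw [CoxeterMatrix.toCoxeterSystem_simple, hψs]⟩
    · rintro ⟨i, rfl⟩
      exact ⟨_, ⟨i, rfl⟩, by rw [CoxeterMatrix.toCoxeterSystem_simple, hψs]⟩
  have hfin : Finite M.Group := Nat.finite_of_card_ne_zero hne
  rw [← hrange]
  exact Nat.card_le_card_of_surjective _ ψ.rangeRestrict_surjective

end Cfsg.Agent.Lib.Helper18
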