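/-
helper18: the generators of the twisted group in explicit form.
-/
import Cfsg.Agent.Lib.Helper18.Tw8

set_option autoImplicit false

namespace Cfsg.Agent.Lib.Helper18

open Cfsg.Lie Cfsg.Agent.Lib.Helper17

universe u

variable {K : Type u} [Field K] {D : ChevalleyDatum}

section

variable (hD : D ∈ [chevG2, chevB2, chevD4, chevF4, chevE6, chevE7, chevE8]) (C : ChevData.{u} D)
  (g : GraphData) (φ : K ≃+* K) (m : ℕ) (hTw : g.twOK C.T m = true) (hm : m = 2 ∨ m = 3)
  (hφm : ∀ a : K, φ^[m] a = a)

include hTw hm in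
/-- Coefficient functions satisfying the twisting condition on a class are determined by the leading coefficient. -/
theorem orb_ext (s : ℕ) (hs : s < D.nroots) (t t' : ℕ → K)
    (ht : ∀ r ∈ g.orb m s, t r = twT g φ m t r) (ht' : ∀ r ∈ g.orb m s, t' r = twT g φ m t' r)
    (h : t s = t' s) : ∀ r ∈ g.orb m s, t r = t' r := by
  have hm0 : 0 < m := by rcases hm with h | h <;> omega
  intro r hr
  obtain ⟨j, rfl⟩ := (mem_orb_iff C g m hTw hm s hs r).mp hr
  clear hr
  induction j with
  | zero => exact h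
  | succ j ih =>
    have hmem : g.rho^[j + 1] s ∈ g.orb m s := (mem_orb_iff C g m hTw hm s hs _).mpr ⟨_, rfl⟩
    rw [ht _ hmem, ht' _ hmem]
    unfold twT
    rw [Function.iterate_succ_apply', rho_pred_succ C g m hTw _ (rho_iterate_lt C g m hTw s hs j) hm0, ih]

include hTw hm hφm in
/-- The fixed elements over a class are the ordered products with coefficients `orbVal`. -/
theorem exists_orbVal (s : ℕ) (hs : s < D.nroots) (c : ℕ → K) (hc : ∀ r ∈ g.orb m s, c r = twT g φ m c r) :
    (g.rho s = s → φ (c s) = c s) ∧ prodL hD (g.orb m s) c = prodL hD (g.orb m s) (orbVal g φ s (c s)) := by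
  have hcl : g.rho s = s → φ (c s) = c s := by
    intro hfx
    have h1 := hc s (self_mem_orb C g m hTw hm s hs)
    unfold twT at h1
    rw [Function.iterate_fixed hfx, (g.twOK_spec C.T m hTw s (C.nroots_eq ▸ hs)).2.2.2.2.2.2.1 hfx] at h1
    simpa using h1.symm
  refine ⟨hcl, ?_⟩
  apply prodL_congr
  apply orb_ext C g φ m hTw hm s hs _ _ hc (orbVal_tw C g φ m hTw hm hφm s hs (c s) hcl)
  unfold orbVal
  rw [if_pos rfl]

theorem prodL_orbVal_fixed (s : ℕ) (hfx : g.rho s = s) (a : K) :
    prodL hD (g.orb m s) (orbVal g φ s a) = xG hD s a := by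
  unfold GraphData.orb
  rw [if_pos hfx, prodL_cons, prodL_nil, mul_one]
  unfold orbVal
  rw [if_pos rfl]

theorem prodL_orbVal_two (s : ℕ) (hne : g.rho s ≠ s) (h1 : g.gam s = 1) (a : K) :
    prodL hD (g.orb 2 s) (orbVal g φ s a) = xG hD s a * xG hD (g.rho s) (φ a) := by
  unfold GraphData.orb
  rw [if_neg hne]
  simp only [List.range_succ, List.range_zero, List.nil_append, List.cons_append, List.map_cons,
    List.map_nil, Function.iterate_zero, id_eq, Function.iterate_succ, Function.comp_apply,
    prodL_cons, prodL_nil, mul_one]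
  unfold orbVal
  rw [if_pos rfl, if_neg hne, if_pos rfl, h1]
  simp

theorem prodL_orbVal_three (s : ℕ) (hne : g.rho s ≠ s) (hne2 : g.rho (g.rho s) ≠ s)
    (hne3 : g.rho (g.rho s) ≠ g.rho s) (h1 : g.gam s = 1) (h2 : g.gam (g.rho s) = 1) (a : K) :
    prodL hD (g.orb 3 s) (orbVal g φ s a)
      = xG hD s a * (xG hD (g.rho s) (φ a) * xG hD (g.rho (g.rho s)) (φ (φ a))) := by
  unfold GraphData.orb
  rw [if_neg hne]
  simp only [List.range_succ, List.range_zero, List.nil_append, List.cons_append, List.map_cons,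
    List.map_nil, Function.iterate_zero, id_eq, Function.iterate_succ, Function.comp_apply,
    prodL_cons, prodL_nil, mul_one]
  unfold orbVal
  rw [if_pos rfl, if_neg hne, if_pos rfl, if_neg hne2, if_neg hne3, h1, h2]
  simp

end

end Cfsg.Agent.Lib.Helper18
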