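/-
helper18: the configuration of the twisted group of type D4 (graph datum D4_2130, order 3) and its checks.
-/
import Cfsg.Agent.Lib.Helper18.Tw4

set_option autoImplicit false

namespace Cfsg.Agent.Lib.Helper18

open Cfsg.Lie

/-- The configuration of the twisted group inside type D4. -/
def twCfg_D4 : TwCfg where
  g := graphData_D4_2130
  m := 3
  classes := [[1], [0, 2, 3]]
  pgens := [14, 18]
  reps := [14, 18, 22, 19, 23, 17]
  certs := [(14, []), (18, []), (14, [1]), (18, [0]), (14, [0, 1]), (18, [1, 0])]

set_option maxRecDepth 1000000 in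
theorem twCfg_D4_ok : twCfg_D4.ok fastD4 wTabs_D4 simples_D4 = true := by decide +kernel

end Cfsg.Agent.Lib.Helper18
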