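/-
helper18: the twisted group `³D₄` of the definitions is the twisted group of the configuration `twCfg_D4`.
-/
import Cfsg.Agent.Lib.Helper18.Tw9
import Cfsg.Agent.Lib.Helper18.TwCfgD4
import Cfsg.Prelude.Def_LieTwisted

set_option autoImplicit false

namespace Cfsg.Agent.Lib.Helper18

open Cfsg.Lie Cfsg.Agent.Lib.Helper17

universe u

theorem hD4 : chevD4 ∈ [chevG2, chevB2, chevD4, chevF4, chevE6, chevE7, chevE8] := by simp

theorem twCfg_D4_ok' : twCfg_D4.ok chevData_D4.T chevData_D4.tabs chevData_D4.simples = true := twCfg_D4_ok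

section

variable {K : Type u} [Field K] [Fintype K] (q : ℕ) (φ : K ≃+* K) (hφ : ∀ t : K, φ t = t ^ q)
  (hK : Fintype.card K = q ^ 3)

include hφ hK in
theorem twistedD4_eq : twistedD4 K q = Gtw hD4 chevData_D4.{u} twCfg_D4 φ := by
  have hTw : twCfg_D4.g.twOK chevData_D4.{u}.T 3 = true := cfg_twOK chevData_D4 twCfg_D4 twCfg_D4_ok'
  have hm : (3 : ℕ) = 2 ∨ (3 : ℕ) = 3 := Or.inr rfl
  have hφm : ∀ a : K, φ^[3] a = a := fun a => by rw [frob_iterate φ q hφ, pow_card_pow_eq hK]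
  have hφ2 : ∀ a : K, φ (φ a) = a ^ (q ^ 2) := fun a => by rw [hφ, hφ, ← pow_mul, sq]
  have r14 : twCfg_D4.g.rho 14 = 14 := by decide
  have r9 : twCfg_D4.g.rho 9 = 9 := by decide
  have r18 : twCfg_D4.g.rho 18 = 13 := by decide
  have r13 : twCfg_D4.g.rho 13 = 12 := by decide
  have r5 : twCfg_D4.g.rho 5 = 10 := by decide
  have r10 : twCfg_D4.g.rho 10 = 11 := by decide
  have g18 : twCfg_D4.g.gam 18 = 1 := by decide
  have g13 : twCfg_D4.g.gam 13 = 1 := by decide
  have g5 : twCfg_D4.g.gam 5 = 1 := by decide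
  have g10 : twCfg_D4.g.gam 10 = 1 := by decide
  have hgen : twCfg_D4.genRoots chevData_D4.{u}.T = [14, 18, 9, 5] := by decide
  have e18 : ∀ a : K, prodL hD4 (twCfg_D4.g.orb 3 18) (orbVal twCfg_D4.g φ 18 a)
      = xG hD4 18 a * (xG hD4 13 (a ^ q) * xG hD4 12 (a ^ (q ^ 2))) := by
    intro a
    rw [prodL_orbVal_three hD4 twCfg_D4.g φ 18 (by rw [r18]; decide) (by rw [r18, r13]; decide)
      (by rw [r18, r13]; decide) g18 (by rw [r18]; exact g13), r18, r13, hφ2, hφ]
  have e5 : ∀ a : K, prodL hD4 (twCfg_D4.g.orb 3 5) (orbVal twCfg_D4.g φ 5 a)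
      = xG hD4 5 a * (xG hD4 10 (a ^ q) * xG hD4 11 (a ^ (q ^ 2))) := by
    intro a
    rw [prodL_orbVal_three hD4 twCfg_D4.g φ 5 (by rw [r5]; decide) (by rw [r5, r10]; decide)
      (by rw [r5, r10]; decide) g5 (by rw [r5]; exact g10), r5, r10, hφ2, hφ]
  have hw1 : ∀ (r : ℕ) (t : K), chevD4.wordMat K [(r, t)] = chevD4.x K r t := by
    intro r t
    simp [ChevalleyDatum.wordMat]
  have hw3 : ∀ (r₁ r₂ r₃ : ℕ) (t₁ t₂ t₃ : K), chevD4.wordMat K [(r₁, t₁), (r₂, t₂), (r₃, t₃)]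
      = chevD4.x K r₁ t₁ * (chevD4.x K r₂ t₂ * chevD4.x K r₃ t₃) := by
    intro r₁ r₂ r₃ t₁ t₂ t₃
    simp [ChevalleyDatum.wordMat]
  unfold twistedD4 ChevalleyDatum.genSubgroup Gtw
  apply le_antisymm
  · rw [Subgroup.closure_le]
    rintro x ⟨w, hw, hx⟩
    apply Subgroup.subset_closure
    rcases hw with ⟨t, ht, r, hr, rfl⟩ | ⟨t, rs, hrs, rfl⟩
    · have hx' : x = xG hD4 r t := by
        apply Units.ext
        rw [hx, hw1, coe_xG]
      have hrfix : twCfg_D4.g.rho r = r := by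
        simp only [d4p2, d4m2, List.mem_cons, List.not_mem_nil, or_false] at hr
        rcases hr with rfl | rfl
        · exact r14
        · exact r9
      have hrlt : r < chevD4.nroots := by
        simp only [d4p2, d4m2, List.mem_cons, List.not_mem_nil, or_false] at hr
        rcases hr with rfl | rfl <;> decide
      refine ⟨r, ?_, orbVal twCfg_D4.g φ r t, ?_, ?_⟩
      · rw [hgen]
        simp only [d4p2, d4m2, List.mem_cons, List.not_mem_nil, or_false] at hr
        rcases hr with rfl | rfl <;> simp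
      · exact orbVal_tw chevData_D4 twCfg_D4.g φ 3 hTw hm hφm r hrlt t (fun _ => by rw [hφ, ht])
      · rw [hx']
        exact (prodL_orbVal_fixed hD4 twCfg_D4.g φ 3 r hrfix t).symm
    · simp only [d4p1, d4p3, d4p4, d4m1, d4m3, d4m4, List.mem_cons, List.not_mem_nil, or_false] at hrs
      rcases hrs with rfl | rfl
      · refine ⟨18, by rw [hgen]; simp, orbVal twCfg_D4.g φ 18 t, ?_, ?_⟩
        · exact orbVal_tw chevData_D4 twCfg_D4.g φ 3 hTw hm hφm 18 (by decide) t
            (fun h => absurd h (by rw [r18]; decide))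
        · show x = prodL hD4 (twCfg_D4.g.orb 3 18) (orbVal twCfg_D4.g φ 18 t)
          rw [e18]
          apply Units.ext
          rw [hx, hw3]
          rfl
      · refine ⟨5, by rw [hgen]; simp, orbVal twCfg_D4.g φ 5 t, ?_, ?_⟩
        · exact orbVal_tw chevData_D4 twCfg_D4.g φ 3 hTw hm hφm 5 (by decide) t
            (fun h => absurd h (by rw [r5]; decide))
        · show x = prodL hD4 (twCfg_D4.g.orb 3 5) (orbVal twCfg_D4.g φ 5 t)
          rw [e5]
          apply Units.ext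
          rw [hx, hw3]
          rfl
  · rw [Subgroup.closure_le]
    rintro x ⟨s, hs, c, hc, rfl⟩
    apply Subgroup.subset_closure
    rw [hgen] at hs
    have hslt : s < chevD4.nroots := by
      simp only [List.mem_cons, List.not_mem_nil, or_false] at hs
      rcases hs with rfl | rfl | rfl | rfl <;> decide
    obtain ⟨hcl, hx⟩ := exists_orbVal hD4 chevData_D4 twCfg_D4.g φ 3 hTw hm hφm s hslt c hc
    show prodL hD4 (twCfg_D4.g.orb 3 s) c ∈ _
    rw [hx]
    simp only [List.mem_cons, List.not_mem_nil, or_false] at hs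
    rcases hs with rfl | rfl | rfl | rfl
    · rw [prodL_orbVal_fixed hD4 twCfg_D4.g φ 3 14 r14]
      refine ⟨[(14, c 14)], Or.inl ⟨c 14, by rw [← hφ]; exact hcl r14, 14, by simp [d4p2], rfl⟩, ?_⟩
      rw [hw1, coe_xG]
    · rw [e18]
      refine ⟨_, Or.inr ⟨c 18, (d4p1, d4p3, d4p4), by simp, rfl⟩, ?_⟩
      rw [hw3]
      rfl
    · rw [prodL_orbVal_fixed hD4 twCfg_D4.g φ 3 9 r9]
      refine ⟨[(9, c 9)], Or.inl ⟨c 9, by rw [← hφ]; exact hcl r9, 9, by simp [d4m2], rfl⟩, ?_⟩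
      rw [hw1, coe_xG]
    · rw [e5]
      refine ⟨_, Or.inr ⟨c 5, (d4m1, d4m3, d4m4), by simp, rfl⟩, ?_⟩
      rw [hw3]
      rfl

end

end Cfsg.Agent.Lib.Helper18
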