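/-
helper18: the table checks for the (B,N)-pair of the twisted group of type D4.
-/
import Cfsg.Agent.Lib.Helper18.Tw14
import Cfsg.Agent.Lib.Helper18.TwD4

set_option autoImplicit false

namespace Cfsg.Agent.Lib.Helper18

open Cfsg.Lie

set_option maxRecDepth 1000000 in
theorem twCfg_D4_bnOK : twCfg_D4.bnOK fastD4 wTabs_D4 simples_D4 = true := by decide +kernel

theorem twCfg_D4_bnOK' : twCfg_D4.bnOK chevData_D4.T chevData_D4.tabs chevData_D4.simples = true := twCfg_D4_bnOK

end Cfsg.Agent.Lib.Helper18
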