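/-
helper18: the configuration of the twisted group of type E6 (graph datum E6_514320, order 2) and its checks.
-/
import Cfsg.Agent.Lib.Helper18.Tw4

set_option autoImplicit false

namespace Cfsg.Agent.Lib.Helper18

open Cfsg.Lie

/-- The configuration of the twisted group inside type E6. -/
def twCfg_E6 : TwCfg where
  g := graphData_E6_514320
  m := 2
  classes := [[1], [3], [0, 5], [2, 4]]
  pgens := [46, 39, 56, 42]
  reps := [46, 39, 56, 42, 47, 44, 57, 43, 51, 60, 58, 50, 53, 63, 61, 59, 65, 62, 69, 64, 70, 67, 71, 68]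
  certs := [(46, []), (39, []), (56, []), (42, []), (46, [1]), (39, [3]), (56, [3]), (42, [1]), (46, [3, 1]), (39, [2, 3]), (56, [1, 3]), (42, [0, 1]), (46, [1, 3, 1]), (46, [2, 3, 1]), (56, [0, 1, 3]), (56, [3, 1, 3]), (46, [2, 1, 3, 1]), (56, [3, 0, 1, 3]), (46, [3, 2, 1, 3, 1]), (56, [1, 3, 0, 1, 3]), (46, [1, 3, 2, 1, 3, 1]), (56, [3, 1, 3, 0, 1, 3]), (46, [0, 1, 3, 2, 1, 3, 1]), (56, [2, 3, 1, 3, 0, 1, 3])]

set_option maxRecDepth 1000000 in
theorem twCfg_E6_ok : twCfg_E6.ok fastE6 wTabs_E6 simples_E6 = true := by decide +kernel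

end Cfsg.Agent.Lib.Helper18
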