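/-
helper18: the twisted group `²E₆` of the definitions is the twisted group of the configuration `twCfg_E6`.
-/
import Cfsg.Agent.Lib.Helper18.Tw9
import Cfsg.Agent.Lib.Helper18.TwCfgE6
import Cfsg.Prelude.Def_LieTwisted

set_option autoImplicit false

namespace Cfsg.Agent.Lib.Helper18

open Cfsg.Lie Cfsg.Agent.Lib.Helper17

universe u

theorem hE6 : chevE6 ∈ [chevG2, chevB2, chevD4, chevF4, chevE6, chevE7, chevE8] := by simp

theorem twCfg_E6_ok' : twCfg_E6.ok chevData_E6.T chevData_E6.tabs chevData_E6.simples = true := twCfg_E6_ok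

section

variable {K : Type u} [Field K] [Fintype K] (q : ℕ) (φ : K ≃+* K) (hφ : ∀ t : K, φ t = t ^ q)
  (hK : Fintype.card K = q ^ 2)

include hφ hK in
theorem twistedE6_eq : twistedE6 K q = Gtw hE6 chevData_E6.{u} twCfg_E6 φ := by
  have hTw : twCfg_E6.g.twOK chevData_E6.{u}.T 2 = true := cfg_twOK chevData_E6 twCfg_E6 twCfg_E6_ok'
  have hm : (2 : ℕ) = 2 ∨ (2 : ℕ) = 3 := Or.inl rfl
  have hφm : ∀ a : K, φ^[2] a = a := fun a => by rw [frob_iterate φ q hφ, pow_card_pow_eq hK]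
  have r46 : twCfg_E6.g.rho 46 = 46 := by decide
  have r39 : twCfg_E6.g.rho 39 = 39 := by decide
  have r25 : twCfg_E6.g.rho 25 = 25 := by decide
  have r32 : twCfg_E6.g.rho 32 = 32 := by decide
  have r56 : twCfg_E6.g.rho 56 = 36 := by decide
  have r42 : twCfg_E6.g.rho 42 = 37 := by decide
  have r15 : twCfg_E6.g.rho 15 = 35 := by decide
  have r29 : twCfg_E6.g.rho 29 = 34 := by decide
  have g56 : twCfg_E6.g.gam 56 = 1 := by decide
  have g42 : twCfg_E6.g.gam 42 = 1 := by decide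
  have g15 : twCfg_E6.g.gam 15 = 1 := by decide
  have g29 : twCfg_E6.g.gam 29 = 1 := by decide
  have hgen : twCfg_E6.genRoots chevData_E6.{u}.T = [46, 39, 56, 42, 25, 32, 15, 29] := by decide
  have e56 : ∀ a : K, prodL hE6 (twCfg_E6.g.orb 2 56) (orbVal twCfg_E6.g φ 56 a)
      = xG hE6 56 a * xG hE6 36 (a ^ q) := by
    intro a
    rw [prodL_orbVal_two hE6 twCfg_E6.g φ 56 (by rw [r56]; decide) g56, r56, hφ]
  have e42 : ∀ a : K, prodL hE6 (twCfg_E6.g.orb 2 42) (orbVal twCfg_E6.g φ 42 a)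
      = xG hE6 42 a * xG hE6 37 (a ^ q) := by
    intro a
    rw [prodL_orbVal_two hE6 twCfg_E6.g φ 42 (by rw [r42]; decide) g42, r42, hφ]
  have e15 : ∀ a : K, prodL hE6 (twCfg_E6.g.orb 2 15) (orbVal twCfg_E6.g φ 15 a)
      = xG hE6 15 a * xG hE6 35 (a ^ q) := by
    intro a
    rw [prodL_orbVal_two hE6 twCfg_E6.g φ 15 (by rw [r15]; decide) g15, r15, hφ]
  have e29 : ∀ a : K, prodL hE6 (twCfg_E6.g.orb 2 29) (orbVal twCfg_E6.g φ 29 a)
      = xG hE6 29 a * xG hE6 34 (a ^ q) := by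
    intro a
    rw [prodL_orbVal_two hE6 twCfg_E6.g φ 29 (by rw [r29]; decide) g29, r29, hφ]
  have hw1 : ∀ (r : ℕ) (t : K), chevE6.wordMat K [(r, t)] = chevE6.x K r t := by
    intro r t
    simp [ChevalleyDatum.wordMat]
  have hw2 : ∀ (r₁ r₂ : ℕ) (t₁ t₂ : K), chevE6.wordMat K [(r₁, t₁), (r₂, t₂)]
      = chevE6.x K r₁ t₁ * chevE6.x K r₂ t₂ := by
    intro r₁ r₂ t₁ t₂
    simp [ChevalleyDatum.wordMat]
  unfold twistedE6 ChevalleyDatum.genSubgroup Gtw
  apply le_antisymm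
  · rw [Subgroup.closure_le]
    rintro x ⟨w, hw, hx⟩
    apply Subgroup.subset_closure
    rcases hw with ⟨t, ht, r, hr, rfl⟩ | ⟨t, rs, hrs, rfl⟩
    · have hx' : x = xG hE6 r t := by
        apply Units.ext
        rw [hx, hw1, coe_xG]
      simp only [e6p2, e6m2, e6p4, e6m4, List.mem_cons, List.not_mem_nil, or_false] at hr
      have hrfix : twCfg_E6.g.rho r = r := by
        rcases hr with rfl | rfl | rfl | rfl
        · exact r46
        · exact r25
        · exact r39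
        · exact r32
      have hrlt : r < chevE6.nroots := by
        rcases hr with rfl | rfl | rfl | rfl <;> decide
      refine ⟨r, ?_, orbVal twCfg_E6.g φ r t, ?_, ?_⟩
      · rw [hgen]
        rcases hr with rfl | rfl | rfl | rfl <;> simp
      · exact orbVal_tw chevData_E6 twCfg_E6.g φ 2 hTw hm hφm r hrlt t (fun _ => by rw [hφ, ht])
      · rw [hx']
        exact (prodL_orbVal_fixed hE6 twCfg_E6.g φ 2 r hrfix t).symm
    · simp only [e6p1, e6p6, e6m1, e6m6, e6p3, e6p5, e6m3, e6m5, List.mem_cons, List.not_mem_nil,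
        or_false] at hrs
      rcases hrs with rfl | rfl | rfl | rfl
      · refine ⟨56, by rw [hgen]; simp, orbVal twCfg_E6.g φ 56 t, ?_, ?_⟩
        · exact orbVal_tw chevData_E6 twCfg_E6.g φ 2 hTw hm hφm 56 (by decide) t
            (fun h => absurd h (by rw [r56]; decide))
        · show x = prodL hE6 (twCfg_E6.g.orb 2 56) (orbVal twCfg_E6.g φ 56 t)
          rw [e56]
          apply Units.ext
          rw [hx, hw2]
          rfl
      · refine ⟨15, by rw [hgen]; simp, orbVal twCfg_E6.g φ 15 t, ?_, ?_⟩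
        · exact orbVal_tw chevData_E6 twCfg_E6.g φ 2 hTw hm hφm 15 (by decide) t
            (fun h => absurd h (by rw [r15]; decide))
        · show x = prodL hE6 (twCfg_E6.g.orb 2 15) (orbVal twCfg_E6.g φ 15 t)
          rw [e15]
          apply Units.ext
          rw [hx, hw2]
          rfl
      · refine ⟨42, by rw [hgen]; simp, orbVal twCfg_E6.g φ 42 t, ?_, ?_⟩
        · exact orbVal_tw chevData_E6 twCfg_E6.g φ 2 hTw hm hφm 42 (by decide) t
            (fun h => absurd h (by rw [r42]; decide))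
        · show x = prodL hE6 (twCfg_E6.g.orb 2 42) (orbVal twCfg_E6.g φ 42 t)
          rw [e42]
          apply Units.ext
          rw [hx, hw2]
          rfl
      · refine ⟨29, by rw [hgen]; simp, orbVal twCfg_E6.g φ 29 t, ?_, ?_⟩
        · exact orbVal_tw chevData_E6 twCfg_E6.g φ 2 hTw hm hφm 29 (by decide) t
            (fun h => absurd h (by rw [r29]; decide))
        · show x = prodL hE6 (twCfg_E6.g.orb 2 29) (orbVal twCfg_E6.g φ 29 t)
          rw [e29]
          apply Units.ext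
          rw [hx, hw2]
          rfl
  · rw [Subgroup.closure_le]
    rintro x ⟨s, hs, c, hc, rfl⟩
    apply Subgroup.subset_closure
    rw [hgen] at hs
    simp only [List.mem_cons, List.not_mem_nil, or_false] at hs
    have hslt : s < chevE6.nroots := by
      rcases hs with rfl | rfl | rfl | rfl | rfl | rfl | rfl | rfl <;> decide
    obtain ⟨hcl, hx⟩ := exists_orbVal hE6 chevData_E6 twCfg_E6.g φ 2 hTw hm hφm s hslt c hc
    show prodL hE6 (twCfg_E6.g.orb 2 s) c ∈ _
    rw [hx]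
    rcases hs with rfl | rfl | rfl | rfl | rfl | rfl | rfl | rfl
    · rw [prodL_orbVal_fixed hE6 twCfg_E6.g φ 2 46 r46]
      refine ⟨[(46, c 46)], Or.inl ⟨c 46, by rw [← hφ]; exact hcl r46, 46, by simp [e6p2], rfl⟩, ?_⟩
      rw [hw1, coe_xG]
    · rw [prodL_orbVal_fixed hE6 twCfg_E6.g φ 2 39 r39]
      refine ⟨[(39, c 39)], Or.inl ⟨c 39, by rw [← hφ]; exact hcl r39, 39, by simp [e6p4], rfl⟩, ?_⟩
      rw [hw1, coe_xG]
    · rw [e56]
      refine ⟨_, Or.inr ⟨c 56, (e6p1, e6p6), by simp, rfl⟩, ?_⟩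
      rw [hw2]
      rfl
    · rw [e42]
      refine ⟨_, Or.inr ⟨c 42, (e6p3, e6p5), by simp, rfl⟩, ?_⟩
      rw [hw2]
      rfl
    · rw [prodL_orbVal_fixed hE6 twCfg_E6.g φ 2 25 r25]
      refine ⟨[(25, c 25)], Or.inl ⟨c 25, by rw [← hφ]; exact hcl r25, 25, by simp [e6m2], rfl⟩, ?_⟩
      rw [hw1, coe_xG]
    · rw [prodL_orbVal_fixed hE6 twCfg_E6.g φ 2 32 r32]
      refine ⟨[(32, c 32)], Or.inl ⟨c 32, by rw [← hφ]; exact hcl r32, 32, by simp [e6m4], rfl⟩, ?_⟩
      rw [hw1, coe_xG]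
    · rw [e15]
      refine ⟨_, Or.inr ⟨c 15, (e6m1, e6m6), by simp, rfl⟩, ?_⟩
      rw [hw2]
      rfl
    · rw [e29]
      refine ⟨_, Or.inr ⟨c 29, (e6m3, e6m5), by simp, rfl⟩, ?_⟩
      rw [hw2]
      rfl

end

end Cfsg.Agent.Lib.Helper18
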