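/-
helper18: the table checks for the (B,N)-pair of the twisted group of type E6.
-/
import Cfsg.Agent.Lib.Helper18.Tw14
import Cfsg.Agent.Lib.Helper18.TwE6

set_option autoImplicit false

namespace Cfsg.Agent.Lib.Helper18

open Cfsg.Lie

set_option maxRecDepth 1000000 in
theorem twCfg_E6_bnOK : twCfg_E6.bnOK fastE6 wTabs_E6 simples_E6 = true := by decide +kernel

theorem twCfg_E6_bnOK' : twCfg_E6.bnOK chevData_E6.T chevData_E6.tabs chevData_E6.simples = true := twCfg_E6_bnOK

end Cfsg.Agent.Lib.Helper18
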