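/-
helper18: 12 words in the classes of the twisted group of type D4 with distinct permutations of the roots.
-/
import Cfsg.Agent.Lib.Helper18.Tw25

set_option autoImplicit false

namespace Cfsg.Agent.Lib.Helper18

/-- The words, ordered by their keys. -/
def twCoxList_D4 : List (List ℕ) := [
  [0, 1, 0, 1],
  [1, 0, 1],
  [1, 0, 1, 0, 1],
  [0, 1],
  [1, 0, 1, 0, 1, 0],
  [1],
  [0, 1, 0, 1, 0],
  [],
  [1, 0, 1, 0],
  [0],
  [0, 1, 0],
  [1, 0]]

end Cfsg.Agent.Lib.Helper18
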