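/-
helper18: 1152 words in the classes of the twisted group of type E6 with distinct permutations of the roots.
-/
import Cfsg.Agent.Lib.Helper18.Tw25

set_option autoImplicit false

namespace Cfsg.Agent.Lib.Helper18

/-- The words, ordered by their keys. -/
def twCoxList_E6 : List (List ℕ) := [
  [3, 1, 3, 2, 0, 1, 3, 2, 1, 3, 0, 1, 3, 2],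
  [2, 0, 1, 3, 2, 1, 3, 0, 1, 3, 2],
  [3, 1, 3, 2, 0, 1, 3, 2, 1, 3, 0, 1, 3, 2, 0],
  [2, 1, 3, 2, 1, 3, 0, 1, 3, 2],
  [2, 0, 1, 3, 2, 1, 3, 0, 1, 3, 2, 0],
  [2, 1, 3, 2, 1, 3, 0, 1, 3, 2, 0],
  [3, 1, 3, 2, 0, 1, 3, 2, 1, 3, 0, 1, 3, 2, 1],
  [2, 0, 1, 3, 2, 1, 3, 0, 1, 3, 2, 1],
  [3, 1, 3, 2, 0, 1, 3, 2, 1, 3, 0, 1, 3, 2, 1, 0],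
  [2, 3, 2, 1, 3, 0, 1, 3, 2],
  [2, 0, 1, 3, 2, 1, 3, 0, 1, 3, 2, 1, 0],
  [2, 3, 2, 1, 3, 0, 1, 3, 2, 0],
  [3, 1, 3, 2, 0, 1, 3, 2, 1, 3, 0, 1, 3, 2, 0, 1],
  [2, 1, 3, 2, 1, 3, 0, 1, 3, 2, 1],
  [3, 1, 3, 2, 0, 1, 3, 2, 1, 3, 0, 1, 3, 2, 0, 1, 0],
  [2, 3, 2, 1, 3, 0, 1, 3, 2, 1],
  [2, 1, 3, 2, 1, 3, 0, 1, 3, 2, 1, 0],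
  [2, 3, 2, 1, 3, 0, 1, 3, 2, 1, 0],
  [2, 0, 1, 3, 2, 1, 3, 0, 1, 3, 2, 0, 1],
  [2, 1, 3, 2, 1, 3, 0, 1, 3, 2, 0, 1],
  [2, 0, 1, 3, 2, 1, 3, 0, 1, 3, 2, 0, 1, 0],
  [2, 3, 2, 1, 3, 0, 1, 3, 2, 0, 1],
  [2, 1, 3, 2, 1, 3, 0, 1, 3, 2, 0, 1, 0],
  [2, 3, 2, 1, 3, 0, 1, 3, 2, 0, 1, 0],
  [2, 3, 1, 3, 2, 0, 1, 3, 2, 1, 3, 0, 1, 3, 2],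
  [0, 1, 3, 2, 1, 3, 0, 1, 3, 2],
  [2, 3, 1, 3, 2, 0, 1, 3, 2, 1, 3, 0, 1, 3, 2, 0],
  [1, 3, 2, 1, 3, 0, 1, 3, 2],
  [0, 1, 3, 2, 1, 3, 0, 1, 3, 2, 0],
  [1, 3, 2, 1, 3, 0, 1, 3, 2, 0],
  [2, 3, 1, 3, 2, 0, 1, 3, 2, 1, 3, 0, 1, 3, 2, 1],
  [0, 1, 3, 2, 1, 3, 0, 1, 3, 2, 1],
  [2, 3, 1, 3, 2, 0, 1, 3, 2, 1, 3, 0, 1, 3, 2, 1, 0],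
  [3, 2, 1, 3, 0, 1, 3, 2],
  [0, 1, 3, 2, 1, 3, 0, 1, 3, 2, 1, 0],
  [3, 2, 1, 3, 0, 1, 3, 2, 0],
  [2, 3, 1, 3, 2, 0, 1, 3, 2, 1, 3, 0, 1, 3, 2, 0, 1],
  [1, 3, 2, 1, 3, 0, 1, 3, 2, 1],
  [2, 3, 1, 3, 2, 0, 1, 3, 2, 1, 3, 0, 1, 3, 2, 0, 1, 0],
  [3, 2, 1, 3, 0, 1, 3, 2, 1],
  [1, 3, 2, 1, 3, 0, 1, 3, 2, 1, 0],
  [3, 2, 1, 3, 0, 1, 3, 2, 1, 0],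
  [0, 1, 3, 2, 1, 3, 0, 1, 3, 2, 0, 1],
  [1, 3, 2, 1, 3, 0, 1, 3, 2, 0, 1],
  [0, 1, 3, 2, 1, 3, 0, 1, 3, 2, 0, 1, 0],
  [3, 2, 1, 3, 0, 1, 3, 2, 0, 1],
  [1, 3, 2, 1, 3, 0, 1, 3, 2, 0, 1, 0],
  [3, 2, 1, 3, 0, 1, 3, 2, 0, 1, 0],
  [1, 3, 2, 0, 1, 3, 2, 1, 3, 0, 1, 3, 2],
  [3, 2, 0, 1, 3, 2, 1, 3, 0, 1, 3, 2],
  [1, 3, 2, 0, 1, 3, 2, 1, 3, 0, 1, 3, 2, 0],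
  [3, 2, 1, 3, 2, 1, 3, 0, 1, 3, 2],
  [3, 2, 0, 1, 3, 2, 1, 3, 0, 1, 3, 2, 0],
  [3, 2, 1, 3, 2, 1, 3, 0, 1, 3, 2, 0],
  [1, 3, 2, 0, 1, 3, 2, 1, 3, 0, 1, 3, 2, 1],
  [3, 2, 0, 1, 3, 2, 1, 3, 0, 1, 3, 2, 1],
  [1, 3, 2, 0, 1, 3, 2, 1, 3, 0, 1, 3, 2, 1, 0],
  [2, 3, 1, 3, 0, 1, 3, 2],
  [3, 2, 0, 1, 3, 2, 1, 3, 0, 1, 3, 2, 1, 0],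
  [2, 3, 1, 3, 0, 1, 3, 2, 0],
  [1, 3, 2, 0, 1, 3, 2, 1, 3, 0, 1, 3, 2, 0, 1],
  [3, 2, 1, 3, 2, 1, 3, 0, 1, 3, 2, 1],
  [1, 3, 2, 0, 1, 3, 2, 1, 3, 0, 1, 3, 2, 0, 1, 0],
  [2, 3, 1, 3, 0, 1, 3, 2, 1],
  [3, 2, 1, 3, 2, 1, 3, 0, 1, 3, 2, 1, 0],
  [2, 3, 1, 3, 0, 1, 3, 2, 1, 0],
  [3, 2, 0, 1, 3, 2, 1, 3, 0, 1, 3, 2, 0, 1],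
  [3, 2, 1, 3, 2, 1, 3, 0, 1, 3, 2, 0, 1],
  [3, 2, 0, 1, 3, 2, 1, 3, 0, 1, 3, 2, 0, 1, 0],
  [2, 3, 1, 3, 0, 1, 3, 2, 0, 1],
  [3, 2, 1, 3, 2, 1, 3, 0, 1, 3, 2, 0, 1, 0],
  [2, 3, 1, 3, 0, 1, 3, 2, 0, 1, 0],
  [2, 3, 1, 3, 2, 0, 1, 3, 2, 1, 3, 2, 0, 1, 3, 2],
  [0, 1, 3, 2, 1, 3, 2, 0, 1, 3, 2],
  [2, 3, 1, 3, 2, 0, 1, 3, 2, 1, 3, 2, 0, 1, 3, 2, 0],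
  [1, 3, 2, 1, 3, 2, 0, 1, 3, 2],
  [0, 1, 3, 2, 1, 3, 2, 0, 1, 3, 2, 0],
  [1, 3, 2, 1, 3, 2, 0, 1, 3, 2, 0],
  [2, 3, 1, 3, 2, 0, 1, 3, 2, 1, 3, 2, 0, 1, 3, 2, 1],
  [0, 1, 3, 2, 1, 3, 2, 0, 1, 3, 2, 1],
  [2, 3, 1, 3, 2, 0, 1, 3, 2, 1, 3, 2, 0, 1, 3, 2, 1, 0],
  [2, 1, 3, 0, 1, 3, 2],
  [0, 1, 3, 2, 1, 3, 2, 0, 1, 3, 2, 1, 0],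
  [2, 1, 3, 0, 1, 3, 2, 0],
  [2, 3, 1, 3, 2, 0, 1, 3, 2, 1, 3, 2, 0, 1, 3, 2, 0, 1],
  [1, 3, 2, 1, 3, 2, 0, 1, 3, 2, 1],
  [2, 3, 1, 3, 2, 0, 1, 3, 2, 1, 3, 2, 0, 1, 3, 2, 0, 1, 0],
  [2, 1, 3, 0, 1, 3, 2, 1],
  [1, 3, 2, 1, 3, 2, 0, 1, 3, 2, 1, 0],
  [2, 1, 3, 0, 1, 3, 2, 1, 0],
  [0, 1, 3, 2, 1, 3, 2, 0, 1, 3, 2, 0, 1],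
  [1, 3, 2, 1, 3, 2, 0, 1, 3, 2, 0, 1],
  [0, 1, 3, 2, 1, 3, 2, 0, 1, 3, 2, 0, 1, 0],
  [2, 1, 3, 0, 1, 3, 2, 0, 1],
  [1, 3, 2, 1, 3, 2, 0, 1, 3, 2, 0, 1, 0],
  [2, 1, 3, 0, 1, 3, 2, 0, 1, 0],
  [2, 3, 1, 3, 2, 0, 1, 3, 2, 0, 1, 3, 2, 0, 1, 3, 2],
  [0, 1, 3, 2, 0, 1, 3, 2, 0, 1, 3, 2],
  [2, 3, 1, 3, 2, 0, 1, 3, 2, 0, 1, 3, 2, 0, 1, 3, 2, 0],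
  [3, 2, 1, 3, 2, 0, 1, 3, 2],
  [0, 1, 3, 2, 0, 1, 3, 2, 0, 1, 3, 2, 0],
  [3, 2, 1, 3, 2, 0, 1, 3, 2, 0],
  [2, 3, 1, 3, 2, 0, 1, 3, 2, 0, 1, 3, 2, 0, 1, 3, 2, 1],
  [0, 1, 3, 2, 0, 1, 3, 2, 0, 1, 3, 2, 1],
  [2, 3, 1, 3, 2, 0, 1, 3, 2, 0, 1, 3, 2, 0, 1, 3, 2, 1, 0],
  [2, 3, 0, 1, 3, 2],
  [0, 1, 3, 2, 0, 1, 3, 2, 0, 1, 3, 2, 1, 0],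
  [2, 3, 0, 1, 3, 2, 0],
  [2, 3, 1, 3, 2, 0, 1, 3, 2, 0, 1, 3, 2, 0, 1, 3, 2, 0, 1],
  [3, 2, 1, 3, 2, 0, 1, 3, 2, 1],
  [2, 3, 1, 3, 2, 0, 1, 3, 2, 0, 1, 3, 2, 0, 1, 3, 2, 0, 1, 0],
  [2, 3, 0, 1, 3, 2, 1],
  [3, 2, 1, 3, 2, 0, 1, 3, 2, 1, 0],
  [2, 3, 0, 1, 3, 2, 1, 0],
  [0, 1, 3, 2, 0, 1, 3, 2, 0, 1, 3, 2, 0, 1],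
  [3, 2, 1, 3, 2, 0, 1, 3, 2, 0, 1],
  [0, 1, 3, 2, 0, 1, 3, 2, 0, 1, 3, 2, 0, 1, 0],
  [2, 3, 0, 1, 3, 2, 0, 1],
  [3, 2, 1, 3, 2, 0, 1, 3, 2, 0, 1, 0],
  [2, 3, 0, 1, 3, 2, 0, 1, 0],
  [2, 3, 2, 1, 3, 2, 0, 1, 3, 2, 0, 1, 3, 2, 0, 1, 3, 2],
  [3, 0, 1, 3, 2, 0, 1, 3, 2, 0, 1, 3, 2],
  [2, 3, 2, 1, 3, 2, 0, 1, 3, 2, 0, 1, 3, 2, 0, 1, 3, 2, 0],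
  [2, 1, 3, 2, 0, 1, 3, 2],
  [3, 0, 1, 3, 2, 0, 1, 3, 2, 0, 1, 3, 2, 0],
  [2, 1, 3, 2, 0, 1, 3, 2, 0],
  [2, 3, 2, 1, 3, 2, 0, 1, 3, 2, 0, 1, 3, 2, 0, 1, 3, 2, 1],
  [3, 0, 1, 3, 2, 0, 1, 3, 2, 0, 1, 3, 2, 1],
  [2, 3, 2, 1, 3, 2, 0, 1, 3, 2, 0, 1, 3, 2, 0, 1, 3, 2, 1, 0],
  [2, 3, 2, 0, 1, 3, 2],
  [3, 0, 1, 3, 2, 0, 1, 3, 2, 0, 1, 3, 2, 1, 0],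
  [2, 3, 2, 0, 1, 3, 2, 0],
  [2, 3, 2, 1, 3, 2, 0, 1, 3, 2, 0, 1, 3, 2, 0, 1, 3, 2, 0, 1],
  [2, 1, 3, 2, 0, 1, 3, 2, 1],
  [2, 3, 2, 1, 3, 2, 0, 1, 3, 2, 0, 1, 3, 2, 0, 1, 3, 2, 0, 1, 0],
  [2, 3, 2, 0, 1, 3, 2, 1],
  [2, 1, 3, 2, 0, 1, 3, 2, 1, 0],
  [2, 3, 2, 0, 1, 3, 2, 1, 0],
  [3, 0, 1, 3, 2, 0, 1, 3, 2, 0, 1, 3, 2, 0, 1],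
  [2, 1, 3, 2, 0, 1, 3, 2, 0, 1],
  [3, 0, 1, 3, 2, 0, 1, 3, 2, 0, 1, 3, 2, 0, 1, 0],
  [2, 3, 2, 0, 1, 3, 2, 0, 1],
  [2, 1, 3, 2, 0, 1, 3, 2, 0, 1, 0],
  [2, 3, 2, 0, 1, 3, 2, 0, 1, 0],
  [2, 3, 0, 1, 3, 2, 0, 1, 3, 2, 0, 1, 3, 2, 0, 1, 3, 2],
  [1, 3, 2, 0, 1, 3, 2, 0, 1, 3, 2],
  [2, 3, 0, 1, 3, 2, 0, 1, 3, 2, 0, 1, 3, 2, 0, 1, 3, 2, 0],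
  [3, 2, 0, 1, 3, 2, 0, 1, 3, 2],
  [1, 3, 2, 0, 1, 3, 2, 0, 1, 3, 2, 0],
  [3, 2, 0, 1, 3, 2, 0, 1, 3, 2, 0],
  [2, 3, 0, 1, 3, 2, 0, 1, 3, 2, 0, 1, 3, 2, 0, 1, 3, 2, 1],
  [1, 3, 2, 0, 1, 3, 2, 0, 1, 3, 2, 1],
  [2, 3, 0, 1, 3, 2, 0, 1, 3, 2, 0, 1, 3, 2, 0, 1, 3, 2, 1, 0],
  [2, 3, 1, 3, 2],
  [1, 3, 2, 0, 1, 3, 2, 0, 1, 3, 2, 1, 0],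
  [2, 3, 1, 3, 2, 0],
  [2, 3, 0, 1, 3, 2, 0, 1, 3, 2, 0, 1, 3, 2, 0, 1, 3, 2, 0, 1],
  [3, 2, 0, 1, 3, 2, 0, 1, 3, 2, 1],
  [2, 3, 0, 1, 3, 2, 0, 1, 3, 2, 0, 1, 3, 2, 0, 1, 3, 2, 0, 1, 0],
  [2, 3, 1, 3, 2, 1],
  [3, 2, 0, 1, 3, 2, 0, 1, 3, 2, 1, 0],
  [2, 3, 1, 3, 2, 1, 0],
  [1, 3, 2, 0, 1, 3, 2, 0, 1, 3, 2, 0, 1],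
  [3, 2, 0, 1, 3, 2, 0, 1, 3, 2, 0, 1],
  [1, 3, 2, 0, 1, 3, 2, 0, 1, 3, 2, 0, 1, 0],
  [2, 3, 1, 3, 2, 0, 1],
  [3, 2, 0, 1, 3, 2, 0, 1, 3, 2, 0, 1, 0],
  [2, 3, 1, 3, 2, 0, 1, 0],
  [2, 3, 2, 0, 1, 3, 2, 0, 1, 3, 2, 0, 1, 3, 2, 0, 1, 3, 2],
  [3, 1, 3, 2, 0, 1, 3, 2, 0, 1, 3, 2],
  [2, 3, 2, 0, 1, 3, 2, 0, 1, 3, 2, 0, 1, 3, 2, 0, 1, 3, 2, 0],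
  [2, 0, 1, 3, 2, 0, 1, 3, 2],
  [3, 1, 3, 2, 0, 1, 3, 2, 0, 1, 3, 2, 0],
  [2, 0, 1, 3, 2, 0, 1, 3, 2, 0],
  [2, 3, 2, 0, 1, 3, 2, 0, 1, 3, 2, 0, 1, 3, 2, 0, 1, 3, 2, 1],
  [3, 1, 3, 2, 0, 1, 3, 2, 0, 1, 3, 2, 1],
  [2, 3, 2, 0, 1, 3, 2, 0, 1, 3, 2, 0, 1, 3, 2, 0, 1, 3, 2, 1, 0],
  [2, 3, 2, 1, 3, 2],
  [3, 1, 3, 2, 0, 1, 3, 2, 0, 1, 3, 2, 1, 0],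
  [2, 3, 2, 1, 3, 2, 0],
  [2, 3, 2, 0, 1, 3, 2, 0, 1, 3, 2, 0, 1, 3, 2, 0, 1, 3, 2, 0, 1],
  [2, 0, 1, 3, 2, 0, 1, 3, 2, 1],
  [2, 3, 2, 0, 1, 3, 2, 0, 1, 3, 2, 0, 1, 3, 2, 0, 1, 3, 2, 0, 1, 0],
  [2, 3, 2, 1, 3, 2, 1],
  [2, 0, 1, 3, 2, 0, 1, 3, 2, 1, 0],
  [2, 3, 2, 1, 3, 2, 1, 0],
  [3, 1, 3, 2, 0, 1, 3, 2, 0, 1, 3, 2, 0, 1],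
  [2, 0, 1, 3, 2, 0, 1, 3, 2, 0, 1],
  [3, 1, 3, 2, 0, 1, 3, 2, 0, 1, 3, 2, 0, 1, 0],
  [2, 3, 2, 1, 3, 2, 0, 1],
  [2, 0, 1, 3, 2, 0, 1, 3, 2, 0, 1, 0],
  [2, 3, 2, 1, 3, 2, 0, 1, 0],
  [2, 1, 3, 2, 0, 1, 3, 2, 0, 1, 3, 2, 0, 1, 3, 2, 0, 1, 3, 2],
  [3, 1, 3, 2, 0, 1, 3, 2, 1, 3, 2],
  [2, 1, 3, 2, 0, 1, 3, 2, 0, 1, 3, 2, 0, 1, 3, 2, 0, 1, 3, 2, 0],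
  [2, 0, 1, 3, 2, 1, 3, 2],
  [3, 1, 3, 2, 0, 1, 3, 2, 1, 3, 2, 0],
  [2, 0, 1, 3, 2, 1, 3, 2, 0],
  [2, 1, 3, 2, 0, 1, 3, 2, 0, 1, 3, 2, 0, 1, 3, 2, 0, 1, 3, 2, 1],
  [3, 1, 3, 2, 0, 1, 3, 2, 1, 3, 2, 1],
  [2, 1, 3, 2, 0, 1, 3, 2, 0, 1, 3, 2, 0, 1, 3, 2, 0, 1, 3, 2, 1, 0],
  [2, 1, 3, 2, 1, 3, 2],
  [3, 1, 3, 2, 0, 1, 3, 2, 1, 3, 2, 1, 0],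
  [2, 1, 3, 2, 1, 3, 2, 0],
  [2, 1, 3, 2, 0, 1, 3, 2, 0, 1, 3, 2, 0, 1, 3, 2, 0, 1, 3, 2, 0, 1],
  [2, 0, 1, 3, 2, 1, 3, 2, 1],
  [2, 1, 3, 2, 0, 1, 3, 2, 0, 1, 3, 2, 0, 1, 3, 2, 0, 1, 3, 2, 0, 1, 0],
  [2, 1, 3, 2, 1, 3, 2, 1],
  [2, 0, 1, 3, 2, 1, 3, 2, 1, 0],
  [2, 1, 3, 2, 1, 3, 2, 1, 0],
  [3, 1, 3, 2, 0, 1, 3, 2, 1, 3, 2, 0, 1],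
  [2, 0, 1, 3, 2, 1, 3, 2, 0, 1],
  [3, 1, 3, 2, 0, 1, 3, 2, 1, 3, 2, 0, 1, 0],
  [2, 1, 3, 2, 1, 3, 2, 0, 1],
  [2, 0, 1, 3, 2, 1, 3, 2, 0, 1, 0],
  [2, 1, 3, 2, 1, 3, 2, 0, 1, 0],
  [3, 2, 1, 3, 2, 0, 1, 3, 2, 0, 1, 3, 2, 0, 1, 3, 2, 0, 1, 3, 2],
  [1, 3, 2, 0, 1, 3, 2, 1, 3, 2],
  [3, 2, 1, 3, 2, 0, 1, 3, 2, 0, 1, 3, 2, 0, 1, 3, 2, 0, 1, 3, 2, 0],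
  [3, 2, 0, 1, 3, 2, 1, 3, 2],
  [1, 3, 2, 0, 1, 3, 2, 1, 3, 2, 0],
  [3, 2, 0, 1, 3, 2, 1, 3, 2, 0],
  [3, 2, 1, 3, 2, 0, 1, 3, 2, 0, 1, 3, 2, 0, 1, 3, 2, 0, 1, 3, 2, 1],
  [1, 3, 2, 0, 1, 3, 2, 1, 3, 2, 1],
  [3, 2, 1, 3, 2, 0, 1, 3, 2, 0, 1, 3, 2, 0, 1, 3, 2, 0, 1, 3, 2, 1, 0],
  [3, 2, 1, 3, 2, 1, 3, 2],
  [1, 3, 2, 0, 1, 3, 2, 1, 3, 2, 1, 0],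
  [3, 2, 1, 3, 2, 1, 3, 2, 0],
  [3, 2, 1, 3, 2, 0, 1, 3, 2, 0, 1, 3, 2, 0, 1, 3, 2, 0, 1, 3, 2, 0, 1],
  [3, 2, 0, 1, 3, 2, 1, 3, 2, 1],
  [3, 2, 1, 3, 2, 0, 1, 3, 2, 0, 1, 3, 2, 0, 1, 3, 2, 0, 1, 3, 2, 0, 1, 0],
  [3, 2, 1, 3, 2, 1, 3, 2, 1],
  [3, 2, 0, 1, 3, 2, 1, 3, 2, 1, 0],
  [3, 2, 1, 3, 2, 1, 3, 2, 1, 0],
  [1, 3, 2, 0, 1, 3, 2, 1, 3, 2, 0, 1],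
  [3, 2, 0, 1, 3, 2, 1, 3, 2, 0, 1],
  [1, 3, 2, 0, 1, 3, 2, 1, 3, 2, 0, 1, 0],
  [3, 2, 1, 3, 2, 1, 3, 2, 0, 1],
  [3, 2, 0, 1, 3, 2, 1, 3, 2, 0, 1, 0],
  [3, 2, 1, 3, 2, 1, 3, 2, 0, 1, 0],
  [1, 3, 2, 0, 1, 3, 2, 1, 3, 2, 0, 1, 3, 2],
  [3, 2, 0, 1, 3, 2, 1, 3, 2, 0, 1, 3, 2],
  [1, 3, 2, 0, 1, 3, 2, 1, 3, 2, 0, 1, 3, 2, 0],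
  [3, 2, 1, 3, 2, 1, 3, 2, 0, 1, 3, 2],
  [3, 2, 0, 1, 3, 2, 1, 3, 2, 0, 1, 3, 2, 0],
  [3, 2, 1, 3, 2, 1, 3, 2, 0, 1, 3, 2, 0],
  [1, 3, 2, 0, 1, 3, 2, 1, 3, 2, 0, 1, 3, 2, 1],
  [3, 2, 0, 1, 3, 2, 1, 3, 2, 0, 1, 3, 2, 1],
  [1, 3, 2, 0, 1, 3, 2, 1, 3, 2, 0, 1, 3, 2, 1, 0],
  [3, 1, 3, 0, 1, 3, 2],
  [3, 2, 0, 1, 3, 2, 1, 3, 2, 0, 1, 3, 2, 1, 0],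
  [3, 1, 3, 0, 1, 3, 2, 0],
  [1, 3, 2, 0, 1, 3, 2, 1, 3, 2, 0, 1, 3, 2, 0, 1],
  [3, 2, 1, 3, 2, 1, 3, 2, 0, 1, 3, 2, 1],
  [1, 3, 2, 0, 1, 3, 2, 1, 3, 2, 0, 1, 3, 2, 0, 1, 0],
  [3, 1, 3, 0, 1, 3, 2, 1],
  [3, 2, 1, 3, 2, 1, 3, 2, 0, 1, 3, 2, 1, 0],
  [3, 1, 3, 0, 1, 3, 2, 1, 0],
  [3, 2, 0, 1, 3, 2, 1, 3, 2, 0, 1, 3, 2, 0, 1],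
  [3, 2, 1, 3, 2, 1, 3, 2, 0, 1, 3, 2, 0, 1],
  [3, 2, 0, 1, 3, 2, 1, 3, 2, 0, 1, 3, 2, 0, 1, 0],
  [3, 1, 3, 0, 1, 3, 2, 0, 1],
  [3, 2, 1, 3, 2, 1, 3, 2, 0, 1, 3, 2, 0, 1, 0],
  [3, 1, 3, 0, 1, 3, 2, 0, 1, 0],
  [3, 1, 3, 2, 0, 1, 3, 2, 1, 3, 2, 0, 1, 3, 2],
  [2, 0, 1, 3, 2, 1, 3, 2, 0, 1, 3, 2],
  [3, 1, 3, 2, 0, 1, 3, 2, 1, 3, 2, 0, 1, 3, 2, 0],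
  [2, 1, 3, 2, 1, 3, 2, 0, 1, 3, 2],
  [2, 0, 1, 3, 2, 1, 3, 2, 0, 1, 3, 2, 0],
  [2, 1, 3, 2, 1, 3, 2, 0, 1, 3, 2, 0],
  [3, 1, 3, 2, 0, 1, 3, 2, 1, 3, 2, 0, 1, 3, 2, 1],
  [2, 0, 1, 3, 2, 1, 3, 2, 0, 1, 3, 2, 1],
  [3, 1, 3, 2, 0, 1, 3, 2, 1, 3, 2, 0, 1, 3, 2, 1, 0],
  [1, 3, 0, 1, 3, 2],
  [2, 0, 1, 3, 2, 1, 3, 2, 0, 1, 3, 2, 1, 0],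
  [1, 3, 0, 1, 3, 2, 0],
  [3, 1, 3, 2, 0, 1, 3, 2, 1, 3, 2, 0, 1, 3, 2, 0, 1],
  [2, 1, 3, 2, 1, 3, 2, 0, 1, 3, 2, 1],
  [3, 1, 3, 2, 0, 1, 3, 2, 1, 3, 2, 0, 1, 3, 2, 0, 1, 0],
  [1, 3, 0, 1, 3, 2, 1],
  [2, 1, 3, 2, 1, 3, 2, 0, 1, 3, 2, 1, 0],
  [1, 3, 0, 1, 3, 2, 1, 0],
  [2, 0, 1, 3, 2, 1, 3, 2, 0, 1, 3, 2, 0, 1],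
  [2, 1, 3, 2, 1, 3, 2, 0, 1, 3, 2, 0, 1],
  [2, 0, 1, 3, 2, 1, 3, 2, 0, 1, 3, 2, 0, 1, 0],
  [1, 3, 0, 1, 3, 2, 0, 1],
  [2, 1, 3, 2, 1, 3, 2, 0, 1, 3, 2, 0, 1, 0],
  [1, 3, 0, 1, 3, 2, 0, 1, 0],
  [3, 1, 3, 2, 0, 1, 3, 2, 0, 1, 3, 2, 0, 1, 3, 2],
  [2, 0, 1, 3, 2, 0, 1, 3, 2, 0, 1, 3, 2],
  [3, 1, 3, 2, 0, 1, 3, 2, 0, 1, 3, 2, 0, 1, 3, 2, 0],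
  [2, 3, 2, 1, 3, 2, 0, 1, 3, 2],
  [2, 0, 1, 3, 2, 0, 1, 3, 2, 0, 1, 3, 2, 0],
  [2, 3, 2, 1, 3, 2, 0, 1, 3, 2, 0],
  [3, 1, 3, 2, 0, 1, 3, 2, 0, 1, 3, 2, 0, 1, 3, 2, 1],
  [2, 0, 1, 3, 2, 0, 1, 3, 2, 0, 1, 3, 2, 1],
  [3, 1, 3, 2, 0, 1, 3, 2, 0, 1, 3, 2, 0, 1, 3, 2, 1, 0],
  [3, 0, 1, 3, 2],
  [2, 0, 1, 3, 2, 0, 1, 3, 2, 0, 1, 3, 2, 1, 0],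
  [3, 0, 1, 3, 2, 0],
  [3, 1, 3, 2, 0, 1, 3, 2, 0, 1, 3, 2, 0, 1, 3, 2, 0, 1],
  [2, 3, 2, 1, 3, 2, 0, 1, 3, 2, 1],
  [3, 1, 3, 2, 0, 1, 3, 2, 0, 1, 3, 2, 0, 1, 3, 2, 0, 1, 0],
  [3, 0, 1, 3, 2, 1],
  [2, 3, 2, 1, 3, 2, 0, 1, 3, 2, 1, 0],
  [3, 0, 1, 3, 2, 1, 0],
  [2, 0, 1, 3, 2, 0, 1, 3, 2, 0, 1, 3, 2, 0, 1],
  [2, 3, 2, 1, 3, 2, 0, 1, 3, 2, 0, 1],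
  [2, 0, 1, 3, 2, 0, 1, 3, 2, 0, 1, 3, 2, 0, 1, 0],
  [3, 0, 1, 3, 2, 0, 1],
  [2, 3, 2, 1, 3, 2, 0, 1, 3, 2, 0, 1, 0],
  [3, 0, 1, 3, 2, 0, 1, 0],
  [3, 2, 1, 3, 2, 0, 1, 3, 2, 0, 1, 3, 2, 0, 1, 3, 2],
  [2, 3, 0, 1, 3, 2, 0, 1, 3, 2, 0, 1, 3, 2],
  [3, 2, 1, 3, 2, 0, 1, 3, 2, 0, 1, 3, 2, 0, 1, 3, 2, 0],
  [1, 3, 2, 0, 1, 3, 2],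
  [2, 3, 0, 1, 3, 2, 0, 1, 3, 2, 0, 1, 3, 2, 0],
  [1, 3, 2, 0, 1, 3, 2, 0],
  [3, 2, 1, 3, 2, 0, 1, 3, 2, 0, 1, 3, 2, 0, 1, 3, 2, 1],
  [2, 3, 0, 1, 3, 2, 0, 1, 3, 2, 0, 1, 3, 2, 1],
  [3, 2, 1, 3, 2, 0, 1, 3, 2, 0, 1, 3, 2, 0, 1, 3, 2, 1, 0],
  [3, 2, 0, 1, 3, 2],
  [2, 3, 0, 1, 3, 2, 0, 1, 3, 2, 0, 1, 3, 2, 1, 0],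
  [3, 2, 0, 1, 3, 2, 0],
  [3, 2, 1, 3, 2, 0, 1, 3, 2, 0, 1, 3, 2, 0, 1, 3, 2, 0, 1],
  [1, 3, 2, 0, 1, 3, 2, 1],
  [3, 2, 1, 3, 2, 0, 1, 3, 2, 0, 1, 3, 2, 0, 1, 3, 2, 0, 1, 0],
  [3, 2, 0, 1, 3, 2, 1],
  [1, 3, 2, 0, 1, 3, 2, 1, 0],
  [3, 2, 0, 1, 3, 2, 1, 0],
  [2, 3, 0, 1, 3, 2, 0, 1, 3, 2, 0, 1, 3, 2, 0, 1],
  [1, 3, 2, 0, 1, 3, 2, 0, 1],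
  [2, 3, 0, 1, 3, 2, 0, 1, 3, 2, 0, 1, 3, 2, 0, 1, 0],
  [3, 2, 0, 1, 3, 2, 0, 1],
  [1, 3, 2, 0, 1, 3, 2, 0, 1, 0],
  [3, 2, 0, 1, 3, 2, 0, 1, 0],
  [1, 3, 2, 0, 1, 3, 2, 0, 1, 3, 2, 0, 1, 3, 2],
  [3, 2, 0, 1, 3, 2, 0, 1, 3, 2, 0, 1, 3, 2],
  [1, 3, 2, 0, 1, 3, 2, 0, 1, 3, 2, 0, 1, 3, 2, 0],
  [2, 3, 1, 3, 2, 0, 1, 3, 2],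
  [3, 2, 0, 1, 3, 2, 0, 1, 3, 2, 0, 1, 3, 2, 0],
  [2, 3, 1, 3, 2, 0, 1, 3, 2, 0],
  [1, 3, 2, 0, 1, 3, 2, 0, 1, 3, 2, 0, 1, 3, 2, 1],
  [3, 2, 0, 1, 3, 2, 0, 1, 3, 2, 0, 1, 3, 2, 1],
  [1, 3, 2, 0, 1, 3, 2, 0, 1, 3, 2, 0, 1, 3, 2, 1, 0],
  [0, 1, 3, 2],
  [3, 2, 0, 1, 3, 2, 0, 1, 3, 2, 0, 1, 3, 2, 1, 0],
  [0, 1, 3, 2, 0],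
  [1, 3, 2, 0, 1, 3, 2, 0, 1, 3, 2, 0, 1, 3, 2, 0, 1],
  [2, 3, 1, 3, 2, 0, 1, 3, 2, 1],
  [1, 3, 2, 0, 1, 3, 2, 0, 1, 3, 2, 0, 1, 3, 2, 0, 1, 0],
  [0, 1, 3, 2, 1],
  [2, 3, 1, 3, 2, 0, 1, 3, 2, 1, 0],
  [0, 1, 3, 2, 1, 0],
  [3, 2, 0, 1, 3, 2, 0, 1, 3, 2, 0, 1, 3, 2, 0, 1],
  [2, 3, 1, 3, 2, 0, 1, 3, 2, 0, 1],
  [3, 2, 0, 1, 3, 2, 0, 1, 3, 2, 0, 1, 3, 2, 0, 1, 0],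
  [0, 1, 3, 2, 0, 1],
  [2, 3, 1, 3, 2, 0, 1, 3, 2, 0, 1, 0],
  [0, 1, 3, 2, 0, 1, 0],
  [2, 1, 3, 2, 0, 1, 3, 2, 0, 1, 3, 2, 0, 1, 3, 2],
  [2, 3, 2, 0, 1, 3, 2, 0, 1, 3, 2, 0, 1, 3, 2],
  [2, 1, 3, 2, 0, 1, 3, 2, 0, 1, 3, 2, 0, 1, 3, 2, 0],
  [3, 1, 3, 2, 0, 1, 3, 2],
  [2, 3, 2, 0, 1, 3, 2, 0, 1, 3, 2, 0, 1, 3, 2, 0],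
  [3, 1, 3, 2, 0, 1, 3, 2, 0],
  [2, 1, 3, 2, 0, 1, 3, 2, 0, 1, 3, 2, 0, 1, 3, 2, 1],
  [2, 3, 2, 0, 1, 3, 2, 0, 1, 3, 2, 0, 1, 3, 2, 1],
  [2, 1, 3, 2, 0, 1, 3, 2, 0, 1, 3, 2, 0, 1, 3, 2, 1, 0],
  [2, 0, 1, 3, 2],
  [2, 3, 2, 0, 1, 3, 2, 0, 1, 3, 2, 0, 1, 3, 2, 1, 0],
  [2, 0, 1, 3, 2, 0],
  [2, 1, 3, 2, 0, 1, 3, 2, 0, 1, 3, 2, 0, 1, 3, 2, 0, 1],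
  [3, 1, 3, 2, 0, 1, 3, 2, 1],
  [2, 1, 3, 2, 0, 1, 3, 2, 0, 1, 3, 2, 0, 1, 3, 2, 0, 1, 0],
  [2, 0, 1, 3, 2, 1],
  [3, 1, 3, 2, 0, 1, 3, 2, 1, 0],
  [2, 0, 1, 3, 2, 1, 0],
  [2, 3, 2, 0, 1, 3, 2, 0, 1, 3, 2, 0, 1, 3, 2, 0, 1],
  [3, 1, 3, 2, 0, 1, 3, 2, 0, 1],
  [2, 3, 2, 0, 1, 3, 2, 0, 1, 3, 2, 0, 1, 3, 2, 0, 1, 0],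
  [2, 0, 1, 3, 2, 0, 1],
  [3, 1, 3, 2, 0, 1, 3, 2, 0, 1, 0],
  [2, 0, 1, 3, 2, 0, 1, 0],
  [3, 0, 1, 3, 2, 0, 1, 3, 2, 0, 1, 3, 2, 0, 1, 3, 2],
  [2, 1, 3, 2, 0, 1, 3, 2, 0, 1, 3, 2],
  [3, 0, 1, 3, 2, 0, 1, 3, 2, 0, 1, 3, 2, 0, 1, 3, 2, 0],
  [2, 3, 2, 0, 1, 3, 2, 0, 1, 3, 2],
  [2, 1, 3, 2, 0, 1, 3, 2, 0, 1, 3, 2, 0],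
  [2, 3, 2, 0, 1, 3, 2, 0, 1, 3, 2, 0],
  [3, 0, 1, 3, 2, 0, 1, 3, 2, 0, 1, 3, 2, 0, 1, 3, 2, 1],
  [2, 1, 3, 2, 0, 1, 3, 2, 0, 1, 3, 2, 1],
  [3, 0, 1, 3, 2, 0, 1, 3, 2, 0, 1, 3, 2, 0, 1, 3, 2, 1, 0],
  [3, 1, 3, 2],
  [2, 1, 3, 2, 0, 1, 3, 2, 0, 1, 3, 2, 1, 0],
  [3, 1, 3, 2, 0],
  [3, 0, 1, 3, 2, 0, 1, 3, 2, 0, 1, 3, 2, 0, 1, 3, 2, 0, 1],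
  [2, 3, 2, 0, 1, 3, 2, 0, 1, 3, 2, 1],
  [3, 0, 1, 3, 2, 0, 1, 3, 2, 0, 1, 3, 2, 0, 1, 3, 2, 0, 1, 0],
  [3, 1, 3, 2, 1],
  [2, 3, 2, 0, 1, 3, 2, 0, 1, 3, 2, 1, 0],
  [3, 1, 3, 2, 1, 0],
  [2, 1, 3, 2, 0, 1, 3, 2, 0, 1, 3, 2, 0, 1],
  [2, 3, 2, 0, 1, 3, 2, 0, 1, 3, 2, 0, 1],
  [2, 1, 3, 2, 0, 1, 3, 2, 0, 1, 3, 2, 0, 1, 0],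
  [3, 1, 3, 2, 0, 1],
  [2, 3, 2, 0, 1, 3, 2, 0, 1, 3, 2, 0, 1, 0],
  [3, 1, 3, 2, 0, 1, 0],
  [3, 2, 0, 1, 3, 2, 0, 1, 3, 2, 0, 1, 3, 2, 0, 1, 3, 2],
  [2, 3, 1, 3, 2, 0, 1, 3, 2, 0, 1, 3, 2],
  [3, 2, 0, 1, 3, 2, 0, 1, 3, 2, 0, 1, 3, 2, 0, 1, 3, 2, 0],
  [0, 1, 3, 2, 0, 1, 3, 2],
  [2, 3, 1, 3, 2, 0, 1, 3, 2, 0, 1, 3, 2, 0],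
  [0, 1, 3, 2, 0, 1, 3, 2, 0],
  [3, 2, 0, 1, 3, 2, 0, 1, 3, 2, 0, 1, 3, 2, 0, 1, 3, 2, 1],
  [2, 3, 1, 3, 2, 0, 1, 3, 2, 0, 1, 3, 2, 1],
  [3, 2, 0, 1, 3, 2, 0, 1, 3, 2, 0, 1, 3, 2, 0, 1, 3, 2, 1, 0],
  [3, 2, 1, 3, 2],
  [2, 3, 1, 3, 2, 0, 1, 3, 2, 0, 1, 3, 2, 1, 0],
  [3, 2, 1, 3, 2, 0],
  [3, 2, 0, 1, 3, 2, 0, 1, 3, 2, 0, 1, 3, 2, 0, 1, 3, 2, 0, 1],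
  [0, 1, 3, 2, 0, 1, 3, 2, 1],
  [3, 2, 0, 1, 3, 2, 0, 1, 3, 2, 0, 1, 3, 2, 0, 1, 3, 2, 0, 1, 0],
  [3, 2, 1, 3, 2, 1],
  [0, 1, 3, 2, 0, 1, 3, 2, 1, 0],
  [3, 2, 1, 3, 2, 1, 0],
  [2, 3, 1, 3, 2, 0, 1, 3, 2, 0, 1, 3, 2, 0, 1],
  [0, 1, 3, 2, 0, 1, 3, 2, 0, 1],
  [2, 3, 1, 3, 2, 0, 1, 3, 2, 0, 1, 3, 2, 0, 1, 0],
  [3, 2, 1, 3, 2, 0, 1],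
  [0, 1, 3, 2, 0, 1, 3, 2, 0, 1, 0],
  [3, 2, 1, 3, 2, 0, 1, 0],
  [1, 3, 2, 0, 1, 3, 2, 0, 1, 3, 2, 0, 1, 3, 2, 0, 1, 3, 2],
  [2, 3, 1, 3, 2, 0, 1, 3, 2, 1, 3, 2],
  [1, 3, 2, 0, 1, 3, 2, 0, 1, 3, 2, 0, 1, 3, 2, 0, 1, 3, 2, 0],
  [0, 1, 3, 2, 1, 3, 2],
  [2, 3, 1, 3, 2, 0, 1, 3, 2, 1, 3, 2, 0],
  [0, 1, 3, 2, 1, 3, 2, 0],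
  [1, 3, 2, 0, 1, 3, 2, 0, 1, 3, 2, 0, 1, 3, 2, 0, 1, 3, 2, 1],
  [2, 3, 1, 3, 2, 0, 1, 3, 2, 1, 3, 2, 1],
  [1, 3, 2, 0, 1, 3, 2, 0, 1, 3, 2, 0, 1, 3, 2, 0, 1, 3, 2, 1, 0],
  [1, 3, 2, 1, 3, 2],
  [2, 3, 1, 3, 2, 0, 1, 3, 2, 1, 3, 2, 1, 0],
  [1, 3, 2, 1, 3, 2, 0],
  [1, 3, 2, 0, 1, 3, 2, 0, 1, 3, 2, 0, 1, 3, 2, 0, 1, 3, 2, 0, 1],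
  [0, 1, 3, 2, 1, 3, 2, 1],
  [1, 3, 2, 0, 1, 3, 2, 0, 1, 3, 2, 0, 1, 3, 2, 0, 1, 3, 2, 0, 1, 0],
  [1, 3, 2, 1, 3, 2, 1],
  [0, 1, 3, 2, 1, 3, 2, 1, 0],
  [1, 3, 2, 1, 3, 2, 1, 0],
  [2, 3, 1, 3, 2, 0, 1, 3, 2, 1, 3, 2, 0, 1],
  [0, 1, 3, 2, 1, 3, 2, 0, 1],
  [2, 3, 1, 3, 2, 0, 1, 3, 2, 1, 3, 2, 0, 1, 0],
  [1, 3, 2, 1, 3, 2, 0, 1],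
  [0, 1, 3, 2, 1, 3, 2, 0, 1, 0],
  [1, 3, 2, 1, 3, 2, 0, 1, 0],
  [0, 1, 3, 2, 0, 1, 3, 2, 0, 1, 3, 2, 0, 1, 3, 2],
  [3, 2, 1, 3, 2, 0, 1, 3, 2, 0, 1, 3, 2],
  [0, 1, 3, 2, 0, 1, 3, 2, 0, 1, 3, 2, 0, 1, 3, 2, 0],
  [2, 3, 0, 1, 3, 2, 0, 1, 3, 2],
  [3, 2, 1, 3, 2, 0, 1, 3, 2, 0, 1, 3, 2, 0],
  [2, 3, 0, 1, 3, 2, 0, 1, 3, 2, 0],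
  [0, 1, 3, 2, 0, 1, 3, 2, 0, 1, 3, 2, 0, 1, 3, 2, 1],
  [3, 2, 1, 3, 2, 0, 1, 3, 2, 0, 1, 3, 2, 1],
  [0, 1, 3, 2, 0, 1, 3, 2, 0, 1, 3, 2, 0, 1, 3, 2, 1, 0],
  [1, 3, 2],
  [3, 2, 1, 3, 2, 0, 1, 3, 2, 0, 1, 3, 2, 1, 0],
  [1, 3, 2, 0],
  [0, 1, 3, 2, 0, 1, 3, 2, 0, 1, 3, 2, 0, 1, 3, 2, 0, 1],
  [2, 3, 0, 1, 3, 2, 0, 1, 3, 2, 1],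
  [0, 1, 3, 2, 0, 1, 3, 2, 0, 1, 3, 2, 0, 1, 3, 2, 0, 1, 0],
  [1, 3, 2, 1],
  [2, 3, 0, 1, 3, 2, 0, 1, 3, 2, 1, 0],
  [1, 3, 2, 1, 0],
  [3, 2, 1, 3, 2, 0, 1, 3, 2, 0, 1, 3, 2, 0, 1],
  [2, 3, 0, 1, 3, 2, 0, 1, 3, 2, 0, 1],
  [3, 2, 1, 3, 2, 0, 1, 3, 2, 0, 1, 3, 2, 0, 1, 0],
  [1, 3, 2, 0, 1],
  [2, 3, 0, 1, 3, 2, 0, 1, 3, 2, 0, 1, 0],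
  [1, 3, 2, 0, 1, 0],
  [2, 0, 1, 3, 2, 0, 1, 3, 2, 0, 1, 3, 2, 0, 1, 3, 2],
  [2, 3, 2, 1, 3, 2, 0, 1, 3, 2, 0, 1, 3, 2],
  [2, 0, 1, 3, 2, 0, 1, 3, 2, 0, 1, 3, 2, 0, 1, 3, 2, 0],
  [3, 0, 1, 3, 2, 0, 1, 3, 2],
  [2, 3, 2, 1, 3, 2, 0, 1, 3, 2, 0, 1, 3, 2, 0],
  [3, 0, 1, 3, 2, 0, 1, 3, 2, 0],
  [2, 0, 1, 3, 2, 0, 1, 3, 2, 0, 1, 3, 2, 0, 1, 3, 2, 1],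
  [2, 3, 2, 1, 3, 2, 0, 1, 3, 2, 0, 1, 3, 2, 1],
  [2, 0, 1, 3, 2, 0, 1, 3, 2, 0, 1, 3, 2, 0, 1, 3, 2, 1, 0],
  [2, 1, 3, 2],
  [2, 3, 2, 1, 3, 2, 0, 1, 3, 2, 0, 1, 3, 2, 1, 0],
  [2, 1, 3, 2, 0],
  [2, 0, 1, 3, 2, 0, 1, 3, 2, 0, 1, 3, 2, 0, 1, 3, 2, 0, 1],
  [3, 0, 1, 3, 2, 0, 1, 3, 2, 1],
  [2, 0, 1, 3, 2, 0, 1, 3, 2, 0, 1, 3, 2, 0, 1, 3, 2, 0, 1, 0],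
  [2, 1, 3, 2, 1],
  [3, 0, 1, 3, 2, 0, 1, 3, 2, 1, 0],
  [2, 1, 3, 2, 1, 0],
  [2, 3, 2, 1, 3, 2, 0, 1, 3, 2, 0, 1, 3, 2, 0, 1],
  [3, 0, 1, 3, 2, 0, 1, 3, 2, 0, 1],
  [2, 3, 2, 1, 3, 2, 0, 1, 3, 2, 0, 1, 3, 2, 0, 1, 0],
  [2, 1, 3, 2, 0, 1],
  [3, 0, 1, 3, 2, 0, 1, 3, 2, 0, 1, 0],
  [2, 1, 3, 2, 0, 1, 0],
  [0, 1, 3, 2, 1, 3, 2, 0, 1, 3, 2, 0, 1, 3, 2],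
  [1, 3, 2, 1, 3, 2, 0, 1, 3, 2, 0, 1, 3, 2],
  [0, 1, 3, 2, 1, 3, 2, 0, 1, 3, 2, 0, 1, 3, 2, 0],
  [2, 1, 3, 0, 1, 3, 2, 0, 1, 3, 2],
  [1, 3, 2, 1, 3, 2, 0, 1, 3, 2, 0, 1, 3, 2, 0],
  [2, 1, 3, 0, 1, 3, 2, 0, 1, 3, 2, 0],
  [0, 1, 3, 2, 1, 3, 2, 0, 1, 3, 2, 0, 1, 3, 2, 1],
  [1, 3, 2, 1, 3, 2, 0, 1, 3, 2, 0, 1, 3, 2, 1],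
  [0, 1, 3, 2, 1, 3, 2, 0, 1, 3, 2, 0, 1, 3, 2, 1, 0],
  [3, 2],
  [1, 3, 2, 1, 3, 2, 0, 1, 3, 2, 0, 1, 3, 2, 1, 0],
  [3, 2, 0],
  [0, 1, 3, 2, 1, 3, 2, 0, 1, 3, 2, 0, 1, 3, 2, 0, 1],
  [2, 1, 3, 0, 1, 3, 2, 0, 1, 3, 2, 1],
  [0, 1, 3, 2, 1, 3, 2, 0, 1, 3, 2, 0, 1, 3, 2, 0, 1, 0],
  [3, 2, 1],
  [2, 1, 3, 0, 1, 3, 2, 0, 1, 3, 2, 1, 0],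
  [3, 2, 1, 0],
  [1, 3, 2, 1, 3, 2, 0, 1, 3, 2, 0, 1, 3, 2, 0, 1],
  [2, 1, 3, 0, 1, 3, 2, 0, 1, 3, 2, 0, 1],
  [1, 3, 2, 1, 3, 2, 0, 1, 3, 2, 0, 1, 3, 2, 0, 1, 0],
  [3, 2, 0, 1],
  [2, 1, 3, 0, 1, 3, 2, 0, 1, 3, 2, 0, 1, 0],
  [3, 2, 0, 1, 0],
  [2, 0, 1, 3, 2, 1, 3, 2, 0, 1, 3, 2, 0, 1, 3, 2],
  [2, 1, 3, 2, 1, 3, 2, 0, 1, 3, 2, 0, 1, 3, 2],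
  [2, 0, 1, 3, 2, 1, 3, 2, 0, 1, 3, 2, 0, 1, 3, 2, 0],
  [1, 3, 0, 1, 3, 2, 0, 1, 3, 2],
  [2, 1, 3, 2, 1, 3, 2, 0, 1, 3, 2, 0, 1, 3, 2, 0],
  [1, 3, 0, 1, 3, 2, 0, 1, 3, 2, 0],
  [2, 0, 1, 3, 2, 1, 3, 2, 0, 1, 3, 2, 0, 1, 3, 2, 1],
  [2, 1, 3, 2, 1, 3, 2, 0, 1, 3, 2, 0, 1, 3, 2, 1],
  [2, 0, 1, 3, 2, 1, 3, 2, 0, 1, 3, 2, 0, 1, 3, 2, 1, 0],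
  [2, 3, 2],
  [2, 1, 3, 2, 1, 3, 2, 0, 1, 3, 2, 0, 1, 3, 2, 1, 0],
  [2, 3, 2, 0],
  [2, 0, 1, 3, 2, 1, 3, 2, 0, 1, 3, 2, 0, 1, 3, 2, 0, 1],
  [1, 3, 0, 1, 3, 2, 0, 1, 3, 2, 1],
  [2, 0, 1, 3, 2, 1, 3, 2, 0, 1, 3, 2, 0, 1, 3, 2, 0, 1, 0],
  [2, 3, 2, 1],
  [1, 3, 0, 1, 3, 2, 0, 1, 3, 2, 1, 0],
  [2, 3, 2, 1, 0],
  [2, 1, 3, 2, 1, 3, 2, 0, 1, 3, 2, 0, 1, 3, 2, 0, 1],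
  [1, 3, 0, 1, 3, 2, 0, 1, 3, 2, 0, 1],
  [2, 1, 3, 2, 1, 3, 2, 0, 1, 3, 2, 0, 1, 3, 2, 0, 1, 0],
  [2, 3, 2, 0, 1],
  [1, 3, 0, 1, 3, 2, 0, 1, 3, 2, 0, 1, 0],
  [2, 3, 2, 0, 1, 0],
  [0, 1, 3, 2, 1, 3, 0, 1, 3, 2, 0, 1, 3, 2],
  [1, 3, 2, 1, 3, 0, 1, 3, 2, 0, 1, 3, 2],
  [0, 1, 3, 2, 1, 3, 0, 1, 3, 2, 0, 1, 3, 2, 0],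
  [3, 2, 1, 3, 0, 1, 3, 2, 0, 1, 3, 2],
  [1, 3, 2, 1, 3, 0, 1, 3, 2, 0, 1, 3, 2, 0],
  [3, 2, 1, 3, 0, 1, 3, 2, 0, 1, 3, 2, 0],
  [0, 1, 3, 2, 1, 3, 0, 1, 3, 2, 0, 1, 3, 2, 1],
  [1, 3, 2, 1, 3, 0, 1, 3, 2, 0, 1, 3, 2, 1],
  [0, 1, 3, 2, 1, 3, 0, 1, 3, 2, 0, 1, 3, 2, 1, 0],
  [2],
  [1, 3, 2, 1, 3, 0, 1, 3, 2, 0, 1, 3, 2, 1, 0],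
  [2, 0],
  [0, 1, 3, 2, 1, 3, 0, 1, 3, 2, 0, 1, 3, 2, 0, 1],
  [3, 2, 1, 3, 0, 1, 3, 2, 0, 1, 3, 2, 1],
  [0, 1, 3, 2, 1, 3, 0, 1, 3, 2, 0, 1, 3, 2, 0, 1, 0],
  [2, 1],
  [3, 2, 1, 3, 0, 1, 3, 2, 0, 1, 3, 2, 1, 0],
  [2, 1, 0],
  [1, 3, 2, 1, 3, 0, 1, 3, 2, 0, 1, 3, 2, 0, 1],
  [3, 2, 1, 3, 0, 1, 3, 2, 0, 1, 3, 2, 0, 1],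
  [1, 3, 2, 1, 3, 0, 1, 3, 2, 0, 1, 3, 2, 0, 1, 0],
  [2, 0, 1],
  [3, 2, 1, 3, 0, 1, 3, 2, 0, 1, 3, 2, 0, 1, 0],
  [2, 0, 1, 0],
  [0, 1, 3, 2, 1, 3, 0, 1, 3, 2, 0, 1, 3],
  [1, 3, 2, 1, 3, 0, 1, 3, 2, 0, 1, 3],
  [0, 1, 3, 2, 1, 3, 0, 1, 3, 2, 0, 1, 3, 0],
  [3, 2, 1, 3, 0, 1, 3, 2, 0, 1, 3],
  [1, 3, 2, 1, 3, 0, 1, 3, 2, 0, 1, 3, 0],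
  [3, 2, 1, 3, 0, 1, 3, 2, 0, 1, 3, 0],
  [0, 1, 3, 2, 1, 3, 0, 1, 3, 2, 0, 1, 3, 1],
  [1, 3, 2, 1, 3, 0, 1, 3, 2, 0, 1, 3, 1],
  [0, 1, 3, 2, 1, 3, 0, 1, 3, 2, 0, 1, 3, 1, 0],
  [],
  [1, 3, 2, 1, 3, 0, 1, 3, 2, 0, 1, 3, 1, 0],
  [0],
  [0, 1, 3, 2, 1, 3, 0, 1, 3, 2, 0, 1, 3, 0, 1],
  [3, 2, 1, 3, 0, 1, 3, 2, 0, 1, 3, 1],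
  [0, 1, 3, 2, 1, 3, 0, 1, 3, 2, 0, 1, 3, 0, 1, 0],
  [1],
  [3, 2, 1, 3, 0, 1, 3, 2, 0, 1, 3, 1, 0],
  [1, 0],
  [1, 3, 2, 1, 3, 0, 1, 3, 2, 0, 1, 3, 0, 1],
  [3, 2, 1, 3, 0, 1, 3, 2, 0, 1, 3, 0, 1],
  [1, 3, 2, 1, 3, 0, 1, 3, 2, 0, 1, 3, 0, 1, 0],
  [0, 1],
  [3, 2, 1, 3, 0, 1, 3, 2, 0, 1, 3, 0, 1, 0],
  [0, 1, 0],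
  [2, 0, 1, 3, 2, 1, 3, 2, 0, 1, 3, 2, 0, 1, 3],
  [2, 1, 3, 2, 1, 3, 2, 0, 1, 3, 2, 0, 1, 3],
  [2, 0, 1, 3, 2, 1, 3, 2, 0, 1, 3, 2, 0, 1, 3, 0],
  [1, 3, 0, 1, 3, 2, 0, 1, 3],
  [2, 1, 3, 2, 1, 3, 2, 0, 1, 3, 2, 0, 1, 3, 0],
  [1, 3, 0, 1, 3, 2, 0, 1, 3, 0],
  [2, 0, 1, 3, 2, 1, 3, 2, 0, 1, 3, 2, 0, 1, 3, 1],
  [2, 1, 3, 2, 1, 3, 2, 0, 1, 3, 2, 0, 1, 3, 1],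
  [2, 0, 1, 3, 2, 1, 3, 2, 0, 1, 3, 2, 0, 1, 3, 1, 0],
  [2, 3],
  [2, 1, 3, 2, 1, 3, 2, 0, 1, 3, 2, 0, 1, 3, 1, 0],
  [2, 3, 0],
  [2, 0, 1, 3, 2, 1, 3, 2, 0, 1, 3, 2, 0, 1, 3, 0, 1],
  [1, 3, 0, 1, 3, 2, 0, 1, 3, 1],
  [2, 0, 1, 3, 2, 1, 3, 2, 0, 1, 3, 2, 0, 1, 3, 0, 1, 0],
  [2, 3, 1],
  [1, 3, 0, 1, 3, 2, 0, 1, 3, 1, 0],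
  [2, 3, 1, 0],
  [2, 1, 3, 2, 1, 3, 2, 0, 1, 3, 2, 0, 1, 3, 0, 1],
  [1, 3, 0, 1, 3, 2, 0, 1, 3, 0, 1],
  [2, 1, 3, 2, 1, 3, 2, 0, 1, 3, 2, 0, 1, 3, 0, 1, 0],
  [2, 3, 0, 1],
  [1, 3, 0, 1, 3, 2, 0, 1, 3, 0, 1, 0],
  [2, 3, 0, 1, 0],
  [0, 1, 3, 2, 1, 3, 2, 0, 1, 3, 2, 0, 1, 3],
  [1, 3, 2, 1, 3, 2, 0, 1, 3, 2, 0, 1, 3],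
  [0, 1, 3, 2, 1, 3, 2, 0, 1, 3, 2, 0, 1, 3, 0],
  [2, 1, 3, 0, 1, 3, 2, 0, 1, 3],
  [1, 3, 2, 1, 3, 2, 0, 1, 3, 2, 0, 1, 3, 0],
  [2, 1, 3, 0, 1, 3, 2, 0, 1, 3, 0],
  [0, 1, 3, 2, 1, 3, 2, 0, 1, 3, 2, 0, 1, 3, 1],
  [1, 3, 2, 1, 3, 2, 0, 1, 3, 2, 0, 1, 3, 1],
  [0, 1, 3, 2, 1, 3, 2, 0, 1, 3, 2, 0, 1, 3, 1, 0],
  [3],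
  [1, 3, 2, 1, 3, 2, 0, 1, 3, 2, 0, 1, 3, 1, 0],
  [3, 0],
  [0, 1, 3, 2, 1, 3, 2, 0, 1, 3, 2, 0, 1, 3, 0, 1],
  [2, 1, 3, 0, 1, 3, 2, 0, 1, 3, 1],
  [0, 1, 3, 2, 1, 3, 2, 0, 1, 3, 2, 0, 1, 3, 0, 1, 0],
  [3, 1],
  [2, 1, 3, 0, 1, 3, 2, 0, 1, 3, 1, 0],
  [3, 1, 0],
  [1, 3, 2, 1, 3, 2, 0, 1, 3, 2, 0, 1, 3, 0, 1],
  [2, 1, 3, 0, 1, 3, 2, 0, 1, 3, 0, 1],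
  [1, 3, 2, 1, 3, 2, 0, 1, 3, 2, 0, 1, 3, 0, 1, 0],
  [3, 0, 1],
  [2, 1, 3, 0, 1, 3, 2, 0, 1, 3, 0, 1, 0],
  [3, 0, 1, 0],
  [2, 0, 1, 3, 2, 0, 1, 3, 2, 0, 1, 3, 2, 0, 1, 3],
  [2, 3, 2, 1, 3, 2, 0, 1, 3, 2, 0, 1, 3],
  [2, 0, 1, 3, 2, 0, 1, 3, 2, 0, 1, 3, 2, 0, 1, 3, 0],
  [3, 0, 1, 3, 2, 0, 1, 3],
  [2, 3, 2, 1, 3, 2, 0, 1, 3, 2, 0, 1, 3, 0],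
  [3, 0, 1, 3, 2, 0, 1, 3, 0],
  [2, 0, 1, 3, 2, 0, 1, 3, 2, 0, 1, 3, 2, 0, 1, 3, 1],
  [2, 3, 2, 1, 3, 2, 0, 1, 3, 2, 0, 1, 3, 1],
  [2, 0, 1, 3, 2, 0, 1, 3, 2, 0, 1, 3, 2, 0, 1, 3, 1, 0],
  [2, 1, 3],
  [2, 3, 2, 1, 3, 2, 0, 1, 3, 2, 0, 1, 3, 1, 0],
  [2, 1, 3, 0],
  [2, 0, 1, 3, 2, 0, 1, 3, 2, 0, 1, 3, 2, 0, 1, 3, 0, 1],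
  [3, 0, 1, 3, 2, 0, 1, 3, 1],
  [2, 0, 1, 3, 2, 0, 1, 3, 2, 0, 1, 3, 2, 0, 1, 3, 0, 1, 0],
  [2, 1, 3, 1],
  [3, 0, 1, 3, 2, 0, 1, 3, 1, 0],
  [2, 1, 3, 1, 0],
  [2, 3, 2, 1, 3, 2, 0, 1, 3, 2, 0, 1, 3, 0, 1],
  [3, 0, 1, 3, 2, 0, 1, 3, 0, 1],
  [2, 3, 2, 1, 3, 2, 0, 1, 3, 2, 0, 1, 3, 0, 1, 0],
  [2, 1, 3, 0, 1],
  [3, 0, 1, 3, 2, 0, 1, 3, 0, 1, 0],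
  [2, 1, 3, 0, 1, 0],
  [0, 1, 3, 2, 0, 1, 3, 2, 0, 1, 3, 2, 0, 1, 3],
  [3, 2, 1, 3, 2, 0, 1, 3, 2, 0, 1, 3],
  [0, 1, 3, 2, 0, 1, 3, 2, 0, 1, 3, 2, 0, 1, 3, 0],
  [2, 3, 0, 1, 3, 2, 0, 1, 3],
  [3, 2, 1, 3, 2, 0, 1, 3, 2, 0, 1, 3, 0],
  [2, 3, 0, 1, 3, 2, 0, 1, 3, 0],
  [0, 1, 3, 2, 0, 1, 3, 2, 0, 1, 3, 2, 0, 1, 3, 1],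
  [3, 2, 1, 3, 2, 0, 1, 3, 2, 0, 1, 3, 1],
  [0, 1, 3, 2, 0, 1, 3, 2, 0, 1, 3, 2, 0, 1, 3, 1, 0],
  [1, 3],
  [3, 2, 1, 3, 2, 0, 1, 3, 2, 0, 1, 3, 1, 0],
  [1, 3, 0],
  [0, 1, 3, 2, 0, 1, 3, 2, 0, 1, 3, 2, 0, 1, 3, 0, 1],
  [2, 3, 0, 1, 3, 2, 0, 1, 3, 1],
  [0, 1, 3, 2, 0, 1, 3, 2, 0, 1, 3, 2, 0, 1, 3, 0, 1, 0],
  [1, 3, 1],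
  [2, 3, 0, 1, 3, 2, 0, 1, 3, 1, 0],
  [1, 3, 1, 0],
  [3, 2, 1, 3, 2, 0, 1, 3, 2, 0, 1, 3, 0, 1],
  [2, 3, 0, 1, 3, 2, 0, 1, 3, 0, 1],
  [3, 2, 1, 3, 2, 0, 1, 3, 2, 0, 1, 3, 0, 1, 0],
  [1, 3, 0, 1],
  [2, 3, 0, 1, 3, 2, 0, 1, 3, 0, 1, 0],
  [1, 3, 0, 1, 0],
  [1, 3, 2, 0, 1, 3, 2, 0, 1, 3, 2, 0, 1, 3, 2, 0, 1, 3],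
  [2, 3, 1, 3, 2, 0, 1, 3, 2, 1, 3],
  [1, 3, 2, 0, 1, 3, 2, 0, 1, 3, 2, 0, 1, 3, 2, 0, 1, 3, 0],
  [0, 1, 3, 2, 1, 3],
  [2, 3, 1, 3, 2, 0, 1, 3, 2, 1, 3, 0],
  [0, 1, 3, 2, 1, 3, 0],
  [1, 3, 2, 0, 1, 3, 2, 0, 1, 3, 2, 0, 1, 3, 2, 0, 1, 3, 1],
  [2, 3, 1, 3, 2, 0, 1, 3, 2, 1, 3, 1],
  [1, 3, 2, 0, 1, 3, 2, 0, 1, 3, 2, 0, 1, 3, 2, 0, 1, 3, 1, 0],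
  [1, 3, 2, 1, 3],
  [2, 3, 1, 3, 2, 0, 1, 3, 2, 1, 3, 1, 0],
  [1, 3, 2, 1, 3, 0],
  [1, 3, 2, 0, 1, 3, 2, 0, 1, 3, 2, 0, 1, 3, 2, 0, 1, 3, 0, 1],
  [0, 1, 3, 2, 1, 3, 1],
  [1, 3, 2, 0, 1, 3, 2, 0, 1, 3, 2, 0, 1, 3, 2, 0, 1, 3, 0, 1, 0],
  [1, 3, 2, 1, 3, 1],
  [0, 1, 3, 2, 1, 3, 1, 0],
  [1, 3, 2, 1, 3, 1, 0],
  [2, 3, 1, 3, 2, 0, 1, 3, 2, 1, 3, 0, 1],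
  [0, 1, 3, 2, 1, 3, 0, 1],
  [2, 3, 1, 3, 2, 0, 1, 3, 2, 1, 3, 0, 1, 0],
  [1, 3, 2, 1, 3, 0, 1],
  [0, 1, 3, 2, 1, 3, 0, 1, 0],
  [1, 3, 2, 1, 3, 0, 1, 0],
  [3, 2, 0, 1, 3, 2, 0, 1, 3, 2, 0, 1, 3, 2, 0, 1, 3],
  [2, 3, 1, 3, 2, 0, 1, 3, 2, 0, 1, 3],
  [3, 2, 0, 1, 3, 2, 0, 1, 3, 2, 0, 1, 3, 2, 0, 1, 3, 0],
  [0, 1, 3, 2, 0, 1, 3],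
  [2, 3, 1, 3, 2, 0, 1, 3, 2, 0, 1, 3, 0],
  [0, 1, 3, 2, 0, 1, 3, 0],
  [3, 2, 0, 1, 3, 2, 0, 1, 3, 2, 0, 1, 3, 2, 0, 1, 3, 1],
  [2, 3, 1, 3, 2, 0, 1, 3, 2, 0, 1, 3, 1],
  [3, 2, 0, 1, 3, 2, 0, 1, 3, 2, 0, 1, 3, 2, 0, 1, 3, 1, 0],
  [3, 2, 1, 3],
  [2, 3, 1, 3, 2, 0, 1, 3, 2, 0, 1, 3, 1, 0],
  [3, 2, 1, 3, 0],
  [3, 2, 0, 1, 3, 2, 0, 1, 3, 2, 0, 1, 3, 2, 0, 1, 3, 0, 1],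
  [0, 1, 3, 2, 0, 1, 3, 1],
  [3, 2, 0, 1, 3, 2, 0, 1, 3, 2, 0, 1, 3, 2, 0, 1, 3, 0, 1, 0],
  [3, 2, 1, 3, 1],
  [0, 1, 3, 2, 0, 1, 3, 1, 0],
  [3, 2, 1, 3, 1, 0],
  [2, 3, 1, 3, 2, 0, 1, 3, 2, 0, 1, 3, 0, 1],
  [0, 1, 3, 2, 0, 1, 3, 0, 1],
  [2, 3, 1, 3, 2, 0, 1, 3, 2, 0, 1, 3, 0, 1, 0],
  [3, 2, 1, 3, 0, 1],
  [0, 1, 3, 2, 0, 1, 3, 0, 1, 0],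
  [3, 2, 1, 3, 0, 1, 0],
  [3, 0, 1, 3, 2, 0, 1, 3, 2, 0, 1, 3, 2, 0, 1, 3],
  [2, 1, 3, 2, 0, 1, 3, 2, 0, 1, 3],
  [3, 0, 1, 3, 2, 0, 1, 3, 2, 0, 1, 3, 2, 0, 1, 3, 0],
  [2, 3, 2, 0, 1, 3, 2, 0, 1, 3],
  [2, 1, 3, 2, 0, 1, 3, 2, 0, 1, 3, 0],
  [2, 3, 2, 0, 1, 3, 2, 0, 1, 3, 0],
  [3, 0, 1, 3, 2, 0, 1, 3, 2, 0, 1, 3, 2, 0, 1, 3, 1],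
  [2, 1, 3, 2, 0, 1, 3, 2, 0, 1, 3, 1],
  [3, 0, 1, 3, 2, 0, 1, 3, 2, 0, 1, 3, 2, 0, 1, 3, 1, 0],
  [3, 1, 3],
  [2, 1, 3, 2, 0, 1, 3, 2, 0, 1, 3, 1, 0],
  [3, 1, 3, 0],
  [3, 0, 1, 3, 2, 0, 1, 3, 2, 0, 1, 3, 2, 0, 1, 3, 0, 1],
  [2, 3, 2, 0, 1, 3, 2, 0, 1, 3, 1],
  [3, 0, 1, 3, 2, 0, 1, 3, 2, 0, 1, 3, 2, 0, 1, 3, 0, 1, 0],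
  [3, 1, 3, 1],
  [2, 3, 2, 0, 1, 3, 2, 0, 1, 3, 1, 0],
  [3, 1, 3, 1, 0],
  [2, 1, 3, 2, 0, 1, 3, 2, 0, 1, 3, 0, 1],
  [2, 3, 2, 0, 1, 3, 2, 0, 1, 3, 0, 1],
  [2, 1, 3, 2, 0, 1, 3, 2, 0, 1, 3, 0, 1, 0],
  [3, 1, 3, 0, 1],
  [2, 3, 2, 0, 1, 3, 2, 0, 1, 3, 0, 1, 0],
  [3, 1, 3, 0, 1, 0],
  [2, 1, 3, 2, 0, 1, 3, 2, 0, 1, 3, 2, 0, 1, 3],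
  [2, 3, 2, 0, 1, 3, 2, 0, 1, 3, 2, 0, 1, 3],
  [2, 1, 3, 2, 0, 1, 3, 2, 0, 1, 3, 2, 0, 1, 3, 0],
  [3, 1, 3, 2, 0, 1, 3],
  [2, 3, 2, 0, 1, 3, 2, 0, 1, 3, 2, 0, 1, 3, 0],
  [3, 1, 3, 2, 0, 1, 3, 0],
  [2, 1, 3, 2, 0, 1, 3, 2, 0, 1, 3, 2, 0, 1, 3, 1],
  [2, 3, 2, 0, 1, 3, 2, 0, 1, 3, 2, 0, 1, 3, 1],
  [2, 1, 3, 2, 0, 1, 3, 2, 0, 1, 3, 2, 0, 1, 3, 1, 0],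
  [2, 0, 1, 3],
  [2, 3, 2, 0, 1, 3, 2, 0, 1, 3, 2, 0, 1, 3, 1, 0],
  [2, 0, 1, 3, 0],
  [2, 1, 3, 2, 0, 1, 3, 2, 0, 1, 3, 2, 0, 1, 3, 0, 1],
  [3, 1, 3, 2, 0, 1, 3, 1],
  [2, 1, 3, 2, 0, 1, 3, 2, 0, 1, 3, 2, 0, 1, 3, 0, 1, 0],
  [2, 0, 1, 3, 1],
  [3, 1, 3, 2, 0, 1, 3, 1, 0],
  [2, 0, 1, 3, 1, 0],
  [2, 3, 2, 0, 1, 3, 2, 0, 1, 3, 2, 0, 1, 3, 0, 1],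
  [3, 1, 3, 2, 0, 1, 3, 0, 1],
  [2, 3, 2, 0, 1, 3, 2, 0, 1, 3, 2, 0, 1, 3, 0, 1, 0],
  [2, 0, 1, 3, 0, 1],
  [3, 1, 3, 2, 0, 1, 3, 0, 1, 0],
  [2, 0, 1, 3, 0, 1, 0],
  [1, 3, 2, 0, 1, 3, 2, 0, 1, 3, 2, 0, 1, 3],
  [3, 2, 0, 1, 3, 2, 0, 1, 3, 2, 0, 1, 3],
  [1, 3, 2, 0, 1, 3, 2, 0, 1, 3, 2, 0, 1, 3, 0],
  [2, 3, 1, 3, 2, 0, 1, 3],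
  [3, 2, 0, 1, 3, 2, 0, 1, 3, 2, 0, 1, 3, 0],
  [2, 3, 1, 3, 2, 0, 1, 3, 0],
  [1, 3, 2, 0, 1, 3, 2, 0, 1, 3, 2, 0, 1, 3, 1],
  [3, 2, 0, 1, 3, 2, 0, 1, 3, 2, 0, 1, 3, 1],
  [1, 3, 2, 0, 1, 3, 2, 0, 1, 3, 2, 0, 1, 3, 1, 0],
  [0, 1, 3],
  [3, 2, 0, 1, 3, 2, 0, 1, 3, 2, 0, 1, 3, 1, 0],
  [0, 1, 3, 0],
  [1, 3, 2, 0, 1, 3, 2, 0, 1, 3, 2, 0, 1, 3, 0, 1],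
  [2, 3, 1, 3, 2, 0, 1, 3, 1],
  [1, 3, 2, 0, 1, 3, 2, 0, 1, 3, 2, 0, 1, 3, 0, 1, 0],
  [0, 1, 3, 1],
  [2, 3, 1, 3, 2, 0, 1, 3, 1, 0],
  [0, 1, 3, 1, 0],
  [3, 2, 0, 1, 3, 2, 0, 1, 3, 2, 0, 1, 3, 0, 1],
  [2, 3, 1, 3, 2, 0, 1, 3, 0, 1],
  [3, 2, 0, 1, 3, 2, 0, 1, 3, 2, 0, 1, 3, 0, 1, 0],
  [0, 1, 3, 0, 1],
  [2, 3, 1, 3, 2, 0, 1, 3, 0, 1, 0],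
  [0, 1, 3, 0, 1, 0],
  [3, 2, 1, 3, 2, 0, 1, 3, 2, 0, 1, 3, 2, 0, 1, 3],
  [2, 3, 0, 1, 3, 2, 0, 1, 3, 2, 0, 1, 3],
  [3, 2, 1, 3, 2, 0, 1, 3, 2, 0, 1, 3, 2, 0, 1, 3, 0],
  [1, 3, 2, 0, 1, 3],
  [2, 3, 0, 1, 3, 2, 0, 1, 3, 2, 0, 1, 3, 0],
  [1, 3, 2, 0, 1, 3, 0],
  [3, 2, 1, 3, 2, 0, 1, 3, 2, 0, 1, 3, 2, 0, 1, 3, 1],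
  [2, 3, 0, 1, 3, 2, 0, 1, 3, 2, 0, 1, 3, 1],
  [3, 2, 1, 3, 2, 0, 1, 3, 2, 0, 1, 3, 2, 0, 1, 3, 1, 0],
  [3, 2, 0, 1, 3],
  [2, 3, 0, 1, 3, 2, 0, 1, 3, 2, 0, 1, 3, 1, 0],
  [3, 2, 0, 1, 3, 0],
  [3, 2, 1, 3, 2, 0, 1, 3, 2, 0, 1, 3, 2, 0, 1, 3, 0, 1],
  [1, 3, 2, 0, 1, 3, 1],
  [3, 2, 1, 3, 2, 0, 1, 3, 2, 0, 1, 3, 2, 0, 1, 3, 0, 1, 0],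
  [3, 2, 0, 1, 3, 1],
  [1, 3, 2, 0, 1, 3, 1, 0],
  [3, 2, 0, 1, 3, 1, 0],
  [2, 3, 0, 1, 3, 2, 0, 1, 3, 2, 0, 1, 3, 0, 1],
  [1, 3, 2, 0, 1, 3, 0, 1],
  [2, 3, 0, 1, 3, 2, 0, 1, 3, 2, 0, 1, 3, 0, 1, 0],
  [3, 2, 0, 1, 3, 0, 1],
  [1, 3, 2, 0, 1, 3, 0, 1, 0],
  [3, 2, 0, 1, 3, 0, 1, 0],
  [3, 1, 3, 2, 0, 1, 3, 2, 0, 1, 3, 2, 0, 1, 3],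
  [2, 0, 1, 3, 2, 0, 1, 3, 2, 0, 1, 3],
  [3, 1, 3, 2, 0, 1, 3, 2, 0, 1, 3, 2, 0, 1, 3, 0],
  [2, 3, 2, 1, 3, 2, 0, 1, 3],
  [2, 0, 1, 3, 2, 0, 1, 3, 2, 0, 1, 3, 0],
  [2, 3, 2, 1, 3, 2, 0, 1, 3, 0],
  [3, 1, 3, 2, 0, 1, 3, 2, 0, 1, 3, 2, 0, 1, 3, 1],
  [2, 0, 1, 3, 2, 0, 1, 3, 2, 0, 1, 3, 1],
  [3, 1, 3, 2, 0, 1, 3, 2, 0, 1, 3, 2, 0, 1, 3, 1, 0],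
  [3, 0, 1, 3],
  [2, 0, 1, 3, 2, 0, 1, 3, 2, 0, 1, 3, 1, 0],
  [3, 0, 1, 3, 0],
  [3, 1, 3, 2, 0, 1, 3, 2, 0, 1, 3, 2, 0, 1, 3, 0, 1],
  [2, 3, 2, 1, 3, 2, 0, 1, 3, 1],
  [3, 1, 3, 2, 0, 1, 3, 2, 0, 1, 3, 2, 0, 1, 3, 0, 1, 0],
  [3, 0, 1, 3, 1],
  [2, 3, 2, 1, 3, 2, 0, 1, 3, 1, 0],
  [3, 0, 1, 3, 1, 0],
  [2, 0, 1, 3, 2, 0, 1, 3, 2, 0, 1, 3, 0, 1],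
  [2, 3, 2, 1, 3, 2, 0, 1, 3, 0, 1],
  [2, 0, 1, 3, 2, 0, 1, 3, 2, 0, 1, 3, 0, 1, 0],
  [3, 0, 1, 3, 0, 1],
  [2, 3, 2, 1, 3, 2, 0, 1, 3, 0, 1, 0],
  [3, 0, 1, 3, 0, 1, 0],
  [3, 1, 3, 2, 0, 1, 3, 2, 1, 3, 2, 0, 1, 3],
  [2, 0, 1, 3, 2, 1, 3, 2, 0, 1, 3],
  [3, 1, 3, 2, 0, 1, 3, 2, 1, 3, 2, 0, 1, 3, 0],
  [2, 1, 3, 2, 1, 3, 2, 0, 1, 3],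
  [2, 0, 1, 3, 2, 1, 3, 2, 0, 1, 3, 0],
  [2, 1, 3, 2, 1, 3, 2, 0, 1, 3, 0],
  [3, 1, 3, 2, 0, 1, 3, 2, 1, 3, 2, 0, 1, 3, 1],
  [2, 0, 1, 3, 2, 1, 3, 2, 0, 1, 3, 1],
  [3, 1, 3, 2, 0, 1, 3, 2, 1, 3, 2, 0, 1, 3, 1, 0],
  [1, 3, 0, 1, 3],
  [2, 0, 1, 3, 2, 1, 3, 2, 0, 1, 3, 1, 0],
  [1, 3, 0, 1, 3, 0],
  [3, 1, 3, 2, 0, 1, 3, 2, 1, 3, 2, 0, 1, 3, 0, 1],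
  [2, 1, 3, 2, 1, 3, 2, 0, 1, 3, 1],
  [3, 1, 3, 2, 0, 1, 3, 2, 1, 3, 2, 0, 1, 3, 0, 1, 0],
  [1, 3, 0, 1, 3, 1],
  [2, 1, 3, 2, 1, 3, 2, 0, 1, 3, 1, 0],
  [1, 3, 0, 1, 3, 1, 0],
  [2, 0, 1, 3, 2, 1, 3, 2, 0, 1, 3, 0, 1],
  [2, 1, 3, 2, 1, 3, 2, 0, 1, 3, 0, 1],
  [2, 0, 1, 3, 2, 1, 3, 2, 0, 1, 3, 0, 1, 0],
  [1, 3, 0, 1, 3, 0, 1],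
  [2, 1, 3, 2, 1, 3, 2, 0, 1, 3, 0, 1, 0],
  [1, 3, 0, 1, 3, 0, 1, 0],
  [1, 3, 2, 0, 1, 3, 2, 1, 3, 2, 0, 1, 3],
  [3, 2, 0, 1, 3, 2, 1, 3, 2, 0, 1, 3],
  [1, 3, 2, 0, 1, 3, 2, 1, 3, 2, 0, 1, 3, 0],
  [3, 2, 1, 3, 2, 1, 3, 2, 0, 1, 3],
  [3, 2, 0, 1, 3, 2, 1, 3, 2, 0, 1, 3, 0],
  [3, 2, 1, 3, 2, 1, 3, 2, 0, 1, 3, 0],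
  [1, 3, 2, 0, 1, 3, 2, 1, 3, 2, 0, 1, 3, 1],
  [3, 2, 0, 1, 3, 2, 1, 3, 2, 0, 1, 3, 1],
  [1, 3, 2, 0, 1, 3, 2, 1, 3, 2, 0, 1, 3, 1, 0],
  [3, 1, 3, 0, 1, 3],
  [3, 2, 0, 1, 3, 2, 1, 3, 2, 0, 1, 3, 1, 0],
  [3, 1, 3, 0, 1, 3, 0],
  [1, 3, 2, 0, 1, 3, 2, 1, 3, 2, 0, 1, 3, 0, 1],
  [3, 2, 1, 3, 2, 1, 3, 2, 0, 1, 3, 1],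
  [1, 3, 2, 0, 1, 3, 2, 1, 3, 2, 0, 1, 3, 0, 1, 0],
  [3, 1, 3, 0, 1, 3, 1],
  [3, 2, 1, 3, 2, 1, 3, 2, 0, 1, 3, 1, 0],
  [3, 1, 3, 0, 1, 3, 1, 0],
  [3, 2, 0, 1, 3, 2, 1, 3, 2, 0, 1, 3, 0, 1],
  [3, 2, 1, 3, 2, 1, 3, 2, 0, 1, 3, 0, 1],
  [3, 2, 0, 1, 3, 2, 1, 3, 2, 0, 1, 3, 0, 1, 0],
  [3, 1, 3, 0, 1, 3, 0, 1],
  [3, 2, 1, 3, 2, 1, 3, 2, 0, 1, 3, 0, 1, 0],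
  [3, 1, 3, 0, 1, 3, 0, 1, 0],
  [3, 2, 1, 3, 2, 0, 1, 3, 2, 0, 1, 3, 2, 0, 1, 3, 2, 0, 1, 3],
  [1, 3, 2, 0, 1, 3, 2, 1, 3],
  [3, 2, 1, 3, 2, 0, 1, 3, 2, 0, 1, 3, 2, 0, 1, 3, 2, 0, 1, 3, 0],
  [3, 2, 0, 1, 3, 2, 1, 3],
  [1, 3, 2, 0, 1, 3, 2, 1, 3, 0],
  [3, 2, 0, 1, 3, 2, 1, 3, 0],
  [3, 2, 1, 3, 2, 0, 1, 3, 2, 0, 1, 3, 2, 0, 1, 3, 2, 0, 1, 3, 1],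
  [1, 3, 2, 0, 1, 3, 2, 1, 3, 1],
  [3, 2, 1, 3, 2, 0, 1, 3, 2, 0, 1, 3, 2, 0, 1, 3, 2, 0, 1, 3, 1, 0],
  [3, 2, 1, 3, 2, 1, 3],
  [1, 3, 2, 0, 1, 3, 2, 1, 3, 1, 0],
  [3, 2, 1, 3, 2, 1, 3, 0],
  [3, 2, 1, 3, 2, 0, 1, 3, 2, 0, 1, 3, 2, 0, 1, 3, 2, 0, 1, 3, 0, 1],
  [3, 2, 0, 1, 3, 2, 1, 3, 1],
  [3, 2, 1, 3, 2, 0, 1, 3, 2, 0, 1, 3, 2, 0, 1, 3, 2, 0, 1, 3, 0, 1, 0],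
  [3, 2, 1, 3, 2, 1, 3, 1],
  [3, 2, 0, 1, 3, 2, 1, 3, 1, 0],
  [3, 2, 1, 3, 2, 1, 3, 1, 0],
  [1, 3, 2, 0, 1, 3, 2, 1, 3, 0, 1],
  [3, 2, 0, 1, 3, 2, 1, 3, 0, 1],
  [1, 3, 2, 0, 1, 3, 2, 1, 3, 0, 1, 0],
  [3, 2, 1, 3, 2, 1, 3, 0, 1],
  [3, 2, 0, 1, 3, 2, 1, 3, 0, 1, 0],
  [3, 2, 1, 3, 2, 1, 3, 0, 1, 0],
  [2, 1, 3, 2, 0, 1, 3, 2, 0, 1, 3, 2, 0, 1, 3, 2, 0, 1, 3],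
  [3, 1, 3, 2, 0, 1, 3, 2, 1, 3],
  [2, 1, 3, 2, 0, 1, 3, 2, 0, 1, 3, 2, 0, 1, 3, 2, 0, 1, 3, 0],
  [2, 0, 1, 3, 2, 1, 3],
  [3, 1, 3, 2, 0, 1, 3, 2, 1, 3, 0],
  [2, 0, 1, 3, 2, 1, 3, 0],
  [2, 1, 3, 2, 0, 1, 3, 2, 0, 1, 3, 2, 0, 1, 3, 2, 0, 1, 3, 1],
  [3, 1, 3, 2, 0, 1, 3, 2, 1, 3, 1],
  [2, 1, 3, 2, 0, 1, 3, 2, 0, 1, 3, 2, 0, 1, 3, 2, 0, 1, 3, 1, 0],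
  [2, 1, 3, 2, 1, 3],
  [3, 1, 3, 2, 0, 1, 3, 2, 1, 3, 1, 0],
  [2, 1, 3, 2, 1, 3, 0],
  [2, 1, 3, 2, 0, 1, 3, 2, 0, 1, 3, 2, 0, 1, 3, 2, 0, 1, 3, 0, 1],
  [2, 0, 1, 3, 2, 1, 3, 1],
  [2, 1, 3, 2, 0, 1, 3, 2, 0, 1, 3, 2, 0, 1, 3, 2, 0, 1, 3, 0, 1, 0],
  [2, 1, 3, 2, 1, 3, 1],
  [2, 0, 1, 3, 2, 1, 3, 1, 0],
  [2, 1, 3, 2, 1, 3, 1, 0],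
  [3, 1, 3, 2, 0, 1, 3, 2, 1, 3, 0, 1],
  [2, 0, 1, 3, 2, 1, 3, 0, 1],
  [3, 1, 3, 2, 0, 1, 3, 2, 1, 3, 0, 1, 0],
  [2, 1, 3, 2, 1, 3, 0, 1],
  [2, 0, 1, 3, 2, 1, 3, 0, 1, 0],
  [2, 1, 3, 2, 1, 3, 0, 1, 0],
  [2, 3, 2, 0, 1, 3, 2, 0, 1, 3, 2, 0, 1, 3, 2, 0, 1, 3],
  [3, 1, 3, 2, 0, 1, 3, 2, 0, 1, 3],
  [2, 3, 2, 0, 1, 3, 2, 0, 1, 3, 2, 0, 1, 3, 2, 0, 1, 3, 0],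
  [2, 0, 1, 3, 2, 0, 1, 3],
  [3, 1, 3, 2, 0, 1, 3, 2, 0, 1, 3, 0],
  [2, 0, 1, 3, 2, 0, 1, 3, 0],
  [2, 3, 2, 0, 1, 3, 2, 0, 1, 3, 2, 0, 1, 3, 2, 0, 1, 3, 1],
  [3, 1, 3, 2, 0, 1, 3, 2, 0, 1, 3, 1],
  [2, 3, 2, 0, 1, 3, 2, 0, 1, 3, 2, 0, 1, 3, 2, 0, 1, 3, 1, 0],
  [2, 3, 2, 1, 3],
  [3, 1, 3, 2, 0, 1, 3, 2, 0, 1, 3, 1, 0],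
  [2, 3, 2, 1, 3, 0],
  [2, 3, 2, 0, 1, 3, 2, 0, 1, 3, 2, 0, 1, 3, 2, 0, 1, 3, 0, 1],
  [2, 0, 1, 3, 2, 0, 1, 3, 1],
  [2, 3, 2, 0, 1, 3, 2, 0, 1, 3, 2, 0, 1, 3, 2, 0, 1, 3, 0, 1, 0],
  [2, 3, 2, 1, 3, 1],
  [2, 0, 1, 3, 2, 0, 1, 3, 1, 0],
  [2, 3, 2, 1, 3, 1, 0],
  [3, 1, 3, 2, 0, 1, 3, 2, 0, 1, 3, 0, 1],
  [2, 0, 1, 3, 2, 0, 1, 3, 0, 1],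
  [3, 1, 3, 2, 0, 1, 3, 2, 0, 1, 3, 0, 1, 0],
  [2, 3, 2, 1, 3, 0, 1],
  [2, 0, 1, 3, 2, 0, 1, 3, 0, 1, 0],
  [2, 3, 2, 1, 3, 0, 1, 0],
  [2, 3, 0, 1, 3, 2, 0, 1, 3, 2, 0, 1, 3, 2, 0, 1, 3],
  [1, 3, 2, 0, 1, 3, 2, 0, 1, 3],
  [2, 3, 0, 1, 3, 2, 0, 1, 3, 2, 0, 1, 3, 2, 0, 1, 3, 0],
  [3, 2, 0, 1, 3, 2, 0, 1, 3],
  [1, 3, 2, 0, 1, 3, 2, 0, 1, 3, 0],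
  [3, 2, 0, 1, 3, 2, 0, 1, 3, 0],
  [2, 3, 0, 1, 3, 2, 0, 1, 3, 2, 0, 1, 3, 2, 0, 1, 3, 1],
  [1, 3, 2, 0, 1, 3, 2, 0, 1, 3, 1],
  [2, 3, 0, 1, 3, 2, 0, 1, 3, 2, 0, 1, 3, 2, 0, 1, 3, 1, 0],
  [2, 3, 1, 3],
  [1, 3, 2, 0, 1, 3, 2, 0, 1, 3, 1, 0],
  [2, 3, 1, 3, 0],
  [2, 3, 0, 1, 3, 2, 0, 1, 3, 2, 0, 1, 3, 2, 0, 1, 3, 0, 1],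
  [3, 2, 0, 1, 3, 2, 0, 1, 3, 1],
  [2, 3, 0, 1, 3, 2, 0, 1, 3, 2, 0, 1, 3, 2, 0, 1, 3, 0, 1, 0],
  [2, 3, 1, 3, 1],
  [3, 2, 0, 1, 3, 2, 0, 1, 3, 1, 0],
  [2, 3, 1, 3, 1, 0],
  [1, 3, 2, 0, 1, 3, 2, 0, 1, 3, 0, 1],
  [3, 2, 0, 1, 3, 2, 0, 1, 3, 0, 1],
  [1, 3, 2, 0, 1, 3, 2, 0, 1, 3, 0, 1, 0],
  [2, 3, 1, 3, 0, 1],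
  [3, 2, 0, 1, 3, 2, 0, 1, 3, 0, 1, 0],
  [2, 3, 1, 3, 0, 1, 0],
  [2, 3, 2, 1, 3, 2, 0, 1, 3, 2, 0, 1, 3, 2, 0, 1, 3],
  [3, 0, 1, 3, 2, 0, 1, 3, 2, 0, 1, 3],
  [2, 3, 2, 1, 3, 2, 0, 1, 3, 2, 0, 1, 3, 2, 0, 1, 3, 0],
  [2, 1, 3, 2, 0, 1, 3],
  [3, 0, 1, 3, 2, 0, 1, 3, 2, 0, 1, 3, 0],
  [2, 1, 3, 2, 0, 1, 3, 0],
  [2, 3, 2, 1, 3, 2, 0, 1, 3, 2, 0, 1, 3, 2, 0, 1, 3, 1],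
  [3, 0, 1, 3, 2, 0, 1, 3, 2, 0, 1, 3, 1],
  [2, 3, 2, 1, 3, 2, 0, 1, 3, 2, 0, 1, 3, 2, 0, 1, 3, 1, 0],
  [2, 3, 2, 0, 1, 3],
  [3, 0, 1, 3, 2, 0, 1, 3, 2, 0, 1, 3, 1, 0],
  [2, 3, 2, 0, 1, 3, 0],
  [2, 3, 2, 1, 3, 2, 0, 1, 3, 2, 0, 1, 3, 2, 0, 1, 3, 0, 1],
  [2, 1, 3, 2, 0, 1, 3, 1],
  [2, 3, 2, 1, 3, 2, 0, 1, 3, 2, 0, 1, 3, 2, 0, 1, 3, 0, 1, 0],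
  [2, 3, 2, 0, 1, 3, 1],
  [2, 1, 3, 2, 0, 1, 3, 1, 0],
  [2, 3, 2, 0, 1, 3, 1, 0],
  [3, 0, 1, 3, 2, 0, 1, 3, 2, 0, 1, 3, 0, 1],
  [2, 1, 3, 2, 0, 1, 3, 0, 1],
  [3, 0, 1, 3, 2, 0, 1, 3, 2, 0, 1, 3, 0, 1, 0],
  [2, 3, 2, 0, 1, 3, 0, 1],
  [2, 1, 3, 2, 0, 1, 3, 0, 1, 0],
  [2, 3, 2, 0, 1, 3, 0, 1, 0],
  [2, 3, 1, 3, 2, 0, 1, 3, 2, 0, 1, 3, 2, 0, 1, 3],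
  [0, 1, 3, 2, 0, 1, 3, 2, 0, 1, 3],
  [2, 3, 1, 3, 2, 0, 1, 3, 2, 0, 1, 3, 2, 0, 1, 3, 0],
  [3, 2, 1, 3, 2, 0, 1, 3],
  [0, 1, 3, 2, 0, 1, 3, 2, 0, 1, 3, 0],
  [3, 2, 1, 3, 2, 0, 1, 3, 0],
  [2, 3, 1, 3, 2, 0, 1, 3, 2, 0, 1, 3, 2, 0, 1, 3, 1],
  [0, 1, 3, 2, 0, 1, 3, 2, 0, 1, 3, 1],
  [2, 3, 1, 3, 2, 0, 1, 3, 2, 0, 1, 3, 2, 0, 1, 3, 1, 0],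
  [2, 3, 0, 1, 3],
  [0, 1, 3, 2, 0, 1, 3, 2, 0, 1, 3, 1, 0],
  [2, 3, 0, 1, 3, 0],
  [2, 3, 1, 3, 2, 0, 1, 3, 2, 0, 1, 3, 2, 0, 1, 3, 0, 1],
  [3, 2, 1, 3, 2, 0, 1, 3, 1],
  [2, 3, 1, 3, 2, 0, 1, 3, 2, 0, 1, 3, 2, 0, 1, 3, 0, 1, 0],
  [2, 3, 0, 1, 3, 1],
  [3, 2, 1, 3, 2, 0, 1, 3, 1, 0],
  [2, 3, 0, 1, 3, 1, 0],
  [0, 1, 3, 2, 0, 1, 3, 2, 0, 1, 3, 0, 1],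
  [3, 2, 1, 3, 2, 0, 1, 3, 0, 1],
  [0, 1, 3, 2, 0, 1, 3, 2, 0, 1, 3, 0, 1, 0],
  [2, 3, 0, 1, 3, 0, 1],
  [3, 2, 1, 3, 2, 0, 1, 3, 0, 1, 0],
  [2, 3, 0, 1, 3, 0, 1, 0],
  [2, 3, 1, 3, 2, 0, 1, 3, 2, 1, 3, 2, 0, 1, 3],
  [0, 1, 3, 2, 1, 3, 2, 0, 1, 3],
  [2, 3, 1, 3, 2, 0, 1, 3, 2, 1, 3, 2, 0, 1, 3, 0],
  [1, 3, 2, 1, 3, 2, 0, 1, 3],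
  [0, 1, 3, 2, 1, 3, 2, 0, 1, 3, 0],
  [1, 3, 2, 1, 3, 2, 0, 1, 3, 0],
  [2, 3, 1, 3, 2, 0, 1, 3, 2, 1, 3, 2, 0, 1, 3, 1],
  [0, 1, 3, 2, 1, 3, 2, 0, 1, 3, 1],
  [2, 3, 1, 3, 2, 0, 1, 3, 2, 1, 3, 2, 0, 1, 3, 1, 0],
  [2, 1, 3, 0, 1, 3],
  [0, 1, 3, 2, 1, 3, 2, 0, 1, 3, 1, 0],
  [2, 1, 3, 0, 1, 3, 0],
  [2, 3, 1, 3, 2, 0, 1, 3, 2, 1, 3, 2, 0, 1, 3, 0, 1],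
  [1, 3, 2, 1, 3, 2, 0, 1, 3, 1],
  [2, 3, 1, 3, 2, 0, 1, 3, 2, 1, 3, 2, 0, 1, 3, 0, 1, 0],
  [2, 1, 3, 0, 1, 3, 1],
  [1, 3, 2, 1, 3, 2, 0, 1, 3, 1, 0],
  [2, 1, 3, 0, 1, 3, 1, 0],
  [0, 1, 3, 2, 1, 3, 2, 0, 1, 3, 0, 1],
  [1, 3, 2, 1, 3, 2, 0, 1, 3, 0, 1],
  [0, 1, 3, 2, 1, 3, 2, 0, 1, 3, 0, 1, 0],
  [2, 1, 3, 0, 1, 3, 0, 1],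
  [1, 3, 2, 1, 3, 2, 0, 1, 3, 0, 1, 0],
  [2, 1, 3, 0, 1, 3, 0, 1, 0],
  [1, 3, 2, 0, 1, 3, 2, 1, 3, 0, 1, 3],
  [3, 2, 0, 1, 3, 2, 1, 3, 0, 1, 3],
  [1, 3, 2, 0, 1, 3, 2, 1, 3, 0, 1, 3, 0],
  [3, 2, 1, 3, 2, 1, 3, 0, 1, 3],
  [3, 2, 0, 1, 3, 2, 1, 3, 0, 1, 3, 0],
  [3, 2, 1, 3, 2, 1, 3, 0, 1, 3, 0],
  [1, 3, 2, 0, 1, 3, 2, 1, 3, 0, 1, 3, 1],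
  [3, 2, 0, 1, 3, 2, 1, 3, 0, 1, 3, 1],
  [1, 3, 2, 0, 1, 3, 2, 1, 3, 0, 1, 3, 1, 0],
  [2, 3, 1, 3, 0, 1, 3],
  [3, 2, 0, 1, 3, 2, 1, 3, 0, 1, 3, 1, 0],
  [2, 3, 1, 3, 0, 1, 3, 0],
  [1, 3, 2, 0, 1, 3, 2, 1, 3, 0, 1, 3, 0, 1],
  [3, 2, 1, 3, 2, 1, 3, 0, 1, 3, 1],
  [1, 3, 2, 0, 1, 3, 2, 1, 3, 0, 1, 3, 0, 1, 0],
  [2, 3, 1, 3, 0, 1, 3, 1],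
  [3, 2, 1, 3, 2, 1, 3, 0, 1, 3, 1, 0],
  [2, 3, 1, 3, 0, 1, 3, 1, 0],
  [3, 2, 0, 1, 3, 2, 1, 3, 0, 1, 3, 0, 1],
  [3, 2, 1, 3, 2, 1, 3, 0, 1, 3, 0, 1],
  [3, 2, 0, 1, 3, 2, 1, 3, 0, 1, 3, 0, 1, 0],
  [2, 3, 1, 3, 0, 1, 3, 0, 1],
  [3, 2, 1, 3, 2, 1, 3, 0, 1, 3, 0, 1, 0],
  [2, 3, 1, 3, 0, 1, 3, 0, 1, 0],
  [2, 3, 1, 3, 2, 0, 1, 3, 2, 1, 3, 0, 1, 3],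
  [0, 1, 3, 2, 1, 3, 0, 1, 3],
  [2, 3, 1, 3, 2, 0, 1, 3, 2, 1, 3, 0, 1, 3, 0],
  [1, 3, 2, 1, 3, 0, 1, 3],
  [0, 1, 3, 2, 1, 3, 0, 1, 3, 0],
  [1, 3, 2, 1, 3, 0, 1, 3, 0],
  [2, 3, 1, 3, 2, 0, 1, 3, 2, 1, 3, 0, 1, 3, 1],
  [0, 1, 3, 2, 1, 3, 0, 1, 3, 1],
  [2, 3, 1, 3, 2, 0, 1, 3, 2, 1, 3, 0, 1, 3, 1, 0],
  [3, 2, 1, 3, 0, 1, 3],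
  [0, 1, 3, 2, 1, 3, 0, 1, 3, 1, 0],
  [3, 2, 1, 3, 0, 1, 3, 0],
  [2, 3, 1, 3, 2, 0, 1, 3, 2, 1, 3, 0, 1, 3, 0, 1],
  [1, 3, 2, 1, 3, 0, 1, 3, 1],
  [2, 3, 1, 3, 2, 0, 1, 3, 2, 1, 3, 0, 1, 3, 0, 1, 0],
  [3, 2, 1, 3, 0, 1, 3, 1],
  [1, 3, 2, 1, 3, 0, 1, 3, 1, 0],
  [3, 2, 1, 3, 0, 1, 3, 1, 0],
  [0, 1, 3, 2, 1, 3, 0, 1, 3, 0, 1],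
  [1, 3, 2, 1, 3, 0, 1, 3, 0, 1],
  [0, 1, 3, 2, 1, 3, 0, 1, 3, 0, 1, 0],
  [3, 2, 1, 3, 0, 1, 3, 0, 1],
  [1, 3, 2, 1, 3, 0, 1, 3, 0, 1, 0],
  [3, 2, 1, 3, 0, 1, 3, 0, 1, 0],
  [3, 1, 3, 2, 0, 1, 3, 2, 1, 3, 0, 1, 3],
  [2, 0, 1, 3, 2, 1, 3, 0, 1, 3],
  [3, 1, 3, 2, 0, 1, 3, 2, 1, 3, 0, 1, 3, 0],
  [2, 1, 3, 2, 1, 3, 0, 1, 3],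
  [2, 0, 1, 3, 2, 1, 3, 0, 1, 3, 0],
  [2, 1, 3, 2, 1, 3, 0, 1, 3, 0],
  [3, 1, 3, 2, 0, 1, 3, 2, 1, 3, 0, 1, 3, 1],
  [2, 0, 1, 3, 2, 1, 3, 0, 1, 3, 1],
  [3, 1, 3, 2, 0, 1, 3, 2, 1, 3, 0, 1, 3, 1, 0],
  [2, 3, 2, 1, 3, 0, 1, 3],
  [2, 0, 1, 3, 2, 1, 3, 0, 1, 3, 1, 0],
  [2, 3, 2, 1, 3, 0, 1, 3, 0],
  [3, 1, 3, 2, 0, 1, 3, 2, 1, 3, 0, 1, 3, 0, 1],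
  [2, 1, 3, 2, 1, 3, 0, 1, 3, 1],
  [3, 1, 3, 2, 0, 1, 3, 2, 1, 3, 0, 1, 3, 0, 1, 0],
  [2, 3, 2, 1, 3, 0, 1, 3, 1],
  [2, 1, 3, 2, 1, 3, 0, 1, 3, 1, 0],
  [2, 3, 2, 1, 3, 0, 1, 3, 1, 0],
  [2, 0, 1, 3, 2, 1, 3, 0, 1, 3, 0, 1],
  [2, 1, 3, 2, 1, 3, 0, 1, 3, 0, 1],
  [2, 0, 1, 3, 2, 1, 3, 0, 1, 3, 0, 1, 0],
  [2, 3, 2, 1, 3, 0, 1, 3, 0, 1],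
  [2, 1, 3, 2, 1, 3, 0, 1, 3, 0, 1, 0],
  [2, 3, 2, 1, 3, 0, 1, 3, 0, 1, 0]]

end Cfsg.Agent.Lib.Helper18
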