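/-
helper18: the table checks for `N¹/H¹` of the twisted groups of types D4 and E6 (Coxeter groups of types G2, F4).
-/
import Cfsg.Agent.Lib.Helper18.Tw25
import Cfsg.Agent.Lib.Helper18.TwCoxListD4
import Cfsg.Agent.Lib.Helper18.TwCoxListE6
import Cfsg.Agent.Lib.Helper18.TwBnD4
import Cfsg.Agent.Lib.Helper18.TwBnE6
import Cfsg.Agent.Lib.Helper19.CoxG2
import Cfsg.Agent.Lib.Helper19.CoxF4

set_option autoImplicit false

namespace Cfsg.Agent.Lib.Helper18

open Cfsg.Lie Cfsg.Agent.Lib.Helper19.Cox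

universe u

/-- The class of the node `i` of the diagram G2. -/
def twIdx_D4 (i : ℕ) : ℕ := [0, 1].getD i 0

/-- The class of the node `i` of the diagram F4. -/
def twIdx_E6 (i : ℕ) : ℕ := [0, 1, 3, 2].getD i 0

set_option maxRecDepth 1000000 in
theorem twCfg_D4_relOK :
    twCfg_D4.relOK wTabs_D4 chevD4.nroots 2 twIdx_D4 (fun i j => repG2.mAt i j) = true := by
  decide +kernel

set_option maxRecDepth 1000000 in
theorem twCfg_E6_relOK :
    twCfg_E6.relOK wTabs_E6 chevE6.nroots 4 twIdx_E6 (fun i j => repF4.mAt i j) = true := by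
  decide +kernel

set_option maxRecDepth 1000000 in
theorem twCfg_D4_listOK : twCfg_D4.listOK wTabs_D4 simples_D4 chevD4.nroots twCoxList_D4 = true := by
  decide +kernel

set_option maxRecDepth 1000000 in
theorem twCfg_E6_listOK : twCfg_E6.listOK wTabs_E6 simples_E6 chevE6.nroots twCoxList_E6 = true := by
  decide +kernel

set_option maxRecDepth 1000000 in
theorem twCoxList_D4_length : twCoxList_D4.length = 12 := by decide +kernel

set_option maxRecDepth 1000000 in
theorem twCoxList_E6_length : twCoxList_E6.length = 1152 := by decide +kernel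

section

variable {K : Type u} [Field K] [Fintype K] (φ : K ≃+* K)

theorem twD4_coxeter :
    ∃ f : ↥(chevD4.monomialSubgroup K ⊓ Gtw hD4 chevData_D4.{u} twCfg_D4 φ) →* (CoxeterMatrix.G₂).Group,
      Function.Surjective f ∧
      f.ker = (chevD4.diagonalSubgroup K ⊓ Gtw hD4 chevData_D4.{u} twCfg_D4 φ).subgroupOf
        (chevD4.monomialSubgroup K ⊓ Gtw hD4 chevData_D4.{u} twCfg_D4 φ) := by
  have hidx : ∀ i : Fin 2, twIdx_D4 i < twCfg_D4.classes.length := by decide
  have hsurj : ∀ k < twCfg_D4.classes.length, ∃ i : Fin 2, twIdx_D4 i = k := by decide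
  have hrel := rel_of_relOK chevData_D4.{u} twCfg_D4 twCfg_D4_ok' (fun i : Fin 2 => twIdx_D4 i) hidx twIdx_D4
    (fun _ => rfl) (fun i j => repG2.mAt i j) twCfg_D4_relOK
  have hlen := length_le_card_twW chevData_D4.{u} twCfg_D4 twCfg_D4_ok' (fun i : Fin 2 => twIdx_D4 i) hsurj
    twCoxList_D4 twCfg_D4_listOK
  rw [twCoxList_D4_length] at hlen
  refine exists_coxeter_hom_tw hD4 chevData_D4.{u} twCfg_D4 φ twCfg_D4_ok' twCfg_D4_bnOK' (CoxeterMatrix.G₂)
    (fun i : Fin 2 => twIdx_D4 i) hidx hsurj (fun i j => by rw [repG2_matrix i j]; exact hrel i j) ?_ ?_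
  · rw [mainG2.1]; decide
  · rw [mainG2.1]; exact hlen

theorem twE6_coxeter :
    ∃ f : ↥(chevE6.monomialSubgroup K ⊓ Gtw hE6 chevData_E6.{u} twCfg_E6 φ) →* (CoxeterMatrix.F₄).Group,
      Function.Surjective f ∧
      f.ker = (chevE6.diagonalSubgroup K ⊓ Gtw hE6 chevData_E6.{u} twCfg_E6 φ).subgroupOf
        (chevE6.monomialSubgroup K ⊓ Gtw hE6 chevData_E6.{u} twCfg_E6 φ) := by
  have hidx : ∀ i : Fin 4, twIdx_E6 i < twCfg_E6.classes.length := by decide
  have hsurj : ∀ k < twCfg_E6.classes.length, ∃ i : Fin 4, twIdx_E6 i = k := by decide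
  have hrel := rel_of_relOK chevData_E6.{u} twCfg_E6 twCfg_E6_ok' (fun i : Fin 4 => twIdx_E6 i) hidx twIdx_E6
    (fun _ => rfl) (fun i j => repF4.mAt i j) twCfg_E6_relOK
  have hlen := length_le_card_twW chevData_E6.{u} twCfg_E6 twCfg_E6_ok' (fun i : Fin 4 => twIdx_E6 i) hsurj
    twCoxList_E6 twCfg_E6_listOK
  rw [twCoxList_E6_length] at hlen
  refine exists_coxeter_hom_tw hE6 chevData_E6.{u} twCfg_E6 φ twCfg_E6_ok' twCfg_E6_bnOK' (CoxeterMatrix.F₄)
    (fun i : Fin 4 => twIdx_E6 i) hidx hsurj (fun i j => by rw [repF4_matrix i j]; exact hrel i j) ?_ ?_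
  · rw [mainF4.1]; decide
  · rw [mainF4.1]; exact hlen

end

end Cfsg.Agent.Lib.Helper18
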