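/-
helper18: the torus `H¹` of the twisted group of type D4: `|H¹| = (q - 1)(q³ - 1)`.
-/
import Cfsg.Agent.Lib.Helper18.Tw27
import Cfsg.Agent.Lib.Helper18.TwD4
import Cfsg.Agent.Lib.Helper18.CartanSNF

set_option autoImplicit false

namespace Cfsg.Agent.Lib.Helper18

open Cfsg.Lie

universe u

/-- The number of units of a finite field fixed by the Frobenius map. -/
theorem card_fixU {K : Type*} [Field K] [Fintype K] {q n : ℕ} (hq : 2 ≤ q) (hK : Fintype.card K = q ^ n)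
    (φ : K ≃+* K) (hφ : ∀ t : K, φ t = t ^ q) :
    Nat.card {x : Kˣ // Units.map ((φ : K →+* K) : K →* K) x = x} = q - 1 := by
  classical
  have hcardU : Nat.card Kˣ = q ^ n - 1 := by
    rw [Nat.card_eq_fintype_card, Fintype.card_units, hK]
  have hker : Nat.card (powMonoidHom (q - 1) : Kˣ →* Kˣ).ker = q - 1 := by
    rw [IsCyclic.card_powMonoidHom_ker, hcardU]
    apply Nat.gcd_eq_right
    have := Nat.sub_dvd_pow_sub_pow q 1 n
    simpa using this
  rw [← hker]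
  apply Nat.card_congr
  apply Equiv.subtypeEquivRight
  intro x
  rw [MonoidHom.mem_ker, powMonoidHom_apply]
  have h1 : Units.map ((φ : K →+* K) : K →* K) x = x ↔ x ^ q = x := by
    constructor
    · intro h
      apply Units.ext
      rw [Units.val_pow_eq_pow_val, ← hφ]
      exact congrArg Units.val h
    · intro h
      apply Units.ext
      show φ (x : K) = x
      rw [hφ, ← Units.val_pow_eq_pow_val, h]
  rw [h1]
  have h2 : x ^ q = x ^ (q - 1) * x := by rw [← pow_succ, Nat.sub_add_cancel (by omega)]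
  rw [h2]
  constructor
  · intro h
    exact mul_right_cancel (h.trans (one_mul x).symm)
  · intro h
    rw [h, one_mul]

/-- The inverse of the permutation of the fundamental roots of `D₄` of the triality. -/
def eD4 : Equiv.Perm (Fin 4) where
  toFun := ![3, 1, 0, 2]
  invFun := ![2, 1, 3, 0]
  left_inv := by decide
  right_inv := by decide

theorem eD4_rho : ∀ j : Fin chevD4.rank, twCfg_D4.g.rho (chevD4.simple (eD4 j)) = chevD4.simple j := by decide

theorem eD4_cartan : ∀ i j : Fin chevD4.rank, cartanMat chevD4 (eD4 i) (eD4 j) = cartanMat chevD4 i j := by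
  intro i j
  fin_cases i <;> fin_cases j <;> rfl

theorem eD4_cube : ∀ j : Fin 4, eD4 (eD4 (eD4 j)) = j := by decide

theorem idx_D4 : ∀ j < chevD4.rank, chevData_D4.{u}.simples.idxOf (chevD4.simple j) = j := by decide

theorem perm_D4 : twCfg_D4.classes.flatten.Perm (List.range chevD4.rank) := by decide

theorem cartD4 : ∀ i j : Fin 4, (cartanMat chevD4 : Matrix (Fin 4) (Fin 4) ℤ) i j
    = (![![2,-1,0,0],![-1,2,-1,-1],![0,-1,2,0],![0,-1,0,2]] : Fin 4 → Fin 4 → ℤ) i j := by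
  intro i j
  fin_cases i <;> fin_cases j <;> rfl

theorem kerD4_facts {K : Type*} [Field K] (z : Fin 4 → Kˣ)
    (hz : mpow z (cartanMat chevD4 : Matrix (Fin 4) (Fin 4) ℤ) = 1) :
    z 1 = 1 ∧ z 0 ^ 2 = 1 ∧ z 2 ^ 2 = 1 ∧ z 3 ^ 2 = 1 ∧ z 0 * z 2 * z 3 = 1 := by
  have h0 := congrFun hz 0
  have h1 := congrFun hz 1
  have h2 := congrFun hz 2
  have h3 := congrFun hz 3
  unfold mpow at h0 h1 h2 h3
  simp only [Fin.prod_univ_four, cartD4] at h0 h1 h2 h3
  simp at h0 h1 h2 h3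
  rw [mul_inv_eq_one] at h0
  rw [inv_mul_eq_one] at h2 h3
  have h1' : z 1 ^ 2 = z 0 * z 2 * z 3 := by
    have : (z 0)⁻¹ * z 1 ^ 2 * (z 2)⁻¹ * (z 3)⁻¹ = z 1 ^ 2 * (z 0 * z 2 * z 3)⁻¹ := by
      simp only [mul_inv]
      ac_rfl
    rw [this, mul_inv_eq_one] at h1
    exact h1
  have h4 : z 1 ^ 4 = z 1 ^ 3 := by
    calc z 1 ^ 4 = (z 1 ^ 2) ^ 2 := by rw [← pow_mul]
      _ = (z 0 * z 2 * z 3) ^ 2 := by rw [h1']
      _ = z 0 ^ 2 * z 2 ^ 2 * z 3 ^ 2 := by rw [mul_pow, mul_pow]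
      _ = z 1 ^ 3 := by rw [h0, ← h2, ← h3]; simp only [pow_succ, pow_zero, one_mul]
  have h5 : z 1 = 1 := by
    have : z 1 ^ 3 * z 1 = z 1 ^ 3 * 1 := by rw [← pow_succ, mul_one]; exact h4
    exact mul_left_cancel this
  rw [h5] at h0 h2 h3 h1'
  refine ⟨h5, h0, h2.symm, h3.symm, ?_⟩
  rw [← h1', one_pow]

section

variable {K : Type u} [Field K]

theorem hkerD4 : (torusHom chevD4 K).ker = (mpowHom (G := Kˣ) (cartanMat chevD4)).ker :=
  ker_torusHom chevD4 rootCoeffs_D4 rootComb_D4 (fun j => simple_lt' chevD4 hD4 j j.2)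

theorem kerD4_facts' (z : Fin 4 → Kˣ) (hz : z ∈ (torusHom chevD4 K).ker) :
    z 1 = 1 ∧ z 0 ^ 2 = 1 ∧ z 2 ^ 2 = 1 ∧ z 3 ^ 2 = 1 ∧ z 0 * z 2 * z 3 = 1 := by
  have hz' : z ∈ (mpowHom (G := Kˣ) (cartanMat chevD4)).ker := by
    rw [← hkerD4]
    exact hz
  exact kerD4_facts z (MonoidHom.mem_ker.mp hz')

theorem kerD4_sq (z : Fin 4 → Kˣ) (hz : z ∈ (torusHom chevD4 K).ker) : z ^ 2 = 1 := by
  obtain ⟨h1, h0, h2, h3, -⟩ := kerD4_facts' z hz
  funext j
  fin_cases j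
  · exact h0
  · show z 1 ^ 2 = 1
    rw [h1, one_pow]
  · exact h2
  · exact h3

/-- The units of square `1` are fixed by the automorphisms of the field. -/
theorem map_unit_of_sq (φ : K ≃+* K) (u : Kˣ) (hu : u ^ 2 = 1) : Units.map ((φ : K →+* K) : K →* K) u = u := by
  have h1 : (u : K) ^ 2 = 1 := by rw [← Units.val_pow_eq_pow_val, hu, Units.val_one]
  apply Units.ext
  show φ (u : K) = u
  rcases sq_eq_one_iff.mp h1 with h | h
  · rw [h, map_one]
  · rw [h, map_neg, map_one]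

variable (φ : K ≃+* K)

/-- The kernel of the torus homomorphism has no fixed parameters but `1`. -/
theorem kerD4_fix (z : Fin 4 → Kˣ) (hz : z ∈ (torusHom chevD4 K).ker) (hf : z ∈ fixT (D := chevD4) φ eD4) :
    z = 1 := by
  obtain ⟨h1, h0, h2, h3, h4⟩ := kerD4_facts' z hz
  have hf' : sigT (D := chevD4) φ eD4 z = z := (mem_fixT (D := chevD4) φ eD4 z).mp hf
  have f0 : Units.map ((φ : K →+* K) : K →* K) (z 3) = z 0 := congrFun hf' (0 : Fin 4)
  have f2 : Units.map ((φ : K →+* K) : K →* K) (z 0) = z 2 := congrFun hf' (2 : Fin 4)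
  rw [map_unit_of_sq φ _ h3] at f0
  rw [map_unit_of_sq φ _ h0] at f2
  rw [← f2, f0] at h4
  have h5 : z 0 = 1 := by
    calc z 0 = z 0 * z 0 * z 0 * (z 0 ^ 2)⁻¹ := by rw [pow_two]; group
      _ = 1 := by rw [h4, h0]; simp
  funext j
  fin_cases j
  · exact h5
  · exact h1
  · show z 2 = 1
    rw [← f2, h5]
  · show z 3 = 1
    rw [f0, h5]

end

section Fin

variable {K : Type u} [Field K] [Fintype K] (q : ℕ) (φ : K ≃+* K) (hφ : ∀ t : K, φ t = t ^ q)
  (hK : Fintype.card K = q ^ 3)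

include hφ hK in
theorem phi_cube_D4 (a : K) : φ (φ (φ a)) = a := by
  show φ^[3] a = a
  rw [frob_iterate φ q hφ, pow_card_pow_eq hK]

/-- The fixed parameters of the torus of type D4. -/
noncomputable def fixTEquivD4 (hφ3 : ∀ a : K, φ (φ (φ a)) = a) :
    ↥(fixT (D := chevD4) φ eD4) ≃ {x : Kˣ // Units.map ((φ : K →+* K) : K →* K) x = x} × Kˣ where
  toFun c := (⟨c.1 (1 : Fin 4), congrFun ((mem_fixT (D := chevD4) φ eD4 c.1).mp c.2) (1 : Fin 4)⟩, c.1 (0 : Fin 4))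
  invFun p := ⟨![p.2, p.1.1, Units.map ((φ : K →+* K) : K →* K) p.2,
      Units.map ((φ : K →+* K) : K →* K) (Units.map ((φ : K →+* K) : K →* K) p.2)], by
    apply (mem_fixT (D := chevD4) φ eD4 _).mpr
    funext j
    fin_cases j
    · apply Units.ext
      exact hφ3 _
    · exact p.1.2
    · rfl
    · rfl⟩
  left_inv c := by
    apply Subtype.ext
    have hc : sigT (D := chevD4) φ eD4 c.1 = c.1 := (mem_fixT (D := chevD4) φ eD4 c.1).mp c.2
    have h2 : Units.map ((φ : K →+* K) : K →* K) (c.1 (0 : Fin 4)) = c.1 (2 : Fin 4) := congrFun hc (2 : Fin 4)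
    have h3 : Units.map ((φ : K →+* K) : K →* K) (c.1 (2 : Fin 4)) = c.1 (3 : Fin 4) := congrFun hc (3 : Fin 4)
    funext j
    fin_cases j
    · rfl
    · rfl
    · exact h2
    · show Units.map ((φ : K →+* K) : K →* K) (Units.map ((φ : K →+* K) : K →* K) (c.1 (0 : Fin 4))) = c.1 (3 : Fin 4)
      rw [h2, h3]
  right_inv p := rfl

include hφ hK in
theorem card_fixT_D4 (hq : 2 ≤ q) : Nat.card ↥(fixT (D := chevD4) φ eD4) = (q - 1) * (q ^ 3 - 1) := by
  classical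
  rw [Nat.card_congr (fixTEquivD4 φ (phi_cube_D4 q φ hφ hK)), Nat.card_prod, card_fixU hq hK φ hφ,
    Nat.card_eq_fintype_card, Fintype.card_units, hK]

include hφ hK in
/-- `|H¹| = (q - 1)² (q² + q + 1)` for the twisted group of type D4. -/
theorem card_H1_D4 (hq : 2 ≤ q) :
    Nat.card ↥(chevD4.diagonalSubgroup K ⊓ Gtw hD4 chevData_D4.{u} twCfg_D4 φ) = (q - 1) ^ 2 * (q ^ 2 + q + 1) := by
  have hs : ∀ z ∈ (torusHom chevD4 K).ker, sigT (D := chevD4) φ eD4 z ∈ (torusHom chevD4 K).ker :=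
    fun z hz => sigT_mem_ker (D := chevD4) φ eD4 eD4_cartan hkerD4 z hz
  have hsq : ∀ z ∈ (torusHom chevD4 K).ker, z ^ 2 = 1 := fun z hz => kerD4_sq z hz
  have hLang := lang_three (D := chevD4) φ eD4 (phi_cube_D4 q φ hφ hK) eD4_cube (torusHom chevD4 K).ker hs hsq
  have h1 := card_diagonal_inf_Gtw hD4 chevData_D4.{u} twCfg_D4 φ twCfg_D4_ok' eD4 eD4_rho eD4_cartan hkerD4
    idx_D4 perm_D4 hLang
  have hbot : (torusHom chevD4 K).ker.subgroupOf (fixT (D := chevD4) φ eD4) = ⊥ := by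
    rw [Subgroup.eq_bot_iff_forall]
    intro x hx
    apply Subtype.ext
    exact kerD4_fix φ x.1 (Subgroup.mem_subgroupOf.mp hx) x.2
  rw [hbot, Subgroup.card_bot, one_mul, card_fixT_D4 q φ hφ hK hq] at h1
  rw [h1]
  obtain ⟨k, rfl⟩ : ∃ k, q = k + 1 := ⟨q - 1, by omega⟩
  have : (k + 1) ^ 3 - 1 = k * ((k + 1) ^ 2 + (k + 1) + 1) := by
    apply Nat.sub_eq_of_eq_add
    ring
  rw [Nat.add_sub_cancel, this]
  ring

end Fin

end Cfsg.Agent.Lib.Helper18
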