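/-
helper18: the order of the twisted group of type D4.
-/
import Cfsg.Agent.Lib.Helper18.Tw31
import Cfsg.Agent.Lib.Helper18.TwCox
import Cfsg.Agent.Lib.Helper18.TwTorD4

set_option autoImplicit false

namespace Cfsg.Agent.Lib.Helper18

open Cfsg.Lie Cfsg.Agent.Lib.Helper19.Cox

universe u

set_option maxRecDepth 1000000 in
theorem twCfg_D4_cellOK : twCfg_D4.cellOK wTabs_D4 chevD4.nroots twCoxList_D4 = true := by
  decide +kernel

set_option maxRecDepth 1000000 in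
theorem twCfg_D4_negExp : twCoxList_D4.map (twCfg_D4.negExp wTabs_D4 chevD4.nroots)
    = [8, 7, 11, 4, 12, 3, 9, 0, 8, 1, 5, 4] := by
  decide +kernel

section

variable {K : Type u} [Field K] [Fintype K] (q : ℕ) (φ : K ≃+* K) (hφ : ∀ t : K, φ t = t ^ q)
  (hK : Fintype.card K = q ^ 3)

include hφ hK in
/-- `|³D₄(q)| = q¹² (q² - 1)(q⁶ - 1)(q⁸ + q⁴ + 1)`. -/
theorem card_twD4 (hq : 2 ≤ q) :
    Nat.card ↥(Gtw hD4 chevData_D4.{u} twCfg_D4 φ) = q ^ 12 * (q ^ 2 - 1) * (q ^ 6 - 1) * (q ^ 8 + q ^ 4 + 1) := by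
  have hidx : ∀ i : Fin 2, twIdx_D4 i < twCfg_D4.classes.length := by decide
  have hsurj : ∀ k < twCfg_D4.classes.length, ∃ i : Fin 2, twIdx_D4 i = k := by decide
  have hrel := rel_of_relOK chevData_D4.{u} twCfg_D4 twCfg_D4_ok' (fun i : Fin 2 => twIdx_D4 i) hidx twIdx_D4
    (fun _ => rfl) (fun i j => repG2.mAt i j) twCfg_D4_relOK
  have hW : Nat.card ↥(twW chevData_D4.{u} twCfg_D4 (fun i : Fin 2 => twIdx_D4 i)) ≤ twCoxList_D4.length := by
    have h1 := card_twW_le chevData_D4.{u} twCfg_D4 (CoxeterMatrix.G₂) (fun i : Fin 2 => twIdx_D4 i)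
      (fun i j => by rw [repG2_matrix i j]; exact hrel i j) (by rw [mainG2.1]; decide)
    rw [mainG2.1] at h1
    rw [twCoxList_D4_length]
    exact h1
  have h := card_Gtw hD4 chevData_D4.{u} twCfg_D4 φ twCfg_D4_ok' twCfg_D4_bnOK' twCoxList_D4 twCfg_D4_listOK
    twCfg_D4_cellOK q hq hK hφ (fun i : Fin 2 => twIdx_D4 i) hsurj hW
  rw [card_H1_D4 q φ hφ hK hq] at h
  have hsum : (twCoxList_D4.map fun cw => q ^ twCfg_D4.negExp chevData_D4.{u}.tabs chevD4.nroots cw).sum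
      = q ^ 8 + q ^ 7 + q ^ 11 + q ^ 4 + q ^ 12 + q ^ 3 + q ^ 9 + q ^ 0 + q ^ 8 + q ^ 1 + q ^ 5 + q ^ 4 := by
    have : (twCoxList_D4.map fun cw => q ^ twCfg_D4.negExp chevData_D4.{u}.tabs chevD4.nroots cw)
        = (twCoxList_D4.map (twCfg_D4.negExp wTabs_D4 chevD4.nroots)).map (fun e => q ^ e) := by
      rw [List.map_map]
      rfl
    rw [this, twCfg_D4_negExp]
    simp only [List.map_cons, List.map_nil, List.sum_cons, List.sum_nil]
    ring
  rw [h, hsum]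
  have hN : chevD4.nroots / 2 = 12 := by decide
  rw [hN]
  obtain ⟨k, rfl⟩ : ∃ k, q = k + 1 := ⟨q - 1, by omega⟩
  have e2 : (k + 1) ^ 2 - 1 = k * (k + 2) := by
    apply Nat.sub_eq_of_eq_add
    ring
  have e6 : (k + 1) ^ 6 - 1 = k * ((k + 1) ^ 5 + (k + 1) ^ 4 + (k + 1) ^ 3 + (k + 1) ^ 2 + (k + 1) + 1) := by
    apply Nat.sub_eq_of_eq_add
    ring
  rw [Nat.add_sub_cancel, e2, e6]
  ring

end

end Cfsg.Agent.Lib.Helper18
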