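/-
helper18: the torus `H¹` of the twisted group of type E6: `gcd(3, q + 1) |H¹| = (q - 1)² (q² - 1)²`.
-/
import Cfsg.Agent.Lib.Helper18.TwTorD4
import Cfsg.Agent.Lib.Helper18.TwE6

set_option autoImplicit false

namespace Cfsg.Agent.Lib.Helper18

open Cfsg.Lie

universe u

/-- The permutation of the fundamental roots of `E₆` of the graph automorphism (its own inverse). -/
def eE6 : Equiv.Perm (Fin 6) where
  toFun := ![5, 1, 4, 3, 2, 0]
  invFun := ![5, 1, 4, 3, 2, 0]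
  left_inv := by decide
  right_inv := by decide

theorem eE6_rho : ∀ j : Fin chevE6.rank, twCfg_E6.g.rho (chevE6.simple (eE6 j)) = chevE6.simple j := by decide

theorem eE6_cartan : ∀ i j : Fin chevE6.rank, cartanMat chevE6 (eE6 i) (eE6 j) = cartanMat chevE6 i j := by
  intro i j
  fin_cases i <;> fin_cases j <;> rfl

theorem eE6_sq : ∀ j : Fin 6, eE6 (eE6 j) = j := by decide

theorem idx_E6 : ∀ j < chevE6.rank, chevData_E6.{u}.simples.idxOf (chevE6.simple j) = j := by decide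

theorem perm_E6 : twCfg_E6.classes.flatten.Perm (List.range chevE6.rank) := by decide

theorem cartE6 : ∀ i j : Fin 6, (cartanMat chevE6 : Matrix (Fin 6) (Fin 6) ℤ) i j
    = (![![2,0,-1,0,0,0],![0,2,0,-1,0,0],![-1,0,2,-1,0,0],![0,-1,-1,2,-1,0],![0,0,0,-1,2,-1],![0,0,0,0,-1,2]]
      : Fin 6 → Fin 6 → ℤ) i j := by
  intro i j
  fin_cases i <;> fin_cases j <;> rfl

theorem e6_ker_aux {K : Type*} [Field K] (a b c : Kˣ) (h2 : (a^2)^2 = a * b^2) (h4 : (c^2)^2 = b^2 * c)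
    (h3 : (b^2)^2 = b * a^2 * c^2) : b = 1 ∧ a^3 = 1 ∧ c = a^2 := by
  have ha : a ^ 3 = b ^ 2 := by
    have : a * a ^ 3 = a * b ^ 2 := by
      rw [← h2]
      exact Units.ext (by push_cast; ring)
    exact mul_left_cancel this
  have hc : c ^ 3 = b ^ 2 := by
    have : c ^ 3 * c = b ^ 2 * c := by
      rw [← h4]
      exact Units.ext (by push_cast; ring)
    exact mul_right_cancel this
  have hb : b ^ 3 = a ^ 2 * c ^ 2 := by
    have : b * b ^ 3 = b * (a ^ 2 * c ^ 2) := by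
      rw [← mul_assoc, ← h3]
      exact Units.ext (by push_cast; ring)
    exact mul_left_cancel this
  have hb1 : b = 1 := by
    have h9 : b ^ 8 * b = b ^ 8 * 1 := by
      calc b ^ 8 * b = (b ^ 3) ^ 3 := Units.ext (by push_cast; ring)
        _ = (a ^ 2 * c ^ 2) ^ 3 := by rw [hb]
        _ = (a ^ 3) ^ 2 * (c ^ 3) ^ 2 := Units.ext (by push_cast; ring)
        _ = (b ^ 2) ^ 2 * (b ^ 2) ^ 2 := by rw [ha, hc]
        _ = b ^ 8 * 1 := Units.ext (by push_cast; ring)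
    exact mul_left_cancel h9
  rw [hb1, one_pow] at ha hc hb
  refine ⟨hb1, ha, ?_⟩
  have h5 : c * c ^ 2 = 1 := by rw [← hc]; exact Units.ext (by push_cast; ring)
  have h6 : c = (c ^ 2)⁻¹ := eq_inv_of_mul_eq_one_left h5
  have h7 : a ^ 2 = (c ^ 2)⁻¹ := eq_inv_of_mul_eq_one_left hb.symm
  rw [h7, ← h6]

theorem kerE6_facts {K : Type*} [Field K] (z : Fin 6 → Kˣ)
    (hz : mpow z (cartanMat chevE6 : Matrix (Fin 6) (Fin 6) ℤ) = 1) :
    z 1 = 1 ∧ z 3 = 1 ∧ z 0 ^ 3 = 1 ∧ z 2 = z 0 ^ 2 ∧ z 4 = z 0 ∧ z 5 = z 0 ^ 2 := by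
  have h0 := congrFun hz 0
  have h1 := congrFun hz 1
  have h2 := congrFun hz 2
  have h3 := congrFun hz 3
  have h4 := congrFun hz 4
  have h5 := congrFun hz 5
  unfold mpow at h0 h1 h2 h3 h4 h5
  simp only [Fin.prod_univ_six, cartE6] at h0 h1 h2 h3 h4 h5
  simp at h0 h1 h2 h3 h4 h5
  rw [mul_inv_eq_one] at h0 h1
  rw [mul_inv_eq_one, inv_mul_eq_iff_eq_mul] at h2 h4
  rw [mul_inv_eq_one, ← mul_inv, inv_mul_eq_iff_eq_mul] at h3
  rw [inv_mul_eq_one] at h5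
  rw [← h0, ← h1] at h2
  rw [← h1, h5] at h4
  rw [← h1, ← h0, h5] at h3
  obtain ⟨hb, ha, hc⟩ := e6_ker_aux (z 0) (z 1) (z 5) h2 h4 h3
  refine ⟨hb, ?_, ha, h0.symm, ?_, hc⟩
  · rw [← h1, hb, one_pow]
  · rw [h5, hc]
    calc (z 0 ^ 2) ^ 2 = z 0 ^ 3 * z 0 := Units.ext (by push_cast; ring)
      _ = z 0 := by rw [ha, one_mul]

/-- The element of the kernel of a cube root of `1`. -/
def zOfE6 {K : Type*} [Field K] (ζ : Kˣ) : Fin 6 → Kˣ := ![ζ, 1, ζ ^ 2, 1, ζ, ζ ^ 2]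

theorem zOfE6_mem {K : Type*} [Field K] (ζ : Kˣ) (hζ : ζ ^ 3 = 1) :
    mpow (zOfE6 ζ) (cartanMat chevE6 : Matrix (Fin 6) (Fin 6) ℤ) = 1 := by
  funext j
  unfold mpow
  simp only [Fin.prod_univ_six, cartE6]
  have h4 : ζ = (ζ ^ 2) ^ 2 :=
    calc ζ = ζ ^ 3 * ζ := by rw [hζ, one_mul]
      _ = (ζ ^ 2) ^ 2 := Units.ext (by push_cast; ring)
  fin_cases j <;> simp [zOfE6]
  · rw [inv_mul_eq_one]
    exact h4
  · rw [← mul_inv, inv_eq_one, ← hζ]
    exact Units.ext (by push_cast; ring)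
  · rw [inv_mul_eq_one]
    exact h4

section

variable {K : Type u} [Field K]

theorem hkerE6 : (torusHom chevE6 K).ker = (mpowHom (G := Kˣ) (cartanMat chevE6)).ker :=
  ker_torusHom chevE6 rootCoeffs_E6 rootComb_E6 (fun j => simple_lt' chevE6 hE6 j j.2)

theorem kerE6_facts' (z : Fin 6 → Kˣ) (hz : z ∈ (torusHom chevE6 K).ker) :
    z 1 = 1 ∧ z 3 = 1 ∧ z 0 ^ 3 = 1 ∧ z 2 = z 0 ^ 2 ∧ z 4 = z 0 ∧ z 5 = z 0 ^ 2 := by
  have hz' : z ∈ (mpowHom (G := Kˣ) (cartanMat chevE6)).ker := by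
    rw [← hkerE6]
    exact hz
  exact kerE6_facts z (MonoidHom.mem_ker.mp hz')

theorem zOfE6_mem' (ζ : Kˣ) (hζ : ζ ^ 3 = 1) : zOfE6 ζ ∈ (torusHom chevE6 K).ker := by
  rw [hkerE6]
  exact MonoidHom.mem_ker.mpr (zOfE6_mem ζ hζ)

theorem kerE6_eq (z : Fin 6 → Kˣ) (hz : z ∈ (torusHom chevE6 K).ker) : z = zOfE6 (z 0) := by
  obtain ⟨h1, h3, -, h2, h4, h5⟩ := kerE6_facts' z hz
  funext j
  fin_cases j
  · rfl
  · exact h1
  · exact h2
  · exact h3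
  · exact h4
  · exact h5

theorem kerE6_cube (z : Fin 6 → Kˣ) (hz : z ∈ (torusHom chevE6 K).ker) : z ^ 3 = 1 := by
  obtain ⟨-, -, h0, -⟩ := kerE6_facts' z hz
  rw [kerE6_eq z hz]
  funext j
  fin_cases j
  · exact h0
  · exact one_pow 3
  · show (z 0 ^ 2) ^ 3 = 1
    rw [← pow_mul, mul_comm, pow_mul, h0, one_pow]
  · exact one_pow 3
  · exact h0
  · show (z 0 ^ 2) ^ 3 = 1
    rw [← pow_mul, mul_comm, pow_mul, h0, one_pow]

end

section Fin

variable {K : Type u} [Field K] [Fintype K] (q : ℕ) (φ : K ≃+* K) (hφ : ∀ t : K, φ t = t ^ q)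
  (hK : Fintype.card K = q ^ 2)

include hφ hK in
theorem phi_sq_E6 (a : K) : φ (φ a) = a := by
  show φ^[2] a = a
  rw [frob_iterate φ q hφ, pow_card_pow_eq hK]

/-- The fixed parameters of the torus of type E6. -/
noncomputable def fixTEquivE6 (hφ2 : ∀ a : K, φ (φ a) = a) :
    ↥(fixT (D := chevE6) φ eE6) ≃
      ({x : Kˣ // Units.map ((φ : K →+* K) : K →* K) x = x} × {x : Kˣ // Units.map ((φ : K →+* K) : K →* K) x = x})
        × (Kˣ × Kˣ) where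
  toFun c := ((⟨c.1 (1 : Fin 6), congrFun ((mem_fixT (D := chevE6) φ eE6 c.1).mp c.2) (1 : Fin 6)⟩,
    ⟨c.1 (3 : Fin 6), congrFun ((mem_fixT (D := chevE6) φ eE6 c.1).mp c.2) (3 : Fin 6)⟩),
    (c.1 (0 : Fin 6), c.1 (2 : Fin 6)))
  invFun p := ⟨![p.2.1, p.1.1.1, p.2.2, p.1.2.1, Units.map ((φ : K →+* K) : K →* K) p.2.2,
      Units.map ((φ : K →+* K) : K →* K) p.2.1], by
    apply (mem_fixT (D := chevE6) φ eE6 _).mpr
    funext j
    fin_cases j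
    · apply Units.ext
      exact hφ2 _
    · exact p.1.1.2
    · apply Units.ext
      exact hφ2 _
    · exact p.1.2.2
    · rfl
    · rfl⟩
  left_inv c := by
    apply Subtype.ext
    have hc : sigT (D := chevE6) φ eE6 c.1 = c.1 := (mem_fixT (D := chevE6) φ eE6 c.1).mp c.2
    have h4 : Units.map ((φ : K →+* K) : K →* K) (c.1 (2 : Fin 6)) = c.1 (4 : Fin 6) := congrFun hc (4 : Fin 6)
    have h5 : Units.map ((φ : K →+* K) : K →* K) (c.1 (0 : Fin 6)) = c.1 (5 : Fin 6) := congrFun hc (5 : Fin 6)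
    funext j
    fin_cases j
    · rfl
    · rfl
    · rfl
    · rfl
    · exact h4
    · exact h5
  right_inv p := rfl

include hφ hK in
theorem card_fixT_E6 (hq : 2 ≤ q) : Nat.card ↥(fixT (D := chevE6) φ eE6) = (q - 1) * (q - 1) * ((q ^ 2 - 1) * (q ^ 2 - 1)) := by
  classical
  rw [Nat.card_congr (fixTEquivE6 φ (phi_sq_E6 q φ hφ hK)), Nat.card_prod, Nat.card_prod, Nat.card_prod,
    card_fixU hq hK φ hφ, Nat.card_eq_fintype_card, Fintype.card_units, hK]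

/-- The fixed parameters in the kernel of the torus homomorphism. -/
noncomputable def kerFixEquivE6 :
    ↥((torusHom chevE6 K).ker.subgroupOf (fixT (D := chevE6) φ eE6)) ≃
      {ζ : Kˣ // ζ ^ 3 = 1 ∧ Units.map ((φ : K →+* K) : K →* K) ζ = ζ ^ 2} where
  toFun x := ⟨x.1.1 (0 : Fin 6), by
    have hx : x.1.1 ∈ (torusHom chevE6 K).ker := Subgroup.mem_subgroupOf.mp x.2
    obtain ⟨-, -, h0, -, -, h5⟩ := kerE6_facts' x.1.1 hx
    have hc : sigT (D := chevE6) φ eE6 x.1.1 = x.1.1 := (mem_fixT (D := chevE6) φ eE6 x.1.1).mp x.1.2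
    have h5' : Units.map ((φ : K →+* K) : K →* K) (x.1.1 (0 : Fin 6)) = x.1.1 (5 : Fin 6) := congrFun hc (5 : Fin 6)
    exact ⟨h0, h5'.trans h5⟩⟩
  invFun ζ := ⟨⟨zOfE6 ζ.1, by
    apply (mem_fixT (D := chevE6) φ eE6 _).mpr
    have h4 : ζ.1 = (ζ.1 ^ 2) ^ 2 :=
      calc ζ.1 = ζ.1 ^ 3 * ζ.1 := by rw [ζ.2.1, one_mul]
        _ = (ζ.1 ^ 2) ^ 2 := Units.ext (by push_cast; ring)
    have h6 : Units.map ((φ : K →+* K) : K →* K) (ζ.1 ^ 2) = ζ.1 := by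
      rw [map_pow, ζ.2.2]
      exact h4.symm
    have h7 : Units.map ((φ : K →+* K) : K →* K) (1 : Kˣ) = 1 := map_one _
    funext j
    fin_cases j
    · exact h6
    · exact h7
    · exact ζ.2.2
    · exact h7
    · exact h6
    · exact ζ.2.2⟩, Subgroup.mem_subgroupOf.mpr (zOfE6_mem' ζ.1 ζ.2.1)⟩
  left_inv x := by
    apply Subtype.ext
    apply Subtype.ext
    exact (kerE6_eq x.1.1 (Subgroup.mem_subgroupOf.mp x.2)).symm
  right_inv ζ := rfl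

include hφ hK in
theorem card_kerFix_E6 (hq : 2 ≤ q) :
    Nat.card ↥((torusHom chevE6 K).ker.subgroupOf (fixT (D := chevE6) φ eE6)) = Nat.gcd 3 (q + 1) := by
  classical
  have hcardU : Nat.card Kˣ = q ^ 2 - 1 := by
    rw [Nat.card_eq_fintype_card, Fintype.card_units, hK]
  have hker : Nat.card (powMonoidHom (Nat.gcd 3 (q + 1)) : Kˣ →* Kˣ).ker = Nat.gcd 3 (q + 1) := by
    rw [IsCyclic.card_powMonoidHom_ker, hcardU]
    apply Nat.gcd_eq_right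
    have h1 : Nat.gcd 3 (q + 1) ∣ q + 1 := Nat.gcd_dvd_right _ _
    have h2 : q ^ 2 - 1 = (q + 1) * (q - 1) := by
      obtain ⟨k, rfl⟩ : ∃ k, q = k + 1 := ⟨q - 1, by omega⟩
      apply Nat.sub_eq_of_eq_add
      rw [Nat.add_sub_cancel]
      ring
    rw [h2]
    exact Dvd.dvd.mul_right h1 _
  rw [Nat.card_congr (kerFixEquivE6 φ), ← hker]
  apply Nat.card_congr
  apply Equiv.subtypeEquivRight
  intro ζ
  rw [MonoidHom.mem_ker, powMonoidHom_apply, pow_gcd_eq_one]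
  have h1 : Units.map ((φ : K →+* K) : K →* K) ζ = ζ ^ q := by
    apply Units.ext
    rw [Units.val_pow_eq_pow_val, ← hφ]
    rfl
  rw [h1]
  constructor
  · rintro ⟨h3, h4⟩
    refine ⟨h3, ?_⟩
    rw [pow_succ, h4, ← pow_succ]
    exact h3
  · rintro ⟨h3, h4⟩
    refine ⟨h3, ?_⟩
    have : ζ ^ q * ζ = ζ ^ 2 * ζ := by rw [← pow_succ, ← pow_succ, h4, h3]
    exact mul_right_cancel this

include hφ hK in
/-- `gcd(3, q + 1) |H¹| = (q - 1)⁴ (q + 1)²` for the twisted group of type E6. -/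
theorem card_H1_E6 (hq : 2 ≤ q) :
    Nat.gcd 3 (q + 1) * Nat.card ↥(chevE6.diagonalSubgroup K ⊓ Gtw hE6 chevData_E6.{u} twCfg_E6 φ)
      = (q - 1) ^ 4 * (q + 1) ^ 2 := by
  have hcu : ∀ z ∈ (torusHom chevE6 K).ker, z ^ 3 = 1 := fun z hz => kerE6_cube z hz
  have hLang := lang_two (D := chevE6) φ eE6 (phi_sq_E6 q φ hφ hK) eE6_sq (torusHom chevE6 K).ker hcu
  have h1 := card_diagonal_inf_Gtw hE6 chevData_E6.{u} twCfg_E6 φ twCfg_E6_ok' eE6 eE6_rho eE6_cartan hkerE6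
    idx_E6 perm_E6 hLang
  rw [card_kerFix_E6 q φ hφ hK hq, card_fixT_E6 q φ hφ hK hq] at h1
  rw [h1]
  obtain ⟨k, rfl⟩ : ∃ k, q = k + 1 := ⟨q - 1, by omega⟩
  have : (k + 1) ^ 2 - 1 = k * (k + 1 + 1) := by
    apply Nat.sub_eq_of_eq_add
    ring
  rw [Nat.add_sub_cancel, this]
  ring

end Fin

end Cfsg.Agent.Lib.Helper18
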