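/-
helper18: the order of the twisted group of type E6.
-/
import Cfsg.Agent.Lib.Helper18.Tw31
import Cfsg.Agent.Lib.Helper18.TwCox
import Cfsg.Agent.Lib.Helper18.TwTorE6

set_option autoImplicit false

namespace Cfsg.Agent.Lib.Helper18

open Cfsg.Lie Cfsg.Agent.Lib.Helper19.Cox

universe u

/-- A sum of powers, sorted by exponents. -/
theorem sum_pow_eq_count (es : List ℕ) (N : ℕ) (hN : ∀ e ∈ es, e < N) (q : ℕ) :
    (es.map fun e => q ^ e).sum = ∑ k ∈ Finset.range N, es.count k * q ^ k := by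
  induction es with
  | nil => simp
  | cons e es ih =>
    rw [List.map_cons, List.sum_cons, ih fun e' he' => hN e' (List.mem_cons_of_mem _ he')]
    simp_rw [List.count_cons, add_mul, Finset.sum_add_distrib]
    rw [add_comm]
    congr 1
    rw [Finset.sum_eq_single e]
    · simp
    · intro k _ hk
      have : (e == k) = false := by
        rw [beq_eq_false_iff_ne]
        exact fun h => hk h.symm
      rw [this]
      simp
    · intro he
      exact absurd (Finset.mem_range.mpr (hN e List.mem_cons_self)) he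

set_option maxRecDepth 1000000 in
theorem twCfg_E6_cellOK : twCfg_E6.cellOK wTabs_E6 chevE6.nroots twCoxList_E6 = true := by
  decide +kernel

/-- The numbers of words of the list by the number of positive roots made negative. -/
def histE6 : List ℕ := [1, 2, 4, 6, 9, 13, 17, 22, 26, 32, 37, 43, 47, 51, 55, 58, 61, 61, 62, 61, 61, 58, 55, 51, 47,
  43, 37, 32, 26, 22, 17, 13, 9, 6, 4, 2, 1]

set_option maxRecDepth 1000000 in
theorem twCfg_E6_negExp_lt : ∀ e ∈ twCoxList_E6.map (twCfg_E6.negExp wTabs_E6 chevE6.nroots), e < 37 := by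
  decide +kernel

set_option maxRecDepth 1000000 in
theorem twCfg_E6_hist : ∀ k < 37,
    (twCoxList_E6.map (twCfg_E6.negExp wTabs_E6 chevE6.nroots)).count k = histE6.getD k 0 := by
  decide +kernel

section

variable {K : Type u} [Field K] [Fintype K] (q : ℕ) (φ : K ≃+* K) (hφ : ∀ t : K, φ t = t ^ q)
  (hK : Fintype.card K = q ^ 2)

/-- The polynomial identity behind the order formula. -/
theorem ordE6_identity (q : ℕ) (hq : 1 ≤ q) :
    (q - 1) ^ 4 * (q + 1) ^ 2 * (1 * q ^ 0 + 2 * q ^ 1 + 4 * q ^ 2 + 6 * q ^ 3 + 9 * q ^ 4 + 13 * q ^ 5 + 17 * q ^ 6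
      + 22 * q ^ 7 + 26 * q ^ 8 + 32 * q ^ 9 + 37 * q ^ 10 + 43 * q ^ 11 + 47 * q ^ 12 + 51 * q ^ 13 + 55 * q ^ 14
      + 58 * q ^ 15 + 61 * q ^ 16 + 61 * q ^ 17 + 62 * q ^ 18 + 61 * q ^ 19 + 61 * q ^ 20 + 58 * q ^ 21 + 55 * q ^ 22
      + 51 * q ^ 23 + 47 * q ^ 24 + 43 * q ^ 25 + 37 * q ^ 26 + 32 * q ^ 27 + 26 * q ^ 28 + 22 * q ^ 29 + 17 * q ^ 30
      + 13 * q ^ 31 + 9 * q ^ 32 + 6 * q ^ 33 + 4 * q ^ 34 + 2 * q ^ 35 + 1 * q ^ 36)
    = (q ^ 2 - 1) * (q ^ 5 + 1) * (q ^ 6 - 1) * (q ^ 8 - 1) * (q ^ 9 + 1) * (q ^ 12 - 1) := by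
  have h2 : 1 ≤ q ^ 2 := Nat.one_le_pow _ _ hq
  have h6 : 1 ≤ q ^ 6 := Nat.one_le_pow _ _ hq
  have h8 : 1 ≤ q ^ 8 := Nat.one_le_pow _ _ hq
  have h12 : 1 ≤ q ^ 12 := Nat.one_le_pow _ _ hq
  zify [hq, h2, h6, h8, h12]
  ring

include hφ hK in
/-- `gcd(3, q + 1) |²E₆(q)| = q³⁶ (q² - 1)(q⁵ + 1)(q⁶ - 1)(q⁸ - 1)(q⁹ + 1)(q¹² - 1)`. -/
theorem card_twE6 (hq : 2 ≤ q) :
    Nat.gcd 3 (q + 1) * Nat.card ↥(Gtw hE6 chevData_E6.{u} twCfg_E6 φ)
      = q ^ 36 * (q ^ 2 - 1) * (q ^ 5 + 1) * (q ^ 6 - 1) * (q ^ 8 - 1) * (q ^ 9 + 1) * (q ^ 12 - 1) := by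
  have hidx : ∀ i : Fin 4, twIdx_E6 i < twCfg_E6.classes.length := by decide
  have hsurj : ∀ k < twCfg_E6.classes.length, ∃ i : Fin 4, twIdx_E6 i = k := by decide
  have hrel := rel_of_relOK chevData_E6.{u} twCfg_E6 twCfg_E6_ok' (fun i : Fin 4 => twIdx_E6 i) hidx twIdx_E6
    (fun _ => rfl) (fun i j => repF4.mAt i j) twCfg_E6_relOK
  have hW : Nat.card ↥(twW chevData_E6.{u} twCfg_E6 (fun i : Fin 4 => twIdx_E6 i)) ≤ twCoxList_E6.length := by
    have h1 := card_twW_le chevData_E6.{u} twCfg_E6 (CoxeterMatrix.F₄) (fun i : Fin 4 => twIdx_E6 i)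
      (fun i j => by rw [repF4_matrix i j]; exact hrel i j) (by rw [mainF4.1]; decide)
    rw [mainF4.1] at h1
    rw [twCoxList_E6_length]
    exact h1
  have h := card_Gtw hE6 chevData_E6.{u} twCfg_E6 φ twCfg_E6_ok' twCfg_E6_bnOK' twCoxList_E6 twCfg_E6_listOK
    twCfg_E6_cellOK q hq hK hφ (fun i : Fin 4 => twIdx_E6 i) hsurj hW
  have hsum : (twCoxList_E6.map fun cw => q ^ twCfg_E6.negExp chevData_E6.{u}.tabs chevE6.nroots cw).sum
      = ∑ k ∈ Finset.range 37, histE6.getD k 0 * q ^ k := by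
    have : (twCoxList_E6.map fun cw => q ^ twCfg_E6.negExp chevData_E6.{u}.tabs chevE6.nroots cw)
        = (twCoxList_E6.map (twCfg_E6.negExp wTabs_E6 chevE6.nroots)).map (fun e => q ^ e) := by
      rw [List.map_map]
      rfl
    rw [this, sum_pow_eq_count _ 37 twCfg_E6_negExp_lt q]
    apply Finset.sum_congr rfl
    intro k hk
    rw [twCfg_E6_hist k (Finset.mem_range.mp hk)]
  have hN : chevE6.nroots / 2 = 36 := by decide
  rw [h, hsum, hN]
  have hH := card_H1_E6 q φ hφ hK hq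
  have e1 : Nat.gcd 3 (q + 1) * (q ^ 36 * Nat.card ↥(chevE6.diagonalSubgroup K ⊓ Gtw hE6 chevData_E6.{u} twCfg_E6 φ)
      * ∑ k ∈ Finset.range 37, histE6.getD k 0 * q ^ k)
      = q ^ 36 * ((Nat.gcd 3 (q + 1) * Nat.card ↥(chevE6.diagonalSubgroup K ⊓ Gtw hE6 chevData_E6.{u} twCfg_E6 φ))
        * ∑ k ∈ Finset.range 37, histE6.getD k 0 * q ^ k) := by ring
  rw [e1, hH]
  simp only [Finset.sum_range_succ, Finset.sum_range_zero, histE6, List.getD_cons_zero, List.getD_cons_succ,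
    zero_add]
  rw [ordE6_identity q (by omega)]
  ring

end

end Cfsg.Agent.Lib.Helper18
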