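/-
helper18: the twisted groups of types D4 and E6 are perfect.
-/
import Cfsg.Agent.Lib.Helper18.Tw23
import Cfsg.Agent.Lib.Helper18.TwD4
import Cfsg.Agent.Lib.Helper18.TwE6

set_option autoImplicit false

namespace Cfsg.Agent.Lib.Helper18

open Cfsg.Lie

universe u

set_option maxRecDepth 1000000 in
theorem twCfg_D4_torOK : twCfg_D4.torOK fastD4 simples_D4 = true := by decide +kernel

set_option maxRecDepth 1000000 in
theorem twCfg_E6_torOK : twCfg_E6.torOK fastE6 simples_E6 = true := by decide +kernel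

set_option maxRecDepth 1000000 in
theorem twCfg_D4_cert : twCfg_D4.commCertOK fastD4 14 5 19 = true := by decide +kernel

set_option maxRecDepth 1000000 in
theorem twCfg_E6_cert : twCfg_E6.commCertOK fastE6 39 29 43 = true := by decide +kernel

set_option maxRecDepth 1000000 in
theorem twCfg_D4_gen : twCfg_D4.genRoots fastD4 = [14, 18, 9, 5] := by decide +kernel

set_option maxRecDepth 1000000 in
theorem twCfg_E6_gen : twCfg_E6.genRoots fastE6 = [46, 39, 56, 42, 25, 32, 15, 29] := by decide +kernel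

set_option maxRecDepth 1000000 in
theorem twCfg_D4_facts : twCfg_D4.g.rho 18 ≠ 18 ∧ twCfg_D4.g.rho 5 ≠ 5
    ∧ wordRootF wTabs_D4 (twCfg_D4.wordOf [0]) 14 = 9 := by decide +kernel

set_option maxRecDepth 1000000 in
theorem twCfg_E6_facts : twCfg_E6.g.rho 56 ≠ 56 ∧ twCfg_E6.g.rho 42 ≠ 42 ∧ twCfg_E6.g.rho 15 ≠ 15
    ∧ twCfg_E6.g.rho 29 ≠ 29 ∧ wordRootF wTabs_E6 (twCfg_E6.wordOf [1, 0]) 39 = 46
    ∧ wordRootF wTabs_E6 (twCfg_E6.wordOf [0]) 46 = 25 ∧ wordRootF wTabs_E6 (twCfg_E6.wordOf [1]) 39 = 32 := by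
  decide +kernel

variable {K : Type u} [Field K] [Fintype K]

theorem twD4_perfect (φ : K ≃+* K) (q : ℕ) (hq : 2 ≤ q) (hK : Fintype.card K = q ^ 3) (hφ : ∀ t : K, φ t = t ^ q) :
    commutator ↥(Gtw hD4 chevData_D4.{u} twCfg_D4 φ) = ⊤ := by
  have h14 : ∀ c : K, φ c = c → xG hD4 14 c ∈ twCommImage hD4 chevData_D4.{u} twCfg_D4 φ :=
    fixed_root_comm hD4 chevData_D4 twCfg_D4 φ twCfg_D4_ok' 14 5 19 twCfg_D4_cert q hq hK hφ
  have h9 : ∀ c : K, φ c = c → xG hD4 9 c ∈ twCommImage hD4 chevData_D4.{u} twCfg_D4 φ :=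
    fixed_root_transport hD4 chevData_D4 twCfg_D4 φ twCfg_D4_ok' 14 9 (by decide) [0] (by decide)
      twCfg_D4_facts.2.2 h14
  apply tw_perfect hD4 chevData_D4 twCfg_D4 φ twCfg_D4_ok' twCfg_D4_torOK q hq hK hφ
  intro s hs hfx
  have hs' : s ∈ [14, 18, 9, 5] := twCfg_D4_gen ▸ hs
  simp only [List.mem_cons, List.not_mem_nil, or_false] at hs'
  rcases hs' with rfl | rfl | rfl | rfl
  · exact h14
  · exact absurd hfx twCfg_D4_facts.1
  · exact h9
  · exact absurd hfx twCfg_D4_facts.2.1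

theorem twE6_perfect (φ : K ≃+* K) (q : ℕ) (hq : 2 ≤ q) (hK : Fintype.card K = q ^ 2) (hφ : ∀ t : K, φ t = t ^ q) :
    commutator ↥(Gtw hE6 chevData_E6.{u} twCfg_E6 φ) = ⊤ := by
  have h39 : ∀ c : K, φ c = c → xG hE6 39 c ∈ twCommImage hE6 chevData_E6.{u} twCfg_E6 φ :=
    fixed_root_comm hE6 chevData_E6 twCfg_E6 φ twCfg_E6_ok' 39 29 43 twCfg_E6_cert q hq hK hφ
  have h46 : ∀ c : K, φ c = c → xG hE6 46 c ∈ twCommImage hE6 chevData_E6.{u} twCfg_E6 φ :=
    fixed_root_transport hE6 chevData_E6 twCfg_E6 φ twCfg_E6_ok' 39 46 (by decide) [1, 0] (by decide)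
      twCfg_E6_facts.2.2.2.2.1 h39
  have h25 : ∀ c : K, φ c = c → xG hE6 25 c ∈ twCommImage hE6 chevData_E6.{u} twCfg_E6 φ :=
    fixed_root_transport hE6 chevData_E6 twCfg_E6 φ twCfg_E6_ok' 46 25 (by decide) [0] (by decide)
      twCfg_E6_facts.2.2.2.2.2.1 h46
  have h32 : ∀ c : K, φ c = c → xG hE6 32 c ∈ twCommImage hE6 chevData_E6.{u} twCfg_E6 φ :=
    fixed_root_transport hE6 chevData_E6 twCfg_E6 φ twCfg_E6_ok' 39 32 (by decide) [1] (by decide)
      twCfg_E6_facts.2.2.2.2.2.2 h39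
  apply tw_perfect hE6 chevData_E6 twCfg_E6 φ twCfg_E6_ok' twCfg_E6_torOK q hq hK hφ
  intro s hs hfx
  have hs' : s ∈ [46, 39, 56, 42, 25, 32, 15, 29] := twCfg_E6_gen ▸ hs
  simp only [List.mem_cons, List.not_mem_nil, or_false] at hs'
  rcases hs' with rfl | rfl | rfl | rfl | rfl | rfl | rfl | rfl
  · exact h46
  · exact h39
  · exact absurd hfx twCfg_E6_facts.1
  · exact absurd hfx twCfg_E6_facts.2.1
  · exact h25
  · exact h32
  · exact absurd hfx twCfg_E6_facts.2.2.1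
  · exact absurd hfx twCfg_E6_facts.2.2.2.1

end Cfsg.Agent.Lib.Helper18
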