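/-
helper18: the twisted groups of types D4 and E6 are simple.
-/
import Cfsg.Agent.Lib.Helper18.Tw24
import Cfsg.Agent.Lib.Helper18.TwPerf
import Cfsg.Agent.Lib.Helper18.TwCore
import Cfsg.Agent.Lib.Helper18.TwBnD4
import Cfsg.Agent.Lib.Helper18.TwBnE6

set_option autoImplicit false

namespace Cfsg.Agent.Lib.Helper18

open Cfsg.Lie

universe u

set_option maxRecDepth 1000000 in
theorem twCfg_D4_irrOK : twCfg_D4.irrOK fastD4 wTabs_D4 [0, 1] = true := by decide +kernel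

set_option maxRecDepth 1000000 in
theorem twCfg_E6_irrOK : twCfg_E6.irrOK fastE6 wTabs_E6 [0, 1, 3, 2] = true := by decide +kernel

variable {K : Type u} [Field K] [Fintype K]

theorem twD4_simple (φ : K ≃+* K) (q : ℕ) (hq : 2 ≤ q) (hK : Fintype.card K = q ^ 3) (hφ : ∀ t : K, φ t = t ^ q) :
    IsSimpleGroup ↥(Gtw hD4 chevData_D4.{u} twCfg_D4 φ) ∧ ¬ IsMulCommutative ↥(Gtw hD4 chevData_D4.{u} twCfg_D4 φ) :=
  tw_simple hD4 chevData_D4 twCfg_D4 φ twCfg_D4_ok' twCfg_D4_bnOK' [0, 1] twCfg_D4_irrOK (by decide)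
    (twD4_perfect φ q hq hK hφ)
    (tw_normalCore_eq_bot hD4 chevData_D4 twCfg_D4 φ twCfg_D4_ok' _ twCfg_D4_longOK
      (fun a => by rw [frob_iterate φ q hφ]; exact pow_card_pow_eq hK a))

theorem twE6_simple (φ : K ≃+* K) (q : ℕ) (hq : 2 ≤ q) (hK : Fintype.card K = q ^ 2) (hφ : ∀ t : K, φ t = t ^ q) :
    IsSimpleGroup ↥(Gtw hE6 chevData_E6.{u} twCfg_E6 φ) ∧ ¬ IsMulCommutative ↥(Gtw hE6 chevData_E6.{u} twCfg_E6 φ) :=
  tw_simple hE6 chevData_E6 twCfg_E6 φ twCfg_E6_ok' twCfg_E6_bnOK' [0, 1, 3, 2] twCfg_E6_irrOK (by decide)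
    (twE6_perfect φ q hq hK hφ)
    (tw_normalCore_eq_bot hE6 chevData_E6 twCfg_E6 φ twCfg_E6_ok' _ twCfg_E6_longOK
      (fun a => by rw [frob_iterate φ q hφ]; exact pow_card_pow_eq hK a))

end Cfsg.Agent.Lib.Helper18
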