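/-
helper18: the check of a certificate of one step, cut into parts over ranges of the representatives (to bound the
memory of the kernel on the largest steps).
-/
import Cfsg.Agent.Lib.Helper18.WeylSum4

set_option autoImplicit false

namespace Cfsg.Agent.Lib.Helper18

open Cfsg.Lie

namespace LevelCert

variable (L : LevelCert)

/-- The part of the check of the words and of the closure about the representatives `lo ≤ k < lo + m`. -/
def chkChunk (tabs : List ℕ) (n lo m : ℕ) : Bool :=
  (List.range' lo m).all fun k =>
    ((L.words.getD k []).all (fun i => decide (i ∈ L.J)) &&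
      (List.range n).all fun r => wordRootF tabs (L.words.getD k []) r == ptab (L.ptabs.getD k 0) r) &&
    (List.range L.J.length).all fun idx =>
      decide (((L.cert.getD k []).getD idx (0, 0)).1 < L.words.length) &&
      (if ((L.cert.getD k []).getD idx (0, 0)).2 = 0 then
        (List.range n).all fun r =>
          tabRoot (tabs.getD (L.J.getD idx 0) 0) (ptab (L.ptabs.getD k 0) r)
            == ptab (L.ptabs.getD ((L.cert.getD k []).getD idx (0, 0)).1 0) r
      else
        decide (((L.cert.getD k []).getD idx (0, 0)).2 - 1 ∈ L.J') &&
        (List.range n).all fun r =>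
          tabRoot (tabs.getD (L.J.getD idx 0) 0) (ptab (L.ptabs.getD k 0) r)
            == ptab (L.ptabs.getD ((L.cert.getD k []).getD idx (0, 0)).1 0)
                (tabRoot (tabs.getD (((L.cert.getD k []).getD idx (0, 0)).2 - 1) 0) r))

/-- The rest of the check. -/
def okRest (tabs simples : List ℕ) (n rank : ℕ) : Bool :=
  L.chkShape rank && L.chkKey tabs n && L.chkMask tabs simples n && L.chkPos n

theorem ok_of_chunks (tabs simples : List ℕ) (n rank : ℕ) (cs : List (ℕ × ℕ))
    (hrest : L.okRest tabs simples n rank = true)
    (hch : ∀ c ∈ cs, L.chkChunk tabs n c.1 c.2 = true)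
    (hcov : ∀ k < L.words.length, ∃ c ∈ cs, c.1 ≤ k ∧ k < c.1 + c.2) :
    L.ok tabs simples n rank = true := by
  unfold okRest at hrest
  simp only [Bool.and_eq_true] at hrest
  obtain ⟨⟨⟨h1, h2⟩, h3⟩, h4⟩ := hrest
  have key : ∀ k < L.words.length,
      (((L.words.getD k []).all (fun i => decide (i ∈ L.J)) &&
        (List.range n).all fun r => wordRootF tabs (L.words.getD k []) r == ptab (L.ptabs.getD k 0) r) &&
      (List.range L.J.length).all fun idx =>
        decide (((L.cert.getD k []).getD idx (0, 0)).1 < L.words.length) &&
        (if ((L.cert.getD k []).getD idx (0, 0)).2 = 0 then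
          (List.range n).all fun r =>
            tabRoot (tabs.getD (L.J.getD idx 0) 0) (ptab (L.ptabs.getD k 0) r)
              == ptab (L.ptabs.getD ((L.cert.getD k []).getD idx (0, 0)).1 0) r
        else
          decide (((L.cert.getD k []).getD idx (0, 0)).2 - 1 ∈ L.J') &&
          (List.range n).all fun r =>
            tabRoot (tabs.getD (L.J.getD idx 0) 0) (ptab (L.ptabs.getD k 0) r)
              == ptab (L.ptabs.getD ((L.cert.getD k []).getD idx (0, 0)).1 0)
                  (tabRoot (tabs.getD (((L.cert.getD k []).getD idx (0, 0)).2 - 1) 0) r))) = true := by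
    intro k hk
    obtain ⟨c, hc, hlo, hhi⟩ := hcov k hk
    have h := hch c hc
    unfold chkChunk at h
    rw [List.all_eq_true] at h
    exact h k (by rw [List.mem_range'_1]; exact ⟨hlo, hhi⟩)
  have hW : L.chkWords tabs n = true := by
    unfold chkWords
    rw [List.all_eq_true]
    intro k hk
    have := key k (List.mem_range.mp hk)
    rw [Bool.and_eq_true] at this
    exact this.1
  have hC : L.chkClos tabs n = true := by
    unfold chkClos
    rw [List.all_eq_true]
    intro k hk
    have := key k (List.mem_range.mp hk)
    rw [Bool.and_eq_true] at this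
    exact this.2
  unfold ok
  rw [h1, hW, hC, h2, h3, h4]
  rfl

end LevelCert

end Cfsg.Agent.Lib.Helper18
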